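import Cfsg.Agent.Cit.Nil.RTwoM.Act

/-!
# S1309, (6b), (C3), `r = 2`, any `m`: (P1), (LINK), (KEY2), the J-ARGUMENT (helper762, #18261)

* `TI.exists_mv`, `TI.exists_swap` : `⟨K_x, K_q⟩` induces `S₃` on `⟨x, q⟩`;
* **`TI.mem_symm`** (P1) : `(x, q)` type I, `q ∈ R_x`: `x ∈ R_q`; `TI.cp_iff` : the same C-partners;
* **`TI.dich`** : `(x, u)` type I: `x ∈ R_u`, or some involution `q ∈ R_x ⊓ R_u` acts on `R_x` as `u` and on `R_u` as `x`;
* **`link`** (LINK) : `(u, e)` C-pair, both type I with respect to `x`: `x = q q'`, `q ∈ R_u`, `q' ∈ R_e`;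
  `link_cp` : a common C-partner of `u, e` is a C-partner of `x`; `link_not_ti`; `link_three`;
* **`TI.key2`** (KEY2), `TI.key2_swp` : a swap at `z` never maps `x` to `x z`;
* `JH Om A T x` : the hypotheses of the J-ARGUMENT; `JH.comm_mem`, `JH.comm`, `JH.ne_x`, `JH.dich`; `JH.of_card` :
  `|T| > 4`: `T ≤ X_x`; `JF Om A T x` : `T` faithful on `R_x`, at least 3 elements: **`JF.main`**, `JF.card_le`.
-/

set_option autoImplicit false
set_option linter.style.haveILetI false
set_option linter.unusedSectionVars false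

namespace Cfsg.Agent.Cit.Nil.RTwoM

open Subgroup Cfsg Cfsg.Agent.Cit

open RTwo (Q3)
open RG (WR CP Ov InO Tr)
open RI (CS)

variable {G : Type*} [Group G] {Om : Set (Subgroup G)} {K L M : Subgroup G}
  {a b c d e g j k l n q r s t u v w x y z : G}

section Fin

variable [Finite G]

/-! ### (P1) -/

/-- a member over `t` moves `z` to `z t` -/
theorem TI.exists_mv (hti : TI Om z t) (h : WM Om) (hL : Mem Om t L) :
    ∃ v ∈ L, v * v = t ∧ v * t = t * v ∧ v * z * v⁻¹ = z * t := by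
  obtain ⟨x, hx, hxx⟩ := (hti.symm h).exists_as h hL
  obtain ⟨v, hv, hvv, hxv⟩ := hL.exists_nc h hx.1 hxx
  exact ⟨v, hv, hvv, hL.comm_z h hv, hti.conj_z h hL hx hv hvv hxv⟩

/-- `⟨K_z, K_t⟩` interchanges `z` and `t` -/
theorem TI.exists_swap (hti : TI Om z t) (h : WM Om) : ∃ g, g * z * g⁻¹ = t ∧ g * t * g⁻¹ = z := by
  obtain ⟨K, hK⟩ := hti.inZ
  obtain ⟨L, hL⟩ := hti.inT
  obtain ⟨v, -, -, hvz, hvt⟩ := (hti.symm h).exists_mv h hK
  obtain ⟨u, -, -, hut, huz⟩ := hti.exists_mv h hL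
  have hzz := hti.inZ.z2 h
  have htt := hti.inT.z2 h
  have hzt := hti.comm
  have cz : v * z * v⁻¹ = z := by rw [hvz, mul_inv_cancel_right]
  have ct : u * t * u⁻¹ = t := by rw [hut, mul_inv_cancel_right]
  refine ⟨v * u * v, ?_, ?_⟩
  · calc v * u * v * z * (v * u * v)⁻¹ = v * (u * (v * z * v⁻¹) * u⁻¹) * v⁻¹ := by group
      _ = v * (z * t) * v⁻¹ := by rw [cz, huz]
      _ = (v * z * v⁻¹) * (v * t * v⁻¹) := by group
      _ = z * (t * z) := by rw [cz, hvt]
      _ = (z * t) * z := by group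
      _ = t * (z * z) := by rw [hzt]; group
      _ = t := by rw [hzz, mul_one]
  · calc v * u * v * t * (v * u * v)⁻¹ = v * (u * (v * t * v⁻¹) * u⁻¹) * v⁻¹ := by group
      _ = v * (u * (t * z) * u⁻¹) * v⁻¹ := by rw [hvt]
      _ = v * ((u * t * u⁻¹) * (u * z * u⁻¹)) * v⁻¹ := by group
      _ = v * (t * (z * t)) * v⁻¹ := by rw [ct, huz]
      _ = v * ((t * z) * t) * v⁻¹ := by group
      _ = v * (z * (t * t)) * v⁻¹ := by rw [← hzt]; group
      _ = z := by rw [htt, mul_one, cz]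

/-- **(P1)** -/
theorem TI.mem_symm (hti : TI Om x q) (h : WM Om) (hq : q ∈ RZ Om x) : x ∈ RZ Om q := by
  obtain ⟨g, hg, hg'⟩ := hti.exists_swap h
  have h1 := RZ_conj h g hq
  rwa [hg, hg'] at h1

/-- `q ∈ Z ⊓ R_x`, `q ≠ x` : the C-partners of `x` are C-partners of `q` -/
theorem cp_of_mem_RZ (h : WM Om) (hti : TI Om x q) (hq : q ∈ RZ Om x) (hu : InZ Om u) (hc : CP Om x u) :
    CP Om q u := by
  have h1 : q ∈ CX Om u := by
    rw [mem_CX]
    exact fun K hK k hk => cp_RZ h hc hq (hK.le_RZ hk)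
  rcases (cen_iff h hu hti.inT).1 h1 with h2 | h2
  · rw [h2] at hc
    exact absurd hc (hti.not_cp h)
  · exact h2.symm

/-- **(P1)** the C-partners of `x` and `q` are the same -/
theorem TI.cp_iff (hti : TI Om x q) (h : WM Om) (hq : q ∈ RZ Om x) (hu : InZ Om u) : CP Om x u ↔ CP Om q u :=
  ⟨cp_of_mem_RZ h hti hq hu, cp_of_mem_RZ h (hti.symm h) (hti.mem_symm h hq) hu⟩

/-! ### The common involution -/

theorem TI.not_mem_CX (hti : TI Om x u) (h : WM Om) : x ∉ CX Om u := by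
  intro h1
  obtain ⟨L, hL⟩ := hti.inT
  exact (hti.symm h).nc hL (mem_CX.1 h1 L hL)

/-- the action of the product of two elements inverting the actions of `x` on the members over `u` -/
theorem TI.conj_two {K L L' : Subgroup G} {v' l' : G} (hti : TI Om x u) (h : WM Om) (hK : Mem Om x K)
    (hL : Mem Om u L) (hL' : Mem Om u L') (hne : L ≠ L') (hy : As K u y) (hl : As L x l) (hl' : As L' x l')
    (hv : v ∈ L) (hvv : v * v = u) (hlv : l * v ≠ v * l) (hv' : v' ∈ L') (hvv' : v' * v' = u)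
    (hlv' : l' * v' ≠ v' * l') :
    (v * v') * x = x * (v * v') ∧ (v * v') * u = u * (v * v') ∧
      ((v * v') * y * (v * v')⁻¹ = (l * l') * y ∨ (v * v') * y * (v * v')⁻¹ = u * (l * l') * y) := by
  have huu := hti.inT.z2 h
  have hxu := hti.comm
  have e1 := hti.conj_z h hL hl hv hvv hlv
  have e2 := hti.conj_z h hL' hl' hv' hvv' hlv'
  have cu : v * u = u * v := hL.comm_z h hv
  have cu' : v' * u = u * v' := hL'.comm_z h hv'
  have cv : v * l' = l' * v := hL.comm hL' h hne hv hl'.1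
  have f1 := hti.conj_y h hK hL hy hl hv hvv hlv
  have f2 := hti.conj_y h hK hL' hy hl' hv' hvv' hlv'
  have cul : u * l = l * u := (hL.comm_z h hl.1).symm
  have cul' : u * l' = l' * u := (hL'.comm_z h hl'.1).symm
  have cll : l' * l = l * l' := (hL.comm hL' h hne hl.1 hl'.1).symm
  have hu' : ∀ g : G, u * (u * g) = g := fun g => by rw [← mul_assoc, huu, one_mul]
  refine ⟨?_, ?_, ?_⟩
  · rw [← mul_inv_eq_iff_eq_mul]
    calc v * v' * x * (v * v')⁻¹ = v * (v' * x * v'⁻¹) * v⁻¹ := by group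
      _ = v * (x * u) * v⁻¹ := by rw [e2]
      _ = (v * x * v⁻¹) * (v * u * v⁻¹) := by group
      _ = (x * u) * u := by rw [e1, cu, mul_inv_cancel_right]
      _ = x := by rw [mul_assoc, huu, mul_one]
  · rw [mul_assoc, cu', ← mul_assoc, cu, mul_assoc]
  · have g1 : v * v' * y * (v * v')⁻¹ = v * (v' * y * v'⁻¹) * v⁻¹ := by group
    have g2 : v * (l' * y) * v⁻¹ = l' * (v * y * v⁻¹) := by
      calc v * (l' * y) * v⁻¹ = (v * l') * y * v⁻¹ := by group
        _ = _ := by rw [cv]; group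
    have g3 : v * (u * (l' * y)) * v⁻¹ = u * (v * (l' * y) * v⁻¹) := by
      calc v * (u * (l' * y)) * v⁻¹ = (v * u) * (l' * y) * v⁻¹ := by group
        _ = _ := by rw [cu]; group
    have g4 : l' * (l * y) = l * l' * y := by rw [← mul_assoc, cll]
    have g5 : l' * (u * (l * y)) = u * (l * l' * y) := by
      rw [← mul_assoc, ← cul', mul_assoc, g4]
    rw [g1]
    rcases f2 with f2 | f2 <;> rcases f1 with f1 | f1
    · left; rw [f2, g2, f1, g4]
    · right; rw [f2, g2, f1, g5]; simp only [mul_assoc]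
    · right; rw [f2, g3, g2, f1, g4]; simp only [mul_assoc]
    · left; rw [f2, g3, g2, f1, g5, hu']

/-- **the common involution** -/
theorem TI.dich (hti : TI Om x u) (h : WM Om) :
    x ∈ RZ Om u ∨ ∃ q ∈ RZ Om x, q ∈ RZ Om u ∧ q * q = 1 ∧ u * q ∈ CX Om x ∧ x * q ∈ CX Om u := by
  obtain ⟨K, hK⟩ := hti.inZ
  obtain ⟨L, hL⟩ := hti.inT
  obtain ⟨L', hL', hne, -⟩ := hL.other h
  obtain ⟨y, hy, hyy⟩ := hti.exists_as h hK
  obtain ⟨l, hl, hll⟩ := (hti.symm h).exists_as h hL
  obtain ⟨l', hl', hll'⟩ := (hti.symm h).exists_as h hL'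
  obtain ⟨v, hv, hvv, hlv⟩ := hL.exists_nc h hl.1 hll
  obtain ⟨v', hv', hvv', hlv'⟩ := hL'.exists_nc h hl'.1 hll'
  obtain ⟨hgx, hgu, hgy⟩ := hti.conj_two h hK hL hL' hne hy hl hl' hv hvv hlv hv' hvv' hlv'
  have hxx := hti.inZ.z2 h
  have huu := hti.inT.z2 h
  have cll : l' * l = l * l' := (hL.comm hL' h hne hl.1 hl'.1).symm
  have cul : u * (l * l') = (l * l') * u := by
    rw [← mul_assoc, ← hL.comm_z h hl.1, mul_assoc, ← hL'.comm_z h hl'.1, mul_assoc]
  -- `q = l l'` or `u l l'`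
  obtain ⟨q, hq, hgq, hqu, hqq⟩ : ∃ q, (q = l * l' ∨ q = u * (l * l')) ∧ (v * v') * y * (v * v')⁻¹ = q * y ∧
      q ∈ RZ Om u ∧ q * q = 1 := by
    have h1 : l * l' ∈ RZ Om u := mul_mem (hL.le_RZ hl.1) (hL'.le_RZ hl'.1)
    have h2 : (l * l') * (l * l') = 1 := by
      calc (l * l') * (l * l') = l * (l' * l) * l' := by group
        _ = (l * l) * (l' * l') := by rw [cll]; group
        _ = 1 := by rw [hll, hll', huu]
    rcases hgy with h3 | h3
    · exact ⟨_, Or.inl rfl, h3, h1, h2⟩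
    · refine ⟨_, Or.inr rfl, h3, mul_mem (z_mem_RZ hti.inT h) h1, ?_⟩
      calc u * (l * l') * (u * (l * l')) = (u * (l * l')) * ((l * l') * u) := by rw [cul]
        _ = u * ((l * l') * (l * l')) * u := by group
        _ = 1 := by rw [h2, mul_one, huu]
  have hqas : As L q l ∧ As L' q l' := by
    have a1 : As L (l * l') l := by
      have := (As.self hl.1).mul (hL.as_one hL' h hne hl'.1)
      rwa [mul_one] at this
    have a2 : As L' (l * l') l' := by
      have := (hL'.as_one hL h hne.symm hl.1).mul (As.self hl'.1)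
      rwa [one_mul] at this
    rcases hq with rfl | rfl
    · exact ⟨a1, a2⟩
    · have b1 := (hL.as_z h).mul a1
      have b2 := (hL'.as_z h).mul a2
      rw [one_mul] at b1 b2
      exact ⟨b1, b2⟩
  -- `x q` centralises the members over `u`
  have hxq : x * q ∈ CX Om u := by
    rw [mem_CX]
    have key : ∀ {L : Subgroup G} {l : G}, Mem Om u L → As L x l → As L q l → l * l = u → ∀ k ∈ L,
        x * q * k = k * (x * q) := by
      intro L l hL h1 h2 h3 k hk
      have h4 := h1.mul h2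
      rw [h3] at h4
      have h5 := h4.2 k hk
      rw [← hL.comm_z h hk, mul_inv_cancel_right, mul_inv_eq_iff_eq_mul] at h5
      exact h5
    intro M hM k hk
    rcases hL.cases hL' h hne hM with rfl | rfl
    · exact key hL hl hqas.1 hll k hk
    · exact key hL' hl' hqas.2 hll' k hk
  have hgK := hK.cj_comm h hgx
  have hgy' : q = ((v * v') * y * (v * v')⁻¹) * y⁻¹ := by rw [hgq, mul_inv_cancel_right]
  by_cases hKK : cj (v * v') K = K
  · left
    have hqK : q ∈ K := by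
      rw [hgy']
      refine mul_mem ?_ (inv_mem hy.1)
      have := conj_mem_cj (g := v * v') hy.1
      rwa [hKK] at this
    rcases hK.sq_cases h hqK with h1 | h1 | h1
    · exfalso
      rw [h1, mul_one] at hxq
      exact hti.not_mem_CX h hxq
    · rw [← h1]; exact hqu
    · exfalso
      rw [hqq] at h1
      exact hti.inZ.z1 h h1.symm
  · right
    have m2 : (v * v') * y * (v * v')⁻¹ ∈ cj (v * v') K := conj_mem_cj hy.1
    refine ⟨q, ?_, hqu, hqq, ?_, hxq⟩
    · rw [hgy']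
      exact mul_mem (hgK.le_RZ m2) (inv_mem (hK.le_RZ hy.1))
    · have hyi : y⁻¹ = x * y := hK.inv_eq h hy.1 hyy
      -- the action of `q` on `K` is that of `y⁻¹`, on the other member that of `g y g⁻¹`
      have b1 : As K q y⁻¹ := by
        have := (hK.as_one hgK h (fun h1 => hKK h1.symm) m2).mul (As.self (inv_mem hy.1))
        rw [one_mul, ← hgy'] at this
        exact this
      have b2 : As (cj (v * v') K) q ((v * v') * y * (v * v')⁻¹) := by
        have := (As.self m2).mul (hgK.as_one hK h hKK (inv_mem hy.1))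
        rw [mul_one, ← hgy'] at this
        exact this
      have b3 : As (cj (v * v') K) u ((v * v') * y * (v * v')⁻¹) := hy.conj_comm hgu
      have c1 := hy.mul b1
      rw [mul_inv_cancel] at c1
      have c2 := b3.mul b2
      have c3 : (v * v') * y * (v * v')⁻¹ * ((v * v') * y * (v * v')⁻¹) = x := by
        calc (v * v') * y * (v * v')⁻¹ * ((v * v') * y * (v * v')⁻¹) = (v * v') * (y * y) * (v * v')⁻¹ := by group
          _ = x := by rw [hyy, hgx, mul_inv_cancel_right]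
      rw [c3] at c2
      rw [mem_CX]
      intro M hM k hk
      rcases hK.cases hgK h (fun h1 => hKK h1.symm) hM with rfl | rfl
      · exact As.one_iff.1 c1 k hk
      · have h5 := c2.2 k hk
        rw [← hgK.comm_z h hk, mul_inv_cancel_right, mul_inv_eq_iff_eq_mul] at h5
        exact h5

/-- an element of `R_z ⊓ X_z` -/
theorem RZ_CX (h : WM Om) (hz : InZ Om z) (hr : r ∈ RZ Om z) (hc : r ∈ CX Om z) : r = 1 ∨ r = z :=
  RZ_center h hz hr fun K hK => As.one_iff.2 (mem_CX.1 hc K hK)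

/-! ### (LINK) -/

/-- **(LINK)** -/
theorem link (h : WM Om) (hc : CP Om u e) (hu : TI Om x u) (he : TI Om x e) :
    ∃ q ∈ RZ Om u, ∃ q' ∈ RZ Om e, q ∈ RZ Om x ∧ q' ∈ RZ Om x ∧ q * q = 1 ∧ q' * q' = 1 ∧ u * q ∈ CX Om x ∧
      e * q' ∈ CX Om x ∧ x * q ∈ CX Om u ∧ x * q' ∈ CX Om e ∧ x = q * q' := by
  have hxu : x ∉ RZ Om u := by
    intro h1
    obtain ⟨E, hE⟩ := he.inT
    exact (he.symm h).nc hE fun k hk => cp_RZ h hc h1 (hE.le_RZ hk)
  have hxe : x ∉ RZ Om e := by
    intro h1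
    obtain ⟨E, hE⟩ := hu.inT
    exact (hu.symm h).nc hE fun k hk => cp_RZ h hc.symm h1 (hE.le_RZ hk)
  obtain ⟨q, hqx, hqu, hqq, huq, hxq⟩ := (hu.dich h).resolve_left hxu
  obtain ⟨q', hqx', hqe, hqq', heq, hxq'⟩ := (he.dich h).resolve_left hxe
  refine ⟨q, hqu, q', hqe, hqx, hqx', hqq, hqq', huq, heq, hxq, hxq', ?_⟩
  -- `q q'` acts on `R_x` as `u e`, trivially
  have h1 : q * q' ∈ CX Om x := by
    have h2 := tt_II_cx h hc hu he
    have h3 : (u * e)⁻¹ * ((u * q) * (e * q')) ∈ CX Om x := mul_mem (inv_mem h2) (mul_mem huq heq)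
    have h4 : q * e = e * q := cp_RZ h hc hqu (z_mem_RZ he.inT h)
    have h5 : (u * e)⁻¹ * ((u * q) * (e * q')) = q * q' := by
      calc (u * e)⁻¹ * ((u * q) * (e * q')) = e⁻¹ * (q * e) * q' := by group
        _ = q * q' := by rw [h4]; group
    rwa [h5] at h3
  rcases RZ_CX h hu.inZ (mul_mem hqx hqx') h1 with h2 | h2
  · exfalso
    -- `q = q'⁻¹` centralises `R_u`
    have h3 : q = q'⁻¹ := eq_inv_of_mul_eq_one_left h2
    have h4 : q ∈ CX Om u := by
      rw [mem_CX]
      intro M hM k hk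
      rw [h3]
      exact (cp_RZ h hc (hM.le_RZ hk) (inv_mem hqe)).symm
    have h5 := mul_mem hxq (inv_mem h4)
    rw [mul_inv_cancel_right] at h5
    exact hu.not_mem_CX h h5
  · exact h2.symm

/-- a common C-partner of `u` and `e` is a C-partner of `x` -/
theorem link_cp (h : WM Om) (hc : CP Om u e) (hu : TI Om x u) (he : TI Om x e) (hd : InZ Om d) (h1 : CP Om u d)
    (h2 : CP Om e d) : CP Om x d := by
  obtain ⟨q, hq, q', hq', -, -, -, -, -, -, -, -, hx⟩ := link h hc hu he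
  have h3 : x ∈ CX Om d := by
    rw [mem_CX]
    intro M hM k hk
    have e1 := cp_RZ h h1 hq (hM.le_RZ hk)
    have e2 := cp_RZ h h2 hq' (hM.le_RZ hk)
    rw [hx, mul_assoc, e2, ← mul_assoc, e1, mul_assoc]
  rcases (cen_iff h hd hu.inZ).1 h3 with h4 | h4
  · rw [h4] at h1
    exact absurd h1.symm (hu.not_cp h)
  · exact h4.symm

theorem link_not_ti (h : WM Om) (hc : CP Om u e) (hu : TI Om x u) (he : TI Om x e) (h1 : CP Om u d)
    (h2 : CP Om e d) : ¬ TI Om x d := fun h3 => h3.not_cp h (link_cp h hc hu he h3.inT h1 h2)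

/-- at most two elements of `C_S` are of type I with respect to `x` -/
theorem link_three (h : WM Om) {S : Subgroup G} (hS : IsPGroup 2 S) (hu : u ∈ CS Om S) (he : e ∈ CS Om S)
    (hd : d ∈ CS Om S) (hue : u ≠ e) (iu : TI Om x u) (ie : TI Om x e) (id' : TI Om x d) : d = u ∨ d = e := by
  by_contra hcon
  push Not at hcon
  exact link_not_ti h (CS.cp hu h hS he hue) iu ie (CS.cp hu h hS hd (Ne.symm hcon.1))
    (CS.cp he h hS hd (Ne.symm hcon.2)) id'

/-- `x u e ∈ Z` -/
theorem link_inZ (h : WM Om) (hc : CP Om u e) (hu : TI Om x u) (he : TI Om x e) : InZ Om (x * u * e) := by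
  obtain ⟨E, hE⟩ := he.inT
  obtain ⟨v, hv, -, -, hvx⟩ := he.exists_mv h hE
  have h1 : v * u = u * v := (cp_RZ h hc (z_mem_RZ hu.inT h) (hE.le_RZ hv)).symm
  have h2 := hu.conj h v
  rw [hvx, h1, mul_inv_cancel_right] at h2
  have h3 := h2.inZ_mul h
  have h4 : x * e * u = x * u * e := by
    rw [mul_assoc, mul_assoc, cp_comm h hu.inT he.inT hc]
  rwa [h4] at h3

/-- `(x, x u e)` is a C-pair -/
theorem link_xue (h : WM Om) (hc : CP Om u e) (hu : TI Om x u) (he : TI Om x e) : CP Om x (x * u * e) := by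
  have h1 : x * u * e ∈ CX Om x := by
    rw [mul_assoc]
    exact mul_mem (z_mem_CX h) (tt_II_cx h hc hu he)
  rcases (cen_iff h hu.inZ (link_inZ h hc hu he)).1 h1 with h2 | h2
  · exfalso
    rw [mul_assoc] at h2
    have h3 : u * e = 1 := mul_eq_left.1 h2.symm
    have h4 : u = e := by
      rw [eq_inv_of_mul_eq_one_left h3, he.inT.inv h]
    rw [h4] at hc
    exact hc.1 rfl
  · exact h2

/-! ### (KEY2) -/

theorem TI.key2_of_mem (hti : TI Om x z) (h : WM Om) (hm : x ∈ RZ Om z) (hg : g * x * g⁻¹ = x * z)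
    (hgz : g * z = z * g) (hw : w ∈ RZ Om z) (hxw : x * w ∈ CX Om z) : g * w * g⁻¹ = z * w := by
  have hxx := hti.inZ.z2 h
  have hzz := hti.inT.z2 h
  have hxz := hti.comm
  have gz : g * z * g⁻¹ = z := by rw [hgz, mul_inv_cancel_right]
  have h0 : ∀ y : G, x * (x * y) = y := fun y => by rw [← mul_assoc, hxx, one_mul]
  rcases RZ_CX h hti.inT (mul_mem hm hw) hxw with h1 | h1
  · have h2 : w = x := by rw [← h0 w, h1, mul_one]
    rw [h2, hg, hxz]
  · have h2 : w = x * z := by rw [← h0 w, h1]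
    rw [h2, show g * (x * z) * g⁻¹ = (g * x * g⁻¹) * (g * z * g⁻¹) by group, hg, gz, mul_assoc, hzz, mul_one, hxz,
      ← mul_assoc, hzz, one_mul]

/-- **(KEY2)** : `(x, z)` of type I, `g ∈ C(z)`, `x^g = x z`; `w ∈ R_z` acts on `R_z` as `x`: then `w^g = z w` -/
theorem TI.key2 (hti : TI Om x z) (h : WM Om) (hg : g * x * g⁻¹ = x * z) (hgz : g * z = z * g) (hw : w ∈ RZ Om z)
    (hxw : x * w ∈ CX Om z) : g * w * g⁻¹ = z * w := by
  have hxx := hti.inZ.z2 h
  have hzz := hti.inT.z2 h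
  have hxz := hti.comm
  have gz : g * z * g⁻¹ = z := by rw [hgz, mul_inv_cancel_right]
  rcases hti.dich h with hm | ⟨q, hqx, hqz, hqq, -, hxq⟩
  · exact hti.key2_of_mem h hm hg hgz hw hxw
  -- `w ∈ {q, z q}`
  have h1 : q⁻¹ * w ∈ CX Om z := by
    have := mul_mem (inv_mem hxq) hxw
    rwa [show (x * q)⁻¹ * (x * w) = q⁻¹ * w by group] at this
  -- `g q g⁻¹ ∈ {q, z q}`
  have h2 : q⁻¹ * (g * q * g⁻¹) = 1 ∨ q⁻¹ * (g * q * g⁻¹) = z := by
    refine RZ_CX h hti.inT (mul_mem (inv_mem hqz) (RZ_conj_comm h hgz hqz)) ?_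
    have h3 := CX_conj_comm h hgz hxq
    have h4 : g * (x * q) * g⁻¹ = x * z * (g * q * g⁻¹) := by rw [← hg]; group
    rw [h4] at h3
    have h5 := mul_mem (inv_mem hxq) (mul_mem (z_mem_CX h) h3)
    have h6 : (x * q)⁻¹ * (z * (x * z * (g * q * g⁻¹))) = q⁻¹ * (g * q * g⁻¹) := by
      have h7 : z * (x * z * (g * q * g⁻¹)) = x * (g * q * g⁻¹) := by
        calc z * (x * z * (g * q * g⁻¹)) = z * (x * z) * (g * q * g⁻¹) := by group
          _ = x * (g * q * g⁻¹) := by rw [hxz, ← mul_assoc z z x, hzz, one_mul]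
      rw [h7]; group
    rwa [h6] at h5
  have h3 : g * q * g⁻¹ = z * q := by
    rcases h2 with h2 | h2
    swap
    · rw [inv_mul_eq_iff_eq_mul] at h2
      rw [h2, RZ_le_centralizer h hqz]
    rw [inv_mul_eq_one] at h2
    -- `q ∈ R_{xz}`
    have h4 := RZ_conj h g hqx
    rw [← h2, hg] at h4
    -- `z q ∈ R_{xz}`
    obtain ⟨L, hL⟩ := hti.inT
    obtain ⟨v, hv, -, -, hvx⟩ := hti.exists_mv h hL
    have h5 := RZ_conj h v hqx
    rw [hvx] at h5
    have h6 : v * q * v⁻¹ = z * q := by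
      have h7 := mem_CX.1 hxq L hL v hv
      have h8 : v * (x * q) * v⁻¹ = x * q := by rw [← h7, mul_inv_cancel_right]
      have h9 : v * (x * q) * v⁻¹ = x * z * (v * q * v⁻¹) := by rw [← hvx]; group
      rw [h9, mul_assoc] at h8
      have h10 := mul_left_cancel h8
      calc v * q * v⁻¹ = (z * z) * (v * q * v⁻¹) := by rw [hzz, one_mul]
        _ = z * (z * (v * q * v⁻¹)) := by group
        _ = z * q := by rw [h10]
    rw [h6] at h5
    have h7 : z ∈ RZ Om (x * z) := by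
      have := mul_mem h5 (inv_mem h4)
      rwa [mul_inv_cancel_right] at this
    have h8 : TI Om (x * z) z := by
      have := (hti.symm h).mul_right h
      rw [← hxz] at this
      exact this.symm h
    have h9 := h8.mem_symm h h7
    have h10 : x ∈ RZ Om z := by
      have := mul_mem h9 (z_mem_RZ hti.inT h)
      rwa [mul_assoc, hzz, mul_one] at this
    exact hti.key2_of_mem h h10 hg hgz hqz hxq
  rcases RZ_CX h hti.inT (mul_mem (inv_mem hqz) hw) h1 with h4 | h4
  · rw [inv_mul_eq_one] at h4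
    rw [← h4, h3]
  · rw [inv_mul_eq_iff_eq_mul] at h4
    rw [h4, show g * (q * z) * g⁻¹ = (g * q * g⁻¹) * (g * z * g⁻¹) by group, h3, gz, mul_assoc]

/-- **(KEY2)** : an involution interchanging the members over `z` never maps `x` to `x z` -/
theorem TI.key2_swp (hti : TI Om x z) (h : WM Om) (hs : Swp Om z g) (hgg : g * g = 1) : g * x * g⁻¹ ≠ x * z := by
  intro hg
  obtain ⟨L, hL⟩ := hti.inT
  obtain ⟨l, hl, hll⟩ := (hti.symm h).exists_as h hL
  have hL' := hs.mem h hL
  have hne := hs.ne hL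
  have hzz := hti.inT.z2 h
  have hq := hs.as_qq h hL hl.1
  -- `x` acts on `L^g` as `g l g⁻¹`
  have h1 : As (cj g L) x (g * l * g⁻¹) := by
    have h2 := hl.conj g
    rw [hg] at h2
    have h3 := h2.mul (hL'.as_z h)
    rw [mul_one, mul_assoc, hzz, mul_one] at h3
    exact h3
  have hll' : (g * l * g⁻¹) * (g * l * g⁻¹) = z := by
    calc (g * l * g⁻¹) * (g * l * g⁻¹) = g * (l * l) * g⁻¹ := by group
      _ = z := by rw [hll, hs.1, mul_inv_cancel_right]
  have hxq : x * qq g l ∈ CX Om z := by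
    rw [mem_CX]
    intro M hM k hk
    rcases hL.cases hL' h hne hM with rfl | rfl
    · have h4 := hl.mul hq.1
      rw [hll] at h4
      have h5 := h4.2 k hk
      rw [← hL.comm_z h hk, mul_inv_cancel_right, mul_inv_eq_iff_eq_mul] at h5
      exact h5
    · have h4 := h1.mul hq.2
      rw [hll'] at h4
      have h5 := h4.2 k hk
      rw [← hL'.comm_z h hk, mul_inv_cancel_right, mul_inv_eq_iff_eq_mul] at h5
      exact h5
  have h2 := hti.key2 h hg hs.1 (qq_mem hs h hL hl.1) hxq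
  rw [qq_comm hs h hgg hL hl.1, mul_inv_cancel_right] at h2
  exact hti.inT.z1 h (mul_eq_right.1 h2.symm)

/-! ### The J-ARGUMENT -/

/-- the hypotheses of the J-ARGUMENT: `A` elementary abelian, `T ≤ A` centralises `x ∉ A`, and the elements of `R_x`
which commute with some `t ∈ T#` normalise `A` -/
structure JH (Om : Set (Subgroup G)) (A T : Subgroup G) (x : G) : Prop where
  inZ : InZ Om x
  comm' : ∀ a ∈ A, ∀ b ∈ A, a * b = b * a
  sq : ∀ a ∈ A, a * a = 1
  nin : x ∉ A
  le : T ≤ A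
  tx : ∀ t ∈ T, t * x = x * t
  nor : ∀ t ∈ T, t ≠ 1 → ∀ r ∈ RZ Om x, t * r = r * t → ∀ a ∈ A, r * a * r⁻¹ ∈ A

variable {A T : Subgroup G}

/-- `[T, C_{R_x}(t)] ≤ J` -/
theorem JH.comm_mem (j : JH Om A T x) (h : WM Om) (ht : t ∈ T) (ht1 : t ≠ 1) (hr : r ∈ RZ Om x) (hc : t * r = r * t)
    (hs : s ∈ T) : s * r * s⁻¹ * r⁻¹ ∈ A ∧ s * r * s⁻¹ * r⁻¹ ∈ RZ Om x := by
  constructor
  · have h1 := j.nor t ht ht1 r hr hc s⁻¹ (j.le (inv_mem hs))
    have h2 : s * r * s⁻¹ * r⁻¹ = s * (r * s⁻¹ * r⁻¹) := by group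
    rw [h2]
    exact mul_mem (j.le hs) h1
  · exact mul_mem (RZ_conj_comm h (j.tx s hs) hr) (inv_mem hr)

/-- `J ∌ x` : `t` moves no `r ∈ C_{R_x}(s)` to `x r` -/
theorem JH.ne_x (j : JH Om A T x) (h : WM Om) (ht : t ∈ T) (ht1 : t ≠ 1) (hr : r ∈ RZ Om x) (hc : t * r = r * t)
    (hs : s ∈ T) : s * r * s⁻¹ ≠ x * r := by
  intro h1
  have h2 := (j.comm_mem h ht ht1 hr hc hs).1
  rw [h1, mul_inv_cancel_right] at h2
  exact j.nin h2

/-- the commutator of two elements of `R_x` -/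
theorem RZ_commutator (h : WM Om) (hx : InZ Om x) (hr : r ∈ RZ Om x) (hs : s ∈ RZ Om x) :
    s * r * s⁻¹ = r ∨ s * r * s⁻¹ = x * r := by
  obtain ⟨K, hK⟩ := hx
  obtain ⟨L, hL, hne, -⟩ := hK.other h
  have hxx := hK.inZ.z2 h
  -- it is enough for generators
  have key : ∀ k, (∀ r ∈ RZ Om x, k * r * k⁻¹ = r ∨ k * r * k⁻¹ = x * r) → k * x = x * k → ∀ l,
      (∀ r ∈ RZ Om x, l * r * l⁻¹ = r ∨ l * r * l⁻¹ = x * r) → ∀ r ∈ RZ Om x,
      (k * l) * r * (k * l)⁻¹ = r ∨ (k * l) * r * (k * l)⁻¹ = x * r := by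
    intro k h1 hkx l h2 r hr
    have h3 : (k * l) * r * (k * l)⁻¹ = k * (l * r * l⁻¹) * k⁻¹ := by group
    have h4 : k * (x * r) * k⁻¹ = x * (k * r * k⁻¹) := by
      calc k * (x * r) * k⁻¹ = (k * x) * r * k⁻¹ := by group
        _ = _ := by rw [hkx]; group
    rw [h3]
    rcases h2 r hr with h5 | h5 <;> rcases h1 r hr with h6 | h6
    · left; rw [h5, h6]
    · right; rw [h5, h6]
    · right; rw [h5, h4, h6]
    · left; rw [h5, h4, h6, ← mul_assoc, hxx, one_mul]
  have gen : ∀ {K L : Subgroup G}, Mem Om x K → Mem Om x L → K ≠ L → ∀ k ∈ K, ∀ r ∈ RZ Om x,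
      k * r * k⁻¹ = r ∨ k * r * k⁻¹ = x * r := by
    intro K L hK hL hne k hk r hr
    obtain ⟨a, ha, b, hb, rfl⟩ := (mem_RZ hK hL h hne).1 hr
    have h1 : k * (a * b) * k⁻¹ = (k * a * k⁻¹) * b := by
      calc k * (a * b) * k⁻¹ = k * a * (b * k⁻¹) := by group
        _ = k * a * (k⁻¹ * b) := by rw [hK.comm hL h hne (inv_mem hk) hb]
        _ = _ := by group
    rw [h1]
    rcases hK.comm_or h ha hk with h2 | h2
    · left; rw [h2]
    · right; rw [h2, mul_assoc]
  obtain ⟨a, ha, b, hb, rfl⟩ := (mem_RZ hK hL h hne).1 hs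
  exact key a (gen hK hL hne a ha) (hK.comm_z h ha) b (gen hL hK hne.symm b hb) r hr

/-- `J` centralises `C_{R_x}(t)` -/
theorem JH.comm (j : JH Om A T x) (h : WM Om) (ht : t ∈ T) (ht1 : t ≠ 1) (hr : r ∈ RZ Om x) (hc : t * r = r * t)
    (hg : g ∈ A) (hgx : g ∈ RZ Om x) : r * g = g * r := by
  have h1 := j.nor t ht ht1 r hr hc g hg
  rcases RZ_commutator h j.inZ hgx hr with h2 | h2
  · rw [← mul_inv_eq_iff_eq_mul, h2]
  · exfalso
    rw [h2] at h1
    apply j.nin
    have := mul_mem h1 (inv_mem hg)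
    rwa [mul_inv_cancel_right] at this

/-- an element of `J` in `K` is `1` -/
theorem JH.eq_one (j : JH Om A T x) (h : WM Om) (hK : Mem Om x K) (hg : g ∈ A) (hgK : g ∈ K) : g = 1 := by
  rcases hK.sq_cases h hgK with h1 | h1 | h1
  · exact h1
  · rw [h1] at hg; exact absurd hg j.nin
  · rw [j.sq g hg] at h1
    exact absurd h1.symm (j.inZ.z1 h)

/-- an element of `R_x` centralising a member lies in the other one -/
theorem RZ_cent_mem (h : WM Om) (hK : Mem Om x K) (hL : Mem Om x L) (hne : K ≠ L) (hr : r ∈ RZ Om x)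
    (hc : ∀ k ∈ L, r * k = k * r) : r ∈ K := by
  obtain ⟨k, hk, l, hl, rfl⟩ := (mem_RZ hK hL h hne).1 hr
  have h1 : As L (k * l) l := by
    have := (hL.as_one hK h hne.symm hk).mul (As.self hl)
    rwa [one_mul] at this
  rcases hL.as_center h h1 (As.one_iff.2 hc) with h2 | h2
  · rw [h2, mul_one]; exact hk
  · rw [h2]; exact mul_mem hk (hK.zmem h)

/-- **the dichotomy** : `T` centralises `R_x` and `J = 1`, or `T` acts faithfully on `R_x` -/
theorem JH.dich (j : JH Om A T x) (h : WM Om) :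
    (T ≤ CX Om x ∧ ∀ g ∈ A, g ∈ RZ Om x → g = 1) ∨ ∀ t ∈ T, t ∈ CX Om x → t = 1 := by
  by_cases h0 : ∀ t ∈ T, t ∈ CX Om x → t = 1
  · exact Or.inr h0
  left
  push Not at h0
  obtain ⟨t, ht, htx, ht1⟩ := h0
  have hJ : ∀ g ∈ A, g ∈ RZ Om x → g = 1 := by
    intro g hg hgx
    have h1 : g ∈ CX Om x := by
      rw [mem_CX]
      intro K hK k hk
      exact (j.comm h ht ht1 (hK.le_RZ hk) (CX_comm (hK.le_RZ hk) htx) hg hgx).symm
    rcases RZ_CX h j.inZ hgx h1 with h2 | h2
    · exact h2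
    · rw [h2] at hg; exact absurd hg j.nin
  refine ⟨fun s hs => ?_, hJ⟩
  rw [mem_CX]
  intro K hK k hk
  obtain ⟨h1, h2⟩ := j.comm_mem h ht ht1 (hK.le_RZ hk) (CX_comm (hK.le_RZ hk) htx) hs
  have h3 := hJ _ h1 h2
  rw [mul_inv_eq_one, mul_inv_eq_iff_eq_mul] at h3
  exact h3

/-- `T` acts faithfully on `R_x` and has at least three elements -/
structure JF (Om : Set (Subgroup G)) (A T : Subgroup G) (x : G) : Prop extends JH Om A T x where
  ff : ∀ t ∈ T, t ∈ CX Om x → t = 1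
  three : ∃ s ∈ T, ∃ t ∈ T, s ≠ 1 ∧ t ≠ 1 ∧ s ≠ t

theorem JH.inv (j : JH Om A T x) (ht : t ∈ T) : t⁻¹ = t := inv_eq_of_mul_eq_one_right (j.sq t (j.le ht))

theorem JH.cm (j : JH Om A T x) (hs : s ∈ T) (ht : t ∈ T) : s * t = t * s := j.comm' s (j.le hs) t (j.le ht)

/-- a transposition on `K` inverts its axis, so do the other `s ∈ T#` fixing `K` -/
theorem JH.axis (j : JH Om A T x) (h : WM Om) (hK : Mem Om x K) (ht : t ∈ T) (ha : Tr t K a) (hs : s ∈ T) (hs1 : s ≠ 1)
    (hsK : cj s K = K) : s * a * s⁻¹ = x * a := by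
  have hst := j.cm hs ht
  have hsx := j.tx s hs
  have haa := Tr.sq' ha hK
  have hm : s * a * s⁻¹ ∈ K := by
    have := conj_mem_cj (g := s) ha.mem
    rwa [hsK] at this
  have h1 : t * (s * a * s⁻¹) * t⁻¹ = x * (s * a * s⁻¹) := by
    calc t * (s * a * s⁻¹) * t⁻¹ = (t * s) * a * (t * s)⁻¹ := by group
      _ = (s * t) * a * (s * t)⁻¹ := by rw [hst]
      _ = s * (t * a * t⁻¹) * s⁻¹ := by group
      _ = s * (x * a) * s⁻¹ := by rw [Tr.inv' ha hK h]
      _ = (s * x) * a * s⁻¹ := by group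
      _ = _ := by rw [hsx]; group
  have h2 : (s * a * s⁻¹) * (s * a * s⁻¹) = x := by
    calc (s * a * s⁻¹) * (s * a * s⁻¹) = s * (a * a) * s⁻¹ := by group
      _ = x := by rw [haa, hsx, mul_inv_cancel_right]
  rcases Tr.cases ha hK h hm (Or.inr h1) with h4 | h4 | h4 | h4
  · rw [h4, one_mul] at h2; exact absurd h2.symm (hK.inZ.z1 h)
  · rw [h4, hK.inZ.z2 h] at h2; exact absurd h2.symm (hK.inZ.z1 h)
  · exfalso
    have h5 : s * a = a * s := by rw [← mul_inv_eq_iff_eq_mul, h4]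
    exact j.ne_x h hs hs1 (hK.le_RZ ha.mem) h5 ht (Tr.inv' ha hK h)
  · exact h4

/-- if `t ∈ T` is a transposition on `K`, the elements of `T` fixing `K` are `1` and `t` -/
theorem JH.fix_of_tr (j : JH Om A T x) (h : WM Om) (hK : Mem Om x K) (ht : t ∈ T) (ht1 : t ≠ 1) (htK : cj t K = K)
    (ha : Tr t K a) (hs : s ∈ T) (hsK : cj s K = K) : s = 1 ∨ s = t := by
  by_contra hcon
  push Not at hcon
  have haa := Tr.sq' ha hK
  have h1 := j.axis h hK ht ha hs hcon.1 hsK
  have h2 : s * t ≠ 1 := by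
    intro h3
    apply hcon.2
    rw [eq_inv_of_mul_eq_one_left h3, j.inv ht]
  have h3 : (s * t) * a * (s * t)⁻¹ = a := by
    calc (s * t) * a * (s * t)⁻¹ = s * (t * a * t⁻¹) * s⁻¹ := by group
      _ = s * (x * a) * s⁻¹ := by rw [Tr.inv' ha hK h]
      _ = (s * x) * a * s⁻¹ := by group
      _ = (x * s) * a * s⁻¹ := by rw [j.tx s hs]
      _ = x * (s * a * s⁻¹) := by group
      _ = x * (x * a) := by rw [h1]
      _ = a := by rw [← mul_assoc, hK.inZ.z2 h, one_mul]
  rw [mul_inv_eq_iff_eq_mul] at h3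
  exact j.ne_x h (mul_mem hs ht) h2 (hK.le_RZ ha.mem) h3 ht (Tr.inv' ha hK h)

/-- **no element of `T` is outer on a member it fixes** -/
theorem JF.no_tr (j : JF Om A T x) (h : WM Om) (hK : Mem Om x K) (ht : t ∈ T) (htK : cj t K = K)
    (ha : Tr t K a) : False := by
  have jh := j.toJH
  have ht1 : t ≠ 1 := by
    rintro rfl
    have h1 := Tr.inv' ha hK h
    rw [one_mul, inv_one, mul_one] at h1
    exact hK.inZ.z1 h (mul_eq_right.1 h1.symm)
  obtain ⟨p, hp, hp1, hpt⟩ : ∃ p ∈ T, p ≠ 1 ∧ p ≠ t := by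
    obtain ⟨s, hs, s', hs', h1, h2, h3⟩ := j.three
    by_cases h4 : s = t
    · exact ⟨s', hs', h2, fun h5 => h3 (h4.trans h5.symm)⟩
    · exact ⟨s, hs, h1, h4⟩
  have hpK : cj p K ≠ K := fun h1 => by
    rcases jh.fix_of_tr h hK ht ht1 htK ha hp h1 with h2 | h2
    · exact hp1 h2
    · exact hpt h2
  have hsw : Swp Om x p := Swp.of_one h hK (j.tx p hp) hpK
  have hpp := j.sq p (j.le hp)
  have htt := j.sq t (j.le ht)
  have htp := j.cm ht hp
  have haa := Tr.sq' ha hK
  have hsw' : Swp Om x (p * t) := by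
    refine Swp.of_one h hK (j.tx _ (mul_mem hp ht)) ?_
    rw [cj_mul, htK]; exact hpK
  obtain ⟨b, hb, hbb, hba, hba'⟩ := hK.exists_off h ha.mem haa
  have hcom := ha.com b hb (by rw [hbb, hK.2]) hba hba'
  have htb : t * b * t⁻¹ ∈ K := by
    have := conj_mem_cj (g := t) hb
    rwa [htK] at this
  -- `q_p(a) ∈ A` for every swap `p` commuting with `t`
  have key : ∀ p, p ∈ T → Swp Om x p → qq p a ∈ A := by
    intro p hp hsw
    have hpp := j.sq p (j.le hp)
    have htp := j.cm ht hp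
    have hp1 : p ≠ 1 := by
      rintro rfl
      exact hsw.2 K hK (cj_one K)
    have h1 := (jh.comm_mem h hp hp1 (qq_mem hsw h hK hb) (qq_comm hsw h hpp hK hb) ht).1
    have h2 : t * qq p b * t⁻¹ = qq p (t * b * t⁻¹) := by
      rw [qq, qq]
      calc t * (b * (p * b * p⁻¹)) * t⁻¹ = (t * b * t⁻¹) * ((t * p) * b * (t * p)⁻¹) := by group
        _ = (t * b * t⁻¹) * ((p * t) * b * (p * t)⁻¹) := by rw [htp]
        _ = _ := by group
    have h3 : t * qq p b * t⁻¹ * (qq p b)⁻¹ = qq p (t * b * t⁻¹ * b⁻¹) := by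
      rw [h2, mul_inv_eq_iff_eq_mul, ← qq_mul hsw h hK (mul_mem htb (inv_mem hb)) hb, inv_mul_cancel_right]
    rw [h3] at h1
    rcases hcom with h4 | h4
    · rwa [h4] at h1
    · have h5 : qq p a⁻¹ = qq p a := by
        rw [hK.inv_eq h ha.mem haa, qq_mul hsw h hK (hK.zmem h) ha.mem, qq_z hsw hK.inZ h, one_mul]
      rwa [h4, h5] at h1
  have h1 := key p hp hsw
  have h2 := key (p * t) (mul_mem hp ht) hsw'
  have h3 : qq (p * t) a = x * qq p a := by
    rw [qq, qq]
    calc a * (p * t * a * (p * t)⁻¹) = a * (p * (t * a * t⁻¹) * p⁻¹) := by group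
      _ = a * (p * (x * a) * p⁻¹) := by rw [Tr.inv' ha hK h]
      _ = a * ((p * x) * a * p⁻¹) := by group
      _ = a * x * (p * a * p⁻¹) := by rw [hsw.1]; group
      _ = _ := by rw [hK.comm_z h ha.mem]; group
  rw [h3] at h2
  apply j.nin
  have := mul_mem h2 (inv_mem h1)
  rwa [mul_inv_cancel_right] at this

/-- the elements of `T` fixing a member act on it as inner automorphisms -/
theorem JF.exists_as (j : JF Om A T x) (h : WM Om) (hK : Mem Om x K) (ht : t ∈ T) (htK : cj t K = K) :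
    ∃ a, As K t a := by
  rcases h.wr.inn_or_tr hK.1 htK (j.sq t (j.le ht)) with ⟨y, hy, h1⟩ | ⟨a, ha⟩
  · exact ⟨y, hy, h1⟩
  · exact (j.no_tr h hK ht htK ha).elim

/-- the elements of `T#` fixing the members act on both as elements of order 4 -/
theorem JF.sq_of_as (j : JF Om A T x) (h : WM Om) (hK : Mem Om x K) (ht : t ∈ T) (ht1 : t ≠ 1)
    (ha : As K t a) : a * a = x := by
  have jh := j.toJH
  obtain ⟨L, hL, hne, -⟩ := hK.other h
  by_contra hcon
  -- `t` is trivial on `K`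
  have htK : ∀ k ∈ K, t * k = k * t := by
    rcases hK.sq_cases h ha.1 with h1 | h1 | h1
    · rw [h1] at ha; exact As.one_iff.1 ha
    · rw [h1] at ha
      intro k hk
      have h2 := ha.2 k hk
      rw [← hK.comm_z h hk, mul_inv_cancel_right, mul_inv_eq_iff_eq_mul] at h2
      exact h2
    · exact absurd h1 hcon
  have htL : cj t L = L := by
    rcases cj_cases h hK hL hne (j.tx t ht) with h1 | h1
    · exact h1.2
    · exfalso
      apply hne
      rw [← h1.1]
      exact ha.cj_eq.symm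
  obtain ⟨b, hb⟩ := j.exists_as h hL ht htL
  -- `b` of order 4
  have hbb : b * b = x := by
    rcases hL.sq_cases h hb.1 with h1 | h1 | h1
    · exfalso
      apply ht1
      apply j.ff t ht
      rw [mem_CX]
      intro M hM k hk
      rcases hK.cases hL h hne hM with rfl | rfl
      · exact htK k hk
      · rw [h1] at hb; exact As.one_iff.1 hb k hk
    · exfalso
      apply ht1
      apply j.ff t ht
      rw [mem_CX]
      intro M hM k hk
      rcases hK.cases hL h hne hM with rfl | rfl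
      · exact htK k hk
      · have h2 := hb.2 k hk
        rw [h1, ← hM.comm_z h hk, mul_inv_cancel_right, mul_inv_eq_iff_eq_mul] at h2
        exact h2
    · exact h1
  -- `J = 1`
  have hJ : ∀ g ∈ A, g ∈ RZ Om x → g = 1 := by
    intro g hg hgx
    refine jh.eq_one h hL hg (RZ_cent_mem h hL hK hne.symm hgx fun k hk => ?_)
    exact (jh.comm h ht ht1 (hK.le_RZ hk) (htK k hk) hg hgx).symm
  have hT : ∀ s ∈ T, ∀ r ∈ RZ Om x, t * r = r * t → s * r = r * s := by
    intro s hs r hr hc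
    obtain ⟨h1, h2⟩ := jh.comm_mem h ht ht1 hr hc hs
    have h3 := hJ _ h1 h2
    rw [mul_inv_eq_one, mul_inv_eq_iff_eq_mul] at h3
    exact h3
  -- `T = {1, t}`
  have hone : ∀ s ∈ T, s = 1 ∨ s = t := by
    intro s hs
    have h1 : ∀ k ∈ K, s * k = k * s := fun k hk => hT s hs k (hK.le_RZ hk) (htK k hk)
    have hsL : cj s L = L := by
      rcases cj_cases h hK hL hne (j.tx s hs) with h2 | h2
      · exact h2.2
      · exfalso
        apply hne
        rw [← h2.1]
        exact ((As.one_iff.2 h1).cj_eq).symm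
    obtain ⟨c, hc⟩ := j.exists_as h hL hs hsL
    have h2 : s * b = b * s := hT s hs b (hL.le_RZ hb.1) hb.comm
    have h3 : b * c = c * b := by
      have h4 := hc.2 b hb.1
      rw [h2, mul_inv_cancel_right, eq_mul_inv_iff_mul_eq] at h4
      exact h4
    have h5 : ∀ {u d : G}, u ∈ T → (∀ k ∈ K, u * k = k * u) → As L u d → (d = 1 ∨ d = x) → u = 1 := by
      intro u d hu hu1 hd hd1
      apply j.ff u hu
      rw [mem_CX]
      intro M hM k hk
      rcases hK.cases hL h hne hM with rfl | rfl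
      · exact hu1 k hk
      · rcases hd1 with hd1 | hd1
        · rw [hd1] at hd; exact As.one_iff.1 hd k hk
        · have h2 := hd.2 k hk
          rw [hd1, ← hM.comm_z h hk, mul_inv_cancel_right, mul_inv_eq_iff_eq_mul] at h2
          exact h2
    have h6 : ∀ k ∈ K, (s * t) * k = k * (s * t) := fun k hk => by
      rw [mul_assoc, htK k hk, ← mul_assoc, h1 k hk, mul_assoc]
    have h7 : s * t = 1 → s = t := fun h8 => by
      rw [eq_inv_of_mul_eq_one_left h8, jh.inv ht]
    rcases hL.of_comm h hb.1 hbb hc.1 h3 with h4 | h4 | h4 | h4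
    · exact Or.inl (h5 hs h1 hc (Or.inl h4))
    · exact Or.inl (h5 hs h1 hc (Or.inr h4))
    · right
      refine h7 (h5 (mul_mem hs ht) h6 (hc.mul hb) (Or.inr ?_))
      rw [h4, hbb]
    · right
      refine h7 (h5 (mul_mem hs ht) h6 (hc.mul hb) (Or.inl ?_))
      rw [h4, mul_assoc, hbb, hK.inZ.z2 h]
  obtain ⟨s, hs, s', hs', h1, h2, h3⟩ := j.three
  apply h3
  rw [(hone s hs).resolve_left h1, (hone s' hs').resolve_left h2]

/-- at most one element of `T#` fixes the members -/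
theorem JF.unique (j : JF Om A T x) (h : WM Om) (hK : Mem Om x K) (hs : s ∈ T) (hs1 : s ≠ 1) (hsK : cj s K = K)
    (ht : t ∈ T) (ht1 : t ≠ 1) (htK : cj t K = K) : s = t := by
  have jh := j.toJH
  obtain ⟨L, hL, hne, -⟩ := hK.other h
  have key : ∀ {K : Subgroup G}, Mem Om x K → cj s K = K → cj t K = K → ∀ k ∈ K, (s * t) * k = k * (s * t) := by
    intro K hK hsK htK k hk
    obtain ⟨a, ha⟩ := j.exists_as h hK hs hsK
    obtain ⟨b, hb⟩ := j.exists_as h hK ht htK
    have haa := j.sq_of_as h hK hs hs1 ha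
    have hbb := j.sq_of_as h hK ht ht1 hb
    have hab : a * b = b * a := by
      by_contra hcon
      refine jh.ne_x h ht ht1 (hK.le_RZ hb.1) hb.comm hs ?_
      rw [ha.2 b hb.1]
      exact hK.anti h hb.1 hbb ha.1 haa (fun h1 => hcon h1.symm)
    have h1 := ha.mul hb
    have h2 : a * b = 1 ∨ a * b = x := by
      rcases hK.of_comm h ha.1 haa hb.1 hab with h3 | h3 | h3 | h3
      · rw [h3, one_mul] at hbb; exact absurd hbb.symm (hK.inZ.z1 h)
      · rw [h3, hK.inZ.z2 h] at hbb; exact absurd hbb.symm (hK.inZ.z1 h)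
      · right; rw [h3, haa]
      · left; rw [h3, ← mul_assoc, hK.comm_z h ha.1, mul_assoc, haa, hK.inZ.z2 h]
    rcases h2 with h2 | h2
    · rw [h2] at h1; exact As.one_iff.1 h1 k hk
    · have h3 := h1.2 k hk
      rw [h2, ← hK.comm_z h hk, mul_inv_cancel_right, mul_inv_eq_iff_eq_mul] at h3
      exact h3
  have hsL : cj s L = L := by
    rcases cj_cases h hK hL hne (j.tx s hs) with h1 | h1
    · exact h1.2
    · exact absurd (hsK.symm.trans h1.1) hne
  have htL : cj t L = L := by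
    rcases cj_cases h hK hL hne (j.tx t ht) with h1 | h1
    · exact h1.2
    · exact absurd (htK.symm.trans h1.1) hne
  have h1 : s * t = 1 := by
    apply j.ff _ (mul_mem hs ht)
    rw [mem_CX]
    intro M hM k hk
    rcases hK.cases hL h hne hM with rfl | rfl
    · exact key hM hsK htK k hk
    · exact key hM hsL htL k hk
  rw [eq_inv_of_mul_eq_one_left h1, jh.inv ht]

/-- **the J-ARGUMENT** : `T = {1, s, p, p s}`, `p` a swap, `s` acts on `K` as `a` and on `K^p` as `p a p⁻¹`, and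
`x a (p a p⁻¹) ∈ A` -/
theorem JF.main (j : JF Om A T x) (h : WM Om) (hK : Mem Om x K) :
    ∃ p ∈ T, ∃ s ∈ T, ∃ a ∈ K, Swp Om x p ∧ s ≠ 1 ∧ s ≠ p ∧ a * a = x ∧ As K s a ∧ As (cj p K) s (p * a * p⁻¹) ∧
      (∀ t ∈ T, t = 1 ∨ t = s ∨ t = p ∨ t = p * s) ∧ x * qq p a ∈ A ∧ (∀ g ∈ A, g ∈ RZ Om x → g = 1 ∨ g = x * qq p a) := by
  have jh := j.toJH
  -- a swap
  obtain ⟨p, hp, hpK⟩ : ∃ p ∈ T, cj p K ≠ K := by
    by_contra hcon
    push Not at hcon
    obtain ⟨s, hs, s', hs', h1, h2, h3⟩ := j.three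
    exact h3 (j.unique h hK hs h1 (hcon s hs) hs' h2 (hcon s' hs'))
  have hsw : Swp Om x p := Swp.of_one h hK (j.tx p hp) hpK
  have hpp := j.sq p (j.le hp)
  have hL := hsw.mem h hK
  have hne := hsw.ne hK
  -- an element fixing `K`
  obtain ⟨s, hs, hs1, hsK⟩ : ∃ s ∈ T, s ≠ 1 ∧ cj s K = K := by
    obtain ⟨s, hs, s', hs', h1, h2, h3⟩ := j.three
    by_cases h4 : cj s K = K
    · exact ⟨s, hs, h1, h4⟩
    by_cases h5 : cj s' K = K
    · exact ⟨s', hs', h2, h5⟩
    refine ⟨s * s', mul_mem hs hs', fun h6 => h3 ?_, ?_⟩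
    · rw [eq_inv_of_mul_eq_one_left h6, jh.inv hs']
    · rcases cj_cases h hK hL hne (j.tx s hs) with h6 | h6
      · exact absurd h6.1 h4
      rcases cj_cases h hK hL hne (j.tx s' hs') with h7 | h7
      · exact absurd h7.1 h5
      rw [cj_mul, h7.1, h6.2]
  have hsp : s ≠ p := by
    rintro rfl
    exact hpK hsK
  obtain ⟨a, ha⟩ := j.exists_as h hK hs hsK
  have haa := j.sq_of_as h hK hs hs1 ha
  have hb : As (cj p K) s (p * a * p⁻¹) := ha.conj_comm (j.cm hp hs)
  -- `x q_p(a) ∈ A`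
  have hpa : p * a * p⁻¹ ∈ cj p K := conj_mem_cj ha.1
  have hJ : x * qq p a ∈ A := by
    have h1 := (jh.comm_mem h hs hs1 (hK.le_RZ ha.1) ha.comm hp).1
    have h2 : p * a * p⁻¹ * a⁻¹ = x * qq p a := by
      rw [hK.inv_eq h ha.1 haa, qq, ← hsw.cm h hK (mul_mem (hK.zmem h) ha.1) ha.1, mul_assoc]
    rwa [h2] at h1
  refine ⟨p, hp, s, hs, a, ha.1, hsw, hs1, hsp, haa, ha, hb, fun t ht => ?_, hJ, fun g hg hgx => ?_⟩
  · by_cases h1 : cj t K = K
    · by_cases h2 : t = 1
      · exact Or.inl h2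
      · exact Or.inr (Or.inl (j.unique h hK ht h2 h1 hs hs1 hsK))
    · right; right
      have h2 : cj (p * t) K = K := by
        rcases cj_cases h hK hL hne (j.tx t ht) with h6 | h6
        · exact absurd h6.1 h1
        rw [cj_mul, h6.1, ← cj_mul, hpp, cj_one]
      have h3 : ∀ g : G, p * (p * g) = g := fun g => by rw [← mul_assoc, hpp, one_mul]
      by_cases h4 : p * t = 1
      · left
        rw [← h3 t, h4, mul_one]
      · right
        rw [← j.unique h hK (mul_mem hp ht) h4 h2 hs hs1 hsK, h3]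
  · -- `g` commutes with `C_{R_x}(s)`
    obtain ⟨k, hk, l, hl, rfl⟩ := (mem_RZ hK hL h hne).1 hgx
    have c1 : a * (k * l) = (k * l) * a := jh.comm h hs hs1 (hK.le_RZ ha.1) ha.comm hg hgx
    have c2 : a * k = k * a := by
      have h1 : l * a = a * l := (hK.comm hL h hne ha.1 hl).symm
      have h2 : (a * k) * l = (k * a) * l := by
        rw [mul_assoc, c1, mul_assoc, h1, mul_assoc]
      exact mul_right_cancel h2
    have c3 : (p * a * p⁻¹) * (k * l) = (k * l) * (p * a * p⁻¹) :=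
      jh.comm h hs hs1 (hL.le_RZ hpa) hb.comm hg hgx
    have c4 : (p * a * p⁻¹) * l = l * (p * a * p⁻¹) := by
      have h1 : k * (p * a * p⁻¹) = (p * a * p⁻¹) * k := hK.comm hL h hne hk hpa
      have h2 : k * ((p * a * p⁻¹) * l) = k * (l * (p * a * p⁻¹)) := by
        rw [← mul_assoc, h1, mul_assoc, c3, mul_assoc]
      exact mul_left_cancel h2
    have hpapa : (p * a * p⁻¹) * (p * a * p⁻¹) = x := by
      calc (p * a * p⁻¹) * (p * a * p⁻¹) = p * (a * a) * p⁻¹ := by group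
        _ = x := by rw [haa, hsw.1, mul_inv_cancel_right]
    have hxx := hK.inZ.z2 h
    have hg2 := j.sq _ hg
    have hklc : l * k = k * l := (hK.comm hL h hne hk hl).symm
    have hsq : (k * k) * (l * l) = 1 := by
      rw [← hg2]
      calc (k * k) * (l * l) = k * (k * l) * l := by group
        _ = k * (l * k) * l := by rw [hklc]
        _ = _ := by group
    have hkx : ∀ {u : G}, u ∈ K → u * x = x * u := fun hu => hK.comm_z h hu
    have hlx : ∀ {u : G}, u ∈ cj p K → u * x = x * u := fun hu => hL.comm_z h hu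
    -- `g ∈ {1, x, a a^p, x a a^p}`
    have hfin : k * l = 1 ∨ k * l = x ∨ k * l = qq p a ∨ k * l = x * qq p a := by
      rcases hK.of_comm h ha.1 haa hk c2 with h1 | h1 | h1 | h1 <;>
        rcases hL.of_comm h hpa hpapa hl c4 with h2 | h2 | h2 | h2
      · left; rw [h1, h2, one_mul]
      · right; left; rw [h1, h2, one_mul]
      · exfalso
        rw [h1, h2, hpapa, one_mul, one_mul] at hsq
        exact hK.inZ.z1 h hsq
      · exfalso
        have h3 : x * (p * a * p⁻¹) * (x * (p * a * p⁻¹)) = x := by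
          calc x * (p * a * p⁻¹) * (x * (p * a * p⁻¹)) = x * ((p * a * p⁻¹) * x) * (p * a * p⁻¹) := by group
            _ = x * (x * (p * a * p⁻¹)) * (p * a * p⁻¹) := by rw [hlx hpa]
            _ = (x * x) * ((p * a * p⁻¹) * (p * a * p⁻¹)) := by group
            _ = x := by rw [hxx, hpapa, one_mul]
        rw [h1, h2, h3, one_mul, one_mul] at hsq
        exact hK.inZ.z1 h hsq
      · right; left; rw [h1, h2, mul_one]
      · left; rw [h1, h2, hxx]
      · exfalso
        rw [h1, h2, hpapa, hxx, one_mul] at hsq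
        exact hK.inZ.z1 h hsq
      · exfalso
        have h3 : x * (p * a * p⁻¹) * (x * (p * a * p⁻¹)) = x := by
          calc x * (p * a * p⁻¹) * (x * (p * a * p⁻¹)) = x * ((p * a * p⁻¹) * x) * (p * a * p⁻¹) := by group
            _ = x * (x * (p * a * p⁻¹)) * (p * a * p⁻¹) := by rw [hlx hpa]
            _ = (x * x) * ((p * a * p⁻¹) * (p * a * p⁻¹)) := by group
            _ = x := by rw [hxx, hpapa, one_mul]
        rw [h1, h2, h3, hxx, one_mul] at hsq
        exact hK.inZ.z1 h hsq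
      · exfalso
        rw [h1, h2, haa, one_mul, mul_one] at hsq
        exact hK.inZ.z1 h hsq
      · exfalso
        rw [h1, h2, haa, hxx, mul_one] at hsq
        exact hK.inZ.z1 h hsq
      · right; right; left; rw [h1, h2]; rfl
      · right; right; right
        rw [h1, h2, ← mul_assoc, hkx ha.1, mul_assoc]; rfl
      · exfalso
        have h3 : x * a * (x * a) = x := by
          calc x * a * (x * a) = x * (a * x) * a := by group
            _ = x * (x * a) * a := by rw [hkx ha.1]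
            _ = (x * x) * (a * a) := by group
            _ = x := by rw [hxx, haa, one_mul]
        rw [h1, h2, h3, one_mul, mul_one] at hsq
        exact hK.inZ.z1 h hsq
      · exfalso
        have h3 : x * a * (x * a) = x := by
          calc x * a * (x * a) = x * (a * x) * a := by group
            _ = x * (x * a) * a := by rw [hkx ha.1]
            _ = (x * x) * (a * a) := by group
            _ = x := by rw [hxx, haa, one_mul]
        rw [h1, h2, h3, hxx, mul_one] at hsq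
        exact hK.inZ.z1 h hsq
      · right; right; right
        rw [h1, h2, mul_assoc]; rfl
      · right; right; left
        rw [h1, h2]
        calc x * a * (x * (p * a * p⁻¹)) = x * (a * x) * (p * a * p⁻¹) := by group
          _ = x * (x * a) * (p * a * p⁻¹) := by rw [hkx ha.1]
          _ = (x * x) * (a * (p * a * p⁻¹)) := by group
          _ = _ := by rw [hxx, one_mul]; rfl
    rcases hfin with h1 | h1 | h1 | h1
    · exact Or.inl h1
    · rw [h1] at hg; exact absurd hg j.nin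
    · exfalso
      rw [h1] at hg
      apply j.nin
      have := mul_mem hJ (inv_mem hg)
      rwa [mul_inv_cancel_right] at this
    · exact Or.inr h1

theorem three_of_card (hT : 2 < Nat.card T) : ∃ s ∈ T, ∃ t ∈ T, s ≠ 1 ∧ t ≠ 1 ∧ s ≠ t := by
  by_contra hcon
  push Not at hcon
  classical
  have h3 : ∃ s : G, (T : Set G) ⊆ (({1, s} : Finset G) : Set G) := by
    by_cases h4 : ∃ s ∈ T, s ≠ 1
    · obtain ⟨s, hs, hs1⟩ := h4
      refine ⟨s, fun t ht => ?_⟩
      by_cases h5 : t = 1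
      · simp [h5]
      · have := hcon s hs t ht hs1 h5
        simp [this]
    · push Not at h4
      exact ⟨1, fun t ht => by simp [h4 t ht]⟩
  obtain ⟨s, h3⟩ := h3
  have h4 := Set.ncard_le_ncard h3 (Finset.finite_toSet _)
  rw [Set.ncard_coe_finset] at h4
  have h5 : (T : Set G).ncard = Nat.card T := rfl
  rw [h5] at h4
  have h6 := h4.trans Finset.card_le_two
  omega

theorem JF.card_le (j : JF Om A T x) (h : WM Om) : Nat.card T ≤ 4 := by
  classical
  obtain ⟨K, hK⟩ := j.inZ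
  obtain ⟨p, -, s, -, a, -, -, -, -, -, -, -, h1, -⟩ := j.main h hK
  have h2 : (T : Set G) ⊆ (({1, s, p, p * s} : Finset G) : Set G) := by
    intro t ht
    rcases h1 t ht with h2 | h2 | h2 | h2 <;> simp [h2]
  have h3 := Set.ncard_le_ncard h2 (Finset.finite_toSet _)
  rw [Set.ncard_coe_finset] at h3
  exact h3.trans Finset.card_le_four

/-- the case `|T| > 4` -/
theorem JH.of_card (j : JH Om A T x) (h : WM Om) (hT : 4 < Nat.card T) :
    T ≤ CX Om x ∧ ∀ g ∈ A, g ∈ RZ Om x → g = 1 := by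
  rcases j.dich h with h1 | h1
  · exact h1
  exfalso
  have h2 : ∃ s ∈ T, ∃ t ∈ T, s ≠ 1 ∧ t ≠ 1 ∧ s ≠ t := three_of_card (by omega)
  have h3 := (JF.mk j h1 h2).card_le h
  omega

end Fin

end Cfsg.Agent.Cit.Nil.RTwoM
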