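import Cfsg.Agent.Cit.Nil.RTwoM.LZero

/-!
# S1309, (6b), (C3), `r = 2`, any `m`: fixed points of swaps and of `f`, T-triples

`x` is an involution commuting with `z`, `K` a member over `z`.

* `qq x k = k · x k x⁻¹`; `x` a swap (`Swp Om z x`): `qq_mul`, `qq_mem`, `qq_comm`, `qq_sq`, `qq_eq_one`,
  **`Swp.fix`** : `C_{R_z}(x) = {qq x k, z qq x k}`; `Swp.as_qq`; **`Swp.cent`** : an element of `C(z)` centralising
  `C_{R_z}(x)` acts as some `qq x a`, or as `qq x a · x`;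
* `x` of type `f`: `Ff.exists_tr`, **`Ff.fix`** : `C_{R_z}(x) = {1, z, a b, z a b}`;
* `triple_key` : `(u, e)` C-pair, `(x, e)` not, `r ∈ C_{R_x}(e)`: `[u, r] ∈ C(R_e)`, `[u, r] ≠ x`;
* `tt_II`, `tt_II_cx`, `tt_If`, `tt_ff` : the list of T-triples (helper762, #15764); `Tr.same`, `Tr.mul_cases`, `tt_as`;
* `not_ff_of_NC`, `mem_NC_of_inv`.
-/

set_option autoImplicit false
set_option linter.style.haveILetI false
set_option linter.unusedSectionVars false

namespace Cfsg.Agent.Cit.Nil.RTwoM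

open Subgroup Cfsg Cfsg.Agent.Cit

open RTwo (Q3)
open RG (WR CP Ov InO Tr)
open RI (CS)
open ROne (NC self_mem_NC conj_mem_NC cj_NC mem_NC_conj NC_le)

variable {G : Type*} [Group G] {Om : Set (Subgroup G)} {K L M : Subgroup G}
  {a b c d e g k l n r s t u v w x y z : G}

/-- `k · k^x` -/
def qq (x k : G) : G := k * (x * k * x⁻¹)

section Fin

variable [Finite G]

/-! ### Swaps -/

theorem Swp.mem (hs : Swp Om z x) (h : WM Om) (hK : Mem Om z K) : Mem Om z (cj x K) := hK.cj_comm h hs.1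

theorem Swp.ne (hs : Swp Om z x) (hK : Mem Om z K) : K ≠ cj x K := fun h1 => hs.2 K hK h1.symm

theorem Swp.cm (hs : Swp Om z x) (h : WM Om) (hK : Mem Om z K) (hk : k ∈ K) (hl : l ∈ K) :
    k * (x * l * x⁻¹) = (x * l * x⁻¹) * k := hK.comm (hs.mem h hK) h (hs.ne hK) hk (conj_mem_cj hl)

theorem qq_mul (hs : Swp Om z x) (h : WM Om) (hK : Mem Om z K) (hk : k ∈ K) (hl : l ∈ K) :
    qq x (k * l) = qq x k * qq x l := by
  have h1 := hs.cm h hK hl hk
  calc k * l * (x * (k * l) * x⁻¹) = k * (l * (x * k * x⁻¹)) * (x * l * x⁻¹) := by group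
    _ = k * ((x * k * x⁻¹) * l) * (x * l * x⁻¹) := by rw [h1]
    _ = _ := by simp only [qq, mul_assoc]

theorem qq_mem (hs : Swp Om z x) (h : WM Om) (hK : Mem Om z K) (hk : k ∈ K) : qq x k ∈ RZ Om z :=
  mul_mem (hK.le_RZ hk) ((hs.mem h hK).le_RZ (conj_mem_cj hk))

theorem qq_one : qq x 1 = 1 := by simp [qq]

theorem qq_z (hs : Swp Om z x) (hz : InZ Om z) (h : WM Om) : qq x z = 1 := by
  rw [qq, hs.1, mul_inv_cancel_right, hz.z2 h]

/-- `x` commutes with `qq x k` -/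
theorem qq_comm (hs : Swp Om z x) (h : WM Om) (hx : x * x = 1) (hK : Mem Om z K) (hk : k ∈ K) :
    x * qq x k = qq x k * x := by
  have h1 := hs.cm h hK hk hk
  have hx' : x⁻¹ = x := inv_eq_of_mul_eq_one_right hx
  calc x * (k * (x * k * x⁻¹)) = x * ((x * k * x⁻¹) * k) := by rw [h1]
    _ = (x * x) * k * x⁻¹ * k := by group
    _ = k * x⁻¹ * k := by rw [hx, one_mul]
    _ = k * x * k := by rw [hx']
    _ = (k * (x * k * x⁻¹)) * x := by group

theorem qq_sq (hs : Swp Om z x) (h : WM Om) (hK : Mem Om z K) (hk : k ∈ K) : qq x k * qq x k = 1 := by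
  rw [← qq_mul hs h hK hk hk]
  rcases hK.sq_cases h hk with rfl | rfl | h1
  · rw [one_mul, qq_one]
  · rw [hK.inZ.z2 h, qq_one]
  · rw [h1, qq_z hs hK.inZ h]

theorem qq_eq_one (hs : Swp Om z x) (h : WM Om) (hK : Mem Om z K) (hk : k ∈ K) (h1 : qq x k = 1) :
    k = 1 ∨ k = z := by
  have h2 : k = (x * k * x⁻¹)⁻¹ := eq_inv_of_mul_eq_one_left h1
  refine hK.inf (hs.mem h hK) h (hs.ne hK) hk ?_
  rw [h2]
  exact inv_mem (conj_mem_cj hk)

/-- an element of both `K` and its swap -/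
theorem Swp.inf (hs : Swp Om z x) (h : WM Om) (hK : Mem Om z K) (hk : k ∈ K) (hl : l ∈ cj x K) (he : k = l) :
    k = 1 ∨ k = z := hK.inf (hs.mem h hK) h (hs.ne hK) hk (by rw [he]; exact hl)

/-- **the fixed points of a swap** -/
theorem Swp.fix (hs : Swp Om z x) (h : WM Om) (hx : x * x = 1) (hK : Mem Om z K) (hr : r ∈ RZ Om z)
    (hxr : x * r = r * x) : ∃ k ∈ K, r = qq x k ∨ r = z * qq x k := by
  have hL := hs.mem h hK
  obtain ⟨k, hk, l, hl, rfl⟩ := (mem_RZ hK hL h (hs.ne hK)).1 hr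
  have hx' : x⁻¹ = x := inv_eq_of_mul_eq_one_right hx
  obtain ⟨k', hk', rfl⟩ : ∃ k' ∈ K, x * k' * x⁻¹ = l := hl
  -- `x (k l) x⁻¹ = k l`
  have h1 : (x * k * x⁻¹) * k' = k * (x * k' * x⁻¹) := by
    have h2 : x * (k * (x * k' * x⁻¹)) * x⁻¹ = k * (x * k' * x⁻¹) := by rw [hxr, mul_inv_cancel_right]
    have h3 : x * (k * (x * k' * x⁻¹)) * x⁻¹ = (x * k * x⁻¹) * ((x * x) * k' * (x * x)⁻¹) := by group
    rw [h3, hx, one_mul, inv_one, mul_one] at h2
    exact h2
  have h2 := hs.cm h hK hk' hk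
  rw [← h2] at h1
  -- `k' k^x = k k'^x`
  have h3 : k⁻¹ * k' = (x * k' * x⁻¹) * (x * k * x⁻¹)⁻¹ := by
    rw [eq_mul_inv_iff_mul_eq, mul_assoc, h1, inv_mul_cancel_left]
  have hkk : x * k' * x⁻¹ * (x * k * x⁻¹)⁻¹ ∈ cj x K := mul_mem (conj_mem_cj hk') (inv_mem (conj_mem_cj hk))
  rcases hs.inf h hK (mul_mem (inv_mem hk) hk') hkk h3 with h4 | h4
  · refine ⟨k, hk, Or.inl ?_⟩
    rw [inv_mul_eq_one] at h4
    rw [← h4]; rfl
  · refine ⟨k, hk, Or.inr ?_⟩
    have h5 : k' = z * k := by rw [inv_mul_eq_iff_eq_mul] at h4; rw [h4, hK.comm_z h hk]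
    rw [h5, qq]
    have h6 : x * (z * k) * x⁻¹ = z * (x * k * x⁻¹) := by
      calc x * (z * k) * x⁻¹ = (x * z) * k * x⁻¹ := by group
        _ = z * (x * k * x⁻¹) := by rw [hs.1]; group
    rw [h6, ← mul_assoc, hK.comm_z h hk, mul_assoc]

/-- the action of `qq x k` -/
theorem Swp.as_qq (hs : Swp Om z x) (h : WM Om) (hK : Mem Om z K) (hk : k ∈ K) :
    As K (qq x k) k ∧ As (cj x K) (qq x k) (x * k * x⁻¹) := by
  have hL := hs.mem h hK
  have hl : x * k * x⁻¹ ∈ cj x K := conj_mem_cj hk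
  constructor
  · have := (As.self hk).mul (hK.as_one hL h (hs.ne hK) hl)
    rwa [mul_one] at this
  · have := (hL.as_one hK h (hs.ne hK).symm hk).mul (As.self hl)
    rwa [one_mul] at this

/-- `g ∈ C(z)` fixes both members or interchanges them -/
theorem cj_cases (h : WM Om) (hK : Mem Om z K) (hL : Mem Om z L) (hne : K ≠ L) (hg : g * z = z * g) :
    (cj g K = K ∧ cj g L = L) ∨ (cj g K = L ∧ cj g L = K) := by
  rcases hK.cases hL h hne (hK.cj_comm h hg) with h1 | h1 <;> rcases hK.cases hL h hne (hL.cj_comm h hg) with h2 | h2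
  · exfalso
    rw [← h1] at h2
    exact hne (cj_inj.1 h2).symm
  · exact Or.inl ⟨h1, h2⟩
  · exact Or.inr ⟨h1, h2⟩
  · exfalso
    rw [← h2] at h1
    exact hne (cj_inj.1 h1)

/-- an element fixing `K` and centralising the `qq x k` -/
theorem Swp.cent_fix (hs : Swp Om z x) (h : WM Om) (hK : Mem Om z K) (hgK : cj g K = K)
    (hc : ∀ k ∈ K, g * qq x k = qq x k * g) :
    ∃ a ∈ K, As K g a ∧ As (cj x K) g (x * a * x⁻¹) := by
  have hL := hs.mem h hK
  have hgz : g * z = z * g := hK.of_cj h hgK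
  have hgL : cj g (cj x K) = cj x K := by
    rcases cj_cases h hK hL (hs.ne hK) hgz with h1 | h1
    · exact h1.2
    · exact absurd (hgK.symm.trans h1.1) (hs.ne hK)
  have key : ∀ k ∈ K, (g * k * g⁻¹ = k ∧ g * (x * k * x⁻¹) * g⁻¹ = x * k * x⁻¹) ∨
      (g * k * g⁻¹ = z * k ∧ g * (x * k * x⁻¹) * g⁻¹ = z * (x * k * x⁻¹)) := by
    intro k hk
    obtain ⟨k1, hk1⟩ : ∃ k1, k1 = g * k * g⁻¹ := ⟨_, rfl⟩
    obtain ⟨l1, hl1⟩ : ∃ l1, l1 = g * (x * k * x⁻¹) * g⁻¹ := ⟨_, rfl⟩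
    have mk1 : k1 ∈ K := by
      have := conj_mem_cj (g := g) hk
      rw [hgK] at this; rw [hk1]; exact this
    have ml : x * k * x⁻¹ ∈ cj x K := conj_mem_cj hk
    have ml1 : l1 ∈ cj x K := by
      have := conj_mem_cj (g := g) ml
      rw [hgL] at this; rw [hl1]; exact this
    have h1 : k1 * l1 = k * (x * k * x⁻¹) := by
      have h2 := hc k hk
      have h3 : k1 * l1 = g * qq x k * g⁻¹ := by rw [hk1, hl1, qq]; group
      rw [h3, h2, mul_inv_cancel_right]; rfl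
    have h2 : k⁻¹ * k1 = (x * k * x⁻¹) * l1⁻¹ := by
      rw [eq_mul_inv_iff_mul_eq, mul_assoc, h1, inv_mul_cancel_left]
    rw [← hk1, ← hl1]
    rcases hs.inf h hK (mul_mem (inv_mem hk) mk1) (mul_mem ml (inv_mem ml1)) h2 with h3 | h3
    · left
      rw [h3] at h2
      rw [inv_mul_eq_one] at h3
      exact ⟨h3.symm, (mul_inv_eq_one.1 h2.symm).symm⟩
    · right
      rw [h3] at h2
      rw [inv_mul_eq_iff_eq_mul] at h3
      refine ⟨by rw [h3, hK.comm_z h hk], ?_⟩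
      rw [eq_mul_inv_iff_mul_eq] at h2
      have hzz := hK.inZ.z2 h
      calc l1 = (z * z) * l1 := by rw [hzz, one_mul]
        _ = z * (z * l1) := by group
        _ = z * (x * k * x⁻¹) := by rw [h2]
  obtain ⟨q, qa⟩ := h.exists_q3 hK
  obtain ⟨a, ha⟩ : ∃ a, As K g a := by
    rcases qa.inner_cases (fun k hk => (key k hk).imp And.left And.left) with h1 | ⟨j, h1⟩
    · exact ⟨1, one_mem _, fun k hk => by rw [h1 k hk]; group⟩
    · exact ⟨q j, qa.mem j, h1⟩
  refine ⟨a, ha.1, ha, conj_mem_cj ha.1, ?_⟩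
  rintro _ ⟨k, hk, rfl⟩
  have h1 := ha.2 k hk
  change g * (x * k * x⁻¹) * g⁻¹ = x * a * x⁻¹ * (x * k * x⁻¹) * (x * a * x⁻¹)⁻¹
  have h2 : x * a * x⁻¹ * (x * k * x⁻¹) * (x * a * x⁻¹)⁻¹ = x * (a * k * a⁻¹) * x⁻¹ := by group
  rw [h2, ← h1]
  rcases key k hk with ⟨h3, h4⟩ | ⟨h3, h4⟩
  · rw [h3, h4]
  · rw [h3, h4]
    calc z * (x * k * x⁻¹) = (z * x) * k * x⁻¹ := by group
      _ = (x * z) * k * x⁻¹ := by rw [hs.1]
      _ = _ := by group

/-- **the centraliser of `C_{R_z}(x)`** -/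
theorem Swp.cent (hs : Swp Om z x) (h : WM Om) (hx : x * x = 1) (hK : Mem Om z K) (hgz : g * z = z * g)
    (hc : ∀ k ∈ K, g * qq x k = qq x k * g) :
    (∃ a ∈ K, As K g a ∧ As (cj x K) g (x * a * x⁻¹)) ∨
      (Swp Om z g ∧ ∃ a ∈ K, As K (g * x) a ∧ As (cj x K) (g * x) (x * a * x⁻¹)) := by
  rcases cj_cases h hK (hs.mem h hK) (hs.ne hK) hgz with h1 | h1
  · exact Or.inl (hs.cent_fix h hK h1.1 hc)
  · right
    refine ⟨Swp.of_one h hK hgz (by rw [h1.1]; exact (hs.ne hK).symm), hs.cent_fix h hK ?_ ?_⟩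
    · rw [cj_mul, h1.2]
    · intro k hk
      rw [mul_assoc, qq_comm hs h hx hK hk, ← mul_assoc, hc k hk, mul_assoc]

/-! ### Type `f` -/

theorem Ff.exists_tr (hf : Ff Om z x) (h : WM Om) (hx : x * x = 1) (hK : Mem Om z K) : ∃ a, Tr x K a := by
  obtain ⟨h1, h2⟩ := hf.2 K hK
  refine (h.wr.inn_or_tr hK.1 h1 hx).resolve_left fun h3 => h2 fun k hk => ?_
  obtain ⟨y, hy, h4⟩ := h3
  rw [h4 k hk]
  exact hK.comm_or h hk hy

theorem Tr.sq' (ht : Tr x K a) (hK : Mem Om z K) : a * a = z := by rw [ht.sq, hK.2]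

theorem Tr.inv' (ht : Tr x K a) (hK : Mem Om z K) (h : WM Om) : x * a * x⁻¹ = z * a := by
  rw [ht.inv, hK.inv_eq h ht.mem (Tr.sq' ht hK)]

/-- the elements of `K` moved by `1` or `z` under a transposition -/
theorem Tr.cases (ht : Tr x K a) (hK : Mem Om z K) (h : WM Om) (hk : k ∈ K)
    (hc : x * k * x⁻¹ = k ∨ x * k * x⁻¹ = z * k) : k = 1 ∨ k = z ∨ k = a ∨ k = z * a := by
  rcases hK.sq_cases h hk with h1 | h1 | h1
  · exact Or.inl h1
  · exact Or.inr (Or.inl h1)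
  by_contra hcon
  push Not at hcon
  have h2 : k ≠ a⁻¹ := by rw [hK.inv_eq h ht.mem (Tr.sq' ht hK)]; exact hcon.2.2.2
  have h3 := ht.ne k hk (by rw [h1, hK.2]) hcon.2.2.1 h2
  rw [hK.inv_eq h hk h1] at h3
  rcases hc with hc | hc
  · exact h3.1 hc
  · exact h3.2 hc

theorem Tr.comm_iff (ht : Tr x K a) (hK : Mem Om z K) (h : WM Om) (hk : k ∈ K) (hc : x * k * x⁻¹ = k) :
    k = 1 ∨ k = z := by
  rcases Tr.cases ht hK h hk (Or.inl hc) with h1 | h1 | h1 | h1
  · exact Or.inl h1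
  · exact Or.inr h1
  · exfalso
    rw [h1, Tr.inv' ht hK h] at hc
    exact hK.inZ.z1 h (mul_eq_right.1 hc)
  · exfalso
    have hxz : x * z = z * x := by
      have h2 : x * (a * a) * x⁻¹ = a * a := by
        calc x * (a * a) * x⁻¹ = (x * a * x⁻¹) * (x * a * x⁻¹) := by group
          _ = (z * a) * (z * a) := by rw [Tr.inv' ht hK h]
          _ = z * (a * z) * a := by group
          _ = z * (z * a) * a := by rw [hK.comm_z h ht.mem]
          _ = (z * z) * (a * a) := by group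
          _ = a * a := by rw [hK.inZ.z2 h, one_mul]
      rw [Tr.sq' ht hK, mul_inv_eq_iff_eq_mul] at h2
      exact h2
    rw [h1, show x * (z * a) * x⁻¹ = (x * z) * a * x⁻¹ by group, hxz,
      show z * x * a * x⁻¹ = z * (x * a * x⁻¹) by group, Tr.inv' ht hK h] at hc
    have h3 := mul_left_cancel hc
    exact hK.inZ.z1 h (mul_eq_right.1 h3)

/-- **the fixed points of an element of type `f`** -/
theorem Ff.fix (hf : Ff Om z x) (h : WM Om) (hK : Mem Om z K) (hL : Mem Om z L) (hne : K ≠ L) (ha : Tr x K a)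
    (hb : Tr x L b) (hr : r ∈ RZ Om z) (hxr : x * r = r * x) : r = 1 ∨ r = z ∨ r = a * b ∨ r = z * (a * b) := by
  obtain ⟨k, hk, l, hl, rfl⟩ := (mem_RZ hK hL h hne).1 hr
  obtain ⟨k1, hk1⟩ : ∃ k1, k1 = x * k * x⁻¹ := ⟨_, rfl⟩
  obtain ⟨l1, hl1⟩ : ∃ l1, l1 = x * l * x⁻¹ := ⟨_, rfl⟩
  have mk1 : k1 ∈ K := by
    have := conj_mem_cj (g := x) hk
    rw [(hf.2 K hK).1] at this; rw [hk1]; exact this
  have ml1 : l1 ∈ L := by
    have := conj_mem_cj (g := x) hl
    rw [(hf.2 L hL).1] at this; rw [hl1]; exact this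
  have h1 : k1 * l1 = k * l := by
    have h3 : k1 * l1 = x * (k * l) * x⁻¹ := by rw [hk1, hl1]; group
    rw [h3, hxr, mul_inv_cancel_right]
  have h2 : k⁻¹ * k1 = l * l1⁻¹ := by
    rw [eq_mul_inv_iff_mul_eq, mul_assoc, h1, inv_mul_cancel_left]
  have hzz := hK.inZ.z2 h
  have e1 : ∀ g : G, z * (z * g) = g := fun g => by rw [← mul_assoc, hzz, one_mul]
  have hkz : k * z = z * k := hK.comm_z h hk
  have haz : a * z = z * a := hK.comm_z h ha.mem
  rcases hK.inf hL h hne (mul_mem (inv_mem hk) mk1) (by rw [h2]; exact mul_mem hl (inv_mem ml1)) with h3 | h3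
  · -- both fixed
    rw [h3] at h2
    rw [inv_mul_eq_one] at h3
    have h4 := mul_inv_eq_one.1 h2.symm
    rw [hk1] at h3
    rw [hl1] at h4
    rcases Tr.comm_iff ha hK h hk h3.symm with rfl | rfl <;> rcases Tr.comm_iff hb hL h hl h4.symm with rfl | rfl
    · left; rw [one_mul]
    · right; left; rw [one_mul]
    · right; left; rw [mul_one]
    · left; exact hzz
  · rw [h3] at h2
    rw [inv_mul_eq_iff_eq_mul, hkz] at h3
    have h4 : l1 = z * l := by
      rw [eq_mul_inv_iff_mul_eq] at h2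
      rw [← h2, e1]
    rw [hk1] at h3
    rw [hl1] at h4
    have nk : ¬ (k = 1 ∨ k = z) := by
      intro h5
      have h6 : x * k * x⁻¹ = k := by
        rcases h5 with rfl | rfl
        · group
        · rw [hf.1, mul_inv_cancel_right]
      rw [h6] at h3
      exact hK.inZ.z1 h (mul_eq_right.1 h3.symm)
    have nl : ¬ (l = 1 ∨ l = z) := by
      intro h5
      have h6 : x * l * x⁻¹ = l := by
        rcases h5 with rfl | rfl
        · group
        · rw [hf.1, mul_inv_cancel_right]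
      rw [h6] at h4
      exact hK.inZ.z1 h (mul_eq_right.1 h4.symm)
    have h5 : k = a ∨ k = z * a := by
      rcases Tr.cases ha hK h hk (Or.inr h3) with h6 | h6 | h6 | h6
      · exact absurd (Or.inl h6) nk
      · exact absurd (Or.inr h6) nk
      · exact Or.inl h6
      · exact Or.inr h6
    have h7 : l = b ∨ l = z * b := by
      rcases Tr.cases hb hL h hl (Or.inr h4) with h6 | h6 | h6 | h6
      · exact absurd (Or.inl h6) nl
      · exact absurd (Or.inr h6) nl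
      · exact Or.inl h6
      · exact Or.inr h6
    rcases h5 with rfl | rfl <;> rcases h7 with rfl | rfl
    · exact Or.inr (Or.inr (Or.inl rfl))
    · refine Or.inr (Or.inr (Or.inr ?_))
      rw [← mul_assoc, haz, mul_assoc]
    · exact Or.inr (Or.inr (Or.inr (by rw [mul_assoc])))
    · refine Or.inr (Or.inr (Or.inl ?_))
      calc z * a * (z * b) = z * (a * z) * b := by group
        _ = z * (z * a) * b := by rw [haz]
        _ = a * b := by rw [← mul_assoc, hzz, one_mul]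

/-! ### T-triples -/

/-- `(u, e)` a C-pair, `(x, e)` not, `r ∈ C_{R_x}(e)` : `[u, r]` centralises `R_e`, and it is not `x` -/
theorem triple_key (h : WM Om) (he : InZ Om e) (hu : InZ Om u) (hx : InZ Om x) (hc : CP Om u e) (hne : x ≠ e)
    (hnc : ¬ CP Om x e) (hre : r * e = e * r) :
    (∀ g ∈ RZ Om e, (u * r * u⁻¹ * r⁻¹) * g = g * (u * r * u⁻¹ * r⁻¹)) ∧ u * r * u⁻¹ * r⁻¹ ≠ x := by
  have h1 : ∀ g ∈ RZ Om e, (u * r * u⁻¹ * r⁻¹) * g = g * (u * r * u⁻¹ * r⁻¹) := by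
    intro g hg
    have c1 : u * g = g * u := cp_RZ h hc (z_mem_RZ hu h) hg
    have h2 := cp_conj h hc r
    rw [hre, mul_inv_cancel_right] at h2
    have c2 : (r * u * r⁻¹) * g = g * (r * u * r⁻¹) := cp_RZ h h2 (z_mem_RZ (hu.conj h r) h) hg
    have h3 : u * r * u⁻¹ * r⁻¹ = u * (r * u * r⁻¹)⁻¹ := by group
    have c3 : (r * u * r⁻¹)⁻¹ * g = g * (r * u * r⁻¹)⁻¹ := by
      rw [inv_mul_eq_iff_eq_mul, ← mul_assoc, c2, mul_inv_cancel_right]
    rw [h3, mul_assoc, c3, ← mul_assoc, c1, mul_assoc]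
  refine ⟨h1, fun h2 => hnc ?_⟩
  obtain ⟨E, hE⟩ := he
  refine (cp_of_cen h hE hx hne.symm fun k hk => ?_).symm
  have := h1 k (hE.le_RZ hk)
  rwa [h2] at this

/-- (I, I) : the same inner automorphism -/
theorem tt_II (h : WM Om) (hc : CP Om u e) (hu : TI Om x u) (he : TI Om x e) (hK : Mem Om x K) (ha : As K u a)
    (hb : As K e b) : b = a ∨ b = x * a := by
  have haa := hu.sq_of_as h hK ha
  have hbb := he.sq_of_as h hK hb
  by_cases hab : a * b = b * a
  · rcases hK.of_comm h ha.1 haa hb.1 hab with h1 | h1 | h1 | h1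
    · rw [h1, one_mul] at hbb; exact absurd hbb.symm (hK.inZ.z1 h)
    · rw [h1, hK.inZ.z2 h] at hbb; exact absurd hbb.symm (hK.inZ.z1 h)
    · exact Or.inl h1
    · exact Or.inr h1
  exfalso
  refine (triple_key h he.inT hu.inT hK.inZ hc he.ne (he.not_cp h) (r := b) hb.comm.symm).2 ?_
  have h1 : a * b * a⁻¹ = x * b := hK.anti h hb.1 hbb ha.1 haa (fun h2 => hab h2.symm)
  rw [ha.2 b hb.1, h1, mul_inv_cancel_right]

theorem tt_II_cx (h : WM Om) (hc : CP Om u e) (hu : TI Om x u) (he : TI Om x e) : u * e ∈ CX Om x := by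
  rw [mem_CX]
  intro K hK k hk
  obtain ⟨a, ha, haa⟩ := hu.exists_as h hK
  obtain ⟨b, hb, -⟩ := he.exists_as h hK
  have h1 := ha.mul hb
  have h2 : a * b = 1 ∨ a * b = x := by
    rcases tt_II h hc hu he hK ha hb with rfl | rfl
    · exact Or.inr haa
    · left
      rw [← mul_assoc, hK.comm_z h ha.1, mul_assoc, haa, hK.inZ.z2 h]
  rcases h2 with h2 | h2
  · rw [h2] at h1
    exact As.one_iff.1 h1 k hk
  · have h3 := h1.2 k hk
    rw [h2, ← hK.comm_z h hk, mul_inv_cancel_right, mul_inv_eq_iff_eq_mul] at h3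
    exact h3

/-- (I, f) is impossible -/
theorem tt_If (h : WM Om) (hc : CP Om u e) (hu : TI Om x u) (he : InZ Om e) (hf : Ff Om x e) : False := by
  obtain ⟨K, hK⟩ := hu.inZ
  obtain ⟨a, ha, haa⟩ := hu.exists_as h hK
  have he2 := he.z2 h
  obtain ⟨c, hc'⟩ := hf.exists_tr h he2 hK
  have hue : e * u = u * e := (cp_comm h hu.inT he hc).symm
  have hnc : ¬ CP Om x u := hu.not_cp h
  have h1 : As K u (e * a * e⁻¹) := by
    have := ha.conj e
    rwa [(hf.2 K hK).1, hue, mul_inv_cancel_right] at this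
  have h2 := hK.as_unique h ha h1
  have h3 : e * a * e⁻¹ = x * a := by
    rcases h2 with h2 | h2
    · exfalso
      rcases Tr.comm_iff hc' hK h ha.1 h2 with h4 | h4
      · rw [h4, one_mul] at haa; exact hK.inZ.z1 h haa.symm
      · rw [h4, hK.inZ.z2 h] at haa; exact hK.inZ.z1 h haa.symm
    · exact h2
  refine (triple_key h hu.inT he hK.inZ hc.symm hu.ne hnc (r := a) ha.comm.symm).2 ?_
  rw [h3, mul_inv_cancel_right]

/-- the axis of a commuting element of type `f` -/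
theorem Ff.axis_eq (h : WM Om) (hK : Mem Om x K) (huK : cj u K = K) (hue : u * e = e * u) (ha : Tr e K a)
    (hb : Tr u K b) : a = b ∨ a = x * b := by
  -- `u a u⁻¹` is inverted by `e`
  have hm : u * a * u⁻¹ ∈ K := by
    have := conj_mem_cj (g := u) ha.mem
    rwa [huK] at this
  have haa := Tr.sq' ha hK
  have hux : u * x = x * u := hK.of_cj h huK
  have h1 : e * (u * a * u⁻¹) * e⁻¹ = x * (u * a * u⁻¹) := by
    calc e * (u * a * u⁻¹) * e⁻¹ = (e * u) * a * (e * u)⁻¹ := by group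
      _ = (u * e) * a * (u * e)⁻¹ := by rw [hue]
      _ = u * (e * a * e⁻¹) * u⁻¹ := by group
      _ = u * (x * a) * u⁻¹ := by rw [Tr.inv' ha hK h]
      _ = (u * x) * a * u⁻¹ := by group
      _ = _ := by rw [hux]; group
  have h2 : (u * a * u⁻¹) * (u * a * u⁻¹) = x := by
    calc (u * a * u⁻¹) * (u * a * u⁻¹) = u * (a * a) * u⁻¹ := by group
      _ = x := by rw [haa, hux, mul_inv_cancel_right]
  have h3 : u * a * u⁻¹ = a ∨ u * a * u⁻¹ = x * a := by
    rcases Tr.cases ha hK h hm (Or.inr h1) with h4 | h4 | h4 | h4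
    · rw [h4, one_mul] at h2; exact absurd h2.symm (hK.inZ.z1 h)
    · rw [h4, hK.inZ.z2 h] at h2; exact absurd h2.symm (hK.inZ.z1 h)
    · exact Or.inl h4
    · exact Or.inr h4
  rcases Tr.cases hb hK h ha.mem h3 with h4 | h4 | h4 | h4
  · rw [h4, one_mul] at haa; exact absurd haa.symm (hK.inZ.z1 h)
  · rw [h4, hK.inZ.z2 h] at haa; exact absurd haa.symm (hK.inZ.z1 h)
  · exact Or.inl h4
  · exact Or.inr h4

theorem Tr.symm' (ht : Tr g K a) (hK : Mem Om z K) (h : WM Om) : Tr g K (z * a) := by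
  have haa := Tr.sq' ht hK
  have hi := hK.inv_eq h ht.mem haa
  have hmem : z * a ∈ K := mul_mem (hK.zmem h) ht.mem
  have hi' : (z * a)⁻¹ = a := by rw [← hi, inv_inv]
  refine ⟨hmem, ?_, ?_, fun b hb hbb h1 h2 => ?_, fun b hb hbb h1 h2 => ?_⟩
  · rw [← hi, ← mul_inv_rev, haa, hK.2, hK.inZ.inv h]
  · rw [← hi, show g * a⁻¹ * g⁻¹ = (g * a * g⁻¹)⁻¹ by group, ht.inv]
  · rw [hi'] at h2
    rw [← hi] at h1
    exact ht.ne b hb hbb h2 h1
  · rw [hi'] at h2 ⊢
    rw [← hi] at h1 ⊢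
    exact (ht.com b hb hbb h2 h1).symm

/-- `u` and `e` commute, both are transpositions on `K` : the same axis -/
theorem Tr.same (h : WM Om) (hK : Mem Om x K) (huK : cj u K = K) (hue : u * e = e * u) (ha : Tr e K b)
    (hb : Tr u K a) : Tr e K a := by
  rcases Ff.axis_eq h hK huK hue ha hb with h1 | h1
  · rw [← h1]; exact ha
  · have h2 := Tr.symm' ha hK h
    rw [h1, ← mul_assoc, hK.inZ.z2 h, one_mul] at h2
    exact h2

/-- the product of commuting transpositions -/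
theorem Tr.mul_cases (h : WM Om) (hK : Mem Om x K) (huK : cj u K = K) (heK : cj e K = K) (ha : Tr u K a)
    (hb : Tr e K a) : As K (u * e) 1 ∨ As K (u * e) a := by
  have h1 := h.wr.inn_of_tr hK.1 huK heK ha hb (Or.inl rfl)
  obtain ⟨y, hy, h2⟩ := h1
  have haa := Tr.sq' ha hK
  have h3 : (u * e) * a * (u * e)⁻¹ = a := by
    have h4 : e * a * e⁻¹ = a⁻¹ := hb.inv
    calc (u * e) * a * (u * e)⁻¹ = u * (e * a * e⁻¹) * u⁻¹ := by group
      _ = u * a⁻¹ * u⁻¹ := by rw [h4]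
      _ = (u * a * u⁻¹)⁻¹ := by group
      _ = a := by rw [ha.inv, inv_inv]
  have h5 : a * y = y * a := by
    rw [h2 a ha.mem, mul_inv_eq_iff_eq_mul] at h3
    exact h3.symm
  rcases hK.of_comm h ha.mem haa hy h5 with h6 | h6 | h6 | h6
  · left; rw [h6] at h2; exact ⟨one_mem _, h2⟩
  · left
    refine As.one_iff.2 fun k hk => ?_
    have h7 := h2 k hk
    rw [h6, ← hK.comm_z h hk, mul_inv_cancel_right, mul_inv_eq_iff_eq_mul] at h7
    exact h7
  · right; rw [h6] at h2; exact ⟨ha.mem, h2⟩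
  · right
    refine ⟨ha.mem, fun k hk => ?_⟩
    rw [h2 k hk, h6]
    have h7 : a * k * a⁻¹ ∈ K := mul_mem (mul_mem ha.mem hk) (inv_mem ha.mem)
    calc x * a * k * (x * a)⁻¹ = x * (a * k * a⁻¹) * x⁻¹ := by group
      _ = (a * k * a⁻¹) * x * x⁻¹ := by rw [hK.comm_z h h7]
      _ = a * k * a⁻¹ := by group

/-- an element of order 4 of `K` off the axis -/
theorem Mem.exists_off (hK : Mem Om z K) (h : WM Om) (ha : a ∈ K) (haa : a * a = z) :
    ∃ b ∈ K, b * b = z ∧ b ≠ a ∧ b ≠ a⁻¹ := by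
  obtain ⟨b, hb, hbb, hab⟩ := hK.exists_nc h ha haa
  refine ⟨b, hb, hbb, fun h1 => hab (by rw [h1]), fun h1 => hab (by rw [h1]; group)⟩

/-- `(u, e)` a C-pair, both transpositions on `K` with axis `a`, `LAMBDA0`, AN(u e) : `u e` acts on `K` as `a` -/
theorem tt_as (h : WM Om) (l0 : L0 Om) (hc : CP Om u e) (an : ANt Om (u * e)) (hu : InZ Om u) (he : InZ Om e)
    (hK : Mem Om x K) (huK : cj u K = K) (heK : cj e K = K) (ha : Tr u K a) (hb : Tr e K a) : As K (u * e) a := by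
  rcases Tr.mul_cases h hK huK heK ha hb with h1 | h1
  · exfalso
    have haa := Tr.sq' ha hK
    have hK1 := As.one_iff.1 h1
    have huZ : u ∈ ZS Om (u * e) := by
      refine ⟨hu, ?_⟩
      rw [mem_CX]
      intro M hM k hk
      have h2 : e * k = k * e := (cp_RZ h hc (hM.le_RZ hk) (z_mem_RZ he h)).symm
      rw [mul_assoc, h2, ← mul_assoc, ← hM.comm_z h hk, mul_assoc]
    obtain ⟨b, hb', hbb, hne, hne'⟩ := hK.exists_off h ha.mem haa
    have h2 := ha.com b hb' (by rw [hbb, hK.2]) hne hne'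
    have h3 : b * u * b⁻¹ ∈ NC (u * e) u := conj_mem_NC (hK1 b hb').symm
    have h4 : (b * u * b⁻¹) * u⁻¹ ∈ NC (u * e) u := mul_mem h3 (inv_mem self_mem_NC)
    have h5 : (b * u * b⁻¹) * u⁻¹ = (u * b * u⁻¹ * b⁻¹)⁻¹ := by group
    rw [h5] at h4
    have h6 := NC_sq h l0 an huZ h4
    have h7 : (u * b * u⁻¹ * b⁻¹) * (u * b * u⁻¹ * b⁻¹) = 1 := by
      rw [← mul_inv_rev, inv_eq_one] at h6
      exact h6
    rcases h2 with h2 | h2
    · rw [h2, haa] at h7
      exact hK.inZ.z1 h h7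
    · rw [h2, ← mul_inv_rev, haa, inv_eq_one] at h7
      exact hK.inZ.z1 h h7
  · exact h1

/-- (f, f) : the same axes, and `u e` acts on `K` as the axis -/
theorem tt_ff (h : WM Om) (l0 : L0 Om) (hc : CP Om u e) (an : ANt Om (u * e)) (hu : InZ Om u) (he : InZ Om e)
    (fu : Ff Om x u) (fe : Ff Om x e) (hK : Mem Om x K) (ha : Tr u K a) : Tr e K a ∧ As K (u * e) a := by
  obtain ⟨b, hb⟩ := fe.exists_tr h (he.z2 h) hK
  have h1 := Tr.same h hK (fu.2 K hK).1 (cp_comm h hu he hc) hb ha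
  exact ⟨h1, tt_as h l0 hc an hu he hK (fu.2 K hK).1 (fe.2 K hK).1 ha h1⟩

/-- `x ∈ ⟨u^{C(s)}⟩` : `x` at `u` is not of type `f` -/
theorem not_ff_of_NC (h : WM Om) (an : ANt Om s) (hu : u ∈ ZS Om s) (hx : x ∈ NC s u) : ¬ Ff Om u x := by
  intro hf
  obtain ⟨K, hK⟩ := hu.1
  obtain ⟨h1, h2⟩ := hf.2 K hK
  apply h2
  intro k hk
  have h3 : x * k * x⁻¹ * k⁻¹ ∈ K := by
    have := conj_mem_cj (g := x) hk
    rw [h1] at this
    exact mul_mem this (inv_mem hk)
  have h4 : x * k * x⁻¹ * k⁻¹ ∈ NC s u := by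
    have h5 : x * k * x⁻¹ * k⁻¹ = x * (k * x⁻¹ * k⁻¹) := by group
    rw [h5]
    exact mul_mem hx ((mem_normalizer_iff.1 (NC_norm (Mem.le_cent hK hu hk)) _).1 (inv_mem hx))
  have o := NC_orb h an hu hK
  rcases o.mem_inf ⟨1, one_mem _, cj_one _⟩ h3 h4 with h5 | h5
  · left; rwa [mul_inv_eq_one] at h5
  · right; rwa [hK.2, mul_inv_eq_iff_eq_mul] at h5

/-- `(u, x)` : `K_x` has an element of `C(s)` inverted by `u` : `x ∈ ⟨u^{C(s)}⟩` -/
theorem mem_NC_of_inv (hx : InZ Om x) (h : WM Om) (hks : k * s = s * k) (hi : u * k * u⁻¹ = x * k) :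
    x ∈ NC s u := by
  have h3 : k * u * k⁻¹ ∈ NC s u := conj_mem_NC hks
  have hxx := hx.z2 h
  have h4 : k * u * k⁻¹ = x * u := by
    rw [mul_inv_eq_iff_eq_mul] at hi ⊢
    -- `u k = x k u`
    calc k * u = (x * x) * (k * u) := by rw [hxx, one_mul]
      _ = x * (x * k * u) := by group
      _ = x * (u * k) := by rw [hi]
      _ = x * u * k := by group
  rw [h4] at h3
  have h5 := mul_mem h3 (inv_mem (self_mem_NC (s := s) (y := u)))
  rwa [mul_inv_cancel_right] at h5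

end Fin

end Cfsg.Agent.Cit.Nil.RTwoM
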