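import Cfsg.Agent.Cit.Nil.RTwoM.LZero
import Cfsg.Agent.Cit.Nil.RTwoM.Act
import Cfsg.Agent.Cit.Nil.RTwoM.JArg

/-!
# S1309, (6b), (C3), `r = 2`, any `m`, `LAMBDA0`: (AN*) (#17219)

* `ANS Om` : (AN*): for every involution `e` of `G`: `z ∈ Z*(e)` (`z ∈ Z(e)` has a C-partner in `Z(e)`) implies
  `z ∈ O_2(C(e))`;
* `ino_comm_mem` : `u ∈ Z(e) ∩ O_2(C(e))`, `e` centralises a member over `x`: `x`, `u` commute;
* **`ANS.comm_gen`** : `Z*(e) ≠ ∅`, `u ∈ Z(e)`, `e` centralises a member over `x`: `x`, `u` commute;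
* `ANS.mem_NC` : `z ∈ Z*(e)`, `x ∈ Z(e)`: `x = z`, C-pair or `x ∈ ⟨z^{C(e)}⟩`;
* `ANS.no_inv` (**): `x`, `u` do not commute, `z ∈ a0(u)`: `C(R_z R_u) ∩ C(R_x)` has no involution;
* `ANS.w_comm`, `ANS.ti_comm` (1); `ANS.faithful` (2); `ANS.inter` : the form for `⟨R_j : j ∈ A⟩`.
-/

set_option autoImplicit false
set_option linter.style.haveILetI false
set_option linter.unusedSectionVars false

namespace Cfsg.Agent.Cit.Nil.RTwoM

open Subgroup Cfsg Cfsg.Agent.Cit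

open RG (WR CP Ov InO)
open RI (CS)
open ROne (NC self_mem_NC conj_mem_NC cj_NC mem_NC_conj NC_le)

variable {G : Type*} [Group G] {Om : Set (Subgroup G)} {K L M : Subgroup G} {a c d e s t u v w x y z z' g k n : G}

/-- (AN*) -/
def ANS (Om : Set (Subgroup G)) : Prop := ∀ e z u, e * e = 1 → e ≠ 1 → z ∈ ZS Om e → u ∈ ZS Om e → CP Om z u →
  InO (centralizer {e}) z

section Fin

variable [Finite G]

/-! ### `⟨y^{C(s)}⟩` for one `y ∈ Z(s) ∩ O_2(C(s))` -/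

theorem ino_cj (hO : InO (centralizer {s}) y) (hg : g * s = s * g) : InO (centralizer {s}) (g * y * g⁻¹) := by
  obtain ⟨N, h1, h2, h3, h4⟩ := hO
  exact ⟨N, h1, h2, h3, (mem_normalizer_iff.1 (h2 (mem_centralizer_singleton_iff.2 hg)) y).1 h4⟩

theorem ino_two (hO : InO (centralizer {s}) y) : IsPGroup 2 (NC s y) := by
  obtain ⟨N, -, hN, h2, hyN⟩ := hO
  refine h2.to_le ((closure_le _).2 ?_)
  rintro _ ⟨g, hg, rfl⟩
  exact (mem_normalizer_iff.1 (hN (mem_centralizer_singleton_iff.2 hg)) y).1 hyN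

theorem ino_orb (hO : InO (centralizer {s}) y) (h : WM Om) (hy : y ∈ ZS Om s) (hK : Mem Om y K) :
    Cit.ROne.Orb Om (centralizer {s}) (NC s y) {L | ∃ g ∈ centralizer {s}, Cit.cj g K = L} := by
  have hS : (zz '' {L | ∃ g ∈ centralizer {s}, Cit.cj g K = L}) = {t | ∃ g, g * s = s * g ∧ t = g * y * g⁻¹} := by
    ext t
    constructor
    · rintro ⟨_, ⟨g, hg, rfl⟩, rfl⟩
      exact ⟨g, mem_centralizer_singleton_iff.1 hg, (hK.cj h g).2⟩
    · rintro ⟨g, hg, rfl⟩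
      exact ⟨_, ⟨g, mem_centralizer_singleton_iff.2 hg, rfl⟩, (hK.cj h g).2⟩
  have h2 : ∀ L ∈ Om, IsPGroup 2 L := fun L hL => h.isPGroup hL
  have := Cit.ROne.Orb.of_orbit h.hyp h2 hK.1 (H := centralizer {s}) (Mem.le_cent hK hy) (by
    rw [hS]; exact ino_two hO)
  rwa [hS] at this

/-- **(2.4)** for members -/
theorem ino_mem_or (hO : InO (centralizer {s}) y) (h : WM Om) (hK : Mem Om x K) (hKs : ∀ k ∈ K, s * k = k * s) :
    x ∈ NC s y ∨ ∀ n ∈ NC s y, ∀ k ∈ K, k * n = n * k := by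
  by_cases hxN : x ∈ NC s y
  · exact Or.inl hxN
  right
  intro n hn k hk
  have hKle : K ≤ centralizer {s} := fun k hk => by
    rw [mem_centralizer_singleton_iff]; exact (hKs k hk).symm
  exact h.hyp.lemma_one hK.1 (h.isPGroup hK.1) (ino_two hO) (hKle.trans NC_norm) (by rw [hK.2]; exact hxN) k hk n hn

/-- `LAMBDA0` : `⟨y^{C(s)}⟩` is commutative -/
theorem ino_comm (hO : InO (centralizer {s}) y) (h : WM Om) (l0 : L0 Om) (hy : y ∈ ZS Om s) :
    ∀ a ∈ NC s y, ∀ b ∈ NC s y, a * b = b * a := by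
  by_contra hn
  obtain ⟨K, hK⟩ := hy.1
  have o := ino_orb hO h hy hK
  obtain ⟨x, hx, hxZ, hxy⟩ : ∃ x ∈ NC s y, InZ Om x ∧ x * y ≠ y * x := by
    by_contra hcon
    push Not at hcon
    apply o.zz_not_central hn ⟨1, one_mem _, cj_one _⟩
    have h1 : NC s y ≤ centralizer {y} := by
      refine (closure_le _).2 ?_
      rintro _ ⟨g, hg, rfl⟩
      rw [SetLike.mem_coe, mem_centralizer_singleton_iff]
      exact hcon _ (conj_mem_NC hg) (hy.1.conj h g)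
    intro x hx
    rw [hK.2]
    exact (mem_centralizer_singleton_iff.1 (h1 hx)).symm
  have hne : y ≠ x * y * x⁻¹ := fun h1 => hxy (by rw [eq_mul_inv_iff_mul_eq] at h1; exact h1.symm)
  have hKn := hK.cj h x
  have hKne : K ≠ Cit.cj x K := by
    intro h1
    rw [← h1] at hKn
    exact hne (hK.2.symm.trans hKn.2)
  have h1 := o.comm_cj hn ⟨1, one_mem _, cj_one _⟩ hx hKne
  exact l0 y x hy.1 hxZ (cp_of_cen h hK (hy.1.conj h x) hne fun k hk => (h1 k hk _ (hKn.zmem h)).symm)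

/-- `u ∈ Z(e) ∩ O_2(C(e))`, `e` centralises a member over `x`: `x` and `u` commute -/
theorem ino_comm_mem (hO : InO (centralizer {e}) u) (h : WM Om) (l0 : L0 Om) (hu : u ∈ ZS Om e) (hK : Mem Om x K)
    (hKe : ∀ k ∈ K, e * k = k * e) : x * u = u * x := by
  rcases ino_mem_or hO h hK hKe with h1 | h1
  · exact ino_comm hO h l0 hu x h1 u self_mem_NC
  · exact h1 u self_mem_NC x (hK.zmem h)

theorem ZS_cen (hz : z ∈ ZS Om e) (hK : Mem Om z K) : ∀ k ∈ K, e * k = k * e := mem_CX.1 hz.2 K hK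

theorem exists_invol {P : Subgroup G} (hP : IsPGroup 2 P) (hne : P ≠ ⊥) : ∃ e ∈ P, e ≠ 1 ∧ e * e = 1 := by
  have hnt : Nontrivial P := (Subgroup.nontrivial_iff_ne_bot P).2 hne
  obtain ⟨n, hn, hc⟩ := hP.nontrivial_iff_card.1 hnt
  obtain ⟨x, hx⟩ := exists_prime_orderOf_dvd_card' (G := P) 2 (by rw [hc]; exact dvd_pow_self 2 hn.ne')
  refine ⟨x, x.2, fun h1 => ?_, ?_⟩
  · have h2 : x = 1 := Subtype.ext h1
    rw [h2, orderOf_one] at hx
    omega
  · have h2 := pow_orderOf_eq_one x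
    rw [hx, pow_two] at h2
    exact congrArg Subtype.val h2

/-- squares in `R_z` -/
theorem RZ_sq (h : WM Om) (hz : InZ Om z) (he : e ∈ RZ Om z) : e * e = 1 ∨ e * e = z := by
  obtain ⟨K, hK⟩ := hz
  obtain ⟨L, hL, hne, -⟩ := hK.other h
  obtain ⟨a, ha, b, hb, rfl⟩ := (mem_RZ hK hL h hne).1 he
  have h1 : a * b * (a * b) = (a * a) * (b * b) := by
    calc a * b * (a * b) = a * (b * a) * b := by group
      _ = a * (a * b) * b := by rw [hK.comm hL h hne ha hb]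
      _ = _ := by group
  have hzz := hK.inZ.z2 h
  have h2 : a * a = 1 ∨ a * a = z := by
    rcases hK.sq_cases h ha with h2 | h2 | h2
    · left; rw [h2, one_mul]
    · left; rw [h2, hzz]
    · exact Or.inr h2
  have h3 : b * b = 1 ∨ b * b = z := by
    rcases hL.sq_cases h hb with h2 | h2 | h2
    · left; rw [h2, one_mul]
    · left; rw [h2, hzz]
    · exact Or.inr h2
  rw [h1]
  rcases h2 with h2 | h2 <;> rcases h3 with h3 | h3 <;> rw [h2, h3]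
  · left; rw [one_mul]
  · right; rw [one_mul]
  · right; rw [mul_one]
  · left; rw [hzz]

/-- C-pairs and `X` -/
theorem RZ_le_CX (h : WM Om) (hc : CP Om z u) : RZ Om z ≤ CX Om u := fun r hr => by
  rw [mem_CX]
  intro K hK k hk
  exact cp_RZ h hc hr (hK.le_RZ hk)

namespace ANS

variable (an : ANS Om)

include an

/-- **`Z*(e) ≠ ∅`: `u ∈ Z(e)` commutes with `x` if `e` centralises a member over `x`** -/
theorem comm_gen (h : WM Om) (l0 : L0 Om) (he : e * e = 1) (he1 : e ≠ 1) (hz : z ∈ ZS Om e) (hz' : z' ∈ ZS Om e)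
    (hc : CP Om z z') (hu : u ∈ ZS Om e) (hK : Mem Om x K) (hKe : ∀ k ∈ K, e * k = k * e) : x * u = u * x := by
  have hO := an e z z' he he1 hz hz' hc
  obtain ⟨M, hM⟩ := hu.1
  rcases ino_mem_or hO h hM (ZS_cen hu hM) with h1 | h1
  · -- `x` commutes with `⟨z^{C(e)}⟩`
    have h2 : NC e z ≤ centralizer {x} := by
      refine (closure_le _).2 ?_
      rintro _ ⟨g, hg, rfl⟩
      rw [SetLike.mem_coe, mem_centralizer_singleton_iff]
      exact (ino_comm_mem (ino_cj hO hg) h l0 (ZS_conj h hz hg) hK hKe).symm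
    exact (mem_centralizer_singleton_iff.1 (h2 h1)).symm
  · by_cases hzu : u = z
    · rw [hzu]; exact ino_comm_mem hO h l0 hz hK hKe
    · have h2 : CP Om u z := cp_of_cen h hM hz.1 hzu fun k hk => (h1 z self_mem_NC k hk).symm
      exact ino_comm_mem (an e u z he he1 hu hz h2) h l0 hu hK hKe

/-- the elements of `Z(e)` commute if `Z*(e) ≠ ∅` -/
theorem comm_ZS (h : WM Om) (l0 : L0 Om) (he : e * e = 1) (he1 : e ≠ 1) (hz : z ∈ ZS Om e) (hz' : z' ∈ ZS Om e)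
    (hc : CP Om z z') (hu : u ∈ ZS Om e) (hx : x ∈ ZS Om e) : x * u = u * x := by
  obtain ⟨K, hK⟩ := hx.1
  exact an.comm_gen h l0 he he1 hz hz' hc hu hK (ZS_cen hx hK)

/-- `z ∈ Z*(e)`, `x ∈ Z(e)` -/
theorem mem_NC (h : WM Om) (he : e * e = 1) (he1 : e ≠ 1) (hz : z ∈ ZS Om e) (hz' : z' ∈ ZS Om e)
    (hc : CP Om z z') (hx : x ∈ ZS Om e) : x = z ∨ CP Om x z ∨ x ∈ NC e z := by
  have hO := an e z z' he he1 hz hz' hc
  obtain ⟨M, hM⟩ := hx.1
  rcases ino_mem_or hO h hM (ZS_cen hx hM) with h1 | h1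
  · exact Or.inr (Or.inr h1)
  · by_cases hzu : x = z
    · exact Or.inl hzu
    · exact Or.inr (Or.inl (cp_of_cen h hM hz.1 hzu fun k hk => (h1 z self_mem_NC k hk).symm))

/-- the C-pair `(z, u)` and `x` : the form with a member over `x` -/
theorem no_mem (h : WM Om) (l0 : L0 Om) (hz : InZ Om z) (hu : InZ Om u) (hc : CP Om z u) (hxu : x * u ≠ u * x)
    (he : e * e = 1) (hez : e ∈ CX Om z) (heu : e ∈ CX Om u) (hK : Mem Om x K) (hKe : ∀ k ∈ K, e * k = k * e) :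
    e = 1 := by
  by_contra he1
  exact hxu (an.comm_gen h l0 he he1 ⟨hz, hez⟩ ⟨hu, heu⟩ hc ⟨hu, heu⟩ hK hKe)

/-- **(**)** -/
theorem no_inv (h : WM Om) (l0 : L0 Om) (hz : InZ Om z) (hu : InZ Om u) (hc : CP Om z u) (hx : InZ Om x)
    (hxu : x * u ≠ u * x) (he : e * e = 1) (hez : e ∈ CX Om z) (heu : e ∈ CX Om u) (hex : e ∈ CX Om x) : e = 1 := by
  obtain ⟨K, hK⟩ := hx
  exact an.no_mem h l0 hz hu hc hxu he hez heu hK (mem_CX.1 hex K hK)

/-- **(1)** : `1 ≠ w ∈ R_u ∩ C(R_v)`, `w² = 1`, `z` a common C-partner of `u` and `v`: `v` centralises `a0(u)` -/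
theorem w_comm (h : WM Om) (l0 : L0 Om) (hu : InZ Om u) (hv : InZ Om v) (hz : InZ Om z) (hy : InZ Om y)
    (hzu : CP Om z u) (hzv : CP Om z v) (hyu : CP Om y u) (hw : w ∈ RZ Om u) (hww : w * w = 1) (hw1 : w ≠ 1)
    (hwv : w ∈ CX Om v) : v * y = y * v := by
  have key : ∀ q, CP Om q u → w ∈ CX Om q := by
    intro q hq
    rw [mem_CX]
    intro L hL k hk
    have h1 := cp_RZ h hq (hL.le_RZ hk) hw
    exact h1.symm
  exact an.comm_ZS h l0 hww hw1 ⟨hz, key z hzu⟩ ⟨hv, hwv⟩ hzv ⟨hy, key y hyu⟩ ⟨hv, hwv⟩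

/-- **(1)**, type I -/
theorem ti_comm (h : WM Om) (l0 : L0 Om) (hti : TI Om u v) (hz : InZ Om z) (hy : InZ Om y) (hzu : CP Om z u)
    (hzv : CP Om z v) (hyu : CP Om y u) : v * y = y * v := by
  have key : u ∈ RZ Om v → v * y = y * v := fun h1 =>
    cp_comm h hti.inT hy (cp_of_mem_RZ h hti ((hti.symm h).mem_symm h h1) hy hyu.symm)
  rcases hti.dich h with h1 | ⟨q, hq, hqv, hqq, -, hq2⟩
  · exact key h1
  · by_cases hw1 : u * q = 1
    · have h2 : q = u := by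
        have h3 := eq_inv_of_mul_eq_one_right hw1
        rwa [hti.inZ.inv h] at h3
      exact key (h2 ▸ hqv)
    · have huq : q * u = u * q := RZ_le_centralizer h hq
      have hww : u * q * (u * q) = 1 := by
        calc u * q * (u * q) = u * (q * u) * q := by group
          _ = (u * u) * (q * q) := by rw [huq]; group
          _ = 1 := by rw [hti.inZ.z2 h, hqq, one_mul]
      exact an.w_comm h l0 hti.inZ hti.inT hz hy hzu hzv hyu (mul_mem (z_mem_RZ hti.inZ h) hq) hww hw1 hq2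

/-- **(2)** : `x ∈ Z` moves `u ∈ a0(z)`, `y` a common C-partner of `z` and `u`: `R_z ∩ C(R_x) = 1` -/
theorem faithful (h : WM Om) (l0 : L0 Om) (ant : ANT Om) (hz : InZ Om z) (hu : InZ Om u) (hy : InZ Om y)
    (hx : InZ Om x) (hzu : CP Om z u) (hzy : CP Om z y) (huy : CP Om u y) (hxu : x * u ≠ u * x)
    (he : e ∈ RZ Om z) (hex : e ∈ CX Om x) : e = 1 := by
  rcases RZ_sq h hz he with h1 | h1
  · by_contra he1
    exact hxu (an.comm_ZS h l0 h1 he1 ⟨hu, RZ_le_CX h hzu he⟩ ⟨hy, RZ_le_CX h hzy he⟩ huy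
      ⟨hu, RZ_le_CX h hzu he⟩ ⟨hx, hex⟩)
  · exfalso
    have h2 : z ∈ CX Om x := by rw [← h1]; exact mul_mem hex hex
    obtain ⟨S, hzS⟩ := exists_sylow h hz
    have h3 := ant S z (CS.mem_TT hzS) (hz.z1 h)
    exact hxu (ZS_comm h l0 h3 ⟨hx, h2⟩ ⟨hu, cp_cx h hz hzu.symm⟩)

/-- the form for `⟨R_j : j ∈ A⟩`, involutions -/
theorem inter_inv (h : WM Om) (l0 : L0 Om) {S : Subgroup G} (hS : IsPGroup 2 S) {A : Set G} (hA : A ⊆ CS Om S)
    (hx : InZ Om x) (hu : InZ Om u) (hxu : x * u ≠ u * x) (hz : z ∈ CS Om S) (hzA : z ∉ A) (hz' : z' ∈ CS Om S)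
    (hz'A : z' ∉ A) (hne : z ≠ z') (he : e ∈ ⨆ j ∈ A, RZ Om j) (hee : e * e = 1) (hex : e ∈ CX Om x)
    (heu : e ∈ CX Om u) : e = 1 := by
  by_contra he1
  have key : ∀ y ∈ CS Om S, y ∉ A → e ∈ CX Om y := by
    intro y hy hyA
    refine (iSup₂_le fun j hj => ?_ : ⨆ j ∈ A, RZ Om j ≤ CX Om y) he
    exact RZ_le_CX h (CS.cp (hA hj) h hS hy fun h1 => hyA (h1 ▸ hj))
  exact hxu (an.comm_ZS h l0 hee he1 ⟨CS.inZ hz, key z hz hzA⟩ ⟨CS.inZ hz', key z' hz' hz'A⟩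
    (CS.cp hz h hS hz' hne) ⟨hu, heu⟩ ⟨hx, hex⟩)

/-- **the form for `⟨R_j : j ∈ A⟩`** -/
theorem inter (h : WM Om) (l0 : L0 Om) (S : Sylow 2 G) {A : Set G} (hA : A ⊆ CS Om (S : Subgroup G))
    (hx : InZ Om x) (hu : InZ Om u) (hxu : x * u ≠ u * x) (hz : z ∈ CS Om (S : Subgroup G)) (hzA : z ∉ A)
    (hz' : z' ∈ CS Om (S : Subgroup G)) (hz'A : z' ∉ A) (hne : z ≠ z') :
    (⨆ j ∈ A, RZ Om j) ⊓ (CX Om x ⊓ CX Om u) = ⊥ := by
  have h2 : IsPGroup 2 ((⨆ j ∈ A, RZ Om j) ⊓ (CX Om x ⊓ CX Om u) : Subgroup G) :=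
    S.isPGroup'.to_le (inf_le_left.trans (iSup₂_le fun j hj => CS.RZ_le (hA hj) h))
  by_contra hne1
  obtain ⟨e, he, he1, hee⟩ := exists_invol h2 hne1
  exact he1 (an.inter_inv h l0 S.isPGroup' hA hx hu hxu hz hzA hz' hz'A hne he.1 hee he.2.1 he.2.2)

end ANS

end Fin

end Cfsg.Agent.Cit.Nil.RTwoM
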