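import Cfsg.Agent.Cit.Nil.RTwoM.Pairs
import Cfsg.Agent.Cit.Nil.ROne.ClTwo
import Cfsg.Agent.Cit.Nil.ROne.Base

/-!
# S1309, (6b), (C3), `r = 2`, any `m`: `LAMBDA0` (no C-swaps)

* `L0 Om` : no C-swaps; `ZS Om s = Z(s)` : the `z ∈ Z` with `[s, R_z] = 1`;
* `mem_ZS_of_one` : `s ≠ 1` a product of elements of `C_S`;
* `NC_mem_or` (2.4) : `x ∈ Z(s)`: `x ∈ ⟨y^{C(s)}⟩` or `R_x` centralises `⟨y^{C(s)}⟩`;
* `NC_comm` : `LAMBDA0`: `⟨y^{C(s)}⟩` is commutative;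
* **`ZS_comm`** : `LAMBDA0`: the elements of `Z(s)` commute;
* `NCS Om S x` : `x` normalises `C_S`; `cent_of_NCS` : `LAMBDA0`, `x ∈ Z`: then `x` centralises `T_S`.
-/

set_option autoImplicit false
set_option linter.style.haveILetI false
set_option linter.unusedSectionVars false

namespace Cfsg.Agent.Cit.Nil.RTwoM

open Subgroup Cfsg Cfsg.Agent.Cit

open RG (WR CP Ov InO)
open RI (CS)
open ROne (NC self_mem_NC conj_mem_NC cj_NC mem_NC_conj NC_le)

variable {G : Type*} [Group G] {Om : Set (Subgroup G)} {K L M : Subgroup G} {a c d s t u v x y z g k n : G}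

/-- no C-swaps -/
def L0 (Om : Set (Subgroup G)) : Prop := ∀ u v, InZ Om u → InZ Om v → ¬ CP Om u (v * u * v⁻¹)

/-- `Z(s)` -/
def ZS (Om : Set (Subgroup G)) (s : G) : Set G := {z | InZ Om z ∧ s ∈ CX Om z}

/-- `x` normalises `C_S` -/
def NCS (Om : Set (Subgroup G)) (S : Subgroup G) (x : G) : Prop := ∀ z ∈ CS Om S, x * z * x⁻¹ ∈ CS Om S

theorem mem_ZS : z ∈ ZS Om s ↔ InZ Om z ∧ s ∈ CX Om z := Iff.rfl

section Fin

variable [Finite G]

theorem ZS_comm_s (h : WM Om) (hz : z ∈ ZS Om s) : s * z = z * s := CX_comm (z_mem_RZ hz.1 h) hz.2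

theorem ZS_conj (h : WM Om) (hz : z ∈ ZS Om s) (hg : g * s = s * g) : g * z * g⁻¹ ∈ ZS Om s := by
  refine ⟨hz.1.conj h g, ?_⟩
  have h1 := (CX_conj h g (x := s) (z := z)).2 hz.2
  rwa [hg, mul_inv_cancel_right] at h1

theorem Mem.le_cent (hK : Mem Om z K) (hz : z ∈ ZS Om s) : K ≤ centralizer {s} := fun k hk => by
  rw [mem_centralizer_singleton_iff]
  exact (mem_CX.1 hz.2 K hK k hk).symm

/-- `AN(s)` for `z ∈ Z(s)` -/
theorem ANt.inO (ha : ANt Om s) (hz : z ∈ ZS Om s) : InO (centralizer {s}) z := by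
  obtain ⟨⟨K, hK⟩, hs⟩ := hz
  have h1 := ha K hK.1 (mem_CX.1 hs K hK)
  rwa [hK.2] at h1

/-- one member over `z` centralised by `s` is enough, if `s ∈ Z` -/
theorem mem_ZS_of_mem (h : WM Om) (hK : Mem Om z K) (hs : InZ Om s) (hne : z ≠ s) (hc : ∀ k ∈ K, s * k = k * s) :
    z ∈ ZS Om s := by
  refine ⟨hK.inZ, ?_⟩
  rw [mem_CX]
  intro M hM
  exact InZ.cent_all hK hs h hne hc hM

/-- `C_S ⊆ Z(s)` for `s ∈ T_S` -/
theorem CS_subset_ZS (h : WM Om) {S : Subgroup G} (hS : IsPGroup 2 S) (hs : s ∈ TT Om S) (hz : z ∈ CS Om S) :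
    z ∈ ZS Om s := ⟨CS.inZ hz, TT_cx h hS hz hs⟩

/-- `⟨y^{C(s)}⟩` is a 2-group -/
theorem NC_two (_ : WM Om) (ha : ANt Om s) (hy : y ∈ ZS Om s) : IsPGroup 2 (NC s y) := by
  obtain ⟨N, -, hN, h2, hyN⟩ := ha.inO hy
  refine h2.to_le ((closure_le _).2 ?_)
  rintro _ ⟨g, hg, rfl⟩
  exact (mem_normalizer_iff.1 (hN (mem_centralizer_singleton_iff.2 hg)) y).1 hyN

theorem NC_norm : centralizer {s} ≤ normalizer (NC s y : Set G) := fun g hg => by
  rw [mem_normalizer_iff_cj]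
  exact cj_NC (mem_centralizer_singleton_iff.1 hg)

/-- the orbit of the member `K` over `y` under `C(s)` -/
theorem NC_orb (h : WM Om) (ha : ANt Om s) (hy : y ∈ ZS Om s) (hK : Mem Om y K) :
    Cit.ROne.Orb Om (centralizer {s}) (NC s y) {L | ∃ g ∈ centralizer {s}, cj g K = L} := by
  have hS : (zz '' {L | ∃ g ∈ centralizer {s}, cj g K = L}) = {t | ∃ g, g * s = s * g ∧ t = g * y * g⁻¹} := by
    ext t
    constructor
    · rintro ⟨_, ⟨g, hg, rfl⟩, rfl⟩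
      exact ⟨g, mem_centralizer_singleton_iff.1 hg, (hK.cj h g).2⟩
    · rintro ⟨g, hg, rfl⟩
      exact ⟨_, ⟨g, mem_centralizer_singleton_iff.2 hg, rfl⟩, (hK.cj h g).2⟩
  have h2 : ∀ L ∈ Om, IsPGroup 2 L := fun L hL => h.isPGroup hL
  have := Cit.ROne.Orb.of_orbit h.hyp h2 hK.1 (H := centralizer {s}) (Mem.le_cent hK hy) (by
    rw [hS]; exact NC_two h ha hy)
  rwa [hS] at this

/-- **(2.4)** -/
theorem NC_mem_or (h : WM Om) (ha : ANt Om s) (hy : y ∈ ZS Om s) (hx : x ∈ ZS Om s) :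
    x ∈ NC s y ∨ ∀ n ∈ NC s y, ∀ r ∈ RZ Om x, r * n = n * r := by
  by_cases hxN : x ∈ NC s y
  · exact Or.inl hxN
  right
  intro n hn r hr
  have key : RZ Om x ≤ centralizer {n} := by
    refine RZ_le fun K hK k hk => ?_
    rw [mem_centralizer_singleton_iff]
    exact h.hyp.lemma_one hK.1 (h.isPGroup hK.1) (NC_two h ha hy) ((Mem.le_cent hK hx).trans NC_norm)
      (by rw [hK.2]; exact hxN) k hk n hn
  exact mem_centralizer_singleton_iff.1 (key hr)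

/-- a noncommutative `⟨y^{C(s)}⟩` : some conjugate moves `y` -/
theorem NC_exists_move (h : WM Om) (ha : ANt Om s) (hy : y ∈ ZS Om s)
    (hn : ¬ ∀ a ∈ NC s y, ∀ b ∈ NC s y, a * b = b * a) : ∃ x ∈ NC s y, InZ Om x ∧ x * y ≠ y * x := by
  by_contra hcon
  push Not at hcon
  obtain ⟨K, hK⟩ := hy.1
  have o := NC_orb h ha hy hK
  apply o.zz_not_central hn ⟨1, one_mem _, cj_one _⟩
  have h1 : NC s y ≤ centralizer {y} := by
    refine (closure_le _).2 ?_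
    rintro _ ⟨g, hg, rfl⟩
    rw [SetLike.mem_coe, mem_centralizer_singleton_iff]
    exact hcon _ (conj_mem_NC hg) (hy.1.conj h g)
  intro x hx
  rw [hK.2]
  exact (mem_centralizer_singleton_iff.1 (h1 hx)).symm

/-- moving elements of `⟨y^{C(s)}⟩` : C-pair -/
theorem NC_cp (h : WM Om) (ha : ANt Om s) (hy : y ∈ ZS Om s) (hn : n ∈ NC s y) (hny : n * y ≠ y * n)  :
    CP Om y (n * y * n⁻¹) := by
  obtain ⟨K, hK⟩ := hy.1
  have o := NC_orb h ha hy hK
  have hne : y ≠ n * y * n⁻¹ := fun h1 => hny (by rw [eq_mul_inv_iff_mul_eq] at h1; exact h1.symm)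
  have hnc : ¬ ∀ a ∈ NC s y, ∀ b ∈ NC s y, a * b = b * a := fun h1 => hny (h1 n hn y self_mem_NC)
  have hKn := hK.cj h n
  have hKne : K ≠ cj n K := by
    intro h1
    rw [← h1] at hKn
    exact hne (hK.2.symm.trans hKn.2)
  have h1 := o.comm_cj hnc ⟨1, one_mem _, cj_one _⟩ hn hKne
  exact cp_of_cen h hK (hy.1.conj h n) hne fun k hk => (h1 k hk _ (hKn.zmem h)).symm

/-- `LAMBDA0` : `⟨y^{C(s)}⟩` is commutative -/
theorem NC_comm (h : WM Om) (l0 : L0 Om) (ha : ANt Om s) (hy : y ∈ ZS Om s) :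
    ∀ a ∈ NC s y, ∀ b ∈ NC s y, a * b = b * a := by
  by_contra hn
  obtain ⟨x, hx, hxZ, hxy⟩ := NC_exists_move h ha hy hn
  exact l0 y x hy.1 hxZ (NC_cp h ha hy hx hxy)

/-- **`LAMBDA0` : the elements of `Z(s)` commute** -/
theorem ZS_comm (h : WM Om) (l0 : L0 Om) (ha : ANt Om s) (hx : x ∈ ZS Om s) (hy : y ∈ ZS Om s) : x * y = y * x := by
  rcases NC_mem_or h ha hy hx with h1 | h1
  · exact NC_comm h l0 ha hy x h1 y self_mem_NC
  · exact h1 y self_mem_NC x (z_mem_RZ hx.1 h)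

theorem NC_sq (h : WM Om) (l0 : L0 Om) (ha : ANt Om s) (hy : y ∈ ZS Om s) (hn : n ∈ NC s y) : n * n = 1 := by
  obtain ⟨K, hK⟩ := hy.1
  exact (NC_orb h ha hy hK).sq_of_comm (NC_comm h l0 ha hy) n hn

/-! ### The normaliser of `C_S` -/

theorem NCS_of_mem (h : WM Om) {S : Subgroup G} (hs : s ∈ S) : NCS Om S s := fun _ hz => CS.conj hz h hs

/-- `LAMBDA0` : an element of `Z` normalising `C_S` centralises `C_S` -/
theorem comm_CS_of_NCS (h : WM Om) (l0 : L0 Om) {S : Subgroup G} (hS : IsPGroup 2 S) (hx : InZ Om x)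
    (hn : NCS Om S x) (hz : z ∈ CS Om S) : x * z = z * x := by
  by_contra hne
  refine l0 z x (CS.inZ hz) hx (CS.cp hz h hS (hn z hz) fun h1 => hne ?_)
  rw [eq_mul_inv_iff_mul_eq] at h1
  exact h1.symm

/-- `LAMBDA0` : an element of `Z` normalising `C_S` centralises `T_S` -/
theorem comm_TT_of_NCS (h : WM Om) (l0 : L0 Om) {S : Subgroup G} (hS : IsPGroup 2 S) (hx : InZ Om x)
    (hn : NCS Om S x) (ht : t ∈ TT Om S) : x * t = t * x := by
  have h1 : TT Om S ≤ centralizer ({x} : Set G) := by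
    refine (closure_le _).2 fun u hu => mem_centralizer_singleton_iff.2 ?_
    exact (comm_CS_of_NCS h l0 hS hx hn hu).symm
  exact (mem_centralizer_singleton_iff.1 (h1 ht)).symm

/-- an element centralising `C_S` normalises `C_S` -/
theorem NCS_of_comm {S : Subgroup G} (hc : ∀ z ∈ CS Om S, x * z = z * x) : NCS Om S x := fun z hz => by
  rw [hc z hz, mul_inv_cancel_right]; exact hz

end Fin

end Cfsg.Agent.Cit.Nil.RTwoM
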