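import Cfsg.Agent.Cit.Nil.RTwoM.EndX
import Cfsg.Agent.Cit.Nil.RTwoM.L1.Main
import Cfsg.Agent.Cit.Nil.RTwo.World
import Cfsg.Agent.Cit.Nil.IndDefs

/-!
# S1309, node n7 (`r = 2`, (C3), NIL): the leaf

* `LW G K` : one class `cls K` of members of order 8, two over every involution, (C3), `F*(G)` simple of even order;
  `LW.of_scw` : from `IndDefs.SCW G Om`, `K ∈ Om`;
* `LW.wm`, `LW.oneCls`, `LW.c3e` : the world `WM (cls K)`;
* `LW.l0` : LAMBDA1 is impossible (`WM.lambda1`);
* **`LW.false_of_star`** : `ANT` and `StarC` are contradictory.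
-/

set_option autoImplicit false
set_option linter.style.haveILetI false
set_option linter.unusedSectionVars false

namespace Cfsg.Agent.Cit.Nil.RTwoM

open Subgroup Cfsg Cfsg.Agent.Cit

universe u

/-- the world of the leaf -/
structure LW (G : Type u) [Group G] [Finite G] (K : Subgroup G) : Prop where
  hyp : Hyp (cls K)
  card : Nat.card K = 8
  two : (AssemblyNil.ovr K).ncard = 2
  simple : IsSimpleGroup ↥(generalizedFittingSubgroup G)
  na : ¬ IsMulCommutative ↥(generalizedFittingSubgroup G)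
  even : 2 ∣ Nat.card ↥(generalizedFittingSubgroup G)
  c3 : Nil.C3 K

section

variable {G : Type u} [Group G] [Finite G] {Om : Set (Subgroup G)} {K L X : Subgroup G} {z t g y : G}

theorem oneCls_cls (K : Subgroup G) : OneCls (cls K) := by
  rintro _ ⟨g, rfl⟩ _ ⟨g', rfl⟩
  exact ⟨g' * g⁻¹, by rw [cj_mul, cj_inv_cj]⟩

/-- (C3) elementwise -/
theorem WM.axes (h : WM Om) (hK : Mem Om z K) {c : G} (hcK : cj c K = K) (hc3 : IsPGroup 3 (zpowers c)) {q : G}
    (hq : q ∈ K) (hcq : c * q ≠ q * c) {y : G} (hy : y ∈ K) (hyy : y * y = z) :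
    c * y * c⁻¹ ≠ y ∧ c * y * c⁻¹ ≠ z * y := by
  have hcz : c * z = z * c := hK.of_cj h hcK
  obtain ⟨x, qx⟩ := h.exists_q3 hK
  obtain ⟨σ, hσ⟩ := qx.exists_act qx hcK hcz
  obtain ⟨k, hk⟩ := hc3 ⟨c, mem_zpowers c⟩
  have hk' : c ^ 3 ^ k = 1 := congrArg Subtype.val hk
  have h1 := (RTwo.w_act_pow qx.z2 hcz hσ (3 ^ k)).2
  rw [hk'] at h1
  have h2 : σ ^ 3 ^ k = 1 := h1.unique qx (RTwo.Act.one x z)
  have h3 : σ ^ 3 = 1 := by
    have h4 : ∀ σ : Equiv.Perm (Fin 3), σ ^ 6 = 1 := by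
      intro σ
      have h5 := RTwo.w_perm_cube σ
      have h6 : σ ^ 6 = (σ ^ 3) ^ 2 := by rw [← pow_mul]
      rw [h6, pow_two]
      exact h5
    have h5 : ∀ n, σ ^ 3 ^ (n + 1) = σ ^ 3 := by
      intro n
      induction n with
      | zero => simp
      | succ n ih =>
        rw [pow_succ, pow_mul, ih, ← pow_mul, show 3 * 3 = 6 + 3 by norm_num, pow_add, h4, one_mul]
    rcases k with _ | k
    · rw [pow_zero, pow_one] at h2
      rw [h2, one_pow]
    · rw [← h5 k]; exact h2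
  have h4 : σ = 1 ∨ ∀ i, σ i ≠ i := by
    have h5 : ∀ σ : Equiv.Perm (Fin 3), σ * σ * σ = 1 → σ = 1 ∨ ∀ i, σ i ≠ i := by decide
    exact h5 σ (by rw [← h3]; simp only [pow_succ, pow_zero, one_mul])
  rcases h4 with h4 | h4
  · -- inner: `c² ∈ C(K)`
    exfalso
    subst h4
    have h5 := hσ.inner qx hcz
    have h6 : ∀ n : ℕ, ∀ k ∈ K, c ^ (2 * n) * k = k * c ^ (2 * n) := by
      have h7 : ∀ k ∈ K, c ^ 2 * k = k * c ^ 2 := by
        intro k hk
        have h8 : c * (c * k * c⁻¹) * c⁻¹ = k := by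
          rcases qx.inner_cases h5 with h9 | ⟨j, h9⟩
          · rw [h9 k hk, h9 k hk]
          · have hk' : x j * k * (x j)⁻¹ ∈ K := mul_mem (mul_mem (qx.mem j) hk) (inv_mem (qx.mem j))
            rw [h9 k hk, h9 _ hk']
            calc x j * (x j * k * (x j)⁻¹) * (x j)⁻¹ = (x j * x j) * k * (x j * x j)⁻¹ := by group
              _ = k := by rw [qx.sq, ← hK.comm_z h hk, mul_inv_cancel_right]
        rw [← mul_inv_eq_iff_eq_mul]
        calc c ^ 2 * k * (c ^ 2)⁻¹ = c * (c * k * c⁻¹) * c⁻¹ := by rw [pow_two]; group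
          _ = k := h8
      intro n k hk
      rw [pow_mul]
      exact (show Commute (c ^ 2) k from h7 k hk).pow_left n
    -- `c = c^{odd}`
    obtain ⟨m, hm⟩ : Odd (3 ^ k) := Odd.pow (by decide)
    have h7 : c ^ (2 * m) * c = 1 := by rw [← pow_succ, ← hm, hk']
    have h8 := h6 m q hq
    apply hcq
    have h9 : c = (c ^ (2 * m))⁻¹ := by rw [eq_inv_iff_mul_eq_one, ← pow_succ', ← hm, hk']
    rw [h9, inv_mul_eq_iff_eq_mul, ← mul_assoc, h8, mul_inv_cancel_right]
  · obtain ⟨i, hi⟩ := qx.of_sq hy hyy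
    have e : c * (z * x i) * c⁻¹ = z * (c * x i * c⁻¹) := by
      calc c * (z * x i) * c⁻¹ = (c * z) * x i * c⁻¹ := by group
        _ = (z * c) * x i * c⁻¹ := by rw [hcz]
        _ = _ := by group
    have key : ∀ w, (w = x i ∨ w = z * x i) → c * y * c⁻¹ = w → False := by
      intro w hw hcy
      have h5 : c * y * c⁻¹ = x (σ i) ∨ c * y * c⁻¹ = z * x (σ i) := by
        rcases hi with rfl | rfl
        · exact hσ i
        · rw [e]
          rcases hσ i with h6 | h6
          · right; rw [h6]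
          · left; rw [h6, qx.zzx]
      rw [hcy] at h5
      apply h4 i
      rcases hw with rfl | rfl <;> rcases h5 with h5 | h5
      · exact (qx.inj (Or.inl h5)).symm
      · exact (qx.inj (Or.inr h5)).symm
      · exact qx.inj (Or.inr h5.symm)
      · exact (qx.inj (Or.inl (mul_left_cancel h5))).symm
    constructor
    · intro h5; exact key y hi h5
    · intro h5
      refine key (z * y) ?_ h5
      rcases hi with rfl | rfl
      · exact Or.inr rfl
      · left; exact qx.zzx _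

theorem C3E.of_c3 (h : WM (cls K)) (h3 : Nil.C3 K) : C3E (cls K) := by
  obtain ⟨Q, hQ, hQ8, c, hcK, hcQ, hc3, q, hq, hcq⟩ := h3
  have hQK : Q = K := eq_of_le_of_card_ge hQ.1 (by rw [hQ8, h.card K (self_mem_cls K)])
  subst hQK
  intro z L hL y hy hyy
  obtain ⟨g, hg⟩ := hL.1
  have hL0 : Mem (cls Q) (g⁻¹ * z * g) Q := by
    have h1 := hL.cj h g⁻¹
    rw [hg, cj_inv_cj, inv_inv] at h1
    exact h1
  have h2 := h.axes hL0 (mem_normalizer_iff_cj.1 hcK) hc3 hq hcq (y := g⁻¹ * y * g)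
    (by rw [hg, mem_cj] at hy; exact hy) (by rw [← hyy]; group)
  have hcc : cj (g * c * g⁻¹) L = L := by
    rw [hg, cj_mul, cj_mul, cj_inv_cj, mem_normalizer_iff_cj.1 hcK]
  refine ⟨g * c * g⁻¹, hL.of_cj h hcc, hcc, ?_, ?_⟩
  · intro h3
    apply h2.1
    have h4 : c * (g⁻¹ * y * g) * c⁻¹ = g⁻¹ * (g * c * g⁻¹ * y * (g * c * g⁻¹)⁻¹) * g := by group
    rw [h4, h3]
  · intro h3
    apply h2.2
    have h4 : c * (g⁻¹ * y * g) * c⁻¹ = g⁻¹ * (g * c * g⁻¹ * y * (g * c * g⁻¹)⁻¹) * g := by group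
    rw [h4, h3]
    group

/-- the world `WM` of one class -/
theorem WM.of_ncard (hyp : Hyp (cls K)) (hc : Nat.card K = 8) (h4 : (AssemblyNil.ovr K).ncard = 2) : WM (cls K) := by
  refine ⟨hyp, ?_, ?_⟩
  · rintro L ⟨g, rfl⟩
    rw [card_cj, hc]
  · rintro L ⟨g, rfl⟩
    have h2 : {M | M ∈ cls K ∧ zz M = zz (cj g K)} = (cj g) '' (AssemblyNil.ovr K) := by
      ext M
      constructor
      · rintro ⟨hM, hz⟩
        refine ⟨cj g⁻¹ M, ⟨hyp.conj M hM _, ?_⟩, cj_cj_inv g M⟩
        rw [hyp.zz_cj hM, hz, hyp.zz_cj (self_mem_cls K)]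
        group
      · rintro ⟨M, ⟨hM, hz⟩, rfl⟩
        refine ⟨hyp.conj M hM g, ?_⟩
        rw [hyp.zz_cj hM, hz, hyp.zz_cj (self_mem_cls K)]
    have h3 : {M | M ∈ cls K ∧ zz M = zz (cj g K)}.ncard = 2 := by
      rw [h2, Set.ncard_image_of_injective _ (fun A B hAB => cj_inj.1 hAB), h4]
    obtain ⟨A, B, hAB, h5⟩ := Set.ncard_eq_two.1 h3
    have hA : A ∈ {M | M ∈ cls K ∧ zz M = zz (cj g K)} := by rw [h5]; exact Set.mem_insert _ _
    have hB : B ∈ {M | M ∈ cls K ∧ zz M = zz (cj g K)} := by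
      rw [h5]; exact Set.mem_insert_of_mem _ (Set.mem_singleton _)
    have hg : cj g K ∈ {M | M ∈ cls K ∧ zz M = zz (cj g K)} := ⟨⟨g, rfl⟩, rfl⟩
    have hall : ∀ M ∈ cls K, zz M = zz (cj g K) → M = A ∨ M = B := by
      intro M hM hz
      have h6 : M ∈ {M | M ∈ cls K ∧ zz M = zz (cj g K)} := ⟨hM, hz⟩
      rw [h5] at h6
      simpa using h6
    rw [h5] at hg
    rcases hg with hg | hg
    · refine ⟨B, hB.1, ?_, hB.2, ?_⟩
      · rw [hg]; exact hAB.symm
      · intro M hM hz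
        rw [hg]
        rw [hg] at hz hall
        exact hall M hM hz
    · rw [Set.mem_singleton_iff] at hg
      refine ⟨A, hA.1, ?_, hA.2, ?_⟩
      · rw [hg]; exact hAB
      · intro M hM hz
        rw [hg]
        rw [hg] at hz hall
        exact (hall M hM hz).symm

end

namespace LW

variable {G : Type u} [Group G] [Finite G] {Om : Set (Subgroup G)} {K : Subgroup G}

/-- from the frame -/
theorem of_scw (S : IndDefs.SCW G Om) (hK : K ∈ Om) (h2 : (AssemblyNil.ovr K).ncard = 2) (h3 : Nil.C3 K) : LW G K where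
  hyp := by
    have h := S.t0.hyp
    have hs : cls K ⊆ Om := by
      rintro _ ⟨g, rfl⟩
      exact h.conj K hK g
    exact { conj := by
              rintro _ ⟨g, rfl⟩ g'
              exact ⟨g' * g, (cj_mul g' g K).symm⟩
            quat := fun K hK => h.quat K (hs hK)
            uniq := fun K hK => h.uniq K (hs hK)
            sub := fun K hK => h.sub K (hs hK)
            h2 := fun K hK L hL => h.h2 K (hs hK) L (hs hL)
            h3 := fun K hK L hL => h.h3 K (hs hK) L (hs hL) }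
  card := S.t0.card K hK
  two := h2
  simple := S.simple
  na := S.na
  even := by
    by_contra hodd
    have h3 : generalizedFittingSubgroup G ≤ pPrimeCore 2 G := by
      have hn : (generalizedFittingSubgroup G).Normal := Lib.GenFitting.genFitting_normal (G := G)
      refine Lib.Cores.le_pPrimeCore hn ?_
      exact (Nat.Prime.coprime_iff_not_dvd Nat.prime_two).2 hodd |>.symm
    rw [S.t0.core, le_bot_iff] at h3
    have h4 := S.simple.toNontrivial
    rw [h3] at h4
    exact not_nontrivial _ h4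
  c3 := h3

variable (w : LW G K)

include w

theorem wm : WM (cls K) := WM.of_ncard w.hyp w.card w.two

theorem c3e : C3E (cls K) := C3E.of_c3 w.wm w.c3

theorem oneCl : OneCl (cls K) := (oneCls_cls K).oneCl w.wm

theorem inZ : InZ (cls K) (zz K) := ⟨K, self_mem_cls K, rfl⟩

theorem fsimp : ROne.FSimp (generalizedFittingSubgroup G) := ROne.fsimp_of w.simple w.na

theorem mem_fstar {z : G} (hz : InZ (cls K) z) : z ∈ generalizedFittingSubgroup G :=
  w.wm.zmemX w.fsimp w.even hz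

/-- **LAMBDA1 is impossible** -/
theorem l0 (gold : Cit.ROne.Gold ↥(generalizedFittingSubgroup G)) (an : ANT (cls K)) : L0 (cls K) :=
  w.wm.lambda1 an w.oneCl w.fsimp (fun _ hz => w.mem_fstar hz) gold

/-- **the leaf `r = 2`, NIL** -/
theorem false_of_star (gold : Cit.ROne.Gold ↥(generalizedFittingSubgroup G))
    (hB : CloEnd.Bend ↥(generalizedFittingSubgroup G)) (an : ANT (cls K)) (st : StarC (cls K)) : False :=
  st.false_of_l0 w.wm (oneCls_cls K) w.c3e (w.l0 gold an) an w.inZ w.fsimp w.even gold hB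

end LW

end Cfsg.Agent.Cit.Nil.RTwoM
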