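import Cfsg.Agent.Cit.Nil.RTwoM.EQ
import Cfsg.Agent.Cit.Nil.RTwoM.ANStar
import Cfsg.Agent.Cit.Nil.RTwoM.Leaf
import Cfsg.Agent.Cit.Nil.Ind.SubB
import Cfsg.Agent.Cit.Nil.Three.ExCK

/-!
# S1309, `r = 2`, NIL, `LAMBDA0`: `ANS Om` from the frame and THEOREM E

* `inO_of_one` : `K` over `z`, `L` over `u`, both in `H`, `(z, u)` a C-pair, `O(H) = 1`, NIL or ONE for `K` in `H`,
  `z ∈ O_2(C(u))`, `z ∈ O_2(C(zu))`: `z ∈ O_2(H)`;
* `not_three` : no THREE in `C(e)`, `e` an involution, if `E(C(z)) = 1`;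
* **`ANS.of_scw`** : `ANS (cls K)`.
-/

set_option autoImplicit false
set_option linter.style.haveILetI false
set_option linter.unusedSectionVars false

namespace Cfsg.Agent.Cit.Nil.RTwoM

open Subgroup Cfsg Cfsg.Agent.Cit

open RG (WR CP Ov InO)
open RI (CS)
open IndDefs (T0 TStat SCW Cm comp NIL ONE THREE comp_sub)

universe v

variable {G : Type v} [Group G] {Om : Set (Subgroup G)} {K L M X H : Subgroup G} {a c d e s t u v x y z g k n m : G}

section Fin

variable [Finite G]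

theorem coe_zz (h : WM Om) (hK : Mem Om z K) (hKH : K ≤ H) : ((zz (K.subgroupOf H) : H) : G) = z := by
  have h1 := zz_map h.hyp (subgroupOf_mem_restr hK.1 hKH)
  rw [map_subgroupOf_eq_of_le hKH] at h1
  rw [h1, hK.2]

theorem inO_of_pCore {z : H} (hz : z ∈ pCore 2 H) : InO H (z : G) := by
  refine ⟨(pCore 2 H).map H.subtype, map_subtype_le _, ?_, (Lib.Cores.pCore_isPGroup 2).map _, ⟨z, hz, rfl⟩⟩
  intro g hg
  have hn := Lib.Cores.pCore_normal 2 (G := H)
  rw [mem_normalizer_iff]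
  intro x
  constructor
  · rintro ⟨y, hy, rfl⟩
    exact ⟨⟨g, hg⟩ * y * ⟨g, hg⟩⁻¹, hn.conj_mem y hy _, rfl⟩
  · rintro ⟨y, hy, hyx⟩
    refine ⟨⟨g, hg⟩⁻¹ * y * ⟨g, hg⟩, ?_, ?_⟩
    · have := hn.conj_mem y hy ⟨g, hg⟩⁻¹
      rwa [inv_inv] at this
    · change g⁻¹ * (y : G) * g = x
      have h1 : (y : G) = g * x * g⁻¹ := hyx
      rw [h1]; group

/-- **the graph argument** -/
theorem inO_of_one (h : WM Om) (t : T0 (restr Om H)) (hK : Mem Om z K) (hKH : K ≤ H) (hL : Mem Om u L) (hLH : L ≤ H)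
    (hc : CP Om z u) (hs : NIL (K.subgroupOf H) ∨ ONE (restr Om H) (K.subgroupOf H))
    (o1 : InO (centralizer {u}) z) (o2 : InO (centralizer {z * u}) z) : InO H z := by
  haveI : Fact (Nat.Prime 2) := ⟨Nat.prime_two⟩
  have hzz := coe_zz h hK hKH
  have huu := coe_zz h hL hLH
  have hK' := subgroupOf_mem_restr hK.1 hKH
  have hL' := subgroupOf_mem_restr hL.1 hLH
  rcases hs with hs | hs
  · have h1 := inO_of_pCore hs
    rwa [hzz] at h1
  · obtain ⟨B, hB⟩ : ∃ B, B = Ind.SubB.BB (restr Om H) (K.subgroupOf H) := ⟨_, rfl⟩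
    have hBs : B.IsSubnormal := by rw [hB]; exact Ind.SubB.isSubnormal_BB t hK'
    have hzB : zz (K.subgroupOf H) ∈ B := by
      rw [hB]
      refine Ind.SubB.le_BB IndDefs.mem_comp_self ?_
      rw [mem_subgroupOf, hzz]
      exact hK.zmem h
    have key : ∃ v, InO (centralizer {v}) z ∧ ∀ b ∈ B, (b : G) ∈ centralizer ({v} : Set G) := by
      by_cases hm : L.subgroupOf H ∈ comp (restr Om H) (K.subgroupOf H)
      · refine ⟨z * u, o2, ?_⟩
        have hcm : Cm (K.subgroupOf H) (L.subgroupOf H) := fun a ha b hb =>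
          Subtype.ext (hc.2 K hK L hL a ha b hb)
        have h1 : B ≤ centralizer {zz (K.subgroupOf H) * zz (L.subgroupOf H)} := by
          rw [hB]
          refine sSup_le fun M hM x hx => ?_
          rw [mem_centralizer_singleton_iff]
          exact (hs _ IndDefs.mem_comp_self _ hm hcm M hM x hx).symm
        intro b hb
        have h2 := congrArg Subtype.val (mem_centralizer_singleton_iff.1 (h1 hb))
        rw [mem_centralizer_singleton_iff]
        simp only [Subgroup.coe_mul] at h2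
        rwa [hzz, huu] at h2
      · refine ⟨u, o1, fun b hb => ?_⟩
        rw [hB] at hb
        have hzL : zz (L.subgroupOf H) ∈ L.subgroupOf H := by
          rw [mem_subgroupOf, huu]
          exact hL.zmem h
        have h2 := congrArg Subtype.val (Ind.SubB.cm_BB hK' hL' hm b hb _ hzL)
        rw [mem_centralizer_singleton_iff]
        simp only [Subgroup.coe_mul] at h2
        rwa [huu] at h2
    obtain ⟨v, ⟨N, hN1, hN2, hN3, hN4⟩, hv⟩ := key
    have h1 : ((N.subgroupOf H) ⊓ B).IsSubnormal := by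
      refine Subgroup.IsSubnormal.trans (inf_le_right : (N.subgroupOf H) ⊓ B ≤ B) ?_ hBs
      refine Subgroup.Normal.isSubnormal ⟨fun x hx b => ?_⟩
      rw [mem_subgroupOf, mem_inf, mem_subgroupOf] at hx ⊢
      refine ⟨?_, mul_mem (mul_mem b.2 hx.2) (inv_mem b.2)⟩
      exact (mem_normalizer_iff.1 (hN2 (hv b b.2)) _).1 hx.1
    have h2 : IsPGroup 2 ↥((N.subgroupOf H) ⊓ B) := (hN3.comap_subtype (K := H)).to_le inf_le_left
    have h3 := SignalizersComponents.CompBasic.subnormal_pGroup_le_pCore h1 h2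
    have h4 : zz (K.subgroupOf H) ∈ pCore 2 H := h3 (mem_inf.2 ⟨by rw [mem_subgroupOf, hzz]; exact hN4, hzB⟩)
    have h5 := inO_of_pCore h4
    rwa [hzz] at h5

/-- **no THREE in `C(e)`** -/
theorem not_three (h : WM Om) (hee : e * e = 1)
    (core : ∀ v : G, v * v = 1 → v ≠ 1 → oddCore ↥(centralizer ({v} : Set G)) = ⊥)
    (bot : ∀ z, InZ Om z → EH (centralizer ({z} : Set G)) = ⊥) (h3 : ∀ K ∈ Om, ¬ IndDefs.Three K)
    {K₁ : Subgroup ↥(centralizer ({e} : Set G))} (hK₁ : K₁ ∈ restr Om (centralizer {e})) : ¬ IndDefs.Three K₁ := by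
  intro h4
  have h8 : Three.H8 Om := ⟨h.hyp, h.card⟩
  have hM : K₁.map (centralizer ({e} : Set G)).subtype ∈ Om := hK₁
  have hz : InZ Om (zz (K₁.map (centralizer ({e} : Set G)).subtype)) := ⟨_, hM, rfl⟩
  have hcore := core _ (hz.z2 h) (hz.z1 h)
  obtain ⟨c, hc, -⟩ := h8.exists_ck hee hK₁ h4 hcore
  refine h3 _ hM (h8.three hM hcore hc fun L hL => ?_)
  exact absurd hL (not_comp_of_EH (bot _ hz) L)

end Fin

/-- **`ANS` from the frame** -/
theorem ANS.of_scw [Finite G] (S : SCW G Om) (hK : K ∈ Om) (w : EW (cls K))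
    (bot : ∀ z, InZ (cls K) z → EH (centralizer ({z} : Set G)) = ⊥) : ANS (cls K) := by
  intro e z u hee he1 hz hu hc
  have h := w.h
  have hsub : cls K ⊆ Om := by
    rintro _ ⟨g, rfl⟩
    exact S.t0.hyp.conj K hK g
  obtain ⟨Kz, hKz⟩ := hz.1
  obtain ⟨Lu, hLu⟩ := hu.1
  have h1 : Kz ≤ centralizer {e} := Mem.le_cent hKz hz
  have h2 : Lu ≤ centralizer {e} := Mem.le_cent hLu hu
  have t : T0 (restr (cls K) (centralizer {e})) := by
    refine ⟨h.hyp.restr _, fun K' hK' => ?_, w.core e hee he1⟩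
    rw [← h.card _ (mem_restr.1 hK'), card_map_of_injective (centralizer ({e} : Set G)).subtype_injective]
  have hlt : Nat.card ↥(centralizer ({e} : Set G)) < Nat.card G := by
    refine lt_of_le_of_ne (Nat.le_of_dvd Nat.card_pos (card_subgroup_dvd_card _)) fun h3 => he1 ?_
    have h4 : centralizer ({e} : Set G) = ⊤ := Subgroup.eq_top_of_card_eq _ h3
    have h5 : e ∈ centralizer (generalizedFittingSubgroup G : Set G) := by
      rw [mem_centralizer_iff]
      intro y _
      have h6 : y ∈ centralizer ({e} : Set G) := by rw [h4]; exact mem_top y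
      exact mem_centralizer_singleton_iff.1 h6
    rwa [(ROne.fsimp_of S.simple S.na).cen, mem_bot] at h5
  have hK' := subgroupOf_mem_restr hKz.1 h1
  have hs : NIL (Kz.subgroupOf (centralizer {e})) ∨
      ONE (restr (cls K) (centralizer {e})) (Kz.subgroupOf (centralizer {e})) := by
    rcases S.ih _ _ hlt t _ hK' with h3 | h3 | ⟨K₁, hK₁, h3⟩
    · exact Or.inl h3
    · exact Or.inr h3
    · exact absurd h3 (not_three h hee w.core bot (fun M hM => S.three M (hsub hM)) (comp_sub hK' hK₁))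
  obtain ⟨S', h3, h4⟩ := exists_sylow_of_cp h hz.1 hu.1 hc
  have h5 : z * u ∈ TT (cls K) (S' : Subgroup G) := mul_mem (CS.mem_TT h3) (CS.mem_TT h4)
  have h6 : z * u ≠ 1 := by
    intro h7
    have h8 := eq_inv_of_mul_eq_one_left h7
    rw [hu.1.inv h] at h8
    exact hc.1 h8
  have o1 : InO (centralizer {u}) z :=
    (w.ant S' u (CS.mem_TT h4) (hu.1.z1 h)).inO (CS_subset_ZS h S'.isPGroup' (CS.mem_TT h4) h3)
  have o2 : InO (centralizer {z * u}) z := (w.ant S' _ h5 h6).inO (CS_subset_ZS h S'.isPGroup' h5 h3)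
  exact inO_of_one h t hKz h1 hLu h2 hc hs o1 o2

/-- **`ANS` from the frame and (R0), (R1a)** -/
theorem ANS.of_r0 [Finite G] (S : SCW G Om) (hK : K ∈ Om) (w : EW (cls K)) (r0 : RZero (cls K)) (r1 : ROneA (cls K))
    (h1173 : OneF.H1173 G) : ANS (cls K) :=
  ANS.of_scw S hK w fun _ hz => w.bot r0 r1 (ROne.fsimp_of S.simple S.na) h1173 hz

end Cfsg.Agent.Cit.Nil.RTwoM
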