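import Cfsg.Agent.Cit.Nil.RTwoM.U.UMain
import Cfsg.Agent.Cit.Nil.RTwoM.ANSOf
import Cfsg.Agent.Cit.Nil.RTwoM.Leaf
import Cfsg.Agent.Cit.Nil.SCK

/-!
# S1309, node n7 (`r = 2`, `m ≥ 2`, (C3), NIL): the end

* `EW.of_sck` : the world `EW` of THEOREM E from `SCK`, `ANT`;
* **`n7`** : `SCK G K`, `r = 2`, `ANT` is impossible.
-/

set_option autoImplicit false
set_option linter.style.haveILetI false
set_option linter.unusedSectionVars false

namespace Cfsg.Agent.Cit.Nil.RTwoM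

open Subgroup Cfsg Cfsg.Agent.Cit Cfsg.Agent.Cit.Nil.IndDefs Cfsg.Agent.Cit.Nil.SCMain
open RG (WR CP Ov InO)
open RI (CS)

universe u

variable {G : Type u} [Group G] [Finite G] {K : Subgroup G}

/-- two different elements in every `C_S` -/
theorem exists_two_of_cp {Om : Set (Subgroup G)} {z u : G} (h : WM Om) (hz : InZ Om z) (hu : InZ Om u)
    (hc : CP Om z u) (S : Sylow 2 G) :
    ∃ z u, z ∈ CS Om (S : Subgroup G) ∧ u ∈ CS Om (S : Subgroup G) ∧ z ≠ u := by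
  obtain ⟨P, hzP, huP⟩ := exists_sylow_of_cp h hz hu hc
  obtain ⟨g, hg⟩ := sylow_cj P S
  refine ⟨g * z * g⁻¹, g * u * g⁻¹, ?_, ?_, fun h1 => hc.1 (mul_left_cancel (mul_right_cancel h1))⟩
  · rw [hg]; exact cj_CS h g hzP
  · rw [hg]; exact cj_CS h g huP

/-- the leaf world from `SCK` -/
theorem LW.of_sck (w : SCK G K) (h2 : (AssemblyNil.ovr K).ncard = 2) : LW G K :=
  LW.of_scw w.scw (self_mem_cls K) h2 w.c3

/-- every element of `Z` has a C-partner -/
theorem exists_cp_of_sck (w : SCK G K) (h2 : (AssemblyNil.ovr K).ncard = 2) :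
    ∀ z, InZ (cls K) z → ∃ u, InZ (cls K) u ∧ CP (cls K) z u := by
  have l := LW.of_sck w h2
  have h := l.wm
  obtain ⟨K₁, h1, K₂, h2', hc, hne⟩ := w.two
  have hz1 : Mem (cls K) (zz K₁) K₁ := ⟨h1, rfl⟩
  have hz2 : Mem (cls K) (zz K₂) K₂ := ⟨h2', rfl⟩
  have hcp : CP (cls K) (zz K₁) (zz K₂) :=
    cp_of_cen h hz1 hz2.inZ hne fun k hk => (hc k hk _ (hz2.zmem h)).symm
  intro z hz
  obtain ⟨g, hg⟩ := l.oneCl _ _ hz1.inZ hz
  refine ⟨g * zz K₂ * g⁻¹, InZ.conj hz2.inZ h g, ?_⟩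
  rw [← hg]
  exact cp_conj h hcp g

theorem oddCore_cent_of_free (w : SCK G K) {v : G} (hv : v * v = 1) (hv1 : v ≠ 1) :
    oddCore ↥(centralizer ({v} : Set G)) = ⊥ := by
  have h1 : (oddCore ↥(centralizer ({v} : Set G))).map (centralizer ({v} : Set G)).subtype = ⊥ := w.OO_eq_bot hv hv1
  exact (map_eq_bot_iff_of_injective _ (subtype_injective _)).1 h1

theorem EW.of_sck (w : SCK G K) (h2 : (AssemblyNil.ovr K).ncard = 2) (l0 : L0 (cls K)) (ant : ANT (cls K)) :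
    EW (cls K) where
  h := (LW.of_sck w h2).wm
  oc := (LW.of_sck w h2).oneCl
  ant := ant
  l0 := l0
  cp := exists_cp_of_sck w h2
  core := fun _ hv hv1 => oddCore_cent_of_free w hv hv1

/-- **node n7**: `r = 2`, (C3), NIL -/
theorem n7 (i : RFour.LIn.{u}) (w : SCK G K) (h2 : (AssemblyNil.ovr K).ncard = 2) (ant : ANT (cls K)) : False := by
  have l := LW.of_sck w h2
  have h := l.wm
  have f := w.fsimp
  haveI := f.sim
  have gold : Cit.ROne.Gold ↥(generalizedFittingSubgroup G) := fun S A h1 h2 h3 => i.gold _ S A h1 h2 h3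
  have hB : CloEnd.Bend ↥(generalizedFittingSubgroup G) := i.bend _
  have l0 : L0 (cls K) := l.l0 gold ant
  have cp := exists_cp_of_sck w h2
  obtain ⟨u, hu, hc⟩ := cp _ l.inZ
  have two := exists_two_of_cp h l.inZ hu hc
  have as : ANS (cls K) := ANS.of_r0 w.scw (self_mem_cls K) (EW.of_sck w h2 l0 ant)
    (RZero.of h l0 ant two) (ROneA.of h l0 ant) (i.h1173 G w.oddCore_eq_bot)
  exact l.false_of_star gold hB ant
    (starC_of_l0 h l0 ant as l.oneCl (C3R.of_c3 h w.c3) l.inZ hu hc)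

end Cfsg.Agent.Cit.Nil.RTwoM
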