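import Cfsg.Agent.Cit.Nil.RTwoM.AN.QuoZ
import Cfsg.Agent.Cit.Nil.RTwoM.NSeven
import Cfsg.Agent.Cit.Nil.ROne.NodeOne

/-!
# S1309, the node `r = 2` of the simple case

* `CompR.trich` for the world `SCK G K`, `r = 2`: NIL, FRAMES (the product situation) or `AllOne`;
* `false_of_nil` : NIL is impossible (`ANT.of_ind`, `n7`);
* `FrTwoStmt`, `AOTwoStmt` : the two other branches;
* **`node2_of`** : `SCMain.Node 2` from the two branches.
-/

set_option autoImplicit false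
set_option linter.style.haveILetI false
set_option linter.unusedSectionVars false

namespace Cfsg.Agent.Cit.Nil.NodeTwo

open Subgroup Cfsg Cfsg.Agent.Cit Cfsg.Agent.Cit.Nil.IndDefs Cfsg.Agent.Cit.Nil.SCMain Cfsg.Agent.Cit.Nil.RTwoM
open RG (WR CP RR)
open RI (CS)

universe u

/-- the branch FRAMES -/
def FrTwoStmt : Prop := ∀ (G : Type u) [Group G] [Finite G] (K : Subgroup G), SCK G K →
  (AssemblyNil.ovr K).ncard = 2 → CompR.TP (RG.ZZ (cls K)) (RR (cls K)) → ROne.NoThree (cls K) →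
  (∀ z ∈ RG.ZZ (cls K), ∃ F, CompR.Frm (RG.ZZ (cls K)) (RR (cls K)) F ∧ ∃ A ∈ F, z ∈ A) → False

/-- the branch `AllOne` -/
def AOTwoStmt : Prop := ∀ (G : Type u) [Group G] [Finite G] (K : Subgroup G), SCK G K →
  (AssemblyNil.ovr K).ncard = 2 → CompR.TP (RG.ZZ (cls K)) (RR (cls K)) → ROne.NoThree (cls K) →
  CompR.AllOne (RG.ZZ (cls K)) (RR (cls K)) → False

section

variable {G : Type u} [Group G] [Finite G] {K : Subgroup G}

/-- the points form one class -/
theorem oneCls (w : SCK G K) : ROne.OneCls (RG.ZZ (cls K)) := by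
  rintro _ ⟨L, ⟨g, rfl⟩, rfl⟩ _ ⟨M, ⟨g', rfl⟩, rfl⟩
  refine ⟨g' * g⁻¹, ?_⟩
  rw [w.hyp.zz_cj (self_mem_cls K), w.hyp.zz_cj (self_mem_cls K)]
  group

/-- `T'` -/
theorem tp_of_sck (w : SCK G K) (n3 : ROne.NoThree (cls K)) : CompR.TP (RG.ZZ (cls K)) (RR (cls K)) := by
  intro S s hs hs1
  have hss := (CompR.GW.of_wr w.wr w.hyp).TT_sq S.isPGroup' hs
  have h2 : orderOf s = 2 := orderOf_eq_prime (by rw [pow_two]; exact hss) hs1
  have hc : Cfsg.pPrimeCore 2 ↥(centralizer {s}) = ⊥ := by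
    have h3 := w.free s h2
    unfold centralizerPPrimeCore at h3
    exact (Subgroup.map_eq_bot_iff_of_injective _ (Subgroup.subtype_injective _)).1 h3
  have hs' : s ∈ closure {z : G | ∃ M ∈ cls K, M ≤ (S : Subgroup G) ∧ zz M = z} := by
    refine closure_mono ?_ hs
    rintro z ⟨⟨M, hM, rfl⟩, hz⟩
    exact ⟨M, hM, (RG.WR.le_RR ⟨hM, rfl⟩).trans hz, rfl⟩
  exact (CompR.tpm_of_ih w.scw hs1 hc (n3 S S.isPGroup' s hs' hs1)).tps w.wr w.hyp

/-- two points in every `C_S` -/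
theorem two_le (w : SCK G K) (h2 : (AssemblyNil.ovr K).ncard = 2) (S : Sylow 2 G) :
    2 ≤ (CS (cls K) (S : Subgroup G)).ncard := by
  have l := LW.of_sck w h2
  obtain ⟨u, hu, hc⟩ := exists_cp_of_sck w h2 _ l.inZ
  obtain ⟨a, b, ha, hb, hab⟩ := exists_two_of_cp l.wm l.inZ hu hc S
  exact (Set.one_lt_ncard (Set.toFinite _)).2 ⟨a, ha, b, hb, hab⟩

/-- **NIL is impossible** -/
theorem false_of_nil (i : RFour.LIn.{u}) (hev : ∀ (G : Type u) [Group G] [Finite G], Comp.EvQ G) (w : SCK G K)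
    (h2 : (AssemblyNil.ovr K).ncard = 2) (tp : CompR.TP (RG.ZZ (cls K)) (RR (cls K))) (hn : NilG (cls K)) : False := by
  have l := LW.of_sck w h2
  have h := l.wm
  have f := w.fsimp
  haveI := f.sim
  have gold : Cit.ROne.Gold ↥(generalizedFittingSubgroup G) := fun S A h1 h2 h3 => i.gold _ S A h1 h2 h3
  have hB : CloEnd.Bend ↥(generalizedFittingSubgroup G) := i.bend _
  exact n7 i w h2 (ANT.of_ind h (oneCls_cls K) (C3E.of_c3 h w.c3) hn tp
    (fun v hv hv1 => oddCore_cent_of_free w hv hv1) (two_le w h2) f w.even gold hB hev i)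

end

/-- **the node `r = 2`** -/
theorem node2_of (i : RFour.LIn.{u}) (hev : ∀ (G : Type u) [Group G] [Finite G], Comp.EvQ G)
    (n3 : ∀ (G : Type u) [Group G] [Finite G] (K : Subgroup G), SCK G K → ROne.NoThree (cls K))
    (fr : FrTwoStmt.{u}) (ao : AOTwoStmt.{u}) : SCMain.Node.{u} 2 := by
  intro G _ _ K w h2
  have hw := CompR.GW.of_wr w.wr w.hyp
  have h3 := n3 G K w
  have tp := tp_of_sck w h3
  rcases CompR.trich hw (oneCls w) tp with h4 | h4 | h4
  · exact false_of_nil i hev w h2 tp h4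
  · exact fr G K w h2 tp h3 h4
  · exact ao G K w h2 tp h3 h4

end Cfsg.Agent.Cit.Nil.NodeTwo
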