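import Cfsg.Agent.Cit.Nil.RTwo.QLem

/-!
# S1309, (6b), (C3), `r = 2`, any `m`: the setting (from `RTwo/Def.lean` (`m = 1`) and `RI/Def.lean` (`r = 4`))

* `WM Om` : members are quaternion of order 8, exactly two over each `z`;
* `Mem Om z K` : `K` is a member over `z`; `InZ Om z`;
* `Inn Om z g` : `g` acts trivially on `K/⟨z⟩` for the two members `K` over `z` (`⟺ g ∈ R_z X_z`);
* `CX Om z = X_z`, `RZ Om z = R_z`;
* `InZ.comm_of_cent` : `t ∈ Z` centralising a member over `z ≠ t`: `(z, t)` is a C-pair; `InZ.cent_all`;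
* `WM.inn_of_one`, `WM.inn_both` : trichotomy; `TI Om z t` : type I.
-/

set_option autoImplicit false
set_option linter.unusedSectionVars false

namespace Cfsg.Agent.Cit.Nil.RTwoM

open Subgroup Cfsg Cfsg.Agent.Cit

open RTwo (Q3 Act i11 i12 i21 i22 i_ne1 i_ne2 i_ne12 i_cases i_cases3)

variable {G : Type*} [Group G]

/-- the world `r = 2`, any `m` -/
structure WM (Om : Set (Subgroup G)) : Prop where
  hyp : Hyp Om
  card : ∀ K ∈ Om, Nat.card K = 8
  two : ∀ K ∈ Om, ∃ L ∈ Om, L ≠ K ∧ zz L = zz K ∧ ∀ M ∈ Om, zz M = zz K → M = K ∨ M = L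

/-- `K` is a member over `z` -/
def Mem (Om : Set (Subgroup G)) (z : G) (K : Subgroup G) : Prop := K ∈ Om ∧ zz K = z

/-- `z ∈ Z` -/
def InZ (Om : Set (Subgroup G)) (z : G) : Prop := ∃ K, Mem Om z K

/-- `g` acts on the members over `z` as an inner automorphism -/
def Inn (Om : Set (Subgroup G)) (z g : G) : Prop :=
  ∀ K, Mem Om z K → ∀ k ∈ K, g * k * g⁻¹ = k ∨ g * k * g⁻¹ = z * k

/-- `X_z` -/
def CX (Om : Set (Subgroup G)) (z : G) : Subgroup G := centralizer {k | ∃ K, Mem Om z K ∧ k ∈ K}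

/-- `R_z` -/
def RZ (Om : Set (Subgroup G)) (z : G) : Subgroup G := sSup {K | Mem Om z K}

variable {Om : Set (Subgroup G)} {K L M : Subgroup G} {g g' t x y z : G}

theorem mem_CX : g ∈ CX Om z ↔ ∀ K, Mem Om z K → ∀ k ∈ K, g * k = k * g := by
  rw [CX, mem_centralizer_iff]
  constructor
  · intro h K hK k hk
    exact (h k ⟨K, hK, hk⟩).symm
  · rintro h k ⟨K, hK, hk⟩
    exact (h K hK k hk).symm

theorem Mem.inZ (h : Mem Om z K) : InZ Om z := ⟨K, h⟩

theorem Mem.le_RZ (h : Mem Om z K) : K ≤ RZ Om z := le_sSup h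

theorem RZ_le (h : ∀ K, Mem Om z K → K ≤ M) : RZ Om z ≤ M := sSup_le fun K hK => h K hK

section Fin

variable [Finite G]

theorem WM.isPGroup (h : WM Om) (hK : K ∈ Om) : IsPGroup 2 K := by
  refine IsPGroup.of_card (n := 3) ?_
  rw [h.card K hK]; norm_num

/-- coordinates of a member -/
theorem WM.exists_q3 (h : WM Om) (hK : Mem Om z K) : ∃ x, Q3 K z x := by
  obtain ⟨hK, rfl⟩ := hK
  obtain ⟨c, v, n, hgq⟩ := h.hyp.exists_gq hK (syl_self (h.isPGroup hK))
  have hn : n = 0 := by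
    have h1 := hgq.card
    rw [h.card K hK] at h1
    have h2 : (2 : ℕ) ^ 3 = 2 ^ (n + 3) := by rw [← h1]; norm_num
    have h3 := Nat.pow_right_injective (le_refl 2) h2
    omega
  subst hn
  have hcc : c * c = zz K := by
    have h1 := hgq.w_sq
    rwa [pow_zero, pow_one] at h1
  have hvv : v * v = zz K := hgq.v_sq
  have hz2 : zz K * zz K = 1 := hgq.z_mul
  have hzc : zz K * c = c * zz K := by rw [← hcc, mul_assoc]
  have hzv : zz K * v = v * zz K := by rw [← hvv, mul_assoc]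
  have hci : c⁻¹ = zz K * c := by
    apply inv_eq_of_mul_eq_one_right
    rw [hzc, ← mul_assoc, hcc, hz2]
  have hvc : v * c = zz K * (c * v) := by
    have h1 := hgq.conj_pow 1
    rw [pow_one] at h1
    rw [h1, hci, mul_assoc]
  have hcvc : c * v * c = v := by
    rw [mul_assoc, hvc]
    calc c * (zz K * (c * v)) = (c * zz K) * (c * v) := by group
      _ = (zz K * c) * (c * v) := by rw [hzc]
      _ = zz K * (c * c) * v := by group
      _ = v := by rw [hcc, hz2, one_mul]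
  have hvcv : v * (c * v) = c := by
    calc v * (c * v) = (v * c) * v := by group
      _ = zz K * (c * v) * v := by rw [hvc]
      _ = zz K * (c * (v * v)) := by group
      _ = zz K * (c * zz K) := by rw [hvv]
      _ = zz K * (zz K * c) := by rw [hzc]
      _ = c := by rw [← mul_assoc, hz2, one_mul]
  -- powers of `c`
  have hpow : ∀ i : ℤ, c ^ i = 1 ∨ c ^ i = c ∨ c ^ i = zz K ∨ c ^ i = zz K * c := by
    intro i
    have h4 : c ^ (4 : ℤ) = 1 := by
      have : c ^ (4 : ℤ) = (c * c) * (c * c) := by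
        rw [show (4 : ℤ) = ((4 : ℕ) : ℤ) from rfl, zpow_natCast]
        simp only [pow_succ, pow_zero, one_mul, mul_assoc]
      rw [this, hcc, hz2]
    have h5 : c ^ i = c ^ (i % 4) := by
      conv_lhs => rw [← Int.emod_add_mul_ediv i 4, zpow_add, zpow_mul, h4, one_zpow, mul_one]
    have h6 : i % 4 = 0 ∨ i % 4 = 1 ∨ i % 4 = 2 ∨ i % 4 = 3 := by omega
    rw [h5]
    rcases h6 with h6 | h6 | h6 | h6 <;> rw [h6]
    · left; exact zpow_zero c
    · right; left; exact zpow_one c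
    · right; right; left
      have : c ^ (2 : ℤ) = c * c := by
        rw [show (2 : ℤ) = ((2 : ℕ) : ℤ) from rfl, zpow_natCast, pow_two]
      rw [this, hcc]
    · right; right; right
      have : c ^ (3 : ℤ) = (c * c) * c := by
        rw [show (3 : ℤ) = ((3 : ℕ) : ℤ) from rfl, zpow_natCast]
        simp only [pow_succ, pow_zero, one_mul]
      rw [this, hcc]
  refine ⟨![c, v, c * v], ?_, ?_, ?_, hz2, hgq.z_ne, ?_⟩
  · intro m
    fin_cases m
    · exact hgq.c_mem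
    · exact hgq.v_mem
    · exact mul_mem hgq.c_mem hgq.v_mem
  · intro m
    fin_cases m
    · exact hcc
    · exact hvv
    · show c * v * (c * v) = zz K
      rw [← mul_assoc, hcvc, hvv]
  · intro m
    fin_cases m
    · rfl
    · exact hvcv
    · exact hcvc
  · intro k hk
    rcases hgq.covZ hk with h1 | ⟨i, h1⟩
    · obtain ⟨i, hi⟩ := mem_zpowers_iff.1 h1
      rcases hpow i with h2 | h2 | h2 | h2
      · left; rw [← hi, h2]
      · right; right; exact ⟨0, Or.inl (by rw [← hi, h2]; rfl)⟩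
      · right; left; rw [← hi, h2]
      · right; right; exact ⟨0, Or.inr (by rw [← hi, h2]; rfl)⟩
    · rcases hpow i with h2 | h2 | h2 | h2
      · right; right; exact ⟨1, Or.inl (by rw [h1, h2, mul_one]; rfl)⟩
      · right; right; exact ⟨2, Or.inr (by rw [h1, h2, hvc]; rfl)⟩
      · right; right; exact ⟨1, Or.inr (by rw [h1, h2, ← hzv]; rfl)⟩
      · right; right
        refine ⟨2, Or.inl ?_⟩
        rw [h1, h2]
        show v * (zz K * c) = c * v
        calc v * (zz K * c) = (v * zz K) * c := by group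
          _ = (zz K * v) * c := by rw [hzv]
          _ = zz K * (v * c) := by group
          _ = c * v := by rw [hvc, ← mul_assoc, hz2, one_mul]

theorem InZ.exists_q3 (hz : InZ Om z) (h : WM Om) : ∃ K x, Mem Om z K ∧ Q3 K z x := by
  obtain ⟨K, hK⟩ := hz
  obtain ⟨x, hx⟩ := h.exists_q3 hK
  exact ⟨K, x, hK, hx⟩

theorem InZ.z2 (hz : InZ Om z) (h : WM Om) : z * z = 1 := by
  obtain ⟨K, x, -, hx⟩ := hz.exists_q3 h; exact hx.z2

theorem InZ.z1 (hz : InZ Om z) (h : WM Om) : z ≠ 1 := by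
  obtain ⟨K, x, -, hx⟩ := hz.exists_q3 h; exact hx.z1

theorem InZ.inv (hz : InZ Om z) (h : WM Om) : z⁻¹ = z := inv_eq_of_mul_eq_one_right (hz.z2 h)

theorem InZ.orderOf (hz : InZ Om z) (h : WM Om) : orderOf z = 2 :=
  orderOf_eq_prime (by rw [pow_two]; exact hz.z2 h) (hz.z1 h)

theorem Mem.zmem (hK : Mem Om z K) (h : WM Om) : z ∈ K := by
  obtain ⟨hK, rfl⟩ := hK; exact h.hyp.zz_mem hK

theorem Mem.comm_z (hK : Mem Om z K) (h : WM Om) {k : G} (hk : k ∈ K) : k * z = z * k := by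
  obtain ⟨hK, rfl⟩ := hK
  exact h.hyp.comm_zz hK (le_normalizer hk)

theorem Mem.cj (hK : Mem Om z K) (h : WM Om) (g : G) : Mem Om (g * z * g⁻¹) (Cit.cj g K) := by
  obtain ⟨hK, rfl⟩ := hK
  exact ⟨h.hyp.conj K hK g, h.hyp.zz_cj hK g⟩

theorem Mem.cj_comm (hK : Mem Om z K) (h : WM Om) (hg : g * z = z * g) : Mem Om z (Cit.cj g K) := by
  have := hK.cj h g
  rwa [hg, mul_inv_cancel_right] at this

theorem Mem.of_cj (hK : Mem Om z K) (h : WM Om) (hg : Cit.cj g K = K) : g * z = z * g := by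
  have h1 := hK.cj h g
  rw [hg] at h1
  have h2 : g * z * g⁻¹ = z := h1.2.symm.trans hK.2
  rw [← mul_inv_eq_iff_eq_mul, h2]

theorem InZ.conj (hz : InZ Om z) (h : WM Om) (g : G) : InZ Om (g * z * g⁻¹) := by
  obtain ⟨K, hK⟩ := hz; exact ⟨_, hK.cj h g⟩

theorem Mem.comm (hK : Mem Om z K) (hL : Mem Om z L) (h : WM Om) (hne : K ≠ L) {k l : G} (hk : k ∈ K)
    (hl : l ∈ L) : k * l = l * k := by
  rcases h.hyp.h2 K hK.1 L hL.1 (hK.2.trans hL.2.symm) with h1 | h1
  · exact absurd h1 hne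
  rw [OO_eq_bot_of_two (h.isPGroup hK.1), bot_inf_eq, le_bot_iff, Subgroup.commutator_eq_bot_iff_le_centralizer] at h1
  exact (mem_centralizer_iff.1 (h1 hk) l hl).symm

theorem Mem.other (hK : Mem Om z K) (h : WM Om) :
    ∃ L, Mem Om z L ∧ K ≠ L ∧ ∀ M, Mem Om z M → M = K ∨ M = L := by
  obtain ⟨L, hL, hne, hz, hall⟩ := h.two K hK.1
  exact ⟨L, ⟨hL, hz.trans hK.2⟩, hne.symm, fun M hM => hall M hM.1 (hM.2.trans hK.2.symm)⟩

theorem Mem.cases (hK : Mem Om z K) (hL : Mem Om z L) (h : WM Om) (hne : K ≠ L) (hM : Mem Om z M) :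
    M = K ∨ M = L := by
  obtain ⟨L', hL', hne', hall⟩ := hK.other h
  have h1 : L = L' := by
    rcases hall L hL with h1 | h1
    · exact absurd h1.symm hne
    · exact h1
  rw [h1]; exact hall M hM

theorem Mem.inf (hK : Mem Om z K) (hL : Mem Om z L) (h : WM Om) (hne : K ≠ L) {k : G} (hk : k ∈ K)
    (hl : k ∈ L) : k = 1 ∨ k = z := by
  obtain ⟨x, hx⟩ := h.exists_q3 hK
  exact hx.cent hk (i_ne1 0) (hK.comm hL h hne (hx.mem _) hl).symm (hK.comm hL h hne (hx.mem _) hl).symm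

/-! ### `R_z` and `X_z` -/

theorem mem_RZ (hK : Mem Om z K) (hL : Mem Om z L) (h : WM Om) (hne : K ≠ L) {r : G} :
    r ∈ RZ Om z ↔ ∃ k ∈ K, ∃ l ∈ L, k * l = r := by
  have h1 : RZ Om z = K ⊔ L := by
    refine le_antisymm (RZ_le fun M hM => ?_) (sup_le hK.le_RZ hL.le_RZ)
    rcases hK.cases hL h hne hM with rfl | rfl
    · exact le_sup_left
    · exact le_sup_right
  rw [h1]
  constructor
  · intro hr
    have hn : L ≤ normalizer (K : Set G) := by
      intro l hl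
      rw [mem_normalizer_iff]
      intro k
      constructor
      · intro hk
        rw [← hK.comm hL h hne hk hl, mul_inv_cancel_right]; exact hk
      · intro hk
        have h2 := hK.comm hL h hne hk (L.inv_mem hl)
        have h3 : k = l⁻¹ * (l * k * l⁻¹) * l := by group
        rw [h3, ← h2, inv_mul_cancel_right]; exact hk
    obtain ⟨a, ha, b, hb, hab⟩ := LB.exists_mul_of_mem_sup hn hr
    exact ⟨a, ha, b, hb, hab.symm⟩
  · rintro ⟨k, hk, l, hl, rfl⟩
    exact mul_mem (mem_sup_left hk) (mem_sup_right hl)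

theorem z_mem_RZ (hz : InZ Om z) (h : WM Om) : z ∈ RZ Om z := by
  obtain ⟨K, hK⟩ := hz; exact hK.le_RZ (hK.zmem h)

theorem z_mem_CX (h : WM Om) : z ∈ CX Om z := by
  rw [mem_CX]
  intro K hK k hk
  exact (hK.comm_z h hk).symm

theorem CX_comm (hr : t ∈ RZ Om z) (hx : x ∈ CX Om z) : x * t = t * x := by
  have h1 : RZ Om z ≤ centralizer {x} := by
    refine RZ_le fun K hK k hk => ?_
    rw [mem_centralizer_singleton_iff]
    exact (mem_CX.1 hx K hK k hk).symm
  exact (mem_centralizer_singleton_iff.1 (h1 hr)).symm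

theorem CX_le (hz : InZ Om z) (h : WM Om) (hx : x ∈ CX Om z) : x * z = z * x := by
  exact CX_comm (z_mem_RZ hz h) hx

theorem RZ_le_centralizer (h : WM Om) (hx : x ∈ RZ Om z) : x * z = z * x := by
  have h1 : RZ Om z ≤ centralizer {z} := by
    refine RZ_le fun K hK k hk => ?_
    rw [mem_centralizer_singleton_iff]
    exact hK.comm_z h hk
  exact mem_centralizer_singleton_iff.1 (h1 hx)

theorem CX_conj (h : WM Om) (g : G) : g * x * g⁻¹ ∈ CX Om (g * z * g⁻¹) ↔ x ∈ CX Om z := by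
  have key : ∀ (g x z : G), x ∈ CX Om z → g * x * g⁻¹ ∈ CX Om (g * z * g⁻¹) := by
    intro g x z hx
    rw [mem_CX] at hx ⊢
    intro K hK k hk
    have h1 := hK.cj h g⁻¹
    have h2 : g⁻¹ * (g * z * g⁻¹) * g⁻¹⁻¹ = z := by group
    rw [h2] at h1
    have h3 := hx _ h1 _ (conj_mem_cj (g := g⁻¹) hk)
    calc g * x * g⁻¹ * k = g * (x * (g⁻¹ * k * g⁻¹⁻¹)) * g⁻¹ := by group
      _ = g * (g⁻¹ * k * g⁻¹⁻¹ * x) * g⁻¹ := by rw [h3]
      _ = _ := by group
  refine ⟨fun hx => ?_, key g x z⟩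
  have := key g⁻¹ _ _ hx
  have h1 : g⁻¹ * (g * x * g⁻¹) * g⁻¹⁻¹ = x := by group
  have h2 : g⁻¹ * (g * z * g⁻¹) * g⁻¹⁻¹ = z := by group
  rwa [h1, h2] at this

theorem CX_conj_comm (h : WM Om) (hg : g * z = z * g) (hx : x ∈ CX Om z) : g * x * g⁻¹ ∈ CX Om z := by
  have := (CX_conj h g).2 hx
  rwa [hg, mul_inv_cancel_right] at this

theorem RZ_conj (h : WM Om) (g : G) (hx : x ∈ RZ Om z) : g * x * g⁻¹ ∈ RZ Om (g * z * g⁻¹) := by
  have h1 : RZ Om z ≤ (RZ Om (g * z * g⁻¹)).comap (MulAut.conj g).toMonoidHom := by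
    refine RZ_le fun K hK k hk => ?_
    exact (hK.cj h g).le_RZ (conj_mem_cj hk)
  exact h1 hx

theorem RZ_conj_comm (h : WM Om) (hg : g * z = z * g) (hx : x ∈ RZ Om z) : g * x * g⁻¹ ∈ RZ Om z := by
  have := RZ_conj h g hx
  rwa [hg, mul_inv_cancel_right] at this

/-! ### `Inn` -/

theorem Inn.comm_z (hi : Inn Om z g) (hz : InZ Om z) (h : WM Om) : g * z = z * g := by
  obtain ⟨K, hK⟩ := hz
  rcases hi K hK z (hK.zmem h) with h1 | h1
  · rw [← mul_inv_eq_iff_eq_mul, h1]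
  · rw [hK.inZ.z2 h, mul_inv_eq_one] at h1
    exact absurd (mul_eq_left.1 h1) (hK.inZ.z1 h)

theorem Inn.one : Inn Om z (1 : G) := fun _ _ _ _ => Or.inl (by group)

theorem Inn.mul (hg : Inn Om z g) (hg' : Inn Om z g') (hz : InZ Om z) (h : WM Om) : Inn Om z (g * g') := by
  intro K hK k hk
  have hgz := hg.comm_z hz h
  have h1 : g * g' * k * (g * g')⁻¹ = g * (g' * k * g'⁻¹) * g⁻¹ := by group
  have h2 : g * (z * k) * g⁻¹ = z * (g * k * g⁻¹) := by
    calc g * (z * k) * g⁻¹ = (g * z) * k * g⁻¹ := by group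
      _ = (z * g) * k * g⁻¹ := by rw [hgz]
      _ = _ := by group
  rw [h1]
  rcases hg' K hK k hk with h3 | h3
  · rw [h3]; exact hg K hK k hk
  · rw [h3, h2]
    rcases hg K hK k hk with h4 | h4
    · right; rw [h4]
    · left; rw [h4, ← mul_assoc, hz.z2 h, one_mul]

theorem Inn.inv (hg : Inn Om z g) (hz : InZ Om z) (h : WM Om) : Inn Om z g⁻¹ := by
  intro K hK k hk
  have hgz := hg.comm_z hz h
  rcases hg K hK k hk with h1 | h1
  · left
    conv_lhs => rw [← h1]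
    group
  · right
    have h2 : k = z * (g * k * g⁻¹) := by rw [h1, ← mul_assoc, hz.z2 h, one_mul]
    calc g⁻¹ * k * g⁻¹⁻¹ = g⁻¹ * (z * (g * k * g⁻¹)) * g⁻¹⁻¹ := by rw [← h2]
      _ = g⁻¹ * (z * g) * k := by group
      _ = g⁻¹ * (g * z) * k := by rw [hgz]
      _ = _ := by group

theorem Inn.mul_left (hg : Inn Om z g) (hgg : Inn Om z (g * g')) (hz : InZ Om z) (h : WM Om) : Inn Om z g' := by
  have := (hg.inv hz h).mul hgg hz h
  rwa [inv_mul_cancel_left] at this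

theorem Inn.mul_right (hg : Inn Om z g') (hgg : Inn Om z (g * g')) (hz : InZ Om z) (h : WM Om) : Inn Om z g := by
  have := hgg.mul (hg.inv hz h) hz h
  rwa [mul_inv_cancel_right] at this

theorem Inn.of_CX (hx : x ∈ CX Om z) : Inn Om z x := by
  intro K hK k hk
  left
  rw [mem_CX.1 hx K hK k hk, mul_inv_cancel_right]

theorem Inn.of_mem (hL : Mem Om z L) (h : WM Om) (hg : g ∈ L) : Inn Om z g := by
  intro K hK k hk
  by_cases hne : K = L
  · subst hne
    obtain ⟨x, hx⟩ := h.exists_q3 hK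
    have hz : z ∈ K := hK.zmem h
    rcases hx.cov g hg with rfl | rfl | ⟨i, hi⟩
    · left; group
    · left; rw [← hK.comm_z h hk, mul_inv_cancel_right]
    · have h1 : g * k * g⁻¹ = x i * k * (x i)⁻¹ := by
        rcases hi with rfl | rfl
        · rfl
        · have h2 : (z * x i * k * (z * x i)⁻¹) = z * (x i * k * (x i)⁻¹) * z⁻¹ := by group
          rw [h2, ← hK.comm_z h (mul_mem (mul_mem (hx.mem i) hk) (inv_mem (hx.mem i))), mul_inv_cancel_right]
      rw [h1]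
      rcases hx.cov k hk with rfl | rfl | ⟨j, hj⟩
      · left; group
      · left; rw [← hx.zc, mul_inv_cancel_right]
      · have h3 : x i * x j * (x i)⁻¹ = x j ∨ x i * x j * (x i)⁻¹ = z * x j := by
          by_cases hij : i = j
          · subst hij; left; exact Q3.conj_self i
          · right; exact hx.conj_ne hij
        rcases hj with rfl | rfl
        · exact h3
        · have h4 : x i * (z * x j) * (x i)⁻¹ = z * (x i * x j * (x i)⁻¹) := by
            calc x i * (z * x j) * (x i)⁻¹ = (x i * z) * x j * (x i)⁻¹ := by group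
              _ = (z * x i) * x j * (x i)⁻¹ := by rw [hx.zc]
              _ = _ := by group
          rw [h4]
          rcases h3 with h3 | h3
          · left; rw [h3]
          · right; rw [h3]
  · left
    rw [← hK.comm hL h hne hk hg, mul_inv_cancel_right]

theorem Inn.of_RZ (hz : InZ Om z) (h : WM Om) (hr : g ∈ RZ Om z) : Inn Om z g := by
  obtain ⟨K, hK⟩ := hz
  obtain ⟨L, hL, hne, -⟩ := hK.other h
  obtain ⟨k, hk, l, hl, rfl⟩ := (mem_RZ hK hL h hne).1 hr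
  exact (Inn.of_mem hK h hk).mul (Inn.of_mem hL h hl) hK.inZ h

theorem Inn.conj (hi : Inn Om z x) (h : WM Om) (g : G) : Inn Om (g * z * g⁻¹) (g * x * g⁻¹) := by
  intro K hK k hk
  have h1 := hK.cj h g⁻¹
  have h2 : g⁻¹ * (g * z * g⁻¹) * g⁻¹⁻¹ = z := by group
  rw [h2] at h1
  have h3 : g * x * g⁻¹ * k * (g * x * g⁻¹)⁻¹ = g * (x * (g⁻¹ * k * g⁻¹⁻¹) * x⁻¹) * g⁻¹ := by group
  rcases hi _ h1 _ (conj_mem_cj (g := g⁻¹) hk) with h4 | h4
  · left; rw [h3, h4]; group
  · right; rw [h3, h4]; group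

theorem Inn.conj_comm (hi : Inn Om z x) (h : WM Om) (hg : g * z = z * g) : Inn Om z (g * x * g⁻¹) := by
  have := hi.conj h g
  rwa [hg, mul_inv_cancel_right] at this

theorem Inn.cj_eq (hi : Inn Om z g) (hK : Mem Om z K) (h : WM Om) : Cit.cj g K = K := by
  have key : ∀ g, Inn Om z g → Cit.cj g K ≤ K := by
    rintro g hi _ ⟨k, hk, rfl⟩
    rcases hi K hK k hk with h1 | h1
    · show g * k * g⁻¹ ∈ K
      rw [h1]; exact hk
    · show g * k * g⁻¹ ∈ K
      rw [h1]; exact mul_mem (hK.zmem h) hk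
  refine le_antisymm (key g hi) ?_
  have h1 := key g⁻¹ (hi.inv hK.inZ h)
  have h2 := cj_mono g h1
  rwa [cj_cj_inv] at h2

/-- `g` inner on the members: `g = r x`, `r ∈ R_z`, `x ∈ X_z` -/
theorem Inn.exists_mul (hi : Inn Om z g) (hK : Mem Om z K) (hL : Mem Om z L) (h : WM Om) (hne : K ≠ L)
    {a b : Fin 3 → G} (ha : Q3 K z a) (hb : Q3 L z b) :
    ∃ u ∈ K, ∃ v ∈ L, (u = 1 ∨ ∃ i, u = a i) ∧ (v = 1 ∨ ∃ i, v = b i) ∧ (u * v)⁻¹ * g ∈ CX Om z := by
  obtain ⟨u, hu, hu', hgu⟩ : ∃ u ∈ K, (u = 1 ∨ ∃ i, u = a i) ∧ ∀ k ∈ K, g * k * g⁻¹ = u * k * u⁻¹ := by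
    rcases ha.inner_cases (hi K hK) with h1 | ⟨j, h1⟩
    · exact ⟨1, one_mem _, Or.inl rfl, fun k hk => by rw [h1 k hk]; group⟩
    · exact ⟨a j, ha.mem j, Or.inr ⟨j, rfl⟩, h1⟩
  obtain ⟨v, hv, hv', hgv⟩ : ∃ v ∈ L, (v = 1 ∨ ∃ i, v = b i) ∧ ∀ k ∈ L, g * k * g⁻¹ = v * k * v⁻¹ := by
    rcases hb.inner_cases (hi L hL) with h1 | ⟨j, h1⟩
    · exact ⟨1, one_mem _, Or.inl rfl, fun k hk => by rw [h1 k hk]; group⟩
    · exact ⟨b j, hb.mem j, Or.inr ⟨j, rfl⟩, h1⟩
  refine ⟨u, hu, v, hv, hu', hv', ?_⟩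
  rw [mem_CX]
  intro M hM k hk
  have huv : u * v = v * u := hK.comm hL h hne hu hv
  rcases hK.cases hL h hne hM with rfl | rfl
  · have h1 := hgu k hk
    have h2 : v * k = k * v := (hK.comm hL h hne hk hv).symm
    calc (u * v)⁻¹ * g * k = (v * u)⁻¹ * (g * k * g⁻¹) * g := by rw [huv]; group
      _ = (v * u)⁻¹ * (u * k * u⁻¹) * g := by rw [h1]
      _ = u⁻¹ * (v⁻¹ * (u * k * u⁻¹)) * g := by group
      _ = u⁻¹ * ((u * k * u⁻¹) * v⁻¹) * g := by
        rw [(hK.comm hL h hne (mul_mem (mul_mem hu hk) (inv_mem hu)) (inv_mem hv))]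
      _ = k * ((u⁻¹ * v⁻¹) * g) := by group
      _ = k * ((v * u)⁻¹ * g) := by group
      _ = _ := by rw [huv]
  · have h1 := hgv k hk
    calc (u * v)⁻¹ * g * k = v⁻¹ * (u⁻¹ * (g * k * g⁻¹)) * g := by group
      _ = v⁻¹ * (u⁻¹ * (v * k * v⁻¹)) * g := by rw [h1]
      _ = v⁻¹ * ((v * k * v⁻¹) * u⁻¹) * g := by
        rw [(hK.comm hL h hne (inv_mem hu) (mul_mem (mul_mem hv hk) (inv_mem hv)))]
      _ = k * ((v⁻¹ * u⁻¹) * g) := by group
      _ = _ := by group

/-! ### The trichotomy -/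

/-- `t ∈ Z` centralising a member over `z ≠ t` : C-pair -/
theorem InZ.comm_of_cent (hK : Mem Om z K) (hL : Mem Om t L) (h : WM Om) (hne : z ≠ t)
    (hc : ∀ k ∈ K, t * k = k * t) : ∀ k ∈ K, ∀ l ∈ L, k * l = l * k := by
  have hKL : K ≠ L := by
    rintro rfl
    exact hne (hK.2.symm.trans hL.2)
  exact h.hyp.comm_of_zz_comm hK.1 hL.1 (h.isPGroup hK.1) (h.isPGroup hL.1)
    (fun k hk => by rw [hL.2]; exact (hc k hk).symm) hKL

/-- if `t` centralises one member over `z`, it centralises all -/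
theorem InZ.cent_all (hK : Mem Om z K) (ht : InZ Om t) (h : WM Om) (hne : z ≠ t)
    (hc : ∀ k ∈ K, t * k = k * t) (hM : Mem Om z M) : ∀ k ∈ M, t * k = k * t := by
  obtain ⟨L, hL⟩ := ht
  have h1 := InZ.comm_of_cent hK hL h hne hc
  have h2 : ∀ l ∈ L, z * l = l * z := fun l hl => h1 z (hK.zmem h) l hl
  have h3 := InZ.comm_of_cent hL hM h hne.symm h2
  exact fun k hk => h3 t (hL.zmem h) k hk

/-- (H3) -/
theorem WM.h3 (h : WM Om) (hK : Mem Om z K) (hL : Mem Om t L) (hy : y ∈ K) (hs : y * y = z)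
    (hyt : y * t = t * y) : cj y L = L := by
  rw [← mem_normalizer_iff_cj]
  refine h.hyp.h3 K hK.1 L hL.1 y hy ?_ ?_ (by rw [hL.2]; exact hyt)
  · exact (h.isPGroup hK.1).to_le (by rwa [zpowers_le])
  · have h1 : orderOf y = 4 := by
      have h2 := orderOf_eq_prime_pow (p := 2) (n := 1) (x := y)
        (by rw [pow_one, pow_two, hs]; exact hK.inZ.z1 h)
        (by
          have : y ^ 2 ^ (1 + 1) = (y * y) * (y * y) := by
            show y ^ 4 = _
            simp only [pow_succ, pow_zero, one_mul, mul_assoc]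
          rw [this, hs, hK.inZ.z2 h])
      simpa using h2
    omega

/-- `t` inner on one member over `z`: `z` is inner on the members over `t` -/
theorem WM.inn_of_one (h : WM Om) (hK : Mem Om z K) (ht : InZ Om t) (hne : t ≠ z)
    (hi : ∀ k ∈ K, t * k * t⁻¹ = k ∨ t * k * t⁻¹ = z * k) : Inn Om t z := by
  obtain ⟨x, hx⟩ := h.exists_q3 hK
  rcases hx.inner_cases hi with h1 | ⟨j, h1⟩
  · intro L hL l hl
    left
    have h2 := InZ.comm_of_cent hK hL h hne.symm (fun k hk => by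
      have := h1 k hk; rwa [mul_inv_eq_iff_eq_mul] at this) z (hK.zmem h) l hl
    rw [h2, mul_inv_cancel_right]
  have hyt : x j * t = t * x j := by
    have := h1 (x j) (hx.mem j)
    rw [Q3.conj_self, mul_inv_eq_iff_eq_mul] at this
    exact this.symm
  have hzt : z * t = t * z := by
    rw [← hx.sq j, mul_assoc, hyt, ← mul_assoc, hyt, mul_assoc]
  intro L hL
  obtain ⟨l, hl⟩ := h.exists_q3 hL
  have h2 := h.h3 hK hL (hx.mem j) (hx.sq j) hyt
  obtain ⟨σ, hσ⟩ := hl.exists_act hl h2 hyt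
  have h3 : Act t l l z (σ * σ) := by
    have := hσ.comp hl.z2 hσ hyt
    rwa [hx.sq] at this
  have h5 : Act t l l (z * z) (σ * σ * (σ * σ)) := h3.comp hl.z2 h3 hzt
  rw [hx.z2] at h5
  have h6 := h5.unique hl (Act.one l t)
  have h7 : ∀ σ : Equiv.Perm (Fin 3), σ * σ * (σ * σ) = 1 → σ * σ = 1 := by decide
  have h8 := h7 σ h6
  rw [h8] at h3
  exact h3.inner hl hzt

/-- **trichotomy**: `t` inner on one member over `z` implies type I -/
theorem WM.inn_both (h : WM Om) (hK : Mem Om z K) (ht : InZ Om t) (hne : t ≠ z)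
    (hi : ∀ k ∈ K, t * k * t⁻¹ = k ∨ t * k * t⁻¹ = z * k) : Inn Om z t ∧ Inn Om t z := by
  have h1 := h.inn_of_one hK ht hne hi
  obtain ⟨L, hL⟩ := ht
  exact ⟨h.inn_of_one hL hK.inZ hne.symm (h1 L hL), h1⟩

theorem Inn.symm (hi : Inn Om z t) (hz : InZ Om z) (ht : InZ Om t) (h : WM Om) : Inn Om t z := by
  by_cases hne : t = z
  · subst hne; exact Inn.of_CX (z_mem_CX h)
  obtain ⟨K, hK⟩ := hz
  exact h.inn_of_one hK ht hne (hi K hK)

/-- `(z, t)` is a pair of type I -/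
def TI (Om : Set (Subgroup G)) (z t : G) : Prop :=
  InZ Om z ∧ InZ Om t ∧ z ≠ t ∧ z * t = t * z ∧ Inn Om z t ∧ ∀ K, Mem Om z K → ¬ ∀ k ∈ K, t * k = k * t

theorem TI.inZ (h : TI Om z t) : InZ Om z := h.1
theorem TI.inT (h : TI Om z t) : InZ Om t := h.2.1
theorem TI.ne (h : TI Om z t) : z ≠ t := h.2.2.1
theorem TI.comm (h : TI Om z t) : z * t = t * z := h.2.2.2.1
theorem TI.inn (h : TI Om z t) : Inn Om z t := h.2.2.2.2.1
theorem TI.nc (h : TI Om z t) (hK : Mem Om z K) : ¬ ∀ k ∈ K, t * k = k * t := h.2.2.2.2.2 K hK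

theorem TI.symm (hti : TI Om z t) (h : WM Om) : TI Om t z := by
  refine ⟨hti.inT, hti.inZ, hti.ne.symm, hti.comm.symm, hti.inn.symm hti.inZ hti.inT h, fun L hL hc => ?_⟩
  obtain ⟨K, hK⟩ := hti.inZ
  have h1 := InZ.comm_of_cent hL hK h hti.ne.symm hc
  exact hti.nc hK fun k hk => h1 t (hL.zmem h) k hk

theorem TI.conj (hti : TI Om z t) (h : WM Om) (g : G) : TI Om (g * z * g⁻¹) (g * t * g⁻¹) := by
  refine ⟨hti.inZ.conj h g, hti.inT.conj h g, fun h1 => hti.ne (mul_left_cancel (mul_right_cancel h1)), ?_,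
    hti.inn.conj h g, fun K hK hc => ?_⟩
  · calc g * z * g⁻¹ * (g * t * g⁻¹) = g * (z * t) * g⁻¹ := by group
      _ = g * (t * z) * g⁻¹ := by rw [hti.comm]
      _ = _ := by group
  · have h1 := hK.cj h g⁻¹
    have h2 : g⁻¹ * (g * z * g⁻¹) * g⁻¹⁻¹ = z := by group
    rw [h2] at h1
    refine hti.nc h1 fun k hk => ?_
    rw [mem_cj, inv_inv] at hk
    have h3 := hc _ hk
    calc t * k = g⁻¹ * (g * t * g⁻¹ * (g * k * g⁻¹)) * g := by group
      _ = g⁻¹ * (g * k * g⁻¹ * (g * t * g⁻¹)) * g := by rw [h3]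
      _ = k * t := by group

/-- `t ∈ Z`, inner and not trivial on one member over `z`, is of type I -/
theorem TI.of_one (h : WM Om) (hK : Mem Om z K) (ht : InZ Om t) (hne : z ≠ t)
    (hi : ∀ k ∈ K, t * k * t⁻¹ = k ∨ t * k * t⁻¹ = z * k) (hn : ¬ ∀ k ∈ K, t * k = k * t) : TI Om z t := by
  have h1 := h.inn_both hK ht hne.symm hi
  exact ⟨hK.inZ, ht, hne, (h1.1.comm_z hK.inZ h).symm, h1.1, fun M hM hc =>
    hn (InZ.cent_all hM ht h hne hc hK)⟩

end Fin

end Cfsg.Agent.Cit.Nil.RTwoM
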