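import Cfsg.Agent.Cit.Nil.RTwoM.LZero

/-!
# S1309, (6b), (C3), `r = 2`, any `m`: `LAMBDA0`, the theorem STAR (helper762, bb #15764)

* `StarC Om` : the elements of `Z` which normalise `C_S` commute, all `S`;
* `StarC.of_inter` : `LAMBDA0`: enough: two elements `x`, `y` of `Z` normalising `C_S` have `T_x ∩ T_y ≠ 1`;
* `StarC.tr` : commuting is transitive on `Z`; `StarC.comZ`;
* `StarC.hP` : `z` commutes with `x z x⁻¹` : `z` commutes with `x`;
* **`StarC.closed`** : `⟨Z ∩ C(z)⟩` is strongly closed in `S`, `z ∈ C_S`.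
-/

set_option autoImplicit false
set_option linter.style.haveILetI false
set_option linter.unusedSectionVars false

namespace Cfsg.Agent.Cit.Nil.RTwoM

open Subgroup Cfsg Cfsg.Agent.Cit

open RG (WR CP Ov InO)
open RI (CS)
open RFour (ComZ AZ)

variable {G : Type*} [Group G] {Om : Set (Subgroup G)} {K L M : Subgroup G} {a c d s t u v x y z g k n : G}

/-- the elements of `Z` normalising `C_S` commute -/
def StarC (Om : Set (Subgroup G)) : Prop := ∀ (S : Sylow 2 G), ∀ x y, InZ Om x → InZ Om y →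
  NCS Om (S : Subgroup G) x → NCS Om (S : Subgroup G) y → x * y = y * x

section Fin

variable [Finite G]

/-- a 2-group containing the members in `S` normalises `C_S` -/
theorem NCS_of_pgroup (h : WM Om) (S : Sylow 2 G) {P : Subgroup G} (hP : IsPGroup 2 P)
    (hD : ∀ K ∈ Om, K ≤ (S : Subgroup G) → K ≤ P) (hx : x ∈ P) : NCS Om (S : Subgroup G) x := by
  haveI : Fact (Nat.Prime 2) := ⟨Nat.prime_two⟩
  obtain ⟨S', hS'⟩ := hP.exists_le_sylow
  obtain ⟨g, hg⟩ := MulAction.exists_smul_eq G S S'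
  have hgS : (S' : Subgroup G) = cj g S := by
    rw [← hg]
    rfl
  have h1 := ncard_cj h g (S : Subgroup G)
  rw [← hgS] at h1
  have h2 : {K | K ∈ Om ∧ K ≤ (S : Subgroup G)} ⊆ {K | K ∈ Om ∧ K ≤ (S' : Subgroup G)} := fun K hK =>
    ⟨hK.1, (hD K hK.1 hK.2).trans hS'⟩
  have h3 : {K | K ∈ Om ∧ K ≤ (S : Subgroup G)} = {K | K ∈ Om ∧ K ≤ (S' : Subgroup G)} :=
    Set.eq_of_subset_of_ncard_le h2 (le_of_eq h1) (Set.toFinite _)
  rintro z ⟨K, hK, hKS⟩
  have h4 : z ∈ CS Om (S' : Subgroup G) := ⟨K, hK, (hD K hK.1 hKS).trans hS'⟩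
  obtain ⟨L, hL, hLS⟩ := CS.conj h4 h (hS' hx)
  refine ⟨L, hL, ?_⟩
  have h5 : L ∈ {K | K ∈ Om ∧ K ≤ (S : Subgroup G)} := by rw [h3]; exact ⟨hL.1, hLS⟩
  exact h5.2

/-- the C-partners of `v ∈ C_S` normalise `C_S` -/
theorem NCS_of_cp (h : WM Om) (an : ANT Om) (S : Sylow 2 G) (hv : v ∈ CS Om (S : Subgroup G)) (hu : InZ Om u)
    (hc : CP Om v u) : NCS Om (S : Subgroup G) u := by
  have hvT : v ∈ TT Om (S : Subgroup G) := CS.mem_TT hv
  have hvZ := CS.inZ hv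
  obtain ⟨N, -, hN, h2, huN⟩ := (an S v hvT (hvZ.z1 h)).inO ⟨hu, cp_cx h hvZ hc.symm⟩
  -- the group generated by the members in `S`
  obtain ⟨D, hD⟩ : ∃ D : Subgroup G, D = sSup {K | K ∈ Om ∧ K ≤ (S : Subgroup G)} := ⟨_, rfl⟩
  have hDS : D ≤ S := by rw [hD]; exact sSup_le fun K hK => hK.2
  have hDv : D ≤ centralizer {v} := by
    rw [hD]
    refine sSup_le fun K hK k hk => ?_
    rw [mem_centralizer_singleton_iff]
    have h3 : zz K ∈ CS Om (S : Subgroup G) := ⟨K, ⟨hK.1, rfl⟩, hK.2⟩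
    exact (TT_cen h S.isPGroup' h3 hvT (Mem.le_RZ (z := zz K) ⟨hK.1, rfl⟩ hk)).symm
  have hP : IsPGroup 2 (D ⊔ N : Subgroup G) := (S.isPGroup'.to_le hDS).to_sup_of_normal_right' h2 (hDv.trans hN)
  refine NCS_of_pgroup h S hP (fun K hK hKS => ?_) (mem_sup_right huN)
  refine le_trans ?_ le_sup_left
  rw [hD]
  exact le_sSup ⟨hK, hKS⟩

/-- commuting elements of `Z` : `x` normalises some `C_S` with `v ∈ C_S` -/
theorem exists_NCS (h : WM Om) (hv : InZ Om v) (hx : InZ Om x) (hc : v * x = x * v) :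
    ∃ S : Sylow 2 G, v ∈ CS Om (S : Subgroup G) ∧ x ∈ (S : Subgroup G) := by
  haveI : Fact (Nat.Prime 2) := ⟨Nat.prime_two⟩
  obtain ⟨K, hK⟩ := hv
  obtain ⟨L, hL, hne, hall⟩ := hK.other h
  have hR2 : IsPGroup 2 (RZ Om v) := by rw [← RR_eq]; exact h.wr.RR_two hK.inZ.zz
  have hX2 : IsPGroup 2 (zpowers x) := by
    refine IsPGroup.of_card (n := 1) ?_
    rw [Nat.card_zpowers, pow_one]
    exact hx.orderOf h
  have hn : zpowers x ≤ normalizer (RZ Om v : Set G) := by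
    rw [zpowers_le, mem_normalizer_iff]
    intro r
    refine ⟨fun hr => RZ_conj_comm h hc.symm hr, fun hr => ?_⟩
    have h1 : x⁻¹ * v = v * x⁻¹ := by rw [inv_mul_eq_iff_eq_mul, ← mul_assoc, ← hc, mul_inv_cancel_right]
    have h2 := RZ_conj_comm h h1 hr
    rwa [inv_inv, show x⁻¹ * (x * r * x⁻¹) * x = r by group] at h2
  obtain ⟨S, hS⟩ := (hX2.to_sup_of_normal_right' hR2 hn).exists_le_sylow
  exact ⟨S, ⟨K, hK, (hK.le_RZ.trans le_sup_right).trans hS⟩, hS (mem_sup_left (mem_zpowers x))⟩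

theorem StarC.of_inter (h : WM Om) (l0 : L0 Om) (an : ANT Om)
    (hi : ∀ (S : Sylow 2 G), ∀ x y, InZ Om x → InZ Om y → NCS Om (S : Subgroup G) x → NCS Om (S : Subgroup G) y →
      ∃ s ∈ TT Om (S : Subgroup G), s ≠ 1 ∧ s ∈ CX Om x ∧ s ∈ CX Om y) : StarC Om := by
  intro S x y hx hy nx ny
  obtain ⟨s, hs, hs1, h1, h2⟩ := hi S x y hx hy nx ny
  exact ZS_comm h l0 (an S s hs hs1) ⟨hx, h1⟩ ⟨hy, h2⟩

namespace StarC

variable (st : StarC Om)

include st

/-- an element of `Z` normalising `C_S` centralises the C-partners of the elements of `C_S` -/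
theorem comm_cp (h : WM Om) (an : ANT Om) (S : Sylow 2 G) (hv : v ∈ CS Om (S : Subgroup G)) (hx : InZ Om x)
    (hxS : NCS Om (S : Subgroup G) x) (hu : InZ Om u) (hc : v = u ∨ CP Om v u) : x * u = u * x := by
  rcases hc with rfl | hc
  · refine st S x v hx hu hxS (NCS_of_mem h ?_)
    obtain ⟨K, hK, hKS⟩ := hv
    exact hKS (Mem.zmem hK h)
  · exact st S x u hx hu hxS (NCS_of_cp h an S hv hu hc)

/-- the elements of `Z` normalising `C_S` depend only on `v ∈ C_S` -/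
theorem ncs (h : WM Om) (an : ANT Om) (S S' : Sylow 2 G) (hv : v ∈ CS Om (S : Subgroup G))
    (hv' : v ∈ CS Om (S' : Subgroup G)) (hx : InZ Om x) (hxS : NCS Om (S : Subgroup G) x) :
    NCS Om (S' : Subgroup G) x := by
  refine NCS_of_comm fun u hu => st.comm_cp h an S hv hx hxS (CS.inZ hu) ?_
  by_cases hne : v = u
  · exact Or.inl hne
  · exact Or.inr (CS.cp hv' h S'.isPGroup' hu hne)

/-- **commuting is transitive on `Z`** -/
theorem tr (h : WM Om) (an : ANT Om) (hz : InZ Om z) (hs : InZ Om s) (ht : InZ Om t) (h1 : z * s = s * z)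
    (h2 : z * t = t * z) : s * t = t * s := by
  obtain ⟨S, hS, hsS⟩ := exists_NCS h hz hs h1
  obtain ⟨S', hS', htS⟩ := exists_NCS h hz ht h2
  exact st S s t hs ht (NCS_of_mem h hsS) (st.ncs h an S' S hS' hS ht (NCS_of_mem h htS))

theorem comZ (h : WM Om) (an : ANT Om) : ComZ (RG.ZZ Om) where
  sq _ hz := h.wr.zz_sq hz
  ne _ hz := h.wr.zz_ne hz
  conj _ hz g := h.wr.zz_cj hz g
  tr _ hz _ hs _ ht h1 h2 := st.tr h an hz hs ht h1 h2

/-- `z` commutes with `x z x⁻¹` : `z` commutes with `x` -/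
theorem hP (h : WM Om) (an : ANT Om) (hz : InZ Om z) (hx : InZ Om x) (hc : z * (x * z * x⁻¹) = (x * z * x⁻¹) * z) :
    z * x = x * z := by
  haveI : Fact (Nat.Prime 2) := ⟨Nat.prime_two⟩
  have c := st.comZ h an
  obtain ⟨M, hM⟩ : ∃ M, M = normalizer (AZ (RG.ZZ Om) z : Set G) := ⟨_, rfl⟩
  have hxM : x ∈ M := by rw [hM]; exact c.mem_norm_of hz hc
  obtain ⟨S, hS, -⟩ := exists_NCS h hz hz rfl
  have hSM : (S : Subgroup G) ≤ M := by
    intro s hs
    rw [hM]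
    exact c.mem_norm_of hz (CS.comm hS h S.isPGroup' (CS.conj hS h hs))
  have h1 : IsPGroup 2 (zpowers (⟨x, hxM⟩ : M)) := by
    refine IsPGroup.of_card (n := 1) ?_
    rw [Nat.card_zpowers, pow_one, ← orderOf_injective M.subtype (Subtype.coe_injective)]
    exact hx.orderOf h
  obtain ⟨m, hm⟩ := exists_le_cj (S.subtype hSM) h1
  have h2 : (m : G)⁻¹ * x * m ∈ (S : Subgroup G) := by
    have h3 := mem_cj.1 (hm (mem_zpowers _))
    exact h3
  have hmx : InZ Om ((m : G)⁻¹ * x * m) := by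
    have := hx.conj h (m : G)⁻¹
    rwa [inv_inv] at this
  have h3 : (m : G)⁻¹ * x * m * z = z * ((m : G)⁻¹ * x * m) :=
    st.comm_cp h an S hS hmx (NCS_of_mem h h2) hz (Or.inl rfl)
  have h4 : (m : G) * z * (m : G)⁻¹ ∈ AZ (RG.ZZ Om) z := by
    have h5 : (m : G) ∈ normalizer (AZ (RG.ZZ Om) z : Set G) := by rw [← hM]; exact m.2
    exact (mem_normalizer_iff.1 h5 z).1 (ComZ.self_mem hz)
  have h5 : (m * z * (m : G)⁻¹) * z = z * (m * z * (m : G)⁻¹) := c.AZ_comm hz _ h4 _ (ComZ.self_mem hz)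
  have h6 : (m * z * (m : G)⁻¹) * x = x * (m * z * (m : G)⁻¹) := by
    calc (m * z * (m : G)⁻¹) * x = m * (z * ((m : G)⁻¹ * x * m)) * (m : G)⁻¹ := by group
      _ = m * ((m : G)⁻¹ * x * m * z) * (m : G)⁻¹ := by rw [h3]
      _ = _ := by group
  exact st.tr h an (hz.conj h m) hz hx h5 h6

/-- **STAR** : a strongly closed commutative subgroup -/
theorem closed (h : WM Om) (l0 : L0 Om) (an : ANT Om) (S : Sylow 2 G) (hz : z ∈ CS Om (S : Subgroup G)) :
    IsStronglyClosed (AZ (RG.ZZ Om) z) (S : Subgroup G) := by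
  have c := st.comZ h an
  refine RI.closed_of h.wr c (fun z hz x hx hc => st.hP h an hz hx hc) S hz ?_
  intro t ht ht1 g hg
  have h1 : z ∈ ZS Om t := CS_subset_ZS h S.isPGroup' ht hz
  exact c.mem_norm_of (CS.inZ hz) (ZS_comm h l0 (an S t ht ht1) h1 (ZS_conj h h1 hg))

end StarC

end Fin

end Cfsg.Agent.Cit.Nil.RTwoM
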