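import Cfsg.Agent.Cit.Nil.RTwoM.EndSw
import Cfsg.Agent.Cit.Nil.RTwoM.Star
import Cfsg.Agent.Cit.Nil.RG.End
import Cfsg.Agent.TwoFusion.StronglyEmbeddedBasic

/-!
# S1309, (6b), (C3), `r = 2`, any `m`: the end in `X = F*(G)`

* `OneCls Om` : all members are conjugate; `C3E Om` : elementwise (C3);
* `WM.inf_cases` : by (C3) `K ≤ X` or `K ∩ X = ⟨z⟩`;
* **`WM.false_of_closed`** : there is no strongly closed commutative subgroup of `X`;
* **`StarC.false_of_l0`** : `LAMBDA0` and `StarC` are contradictory.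
-/

set_option autoImplicit false
set_option linter.style.haveILetI false
set_option linter.unusedSectionVars false

namespace Cfsg.Agent.Cit.Nil.RTwoM

open Subgroup Cfsg Cfsg.Agent.Cit
open RG (WR CP Ov InO)
open RI (CS)
open RFour (ComZ AZ)
open Cfsg.Agent.Cit.Nil.ROne (FSimp exists_sylow_subgroupOf)

open scoped commutatorElement

variable {G : Type*} [Group G] {Om : Set (Subgroup G)} {K L M X A : Subgroup G} {a c d s t u v x y z g k n : G}

/-- all members are conjugate -/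
def OneCls (Om : Set (Subgroup G)) : Prop := ∀ K ∈ Om, ∀ L ∈ Om, ∃ g, cj g K = L

/-- elementwise (C3) for all members -/
def C3E (Om : Set (Subgroup G)) : Prop :=
  ∀ z K, Mem Om z K → ∀ y ∈ K, y * y = z → ∃ g, g * z = z * g ∧ cj g K = K ∧ g * y * g⁻¹ ≠ y ∧ g * y * g⁻¹ ≠ z * y

section Fin

variable [Finite G]

theorem OneCls.oneCl (hc : OneCls Om) (h : WM Om) : OneCl Om := by
  rintro u v ⟨K, hK⟩ ⟨L, hL⟩
  obtain ⟨g, rfl⟩ := hc K hK.1 L hL.1
  exact ⟨g, (hK.cj h g).2.symm.trans hL.2⟩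

/-- **(C3)**: `K ≤ X` or `K ∩ X = ⟨z⟩` -/
theorem WM.inf_cases (h : WM Om) (c3 : C3E Om) (hn : X.Normal) (hK : Mem Om z K) :
    K ≤ X ∨ ∀ y ∈ K, y ∈ X → y = 1 ∨ y = z := by
  by_contra hcon
  push Not at hcon
  obtain ⟨h1, y, hy, hyX, hy1, hyz⟩ := hcon
  have hyy : y * y = z := by
    rcases hK.sq_cases h hy with h2 | h2 | h2
    · exact absurd h2 hy1
    · exact absurd h2 hyz
    · exact h2
  obtain ⟨g, hgz, hgK, hg1, hg2⟩ := c3 z K hK y hy hyy
  obtain ⟨w, hw⟩ : ∃ w, w = g * y * g⁻¹ := ⟨_, rfl⟩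
  rw [← hw] at hg1 hg2
  have hgy : w ∈ K := by
    have := conj_mem_cj (g := g) hy
    rwa [hgK, ← hw] at this
  have hgX : w ∈ X := by rw [hw]; exact hn.conj_mem y hyX g
  have hww : w * w = z := by
    rw [hw]
    calc g * y * g⁻¹ * (g * y * g⁻¹) = g * (y * y) * g⁻¹ := by group
      _ = z := by rw [hyy, hgz, mul_inv_cancel_right]
  have hne : y * w ≠ w * y := by
    intro h3
    rcases hK.of_comm h hy hyy hgy h3 with h4 | h4 | h4 | h4
    · rw [h4, one_mul] at hww; exact hK.inZ.z1 h hww.symm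
    · rw [h4, hK.inZ.z2 h] at hww; exact hK.inZ.z1 h hww.symm
    · exact hg1 h4
    · exact hg2 h4
  obtain ⟨b, qb, hb0, hb1⟩ := hK.exists_q2 h hy hyy hgy hww hne
  have hzX : z ∈ X := by rw [← hyy]; exact mul_mem hyX hyX
  have hbX : ∀ i, b i ∈ X := by
    intro i
    fin_cases i
    · change b 0 ∈ X; rw [hb0]; exact hyX
    · change b 1 ∈ X; rw [hb1]; exact hgX
    · change b 2 ∈ X
      have h3 := qb.mul 0
      simp only [zero_add] at h3
      rw [hb0, hb1] at h3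
      rw [← h3]
      exact mul_mem hyX hgX
  apply h1
  intro x hx
  rcases qb.cov x hx with h3 | h3 | ⟨i, h3 | h3⟩
  · rw [h3]; exact one_mem _
  · rw [h3]; exact hzX
  · rw [h3]; exact hbX i
  · rw [h3]; exact mul_mem hzX (hbX i)

theorem ncard_Ov (h : WM Om) (hz : InZ Om z) : 2 ≤ (Ov Om z).ncard := by
  obtain ⟨K, hK⟩ := hz
  obtain ⟨L, hL, hKL, -⟩ := hK.other h
  have h1 : ({K, L} : Set (Subgroup G)) ⊆ Ov Om z := by
    rintro M (rfl | hM)
    · exact hK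
    · rw [Set.mem_singleton_iff] at hM
      rw [hM]; exact hL
  have h2 := Set.ncard_le_ncard h1 (Set.toFinite _)
  rwa [Set.ncard_pair hKL] at h2

theorem WM.zmemX (h : WM Om) (f : FSimp X) (hev : 2 ∣ Nat.card X) (hz : InZ Om z) : z ∈ X :=
  RG.zz_mem_of_fsimp h.hyp (fun _ hK => h.isPGroup hK) f hev hz

theorem RZ_ncomm (h : WM Om) (hK : Mem Om z K) : ∃ x ∈ K, ∃ y ∈ K, x * y ≠ y * x := by
  obtain ⟨q, hq⟩ := h.exists_q3 hK
  obtain ⟨u, hu, -, hne⟩ := hK.exists_nc h (hq.mem 0) (hq.sq 0)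
  exact ⟨_, hq.mem 0, u, hu, hne⟩

/-- **the end**: there is no strongly closed commutative subgroup of `X = F*(G)` -/
theorem WM.false_of_closed (h : WM Om) (cls : OneCls Om) (c3 : C3E Om) (hz : InZ Om z) (f : FSimp X)
    (hev : 2 ∣ Nat.card X) (gold : Cit.ROne.Gold X) (hB : CloEnd.Bend X) (S : Sylow 2 G) (hA : A ≠ ⊥) (hAX : A ≤ X)
    (hc : ∀ x ∈ A, ∀ y ∈ A, x * y = y * x) (hsc : IsStronglyClosed A (S : Subgroup G)) : False := by
  haveI : Fact (Nat.Prime 2) := ⟨Nat.prime_two⟩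
  haveI := f.sim
  haveI := f.nor
  have hX : ∀ z, InZ Om z → z ∈ X := fun z hz => h.zmemX f hev hz
  by_cases hcase : ∃ z K, Mem Om z K ∧ K ≤ X
  · -- all members lie in `X`
    obtain ⟨z0, K0, hK0, hKX⟩ := hcase
    have hall : ∀ K ∈ Om, K ≤ X := by
      intro K hK
      obtain ⟨g, rfl⟩ := cls K0 hK0.1 K hK
      intro x hx
      have h2 := f.nor.conj_mem _ (hKX (mem_cj.1 hx)) g
      rwa [show g * (g⁻¹ * x * g) * g⁻¹ = x by group] at h2
    obtain ⟨K, hK⟩ := hz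
    obtain ⟨L, hL, hKL, -⟩ := hK.other h
    have hR2 : IsPGroup 2 (RZ Om z) := by rw [← RR_eq]; exact h.wr.RR_two hK.inZ.zz
    exact RG.false_of_two f gold hB S hA hAX hc hsc hR2 hK.le_RZ hL.le_RZ (hall K hK.1) (hall L hL.1)
      (fun x hx y hy => hK.comm hL h hKL hx hy) (RZ_ncomm h hK) (RZ_ncomm h hL)
  -- `K ∩ X = ⟨z⟩`
  push Not at hcase
  have r : TrX Om X := ⟨h, f.nor, fun z K hK => (h.inf_cases c3 f.nor hK).resolve_left (hcase z K hK)⟩
  have hnc : ¬ IsMulCommutative X := by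
    intro h2
    exact f.na fun x hx y hy => congrArg Subtype.val (h2.is_comm.comm ⟨x, hx⟩ ⟨y, hy⟩)
  obtain ⟨g, h3, h4⟩ := GH.QA.not_isolated f.sim hnc (u := (⟨z, hX z hz⟩ : X))
    (Subtype.ext (hz.z2 h)) (fun h2 => hz.z1 h (congrArg Subtype.val h2))
  have h3' : z * (g * z * (g : G)⁻¹) = g * z * (g : G)⁻¹ * z := congrArg Subtype.val h3
  have h4' : z ≠ g * z * (g : G)⁻¹ := fun h5 => h4 (Subtype.ext h5.symm)
  have hu := hz.conj h (g : G)
  rcases tri h hz hu h4' h3' with h5 | h5 | ⟨h5, -⟩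
  · obtain ⟨P, Q, R, k1, k2, k3, k4, k5, k6, k7, k8⟩ := h.wr.exists_two (ncard_Ov h hz) f.nor g.2 hz.zz h5
    exact RG.false_of_two f gold hB S hA hAX hc hsc k1 k2 k3 k4 k5 k6 k7 k8
  · exact r.not_ti g.2 h5
  rcases h5.cases with h6 | h6
  swap
  · exact r.not_ff (hX _ hu) hz h6
  -- a swap
  obtain ⟨T, hT⟩ := exists_sylow_subgroupOf f.nor S
  have hA' : A.subgroupOf X ≠ ⊥ := by
    intro h1
    apply hA
    rw [← map_subgroupOf_eq_of_le hAX, h1, Subgroup.map_bot]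
  have hc' : ∀ x ∈ A.subgroupOf X, ∀ y ∈ A.subgroupOf X, x * y = y * x := fun x hx y hy =>
    Subtype.ext (hc x hx y hy)
  have hsc' : IsStronglyClosed (A.subgroupOf X) (T : Subgroup X) := by
    refine ⟨?_, fun x hx g hg => ?_⟩
    · rw [hT]
      exact comap_mono hsc.1
    · rw [hT] at hg
      exact hsc.2 x hx g hg
  rcases gold T _ hA' ⟨⟨fun a b => Subtype.ext (hc' a a.2 b b.2)⟩⟩ hsc' with h1 | ⟨H, hH⟩
  · -- commutative Sylow 2-subgroups
    have hXX : ⁅X, X⁆ = X := by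
      refine le_antisymm (commutator_le_left X X) (f.le (N := ⁅X, X⁆) (fun g _ n hn => ?_) ?_)
      · exact (commutator_normal X X).conj_mem n hn g
      · intro h7
        apply f.na
        intro x hx y hy
        have h8 : ⁅x, y⁆ ∈ ⁅X, X⁆ := commutator_mem_commutator hx hy
        rw [h7, mem_bot] at h8
        exact commutatorElement_eq_one_iff_mul_comm.1 h8
    refine r.false_of_swap hXX (fun P hPX hP a ha b hb => ?_) hz (hX z hz) (hX _ hu) h6
    have hPX' : IsPGroup 2 (P.subgroupOf X) := hP.comap_subtype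
    obtain ⟨T', hT'⟩ := hPX'.exists_le_sylow
    obtain ⟨q, hq⟩ := MulAction.exists_smul_eq X T T'
    have h7 : ∀ x ∈ (T' : Subgroup X), q⁻¹ * x * q ∈ (T : Subgroup X) := by
      intro x hx
      rw [← hq] at hx
      have h8 : x ∈ cj q (T : Subgroup X) := hx
      exact mem_cj.1 h8
    have ha' : (⟨a, hPX ha⟩ : X) ∈ (T' : Subgroup X) := hT' (mem_subgroupOf.2 ha)
    have hb' : (⟨b, hPX hb⟩ : X) ∈ (T' : Subgroup X) := hT' (mem_subgroupOf.2 hb)
    have h8 := congrArg Subtype.val (h1.is_comm.comm ⟨_, h7 _ ha'⟩ ⟨_, h7 _ hb'⟩)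
    set a' : X := ⟨a, hPX ha⟩
    set b' : X := ⟨b, hPX hb⟩
    have h9 : q⁻¹ * a' * q * (q⁻¹ * b' * q) = q⁻¹ * b' * q * (q⁻¹ * a' * q) := h8
    have h10 : a' * b' = b' * a' := by
      calc a' * b' = q * (q⁻¹ * a' * q * (q⁻¹ * b' * q)) * q⁻¹ := by group
        _ = q * (q⁻¹ * b' * q * (q⁻¹ * a' * q)) * q⁻¹ := by rw [h9]
        _ = b' * a' := by group
    exact congrArg Subtype.val h10
  · -- strongly embedded
    obtain ⟨K, hK⟩ := id hz
    obtain ⟨q, hq⟩ := h.exists_q3 hK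
    obtain ⟨k, hk⟩ : ∃ k, k = q 0 := ⟨_, rfl⟩
    have hkK : k ∈ K := by rw [hk]; exact hq.mem 0
    have hkk : k * k = z := by rw [hk]; exact hq.sq 0
    obtain ⟨t, ht⟩ : ∃ t, t = (g : G) * z * (g : G)⁻¹ := ⟨_, rfl⟩
    rw [← ht] at h6 hu
    have htX := hX t hu
    have e1 : qq t k = (k * k) * ((k⁻¹ * t * k⁻¹⁻¹) * t⁻¹) := by rw [qq]; group
    have hqX : qq t k ∈ X := by
      rw [e1, hkk]
      exact X.mul_mem (hX z hz) (X.mul_mem (f.nor.conj_mem t htX k⁻¹) (X.inv_mem htX))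
    have hq2 : qq t k * qq t k = 1 := qq_sq h6 h hK hkK
    have hq1 : qq t k ≠ 1 := by
      intro h7
      rcases qq_eq_one h6 h hK hkK h7 with h8 | h8
      · rw [h8, one_mul] at hkk; exact hz.z1 h hkk.symm
      · rw [h8, hz.z2 h] at hkk; exact hz.z1 h hkk.symm
    have h2 := Cfsg.Agent.TwoFusion.StronglyEmbeddedBasic.isConj_of_involutions hH (⟨z, hX z hz⟩ : X) ⟨qq t k, hqX⟩
      (by rw [← Subgroup.orderOf_coe]; exact hz.orderOf h)
      (by rw [← Subgroup.orderOf_coe]; exact orderOf_eq_prime (by rw [pow_two]; exact hq2) hq1)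
    obtain ⟨p, hp⟩ := isConj_iff.1 h2
    have hp' : (p : G) * z * (p : G)⁻¹ = qq t k := congrArg Subtype.val hp
    have hne : z ≠ (p : G) * z * (p : G)⁻¹ := by
      rw [hp']
      intro h7
      -- `k t k t⁻¹ = k k`
      have h8 : t * k * t⁻¹ = k := by
        have h9 : k * (t * k * t⁻¹) = k * k := by rw [hkk]; exact h7.symm
        exact mul_left_cancel h9
      have h9 := h6.inf h hK hkK (conj_mem_cj (g := t) hkK) h8.symm
      rcases h9 with h9 | h9
      · rw [h9, one_mul] at hkk; exact hz.z1 h hkk.symm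
      · rw [h9, hz.z2 h] at hkk; exact hz.z1 h hkk.symm
    refine r.not_ti p.2 (TI.of_mem_RZ h hz (hz.conj h p) hne ?_)
    rw [hp']
    exact qq_mem h6 h hK hkK

/-- **`LAMBDA0` is impossible** given `StarC` -/
theorem StarC.false_of_l0 (st : StarC Om) (h : WM Om) (cls : OneCls Om) (c3 : C3E Om) (l0 : L0 Om) (an : ANT Om)
    (hz : InZ Om z) (f : FSimp X) (hev : 2 ∣ Nat.card X) (gold : Cit.ROne.Gold X) (hB : CloEnd.Bend X) : False := by
  obtain ⟨S, hS⟩ := exists_sylow h hz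
  have c := st.comZ h an
  refine h.false_of_closed cls c3 hz f hev gold hB S (A := AZ (RG.ZZ Om) z) ?_ ?_
    (fun x hx y hy => c.AZ_comm hz.zz x hx y hy) (st.closed h l0 an S hS)
  · intro h1
    have h2 := ComZ.self_mem hz.zz
    rw [h1, mem_bot] at h2
    exact hz.z1 h h2
  · rw [AZ, closure_le]
    rintro u ⟨hu, -⟩
    exact h.zmemX f hev hu

end Fin

end Cfsg.Agent.Cit.Nil.RTwoM
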