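import Cfsg.Agent.Cit.Nil.RTwoM.BlkOne
import Cfsg.Agent.Cit.Nil.RTwoM.JArg

/-!
# S1309, (6b), (C3), `r = 2`, any `m`, `LAMBDA0`: the commuting sets `Z(s)` and `a0(z)`

* `A0 Om z = a0(z)`, `A0_conj`, `A0_subset`; `nilS_ZS`, `nilS_A0` : `NilS` (so the BLOCK THEOREM applies);
* `NZ Om s = N_s = ⟨Z(s)⟩`, `NZ_comm`, `NZ_sq`, `NZ_conj`; `LJ` : `[N_t, C_{R_x}(t)] ≤ N_t ⊓ R_x`.
-/

set_option autoImplicit false
set_option linter.style.haveILetI false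
set_option linter.unusedSectionVars false

namespace Cfsg.Agent.Cit.Nil.RTwoM

open Subgroup Cfsg Cfsg.Agent.Cit

open RTwo (Q3)
open RG (WR CP Ov InO Tr)
open RI (CS)

variable {G : Type*} [Group G] {Om : Set (Subgroup G)} {K L M : Subgroup G} {D : Set G}
  {b c d g g' k l m n r s t u v w x y z : G}

/-- `a0(z)` -/
def A0 (Om : Set (Subgroup G)) (z : G) : Set G := {u | InZ Om u ∧ CP Om z u}

/-- `N_s = ⟨Z(s)⟩` -/
def NZ (Om : Set (Subgroup G)) (s : G) : Subgroup G := closure (ZS Om s)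

theorem mem_A0 : u ∈ A0 Om z ↔ InZ Om u ∧ CP Om z u := Iff.rfl

section Fin

variable [Finite G]

theorem A0_conj (h : WM Om) (hg : g * z = z * g) (hu : u ∈ A0 Om z) : g * u * g⁻¹ ∈ A0 Om z := by
  refine ⟨hu.1.conj h g, ?_⟩
  have h1 := cp_conj h hu.2 g
  rwa [hg, mul_inv_cancel_right] at h1

theorem A0_subset (h : WM Om) (hz : InZ Om z) : A0 Om z ⊆ ZS Om z := fun _ hu => ⟨hu.1, cp_cx h hz hu.2.symm⟩

/-- `Z(z) = {z} ∪ a0(z)` -/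
theorem ZS_eq (h : WM Om) (hz : InZ Om z) (hu : u ∈ ZS Om z) : u = z ∨ u ∈ A0 Om z := by
  rcases (cen_iff h hu.1 hz).1 hu.2 with h1 | h1
  · exact Or.inl h1
  · exact Or.inr ⟨hu.1, h1.symm⟩

theorem ZS_RZ (hb : b ∈ ZS Om s) (hy : y ∈ RZ Om b) : y * s = s * y := (CX_comm hy hb.2).symm

theorem nilS_ZS (h : WM Om) (hc : ∀ x ∈ ZS Om s, ∀ y ∈ ZS Om s, x * y = y * x) : NilS Om (ZS Om s) where
  inZ _ hb := hb.1
  comm := hc
  nor _ hb _ hy _ hc' := ZS_conj h hc' (ZS_RZ hb hy)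

theorem nilS_ZS' (h : WM Om) (l0 : L0 Om) (an : ANt Om s) : NilS Om (ZS Om s) :=
  nilS_ZS h fun _ hx _ hy => ZS_comm h l0 an hx hy

theorem nilS_A0 (h : WM Om) (l0 : L0 Om) (an : ANt Om z) (hz : InZ Om z) : NilS Om (A0 Om z) where
  inZ _ hb := hb.1
  comm _ hb _ hc := ZS_comm h l0 an (A0_subset h hz hb) (A0_subset h hz hc)
  nor _ hb _ hy _ hc := A0_conj h (cp_RZ h hb.2.symm hy (z_mem_RZ hz h)) hc

theorem mem_NZ (hz : z ∈ ZS Om s) : z ∈ NZ Om s := subset_closure hz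

theorem NZ_comm (h : WM Om) (l0 : L0 Om) (an : ANt Om s) (hx : x ∈ NZ Om s) (hy : y ∈ NZ Om s) : x * y = y * x :=
  (nilS_ZS' h l0 an).cl_comm hx hy

theorem NZ_sq (h : WM Om) (l0 : L0 Om) (an : ANt Om s) (hx : x ∈ NZ Om s) : x * x = 1 := (nilS_ZS' h l0 an).cl_sq h hx

/-- `C(s) ≤ N(N_s)` -/
theorem NZ_conj (h : WM Om) (hg : g * s = s * g) (hx : x ∈ NZ Om s) : g * x * g⁻¹ ∈ NZ Om s :=
  cl_conj_of (fun _ hc => ZS_conj h hc hg) hx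

/-- `N_s ≤ C(s)` -/
theorem NZ_cen (h : WM Om) (hx : x ∈ NZ Om s) : x * s = s * x := by
  have h1 : NZ Om s ≤ centralizer ({s} : Set G) := (closure_le _).2 fun u hu =>
    mem_centralizer_singleton_iff.2 (ZS_comm_s h hu).symm
  exact mem_centralizer_singleton_iff.1 (h1 hx)

/-- conjugation -/
theorem ZS_cj (h : WM Om) (g : G) (hz : z ∈ ZS Om s) : g * z * g⁻¹ ∈ ZS Om (g * s * g⁻¹) :=
  ⟨hz.1.conj h g, (CX_conj h g).2 hz.2⟩

theorem NZ_cj (h : WM Om) (g : G) (hx : x ∈ NZ Om s) : g * x * g⁻¹ ∈ NZ Om (g * s * g⁻¹) := by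
  have h1 : NZ Om s ≤ (NZ Om (g * s * g⁻¹)).comap (MulAut.conj g).toMonoidHom :=
    (closure_le _).2 fun c hc => subset_closure (ZS_cj h g hc)
  exact h1 hx

theorem A0_cj (h : WM Om) (g : G) (hu : u ∈ A0 Om z) : g * u * g⁻¹ ∈ A0 Om (g * z * g⁻¹) :=
  ⟨hu.1.conj h g, cp_conj h hu.2 g⟩

/-- **(LJ)** -/
theorem LJ (h : WM Om) (hn : n ∈ NZ Om t) (hnx : n * x = x * n) (hr : r ∈ RZ Om x) (hrt : r * t = t * r) :
    n * r * n⁻¹ * r⁻¹ ∈ NZ Om t ∧ n * r * n⁻¹ * r⁻¹ ∈ RZ Om x := by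
  constructor
  · have h1 : n * r * n⁻¹ * r⁻¹ = n * (r * n⁻¹ * r⁻¹) := by group
    rw [h1]
    exact mul_mem hn (NZ_conj h hrt (inv_mem hn))
  · exact mul_mem (RZ_conj_comm h hnx hr) (inv_mem hr)

/-- **the J-ARGUMENT for `A = N_t`** : `T ≤ N_t`, `Z(s)`-subgroups normalised -/
theorem JH.of_NZ {T : Subgroup G} (h : WM Om) (l0 : L0 Om) (an : ANt Om s) (hx : InZ Om x) (hxN : x ∉ NZ Om s)
    (hT : T ≤ NZ Om s) (hTx : ∀ t ∈ T, t * x = x * t)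
    (hN : ∀ t ∈ T, t ≠ 1 → ∀ r ∈ RZ Om x, t * r = r * t → r * s = s * r) : JH Om (NZ Om s) T x where
  inZ := hx
  comm' _ ha _ hb := NZ_comm h l0 an ha hb
  sq _ ha := NZ_sq h l0 an ha
  nin := hxN
  le := hT
  tx := hTx
  nor t ht ht1 r hr hc _ ha := NZ_conj h (hN t ht ht1 r hr hc) ha

end Fin

end Cfsg.Agent.Cit.Nil.RTwoM
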