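import Cfsg.Agent.Cit.Nil.RTwoM.ANStar
import Cfsg.Agent.Cit.Nil.RTwoM.MThree.Base

/-!
# S1309, (6b), (C3), `r = 2`: the frame for `|T| = 4`: the fields of `W3` (`m = 3`, `|T| = 4`)

* `sylow_cj`, `ncard_CS_eq`, `card_TT_eq` : `|C_S|`, `|T_S|` do not depend on the Sylow group `S`;
* `TT_eq_of_four` : `|T_S| = 4`, `z ≠ u` in `C_S`: `T_S = {1, z, u, z u}`; `CS_of_three`;
* **`W3.of`** : `|C_S| = 3`, `|T_S| = 4`: `MThree.W3 Om`.
-/

set_option autoImplicit false
set_option linter.style.haveILetI false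
set_option linter.unusedSectionVars false

namespace Cfsg.Agent.Cit.Nil.RTwoM

open Subgroup Cfsg Cfsg.Agent.Cit

open RG (WR CP Ov InO)
open RI (CS)

variable {G : Type*} [Group G] {Om : Set (Subgroup G)} {K L M : Subgroup G} {a b d e s t u v x y z g k n : G}

section Fin

variable [Finite G]

theorem sylow_cj (S S' : Sylow 2 G) : ∃ g : G, (S' : Subgroup G) = cj g (S : Subgroup G) := by
  haveI : Fact (Nat.Prime 2) := ⟨Nat.prime_two⟩
  obtain ⟨g, hg⟩ := MulAction.exists_smul_eq G S S'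
  refine ⟨g, ?_⟩
  rw [← hg]
  rfl

theorem card_TT_eq (h : WM Om) (S S' : Sylow 2 G) :
    Nat.card (TT Om (S' : Subgroup G)) = Nat.card (TT Om (S : Subgroup G)) := by
  obtain ⟨g, hg⟩ := sylow_cj S S'
  rw [hg, TT_cj h g]
  exact Nat.card_congr (MulEquiv.toEquiv ((TT Om (S : Subgroup G)).equivMapOfInjective _
    (MulAut.conj g).injective)).symm

theorem ncard_CS_eq (h : WM Om) (S S' : Sylow 2 G) :
    (CS Om (S' : Subgroup G)).ncard = (CS Om (S : Subgroup G)).ncard := by
  obtain ⟨g, hg⟩ := sylow_cj S S'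
  have h1 : CS Om (S' : Subgroup G) = (fun x => g * x * g⁻¹) '' CS Om (S : Subgroup G) := by
    rw [hg]
    ext x
    constructor
    · intro hx
      refine ⟨g⁻¹ * x * g, ?_, by group⟩
      have h2 := cj_CS h g⁻¹ hx
      rw [inv_inv, cj_inv_cj] at h2
      exact h2
    · rintro ⟨y, hy, rfl⟩
      exact cj_CS h g hy
  rw [h1]
  exact Set.ncard_image_of_injective _ fun a b hab => mul_left_cancel (mul_right_cancel hab)

/-- `|T_S| = 4` -/
theorem TT_eq_of_four (h : WM Om) (S : Sylow 2 G) (h4 : Nat.card (TT Om (S : Subgroup G)) = 4)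
    (hz : z ∈ CS Om (S : Subgroup G)) (hu : u ∈ CS Om (S : Subgroup G)) (hne : z ≠ u)
    (ht : t ∈ TT Om (S : Subgroup G)) : t = 1 ∨ t = z ∨ t = u ∨ t = z * u := by
  classical
  have hzi := CS.inZ hz
  have hui := CS.inZ hu
  have h1 : ({1, z, u, z * u} : Finset G).card = 4 := by
    rw [Finset.card_insert_of_notMem, Finset.card_insert_of_notMem, Finset.card_insert_of_notMem,
      Finset.card_singleton]
    · rw [Finset.mem_singleton]
      intro h2
      exact hzi.z1 h (mul_eq_right.1 h2.symm)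
    · rw [Finset.mem_insert, Finset.mem_singleton]
      rintro (h2 | h2)
      · exact hne h2
      · exact hui.z1 h (mul_eq_left.1 h2.symm)
    · rw [Finset.mem_insert, Finset.mem_insert, Finset.mem_singleton]
      rintro (h2 | h2 | h2)
      · exact hzi.z1 h h2.symm
      · exact hui.z1 h h2.symm
      · apply hne
        have h3 : z = u⁻¹ := eq_inv_of_mul_eq_one_left h2.symm
        rw [h3, hui.inv h]
  have h2 : ((({1, z, u, z * u} : Finset G) : Set G)) ⊆ (TT Om (S : Subgroup G) : Set G) := by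
    intro k hk
    rw [Finset.mem_coe, Finset.mem_insert, Finset.mem_insert, Finset.mem_insert, Finset.mem_singleton] at hk
    rcases hk with rfl | rfl | rfl | rfl
    · exact one_mem _
    · exact CS.mem_TT hz
    · exact CS.mem_TT hu
    · exact mul_mem (CS.mem_TT hz) (CS.mem_TT hu)
  have h3 : (((({1, z, u, z * u} : Finset G) : Set G))) = (TT Om (S : Subgroup G) : Set G) := by
    refine Set.eq_of_subset_of_ncard_le h2 ?_ (Set.toFinite _)
    rw [Set.ncard_coe_finset, h1]
    have h5 : (TT Om (S : Subgroup G) : Set G).ncard = Nat.card (TT Om (S : Subgroup G)) :=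
      (Nat.card_coe_set_eq _).symm
    rw [h5, h4]
  have h4' : t ∈ (((({1, z, u, z * u} : Finset G) : Set G))) := by rw [h3]; exact ht
  rw [Finset.mem_coe, Finset.mem_insert, Finset.mem_insert, Finset.mem_insert, Finset.mem_singleton] at h4'
  exact h4'

theorem CS.ne_one {S : Subgroup G} (h : WM Om) (hz : z ∈ CS Om S) : z ≠ 1 := (CS.inZ hz).z1 h

/-- `|C_S| = 3`, `|T_S| = 4` : `C_S = {z, u, z u}` -/
theorem CS_of_three (h : WM Om) (S : Sylow 2 G) (h4 : Nat.card (TT Om (S : Subgroup G)) = 4)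
    (h3 : (CS Om (S : Subgroup G)).ncard = 3) (hz : z ∈ CS Om (S : Subgroup G)) (hu : u ∈ CS Om (S : Subgroup G))
    (hne : z ≠ u) : z * u ∈ CS Om (S : Subgroup G) ∧ ∀ v ∈ CS Om (S : Subgroup G), v = z ∨ v = u ∨ v = z * u := by
  have h5 : ∀ v ∈ CS Om (S : Subgroup G), v = z ∨ v = u ∨ v = z * u := by
    intro v hv
    rcases TT_eq_of_four h S h4 hz hu hne (CS.mem_TT hv) with h6 | h6
    · exact absurd h6 (CS.ne_one h hv)
    · exact h6
  refine ⟨?_, h5⟩
  by_contra hcon
  have h6 : CS Om (S : Subgroup G) ⊆ {z, u} := by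
    intro v hv
    rcases h5 v hv with h7 | h7 | h7
    · exact Or.inl h7
    · exact Or.inr h7
    · exact absurd (by rw [← h7]; exact hv) hcon
  have h7 := Set.ncard_le_ncard h6 (Set.toFinite _)
  have h8 : ({z, u} : Set G).ncard = 2 := Set.ncard_pair hne
  omega

namespace MThree

/-- **the world `W3`** from `|C_S| = 3`, `|T_S| = 4` -/
theorem W3.of (h : WM Om) (l0 : L0 Om) (an : ANT Om) (oc : OneCl Om) (as : ANS Om)
    (h3 : ∀ S : Sylow 2 G, (CS Om (S : Subgroup G)).ncard = 3)
    (h4 : ∀ S : Sylow 2 G, Nat.card (TT Om (S : Subgroup G)) = 4) : W3 Om where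
  w := h
  l0 := l0
  an := an
  oc := oc
  as := fun e z u x he he1 hz hu hc hez heu hx hex =>
    as.comm_ZS h l0 he he1 ⟨hu, heu⟩ ⟨hz, hez⟩ hc.symm ⟨hz, hez⟩ ⟨hx, hex⟩
  mul := by
    intro z u hz hu hc
    obtain ⟨S, hzS, huS⟩ := exists_sylow_of_cp h hz hu hc
    exact CS.inZ (CS_of_three h S (h4 S) (h3 S) hzS huS hc.1).1
  ex := by
    intro z hz
    obtain ⟨S, hzS⟩ := exists_sylow h hz
    by_contra hcon
    push Not at hcon
    have h5 : CS Om (S : Subgroup G) ⊆ {z} := by
      intro v hv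
      by_contra hne
      exact hcon v (CS.inZ hv) (CS.cp hzS h S.2 hv fun h6 => hne h6.symm)
    have h6 := Set.ncard_le_ncard h5 (Set.toFinite _)
    rw [Set.ncard_singleton] at h6
    have := h3 S
    omega
  third := by
    intro z u v hz hu hv hzu hzv huv
    obtain ⟨S, hzS, huS⟩ := exists_sylow_of_cp h hz hu hzu
    obtain ⟨hmS, hall⟩ := CS_of_three h S (h4 S) (h3 S) hzS huS hzu.1
    have hm : InZ Om (z * u) := CS.inZ hmS
    have h5 : z * u ∈ CX Om v := Subgroup.mul_mem _ (cp_cx h hz hzv.symm) (cp_cx h hu huv.symm)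
    rcases (cen_iff h hv hm).1 h5 with h6 | h6
    · exact h6
    · exfalso
      have h7 : v ∈ CS Om (S : Subgroup G) := by
        refine mem_CS_of_clique h S hv fun w hw => ?_
        rcases hall w hw with h8 | h8 | h8
        · right; rw [h8]; exact hzv
        · right; rw [h8]; exact huv
        · right; rw [h8]; exact h6.symm
      rcases hall v h7 with h8 | h8 | h8
      · exact hzv.1 h8.symm
      · exact huv.1 h8.symm
      · exact h6.1 h8

end MThree

end Fin

end Cfsg.Agent.Cit.Nil.RTwoM
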