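import Cfsg.Agent.Cit.Nil.RTwoM.EndX
import Cfsg.Agent.Cit.Nil.RTwoM.NilZ
import Cfsg.Agent.Cit.Nil.RTwoM.TFour
import Cfsg.Agent.Cit.Nil.RTwoM.L1.SwapW
import Cfsg.Agent.StdEven.Syl

/-!
# S1309, (6b), (C3), `r = 2`, `m = 2`, all C-partners unique: contradiction (762's proof, bb R18 #20587)

`UW Om` : the world; `Pp Om s b` : `(b, b s)` is a C-pair. No AN, no `LAMBDA0`, no (C3) before the end.

* `UW.syl` : a 2-subgroup of `C(s)` lies in a Sylow subgroup `Q` of `G` with `C_Q = {b, b s}`;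
* `UW.types`, `UW.exists_as` : `x ∈ Z ∩ C(s)`, `s` does not centralise `R_x`;
* `UW.mem_RZ` : then `s ∈ R_x`; `UW.cx` : impossible; `UW.isolated` : `s` is isolated;
* **`WM.false_of_uniq`**.
-/

set_option autoImplicit false
set_option linter.style.haveILetI false
set_option linter.unusedSectionVars false

namespace Cfsg.Agent.Cit.Nil.RTwoM

open Subgroup Cfsg Cfsg.Agent.Cit

open RTwo (Q3)
open RG (WR CP Ov InO Tr)
open RI (CS)
open Cfsg.Agent.Cit.Nil.ROne (FSimp)

variable {G : Type*} [Group G] {Om : Set (Subgroup G)} {K L M X P : Subgroup G}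
  {a b c d g k l q r s t u v x y z : G}

namespace Uq

/-- the world: `m = 2`, C-partners are unique -/
structure UW (Om : Set (Subgroup G)) : Prop where
  w : WM Om
  two : ∀ S : Sylow 2 G, (CS Om (S : Subgroup G)).ncard = 2
  uniq : ∀ z a b, InZ Om z → InZ Om a → InZ Om b → CP Om z a → CP Om z b → a = b

/-- `(b, b s)` is a C-pair -/
structure Pp (Om : Set (Subgroup G)) (s b : G) : Prop where
  hb : InZ Om b
  hbs : InZ Om (b * s)
  cp : CP Om b (b * s)

section Fin

variable [Finite G]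

namespace Pp

theorem eq (p : Pp Om s b) (h : WM Om) : s = b * (b * s) := by rw [← mul_assoc, p.hb.z2 h, one_mul]

theorem comm (p : Pp Om s b) (h : WM Om) : b * s = s * b := by
  have h1 := cp_comm h p.hb p.hbs p.cp
  rw [← p.eq h] at h1
  have h2 : b * s = b * (b * s * b) := by rw [← h1]
  have h3 : b * (b * s * b) = s * b := by rw [mul_assoc b s b, ← mul_assoc b b, p.hb.z2 h, one_mul]
  rw [h2, h3]

theorem sq (p : Pp Om s b) (h : WM Om) : s * s = 1 := by
  have h1 := p.hbs.z2 h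
  have h2 : b * s * (b * s) = s * s := by
    calc b * s * (b * s) = b * (s * b) * s := by group
      _ = (b * b) * (s * s) := by rw [← p.comm h]; group
      _ = s * s := by rw [p.hb.z2 h, one_mul]
  rwa [h2] at h1

theorem inv (p : Pp Om s b) (h : WM Om) : s⁻¹ = s := inv_eq_of_mul_eq_one_right (p.sq h)

theorem bss (p : Pp Om s b) (h : WM Om) : b * s * s = b := by rw [mul_assoc, p.sq h, mul_one]

theorem symm (p : Pp Om s b) (h : WM Om) : Pp Om s (b * s) :=
  ⟨p.hbs, by rw [p.bss h]; exact p.hb, by rw [p.bss h]; exact p.cp.symm⟩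

theorem cx (p : Pp Om s b) (h : WM Om) : s ∈ CX Om b := by
  rw [p.eq h]
  exact mul_mem (z_mem_CX h) (cp_cx h p.hbs p.cp)

theorem ne_one (p : Pp Om s b) : s ≠ 1 := by
  intro h1
  apply p.cp.1
  rw [h1, mul_one]

theorem ne (p : Pp Om s b) : b ≠ b * s := p.cp.1

theorem conj (p : Pp Om s b) (h : WM Om) (g : G) : Pp Om (g * s * g⁻¹) (g * b * g⁻¹) := by
  have h1 : g * b * g⁻¹ * (g * s * g⁻¹) = g * (b * s) * g⁻¹ := by group
  exact ⟨p.hb.conj h g, by rw [h1]; exact p.hbs.conj h g, by rw [h1]; exact cp_conj h p.cp g⟩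

end Pp

/-- `t` acts on `K` as the central involution: trivially -/
theorem as_one_of_z (hK : Mem Om x K) (h : WM Om) (ht : As K t x) : As K t 1 := by
  refine As.one_iff.2 fun k hk => ?_
  have h3 := ht.2 k hk
  rwa [← hK.comm_z h hk, mul_inv_cancel_right, mul_inv_eq_iff_eq_mul] at h3

namespace UW

variable (W : UW Om)

include W

theorem CS_eq (S : Sylow 2 G) (hz : z ∈ CS Om (S : Subgroup G)) (hu : u ∈ CS Om (S : Subgroup G)) (hne : z ≠ u) :
    CS Om (S : Subgroup G) = {z, u} := by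
  symm
  refine Set.eq_of_subset_of_ncard_le ?_ ?_ (Set.toFinite _)
  · rintro v (rfl | rfl)
    · exact hz
    · exact hu
  · rw [W.two S, Set.ncard_pair hne]

/-- every `z ∈ Z` has a C-partner -/
theorem exists_pp (hz : InZ Om z) : ∃ s, Pp Om s z := by
  obtain ⟨S, hzS⟩ := exists_sylow W.w hz
  obtain ⟨u, hu, hne⟩ : ∃ u ∈ CS Om (S : Subgroup G), u ≠ z := by
    by_contra hcon
    push Not at hcon
    have h6 := Set.ncard_le_ncard (show CS Om (S : Subgroup G) ⊆ {z} from fun v hv => hcon v hv) (Set.toFinite _)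
    rw [Set.ncard_singleton] at h6
    have := W.two S
    omega
  have h1 : z * (z * u) = u := by rw [← mul_assoc, hz.z2 W.w, one_mul]
  exact ⟨z * u, hz, by rw [h1]; exact CS.inZ hu, by rw [h1]; exact CS.cp hzS W.w S.2 hu hne.symm⟩

/-- a Sylow subgroup normalising `{b, b s}` centralises `s` -/
theorem comm_of_perm (p : Pp Om s b) (h1 : t * b * t⁻¹ = b ∨ t * b * t⁻¹ = b * s)
    (h2 : t * (b * s) * t⁻¹ = b ∨ t * (b * s) * t⁻¹ = b * s) : t * s = s * t := by
  have h := W.w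
  have h3 : t * s * t⁻¹ = (t * b * t⁻¹) * (t * (b * s) * t⁻¹) := by
    have := p.eq h
    calc t * s * t⁻¹ = t * (b * (b * s)) * t⁻¹ := by rw [← this]
      _ = _ := by group
  have h4 : t * b * t⁻¹ ≠ t * (b * s) * t⁻¹ := fun h5 => p.ne (mul_left_cancel (mul_right_cancel h5))
  rw [← mul_inv_eq_iff_eq_mul, h3]
  rcases h1 with h1 | h1 <;> rcases h2 with h2 | h2
  · exact absurd (h1.trans h2.symm) h4
  · rw [h1, h2, ← p.eq h]
  · rw [h1, h2, ← cp_comm h p.hb p.hbs p.cp, ← p.eq h]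
  · exact absurd (h1.trans h2.symm) h4

/-- **a 2-subgroup of `C(s)` lies in a Sylow subgroup `Q` of `G` with `C_Q = {b, b s}`** -/
theorem syl (p : Pp Om s b) (hP : IsPGroup 2 P) (hPs : ∀ t ∈ P, t * s = s * t) :
    ∃ Q : Sylow 2 G, P ≤ (Q : Subgroup G) ∧ ∃ c, Pp Om s c ∧ CS Om (Q : Subgroup G) = {c, c * s} := by
  have h := W.w
  obtain ⟨S, hz, hu⟩ := exists_sylow_of_cp h p.hb p.hbs p.cp
  have hCS := W.CS_eq S hz hu p.ne
  have hSs : (S : Subgroup G) ≤ centralizer {s} := by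
    intro t ht
    rw [mem_centralizer_singleton_iff]
    have h1 := CS.conj hz h ht
    have h2 := CS.conj hu h ht
    rw [hCS] at h1 h2
    exact W.comm_of_perm p h1 h2
  have h1 := StdEven.Syl.isSyl_top_of_sylow S
  have h2 : StdEven.Syl.IsSyl (S : Subgroup G) (centralizer {s}) :=
    ⟨hSs, h1.two, fun X hX _ hSX => h1.max X hX le_top hSX⟩
  obtain ⟨m, hm, hmP⟩ := h2.exists_conj hP (fun t ht => mem_centralizer_singleton_iff.2 (hPs t ht))
  rw [mem_centralizer_singleton_iff] at hm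
  have hm' : m⁻¹ * s * m = s := by
    rw [mul_assoc, ← hm]; group
  obtain ⟨Q, hQ⟩ : ∃ Q : Sylow 2 G, (Q : Subgroup G) = cj m⁻¹ (S : Subgroup G) := ⟨m⁻¹ • S, rfl⟩
  have h3 := cj_CS h m⁻¹ hz
  have h4 := cj_CS h m⁻¹ hu
  have e1 : m⁻¹ * (b * s) * m⁻¹⁻¹ = m⁻¹ * b * m⁻¹⁻¹ * s := by
    calc m⁻¹ * (b * s) * m⁻¹⁻¹ = m⁻¹ * b * m * (m⁻¹ * s * m) := by group
      _ = _ := by rw [hm', inv_inv]
  rw [e1] at h4
  rw [← hQ] at h3 h4
  have p' := p.conj h m⁻¹
  have e2 : m⁻¹ * s * m⁻¹⁻¹ = s := by rw [inv_inv, hm']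
  rw [e2] at p'
  refine ⟨Q, fun t ht => ?_, _, p', W.CS_eq Q h3 h4 p'.ne⟩
  rw [hQ, mem_cj, inv_inv]
  exact hmP t ht

/-- a member centralised by `s` -/
theorem pp_of_mem (p : Pp Om s b) (hK : Mem Om x K) (hc : ∀ k ∈ K, s * k = k * s) : Pp Om s x := by
  obtain ⟨Q, hQ, c, pc, hCS⟩ := W.syl p (W.w.isPGroup hK.1) fun t ht => (hc t ht).symm
  have h1 : x ∈ CS Om (Q : Subgroup G) := ⟨K, hK, hQ⟩
  rw [hCS] at h1
  rcases h1 with h1 | h1
  · rw [h1]; exact pc
  · rw [h1]; exact pc.symm W.w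

theorem pp_of_cx (p : Pp Om s b) (hx : InZ Om x) (hc : s ∈ CX Om x) : Pp Om s x := by
  obtain ⟨K, hK⟩ := hx
  exact W.pp_of_mem p hK (mem_CX.1 hc K hK)

/-- the C-swap lemma -/
theorem cswap (p : Pp Om s b) (hx : InZ Om x) (hc : x * b * x⁻¹ = b * s) : s ∈ CX Om x := by
  have h := W.w
  have h1 : ROne.CSw (RZ Om) b x := by
    change ROne.CP (RZ Om) b (x * b * x⁻¹)
    rw [hc]
    exact (L1.cp_iff h p.hb p.hbs).2 p.cp
  have h2 := L1.cen_iff'.1 (L1.wt_cen h p.hb hx h1)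
  have h3 : ROne.wt b x = s := by
    rw [ROne.wt, hc]
    exact (p.eq h).symm
  rwa [h3] at h2

/-- the C-partner is determined: `C(b) = C(b s)` -/
theorem comm_iff (p : Pp Om s b) : g * b = b * g ↔ g * (b * s) = b * s * g := by
  have h := W.w
  constructor
  · intro h1
    have h2 := cp_conj h p.cp g
    rw [h1, mul_inv_cancel_right] at h2
    have h3 := W.uniq b _ _ p.hb (p.hbs.conj h g) p.hbs h2 p.cp
    rwa [mul_inv_eq_iff_eq_mul] at h3
  · intro h1
    have h2 := cp_conj h p.cp.symm g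
    rw [h1, mul_inv_cancel_right] at h2
    have h3 := W.uniq (b * s) _ _ p.hbs (p.hb.conj h g) p.hb h2 p.cp.symm
    rwa [mul_inv_eq_iff_eq_mul] at h3

theorem comm_s (p : Pp Om s b) (h1 : g * b = b * g) : g * s = s * g := by
  have h := W.w
  have h2 := (W.comm_iff p).1 h1
  have h3 := p.eq h
  rw [h3, ← mul_assoc, h1, mul_assoc, h2, ← mul_assoc]

/-- `x` is N to `b`, `b s` -/
theorem nn (p : Pp Om s b) (hx : InZ Om x) (hn : s ∉ CX Om x) :
    x ≠ b ∧ x ≠ b * s ∧ ¬ CP Om x b ∧ ¬ CP Om x (b * s) := by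
  have h := W.w
  have n1 : x ≠ b := fun h1 => hn (h1 ▸ p.cx h)
  have n2 : x ≠ b * s := fun h1 => hn (h1 ▸ (p.symm h).cx h)
  refine ⟨n1, n2, fun h3 => n2 ?_, fun h3 => n1 ?_⟩
  · exact W.uniq b _ _ p.hb hx p.hbs h3.symm p.cp
  · exact W.uniq (b * s) _ _ p.hbs hx p.hb h3.symm p.cp.symm

/-- **(i)** -/
theorem types (p : Pp Om s b) (hx : InZ Om x) (hxb : x * b = b * x) (hn : s ∉ CX Om x) :
    (Ff Om x b ∧ Ff Om x (b * s)) ∨ (Swp Om x b ∧ Swp Om x (b * s)) := by
  have h := W.w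
  obtain ⟨n1, n2, n3, n4⟩ := W.nn p hx hn
  have hxbs := (W.comm_iff p).1 hxb
  obtain ⟨K, hK⟩ := id hx
  have hx1 := hx.z1 h
  have hxx := hx.z2 h
  -- a pair (I, swap) or (f, swap) is impossible
  have key1 : ∀ {u v : G}, (∀ g, g * u = u * g → g * v = v * g) → TI Om x u → Swp Om x v → False := by
    intro u v huv h1 h2
    obtain ⟨y, hy, hyy⟩ := h1.exists_as h hK
    have h3 := huv y hy.comm.symm
    have h4 : y ∈ cj v K := by
      have := conj_mem_cj (g := v) hy.1
      rwa [← h3, mul_inv_cancel_right] at this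
    rcases h2.inf h hK hy.1 h4 rfl with h5 | h5
    · rw [h5, one_mul] at hyy; exact hx1 hyy.symm
    · rw [h5, hxx] at hyy; exact hx1 hyy.symm
  have key2 : ∀ {u v : G}, v * v = 1 → (∀ g, g * v = v * g → g * u = u * g) → Ff Om x u → Swp Om x v → False := by
    intro u v hv huv h1 h2
    obtain ⟨a, ha, h3, -⟩ := h2.cent_fix h hK (h1.2 K hK).1 fun k hk =>
      (huv _ (qq_comm h2 h hv hK hk).symm).symm
    apply (h1.2 K hK).2
    intro k hk
    rw [h3.2 k hk]
    exact hK.comm_or h hk h3.1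
  have huv : ∀ g, g * b = b * g → g * (b * s) = b * s * g := fun g => (W.comm_iff p).1
  have hvu : ∀ g, g * (b * s) = b * s * g → g * b = b * g := fun g => (W.comm_iff p).2
  have tz : TI Om x b ∨ Swp Om x b ∨ Ff Om x b := by
    rcases tri h hx p.hb n1 hxb with h1 | h1 | h1
    · exact absurd h1 n3
    · exact Or.inl h1
    · exact Or.inr h1.1.cases
  have tu : TI Om x (b * s) ∨ Swp Om x (b * s) ∨ Ff Om x (b * s) := by
    rcases tri h hx p.hbs n2 hxbs with h1 | h1 | h1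
    · exact absurd h1 n4
    · exact Or.inl h1
    · exact Or.inr h1.1.cases
  rcases tz with hz | hz | hz <;> rcases tu with hu | hu | hu
  · exfalso
    apply hn
    have h1 := tt_II_cx h p.cp hz hu
    rwa [← p.eq h] at h1
  · exact (key1 huv hz hu).elim
  · exact (tt_If h p.cp hz p.hbs hu).elim
  · exact (key1 hvu hu hz).elim
  · exact Or.inr ⟨hz, hu⟩
  · exact (key2 (p.hb.z2 h) huv hu hz).elim
  · exact (tt_If h p.cp.symm hu p.hb hz).elim
  · exact (key2 (p.hbs.z2 h) hvu hz hu).elim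
  · exact Or.inl ⟨hz, hu⟩

/-- `s` acts on the members over `x` as elements of order 4 -/
theorem exists_as (p : Pp Om s b) (hx : InZ Om x) (hxb : x * b = b * x) (hn : s ∉ CX Om x) (hK : Mem Om x K) :
    ∃ a, As K s a ∧ a * a = x := by
  have h := W.w
  have hno : ¬ As K s 1 := fun h1 => hn ((W.pp_of_mem p hK (As.one_iff.1 h1)).cx h)
  rcases W.types p hx hxb hn with ⟨h1, h2⟩ | ⟨h1, h2⟩
  · obtain ⟨a, ha⟩ := h1.exists_tr h (p.hb.z2 h) hK
    obtain ⟨a', ha'⟩ := h2.exists_tr h (p.hbs.z2 h) hK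
    have h3 := Tr.same h hK (h1.2 K hK).1 (cp_comm h p.hb p.hbs p.cp) ha' ha
    rcases Tr.mul_cases h hK (h1.2 K hK).1 (h2.2 K hK).1 ha h3 with h4 | h4 <;> rw [← p.eq h] at h4
    · exact absurd h4 hno
    · exact ⟨a, h4, Tr.sq' ha hK⟩
  · have h3 : cj s K = K := by
      have h4 : cj (b * s) K = cj b K := by
        rcases hK.cases (h1.mem h hK) h (h1.ne hK) (h2.mem h hK) with h5 | h5
        · exact absurd h5 (h2.2 K hK)
        · exact h5
      have h5 : cj b (cj b K) = K := by rw [← cj_mul, p.hb.z2 h, cj_one]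
      rw [p.eq h, cj_mul, h4, h5]
    obtain ⟨a, ha, h4, -⟩ := h1.cent_fix h hK h3 fun k hk => by
      have h5 := qq_comm h1 h (p.hb.z2 h) hK hk
      exact (W.comm_s p h5.symm).symm
    rcases hK.sq_cases h ha with h5 | h5 | h5
    · rw [h5] at h4; exact absurd h4 hno
    · rw [h5] at h4; exact absurd (as_one_of_z hK h h4) hno
    · exact ⟨a, h4, h5⟩

/-- **(ii)** : `s ∈ R_x` -/
theorem mem_RZ (p : Pp Om s b) (hx : InZ Om x) (hxs : x * s = s * x) (hn : s ∉ CX Om x) :
    s ∈ RZ Om x ∧ ∃ z, Pp Om s z ∧ x * z = z * x ∧ Swp Om x z := by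
  have h := W.w
  have hx1 := hx.z1 h
  have hxx := hx.z2 h
  have hss := p.sq h
  have hE : IsPGroup 2 (RZ Om x ⊓ centralizer {s} : Subgroup G) := (L1.two_RZ h hx).to_le inf_le_left
  obtain ⟨Q, hQ, z, pz, hCS⟩ := W.syl p hE fun t ht => mem_centralizer_singleton_iff.1 ht.2
  have hEQ : ∀ r ∈ RZ Om x, r * s = s * r → r * z * r⁻¹ = z ∨ r * z * r⁻¹ = z * s := by
    intro r hr hrs
    have h1 : r ∈ (Q : Subgroup G) := hQ ⟨hr, mem_centralizer_singleton_iff.2 hrs⟩
    have h2 : z ∈ CS Om (Q : Subgroup G) := by rw [hCS]; exact Or.inl rfl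
    have h3 := CS.conj h2 h h1
    rwa [hCS] at h3
  have hxz : x * z = z * x := by
    rcases hEQ x (z_mem_RZ hx h) hxs with h1 | h1
    · rwa [mul_inv_eq_iff_eq_mul] at h1
    · exact absurd (W.cswap pz hx h1) hn
  obtain ⟨K, hK⟩ := id hx
  obtain ⟨L, hL, hne, -⟩ := hK.other h
  obtain ⟨a, ha, haa⟩ := W.exists_as pz hx hxz hn hK
  rcases W.types pz hx hxz hn with ⟨h1, -⟩ | ⟨h1, -⟩
  · -- type f
    exfalso
    obtain ⟨a', ha', haa'⟩ := W.exists_as pz hx hxz hn hL
    obtain ⟨c, hc, hcc, hac⟩ := hK.exists_nc h ha.1 haa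
    obtain ⟨c', hc', hcc', hac'⟩ := hL.exists_nc h ha'.1 haa'
    obtain ⟨b1, hb1⟩ := h1.exists_tr h (pz.hb.z2 h) hK
    obtain ⟨b2, hb2⟩ := h1.exists_tr h (pz.hb.z2 h) hL
    have hb1s : b1 * b1 = x := Tr.sq' hb1 hK
    -- `z` does not commute with `a`
    have hza : ¬ z * a = a * z := by
      intro h2
      rcases Tr.comm_iff hb1 hK h ha.1 (by rw [h2, mul_inv_cancel_right]) with h3 | h3
      · rw [h3, one_mul] at haa; exact hx1 haa.symm
      · rw [h3, hxx] at haa; exact hx1 haa.symm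
    -- `a = b1` or `x b1`
    have hab : a = b1 ∨ a = x * b1 := by
      have h2 : z * s = s * z := pz.comm h
      have h3 : z * a * z⁻¹ = a ∨ z * a * z⁻¹ = x * a := by
        have h4 := ha.conj_comm h2
        rw [(h1.2 K hK).1] at h4
        exact hK.as_unique h ha h4
      rcases Tr.cases hb1 hK h ha.1 h3 with h4 | h4 | h4 | h4
      · rw [h4, one_mul] at haa; exact absurd haa.symm hx1
      · rw [h4, hxx] at haa; exact absurd haa.symm hx1
      · exact Or.inl h4
      · exact Or.inr h4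
    have hkb : ∀ {k : G}, k ∈ K → k * b1 = b1 * k → k * a = a * k := by
      intro k hk h2
      rcases hab with h3 | h3
      · rw [h3]; exact h2
      · rw [h3]
        calc k * (x * b1) = (k * x) * b1 := by group
          _ = x * (k * b1) := by rw [hK.comm_z h hk]; group
          _ = x * b1 * k := by rw [h2]; group
    -- the fixed points of `z`
    have hkl : ∀ {k l : G}, k ∈ K → l ∈ L → z * (k * l) = (k * l) * z → k * a = a * k := by
      intro k l hk hl h2
      apply hkb hk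
      have h3 := h1.fix h hK hL hne hb1 hb2 (mul_mem (hK.le_RZ hk) (hL.le_RZ hl)) h2
      have hKx : ∀ {g : G}, g ∈ K → g ∈ L → g = 1 ∨ g = x := fun h4 h5 => hK.inf hL h hne h4 h5
      have hbx : b1 * x = x * b1 := hK.comm_z h hb1.mem
      rcases h3 with h3 | h3 | h3 | h3
      · rcases hKx hk (by rw [eq_inv_of_mul_eq_one_left h3]; exact inv_mem hl) with h4 | h4
        · rw [h4]; group
        · rw [h4, hbx]
      · rcases hKx hk (by rw [eq_mul_inv_of_mul_eq h3]; exact mul_mem (hL.zmem h) (inv_mem hl)) with h4 | h4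
        · rw [h4]; group
        · rw [h4, hbx]
      · have h5 : b1⁻¹ * k = b2 * l⁻¹ := by
          rw [inv_mul_eq_iff_eq_mul, ← mul_assoc, ← h3, mul_inv_cancel_right]
        rcases hKx (mul_mem (inv_mem hb1.mem) hk) (by rw [h5]; exact mul_mem hb2.mem (inv_mem hl)) with h4 | h4 <;>
          rw [inv_mul_eq_iff_eq_mul] at h4 <;> rw [h4]
        · rw [mul_one]
        · rw [mul_assoc, ← hbx]
      · have h5 : b1⁻¹ * k = x * (b2 * l⁻¹) := by
          rw [inv_mul_eq_iff_eq_mul]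
          calc k = (k * l) * l⁻¹ := by group
            _ = (x * b1) * b2 * l⁻¹ := by rw [h3]; group
            _ = (b1 * x) * b2 * l⁻¹ := by rw [hbx]
            _ = _ := by group
        rcases hKx (mul_mem (inv_mem hb1.mem) hk)
          (by rw [h5]; exact mul_mem (hL.zmem h) (mul_mem hb2.mem (inv_mem hl))) with h4 | h4 <;>
          rw [inv_mul_eq_iff_eq_mul] at h4 <;> rw [h4]
        · rw [mul_one]
        · rw [mul_assoc, ← hbx]
    -- `r = c c'`
    obtain ⟨r, hr⟩ : ∃ r, r = c * c' := ⟨_, rfl⟩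
    have hrR : r ∈ RZ Om x := by rw [hr]; exact mul_mem (hK.le_RZ hc) (hL.le_RZ hc')
    have hrs : r * s = s * r := by
      have h2 : s * c * s⁻¹ = x * c := by
        rw [ha.2 c hc]; exact hK.anti h hc hcc ha.1 haa fun h3 => hac h3.symm
      have h3 : s * c' * s⁻¹ = x * c' := by
        rw [ha'.2 c' hc']; exact hL.anti h hc' hcc' ha'.1 haa' fun h3 => hac' h3.symm
      symm
      rw [← mul_inv_eq_iff_eq_mul, hr]
      calc s * (c * c') * s⁻¹ = (s * c * s⁻¹) * (s * c' * s⁻¹) := by group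
        _ = x * (c * x) * c' := by rw [h2, h3]; group
        _ = (x * x) * (c * c') := by rw [hK.comm_z h hc]; group
        _ = c * c' := by rw [hxx, one_mul]
    have haR : a ∈ RZ Om x := hK.le_RZ ha.1
    have has : a * s = s * a := ha.comm.symm
    have h2 : a * z * a⁻¹ = z * s := by
      rcases hEQ a haR has with h3 | h3
      · exact absurd (by rwa [mul_inv_eq_iff_eq_mul, eq_comm] at h3) hza
      · exact h3
    have h3 : r * z * r⁻¹ = z * s := by
      rcases hEQ r hrR hrs with h3 | h3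
      · exfalso
        rw [mul_inv_eq_iff_eq_mul] at h3
        rw [hr] at h3
        exact hac (hkl hc hc' h3.symm).symm
      · exact h3
    have h4 : z * (a * c * c') = (a * c * c') * z := by
      have h5 : (a * r) * z * (a * r)⁻¹ = z := by
        calc (a * r) * z * (a * r)⁻¹ = a * (r * z * r⁻¹) * a⁻¹ := by group
          _ = (a * z * a⁻¹) * (a * s * a⁻¹) := by rw [h3]; group
          _ = z * s * s := by rw [h2, has, mul_inv_cancel_right]
          _ = z := pz.bss h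
      rw [mul_inv_eq_iff_eq_mul, hr, ← mul_assoc] at h5
      exact h5.symm
    have h5 := hkl (mul_mem ha.1 hc) hc' h4
    apply hac
    have h6 : a * (c * a) = a * (a * c) := by rw [← mul_assoc, h5]
    exact (mul_left_cancel h6).symm
  · -- type p
    refine ⟨?_, z, pz, hxz, h1⟩
    have h2 : a * z * a⁻¹ = z * s := by
      rcases hEQ a (hK.le_RZ ha.1) ha.comm.symm with h3 | h3
      · exfalso
        rw [mul_inv_eq_iff_eq_mul] at h3
        have h4 : a ∈ cj z K := by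
          have := conj_mem_cj (g := z) ha.1
          rwa [← h3, mul_inv_cancel_right] at this
        rcases h1.inf h hK ha.1 h4 rfl with h5 | h5
        · rw [h5, one_mul] at haa; exact hx1 haa.symm
        · rw [h5, hxx] at haa; exact hx1 haa.symm
      · exact h3
    have h3 : s = (z * a * z⁻¹) * a⁻¹ := by
      have h4 : z⁻¹ = z := pz.hb.inv h
      calc s = (z * z) * s := by rw [pz.hb.z2 h, one_mul]
        _ = z * (z * s) := by group
        _ = z * (a * z * a⁻¹) := by rw [h2]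
        _ = (z * a * z) * a⁻¹ := by group
        _ = _ := by rw [h4]
    rw [h3]
    exact mul_mem ((h1.mem h hK).le_RZ (conj_mem_cj ha.1)) (inv_mem (hK.le_RZ ha.1))

/-- **(iii)** : `Z ∩ C(s) = Z(s)` -/
theorem cx (p : Pp Om s b) (hx : InZ Om x) (hxs : x * s = s * x) : s ∈ CX Om x := by
  have h := W.w
  by_contra hn
  have hx1 := hx.z1 h
  have hxx := hx.z2 h
  obtain ⟨hsR, z, pz, hxz, hsw⟩ := W.mem_RZ p hx hxs hn
  obtain ⟨K, hK⟩ := id hx
  obtain ⟨a, ha, haa⟩ := W.exists_as pz hx hxz hn hK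
  obtain ⟨c, hc, hcc, hac⟩ := hK.exists_nc h ha.1 haa
  have h1 : s * c * s⁻¹ = x * c := by
    rw [ha.2 c hc]; exact hK.anti h hc hcc ha.1 haa fun h3 => hac h3.symm
  have hcx : c * x = x * c := hK.comm_z h hc
  have h2 : s * c = x * c * s := by rwa [mul_inv_eq_iff_eq_mul] at h1
  -- `c s c⁻¹ = x s`, `c⁻¹ s c = x s`
  have h3 : c * s * c⁻¹ = x * s := by
    rw [mul_inv_eq_iff_eq_mul]
    calc c * s = (x * x) * c * s := by rw [hxx, one_mul]
      _ = x * (x * c * s) := by group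
      _ = x * s * c := by rw [← h2]; group
  have h4 : c⁻¹ * s * c = x * s := by
    calc c⁻¹ * s * c = c⁻¹ * (s * c) := by group
      _ = c⁻¹ * (x * c * s) := by rw [h2]
      _ = c⁻¹ * (c * x) * s := by rw [hcx]; group
      _ = x * s := by group
  obtain ⟨x', hx'⟩ : ∃ x', x' = c * z * c⁻¹ := ⟨_, rfl⟩
  have hx'Z : InZ Om x' := by rw [hx']; exact pz.hb.conj h c
  have hzs : z * s = s * z := pz.comm h
  have hx's : x' * s = s * x' := by
    rw [hx']
    have h5 : z * (x * s) = (x * s) * z := by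
      calc z * (x * s) = (z * x) * s := by group
        _ = x * (z * s) := by rw [← hxz]; group
        _ = _ := by rw [hzs]; group
    calc c * z * c⁻¹ * s = c * (z * (c⁻¹ * s * c)) * c⁻¹ := by group
      _ = c * ((c⁻¹ * s * c) * z) * c⁻¹ := by rw [h4, h5]
      _ = s * (c * z * c⁻¹) := by group
  have hn' : s ∉ CX Om x' := by
    intro h5
    have p1 := W.pp_of_cx p hx'Z h5
    have p2 := pz.conj h c
    rw [← hx', h3] at p2
    have h6 := W.uniq x' _ _ hx'Z p1.hbs p2.hbs p1.cp p2.cp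
    have h7 : s = x * s := mul_left_cancel h6
    exact hx1 (mul_eq_right.1 h7.symm)
  obtain ⟨h5, -⟩ := W.mem_RZ p hx'Z hx's hn'
  rw [hx', L1.RZ_cj h, mem_cj, h4] at h5
  have h6 : Inn Om z x := by
    have h7 := (Inn.of_RZ pz.hb h h5).mul (Inn.of_CX (pz.cx h)) pz.hb h
    rwa [mul_assoc, pz.sq h, mul_one] at h7
  rcases Inn.cases h6 h pz.hb hx with h7 | h7 | h7
  · exact hn (h7 ▸ pz.cx h)
  · exact (W.nn pz hx hn).2.2.1 h7.symm
  · obtain ⟨y, hy, -⟩ := (h7.symm h).exists_as h hK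
    exact hsw.2 K hK hy.cj_eq

/-- **`s` is isolated** -/
theorem isolated (p : Pp Om s b) (S : Sylow 2 G) (hCS : CS Om (S : Subgroup G) = {b, b * s})
    (hg : g * s * g⁻¹ ∈ (S : Subgroup G)) : g * s * g⁻¹ = s := by
  have h := W.w
  by_contra hne
  obtain ⟨t, ht⟩ : ∃ t, t = g * s * g⁻¹ := ⟨_, rfl⟩
  rw [← ht] at hg hne
  have pt : Pp Om t (g * b * g⁻¹) := by rw [ht]; exact p.conj h g
  have htt := pt.sq h
  have A : ∀ v, InZ Om v → v * s = s * v → v * t = t * v → False := by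
    intro v hv h1 h2
    have p1 := W.pp_of_cx p hv (W.cx p hv h1)
    have p2 := W.pp_of_cx pt hv (W.cx pt hv h2)
    have h3 := W.uniq v _ _ hv p1.hbs p2.hbs p1.cp p2.cp
    exact hne (mul_left_cancel h3).symm
  have hb : b ∈ CS Om (S : Subgroup G) := by rw [hCS]; exact Or.inl rfl
  have h1 := CS.conj hb h hg
  rw [hCS] at h1
  have h2 : t * b * t⁻¹ = b * s := by
    rcases h1 with h1 | h1
    · exfalso
      rw [mul_inv_eq_iff_eq_mul] at h1
      exact A b p.hb (p.comm h) h1.symm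
    · exact h1
  -- the square root `d` of `s` in `C(t)`
  obtain ⟨K, hK⟩ := p.hb
  obtain ⟨q, hq⟩ := h.exists_q3 hK
  obtain ⟨k, hk⟩ : ∃ k, k = q 0 := ⟨_, rfl⟩
  have hkK : k ∈ K := by rw [hk]; exact hq.mem 0
  have hkk : k * k = b := by rw [hk]; exact hq.sq 0
  obtain ⟨l, hl⟩ : ∃ l, l = t * k * t⁻¹ := ⟨_, rfl⟩
  have ht' : t⁻¹ = t := inv_eq_of_mul_eq_one_right htt
  have hlR : l ∈ RZ Om (b * s) := by
    have h3 := RZ_conj h t (hK.le_RZ hkK)
    rwa [h2, ← hl] at h3
  have hkl : k * l = l * k := cp_RZ h p.cp (hK.le_RZ hkK) hlR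
  have hll : l * l = b * s := by
    rw [hl]
    calc t * k * t⁻¹ * (t * k * t⁻¹) = t * (k * k) * t⁻¹ := by group
      _ = _ := by rw [hkk, h2]
  obtain ⟨d, hd⟩ : ∃ d, d = k * l := ⟨_, rfl⟩
  have hdd : d * d = s := by
    rw [hd]
    calc k * l * (k * l) = k * (l * k) * l := by group
      _ = (k * k) * (l * l) := by rw [← hkl]; group
      _ = s := by rw [hkk, hll, ← p.eq h]
  have hdt : d * t = t * d := by
    have h3 : t * d * t⁻¹ = d := by
      have h4 : t * l * t⁻¹ = k := by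
        rw [hl]
        calc t * (t * k * t⁻¹) * t⁻¹ = (t * t) * k * (t * t)⁻¹ := by group
          _ = k := by rw [htt]; group
      rw [hd]
      calc t * (k * l) * t⁻¹ = (t * k * t⁻¹) * (t * l * t⁻¹) := by group
        _ = l * k := by rw [h4, ← hl]
        _ = k * l := hkl.symm
    rw [mul_inv_eq_iff_eq_mul] at h3
    exact h3.symm
  have hP : IsPGroup 2 (zpowers d) := by
    refine IsPGroup.of_card (n := Nat.log 2 (Nat.card (zpowers d))) ?_
    have h3 : Nat.card (zpowers d) ∣ 2 ^ 2 := by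
      rw [Nat.card_zpowers]
      refine orderOf_dvd_of_pow_eq_one ?_
      calc d ^ (2 ^ 2) = (d * d) * (d * d) := by norm_num [pow_succ]; group
        _ = 1 := by rw [hdd, p.sq h]
    obtain ⟨i, -, hi⟩ := (Nat.dvd_prime_pow Nat.prime_two).1 h3
    rw [hi, Nat.log_pow (by norm_num)]
  obtain ⟨Q, hQ, v, pv, hCQ⟩ := W.syl pt hP (by
    intro y hy
    obtain ⟨n, rfl⟩ := mem_zpowers_iff.1 hy
    exact (Commute.zpow_left (show Commute d t from hdt) n).eq)
  have hdQ : d ∈ (Q : Subgroup G) := hQ (mem_zpowers d)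
  have hv : v ∈ CS Om (Q : Subgroup G) := by rw [hCQ]; exact Or.inl rfl
  have h3 := CS.conj hv h hdQ
  rw [hCQ] at h3
  have h4 : s * v * s⁻¹ = v := by
    have h5 : s * v * s⁻¹ = d * (d * v * d⁻¹) * d⁻¹ := by rw [← hdd]; group
    rw [h5]
    rcases h3 with h3 | h3
    · rw [h3, h3]
    · rw [h3]
      calc d * (v * t) * d⁻¹ = (d * v * d⁻¹) * (d * t * d⁻¹) := by group
        _ = v * t * t := by rw [h3, hdt, mul_inv_cancel_right]
        _ = v := pv.bss h
  rw [mul_inv_eq_iff_eq_mul] at h4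
  exact A v pv.hb h4.symm (pv.comm h)

end UW

end Fin

end Uq

/-- **`r = 2`, `m = 2`: the C-partners of the elements of `Z` are not unique** -/
theorem WM.false_of_uniq [Finite G] (h : WM Om) (cls : OneCls Om) (c3 : C3E Om)
    (two : ∀ S : Sylow 2 G, (CS Om (S : Subgroup G)).ncard = 2)
    (uniq : ∀ z a b, InZ Om z → InZ Om a → InZ Om b → CP Om z a → CP Om z b → a = b)
    (hz : InZ Om z) (f : FSimp X) (hev : 2 ∣ Nat.card X) (gold : Cit.ROne.Gold X) (hB : CloEnd.Bend X) : False := by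
  have W : Uq.UW Om := ⟨h, two, uniq⟩
  obtain ⟨s, p⟩ := W.exists_pp hz
  obtain ⟨S, h1, h2⟩ := exists_sylow_of_cp h p.hb p.hbs p.cp
  have hCS := W.CS_eq S h1 h2 p.ne
  have hX : ∀ z, InZ Om z → z ∈ X := fun z hz => h.zmemX f hev hz
  have hsX : s ∈ X := by rw [p.eq h]; exact mul_mem (hX _ p.hb) (hX _ p.hbs)
  have hsS : s ∈ (S : Subgroup G) := by
    rw [p.eq h]
    obtain ⟨K, hK, hKS⟩ := h1
    obtain ⟨L, hL, hLS⟩ := h2
    exact mul_mem (hKS (Mem.zmem hK h)) (hLS (Mem.zmem hL h))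
  have hA : ∀ y ∈ zpowers s, y = 1 ∨ y = s := by
    intro y hy
    obtain ⟨n, rfl⟩ := mem_zpowers_iff.1 hy
    rcases Int.even_or_odd' n with ⟨m, rfl | rfl⟩
    · left
      rw [zpow_mul, zpow_ofNat, pow_two, p.sq h, one_zpow]
    · right
      rw [zpow_add, zpow_mul, zpow_ofNat, pow_two, p.sq h, one_zpow, one_mul, zpow_one]
  refine h.false_of_closed cls c3 hz f hev gold hB S (A := zpowers s) ?_ ?_ ?_ ⟨?_, ?_⟩
  · rw [Ne, zpowers_eq_bot]
    exact p.ne_one
  · rw [zpowers_le]; exact hsX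
  · intro x hx y hy
    rcases hA x hx with rfl | rfl <;> rcases hA y hy with rfl | rfl <;> simp
  · rw [zpowers_le]; exact hsS
  · intro x hx g hg
    rcases hA x hx with h3 | h3
    · rw [h3, mul_one, mul_inv_cancel]; exact one_mem _
    · rw [h3] at hg ⊢
      rw [W.isolated p S hCS hg]
      exact mem_zpowers s

end Cfsg.Agent.Cit.Nil.RTwoM
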