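import Cfsg.Agent.Cit.Nil.RTwoM.ANStar

/-!
# S1309, (6b), (C3), `r = 2`, any `m`, `LAMBDA0`: elementary groups acting on `R_x`, second version (ANS form) of FBound.lean

* `card_le_four` : `F` elementary, normalises the member `K` and is faithful on `K`: `|F| ≤ 4`;
* `card_le_eight` : `F` elementary, commutes with `x ∈ Z`, no element `≠ 1` of `F` centralises a member over `x`:
  `|F| ≤ 8`;
* `ANS.fb` (F-BOUND): `x ∈ Z` moves `u ∈ a0(z)`, `F ≤ C(R_z R_u) ∩ C(x)` elementary: `|F| ≤ 8`;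
* `no_mem_t`, `t_bound` : `x, u ∈ Z ∩ C(T)` do not commute: no element `≠ 1` of `T_u = T ∩ C(R_u)` centralises a
  member over `x`, `|T_u| ≤ 8`;
* `exists_four` : `x` a swap or `f` at `z`: `C_{R_z}(x)` contains a four-group through `z`;
* `ANS.no_mem_two`, `ANS.at_most_one` : `m ≥ 4`, `x, u ∈ Z ∩ C(C_S)` do not commute: at most one `z_j` is C to `u`.
-/

set_option autoImplicit false
set_option linter.style.haveILetI false
set_option linter.unusedSectionVars false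

namespace Cfsg.Agent.Cit.Nil.RTwoM

open Subgroup Cfsg Cfsg.Agent.Cit

open RG (WR CP Ov InO Tr)
open RI (CS)

variable {G : Type*} [Group G] {Om : Set (Subgroup G)} {K L M F : Subgroup G}
  {a b c d e s t u v w x y z z' g k n f : G}

section Fin

variable [Finite G]

/-! ### Elementary groups on one member -/

theorem card_le_of_cover {F : Subgroup G} (g1 f0 : G) (hF : ∀ g ∈ F, g = 1 ∨ g = g1 ∨ g = f0 ∨ g = g1 * f0) :
    Nat.card F ≤ 4 := by
  classical
  have h1 : (F : Set G) ⊆ (({1, g1, f0, g1 * f0} : Finset G) : Set G) := by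
    intro g hg
    rcases hF g hg with h2 | h2 | h2 | h2 <;> simp [h2]
  have h2 := Set.ncard_le_ncard h1 (Finset.finite_toSet _)
  rw [Set.ncard_coe_finset] at h2
  have h3 : Nat.card F = (F : Set G).ncard := rfl
  rw [h3]
  exact h2.trans Finset.card_le_four

theorem card_le_of_cover' {F : Subgroup G} (g0 g1 g2 : G) (hF : ∀ g ∈ F, g = 1 ∨ g = g0 ∨ g = g1 ∨ g = g2) :
    Nat.card F ≤ 4 := by
  classical
  have h1 : (F : Set G) ⊆ (({1, g0, g1, g2} : Finset G) : Set G) := by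
    intro g hg
    rcases hF g hg with h2 | h2 | h2 | h2 <;> simp [h2]
  have h2 := Set.ncard_le_ncard h1 (Finset.finite_toSet _)
  rw [Set.ncard_coe_finset] at h2
  have h3 : Nat.card F = (F : Set G).ncard := rfl
  rw [h3]
  exact h2.trans Finset.card_le_four

/-- equal inner actions -/
theorem eq_of_as (hf : ∀ g ∈ F, (∀ k ∈ K, g * k = k * g) → g = 1) (ha : a ∈ F) (hb : b ∈ F) (hy : As K a y)
    (hy' : As K b y) : a = b := by
  have h1 : As K (a⁻¹ * b) (y⁻¹ * y) := hy.inv.mul hy'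
  rw [inv_mul_cancel] at h1
  exact inv_mul_eq_one.1 (hf _ (mul_mem (inv_mem ha) hb) (As.one_iff.1 h1))

theorem as_zmul (h : WM Om) (hK : Mem Om x K) (ha : As K g y) : As K g (x * y) := by
  refine ⟨mul_mem (hK.zmem h) ha.1, fun k hk => ?_⟩
  have h1 : y * k * y⁻¹ ∈ K := mul_mem (mul_mem ha.1 hk) (inv_mem ha.1)
  calc g * k * g⁻¹ = y * k * y⁻¹ := ha.2 k hk
    _ = (y * k * y⁻¹) * x * x⁻¹ := (mul_inv_cancel_right _ _).symm
    _ = x * (y * k * y⁻¹) * x⁻¹ := by rw [hK.comm_z h h1]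
    _ = _ := by group

theorem as_of_zmul (h : WM Om) (hK : Mem Om x K) (ha : As K g (x * y)) : As K g y := by
  have h1 := as_zmul h hK ha
  rwa [← mul_assoc, hK.inZ.z2 h, one_mul] at h1

/-- **an elementary group which is faithful on `K` has order at most 4** -/
theorem card_le_four (h : WM Om) (hK : Mem Om x K) (hc : ∀ a ∈ F, ∀ b ∈ F, a * b = b * a)
    (hs : ∀ a ∈ F, a * a = 1) (hn : ∀ g ∈ F, cj g K = K) (hf : ∀ g ∈ F, (∀ k ∈ K, g * k = k * g) → g = 1) :
    Nat.card F ≤ 4 := by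
  classical
  -- the element of `F` with a given inner action
  have pick : ∀ y, ∃ g1, ∀ g ∈ F, As K g y → g = g1 := by
    intro y
    by_cases hy : ∃ g ∈ F, As K g y
    · obtain ⟨g1, hg1, h1⟩ := hy
      exact ⟨g1, fun g hg h2 => eq_of_as hf hg hg1 h2 h1⟩
    · exact ⟨1, fun g hg h2 => absurd ⟨g, hg, h2⟩ hy⟩
  have one : ∀ g ∈ F, As K g 1 → g = 1 := fun g hg h1 => hf g hg (As.one_iff.1 h1)
  by_cases hall : ∀ g ∈ F, ∃ y, As K g y
  · obtain ⟨q, hq⟩ := h.exists_q3 hK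
    obtain ⟨g0, h0⟩ := pick (q 0)
    obtain ⟨g1, h1⟩ := pick (q 1)
    obtain ⟨g2, h2⟩ := pick (q 2)
    refine card_le_of_cover' g0 g1 g2 fun g hg => ?_
    obtain ⟨y, hy⟩ := hall g hg
    have h3 : ∀ i, As K g (q i) → g = 1 ∨ g = g0 ∨ g = g1 ∨ g = g2 := by
      intro i hi
      fin_cases i
      · exact Or.inr (Or.inl (h0 g hg hi))
      · exact Or.inr (Or.inr (Or.inl (h1 g hg hi)))
      · exact Or.inr (Or.inr (Or.inr (h2 g hg hi)))
    rcases hq.cov y hy.1 with h4 | h4 | ⟨i, h4 | h4⟩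
    · rw [h4] at hy; exact Or.inl (one g hg hy)
    · rw [h4, ← mul_one x] at hy
      exact Or.inl (one g hg (as_of_zmul h hK hy))
    · rw [h4] at hy; exact h3 i hy
    · rw [h4] at hy; exact h3 i (as_of_zmul h hK hy)
  · push Not at hall
    obtain ⟨f0, hf0, hno⟩ := hall
    obtain ⟨a, ha⟩ : ∃ a, Tr f0 K a := (h.wr.inn_or_tr hK.1 (hn f0 hf0) (hs f0 hf0)).resolve_left
      fun ⟨y, hy, h1⟩ => hno y ⟨hy, h1⟩
    obtain ⟨g1, hg1⟩ := pick a
    refine card_le_of_cover g1 f0 fun g hg => ?_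
    rcases h.wr.inn_or_tr hK.1 (hn g hg) (hs g hg) with ⟨y, hy, h1⟩ | ⟨b, hb⟩
    · have hy' : As K g y := ⟨hy, h1⟩
      have h2 : As (cj f0 K) g (f0 * y * f0⁻¹) := hy'.conj_comm (hc f0 hf0 g hg)
      rw [hn f0 hf0] at h2
      rcases Tr.cases ha hK h hy (hK.as_unique h hy' h2) with h3 | h3 | h3 | h3
      · rw [h3] at hy'; exact Or.inl (one g hg hy')
      · rw [h3, ← mul_one x] at hy'
        exact Or.inl (one g hg (as_of_zmul h hK hy'))
      · rw [h3] at hy'; exact Or.inr (Or.inl (hg1 g hg hy'))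
      · rw [h3] at hy'; exact Or.inr (Or.inl (hg1 g hg (as_of_zmul h hK hy')))
    · have h2 := Tr.same h hK (hn f0 hf0) (hc f0 hf0 g hg) hb ha
      have hff : ∀ g', g * f0 = g' → g = g' * f0 := by
        intro g' h3
        rw [← h3, mul_assoc, hs f0 hf0, mul_one]
      rcases Tr.mul_cases h hK (hn g hg) (hn f0 hf0) h2 ha with h3 | h3
      · right; right; left
        have h4 := hff 1 (one _ (mul_mem hg hf0) h3)
        rwa [one_mul] at h4
      · right; right; right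
        exact hff g1 (hg1 _ (mul_mem hg hf0) h3)

/-- **elementary groups on `R_x`** -/
theorem card_le_eight (h : WM Om) (hx : InZ Om x) (hc : ∀ a ∈ F, ∀ b ∈ F, a * b = b * a)
    (hs : ∀ a ∈ F, a * a = 1) (hn : ∀ g ∈ F, g * x = x * g)
    (hf : ∀ g ∈ F, ∀ K, Mem Om x K → (∀ k ∈ K, g * k = k * g) → g = 1) : Nat.card F ≤ 8 := by
  classical
  obtain ⟨K, hK⟩ := hx
  obtain ⟨L, hL, hne, -⟩ := hK.other h
  -- the stabiliser of `K`
  obtain ⟨F0, hF0⟩ : ∃ F0 : Subgroup G, F0 = F ⊓ normalizer (K : Set G) := ⟨_, rfl⟩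
  have m0 : ∀ g, g ∈ F0 ↔ g ∈ F ∧ cj g K = K := by
    intro g
    rw [hF0, mem_inf, mem_normalizer_iff_cj]
  have c0 : Nat.card F0 ≤ 4 := card_le_four h hK (fun a ha b hb => hc a ((m0 a).1 ha).1 b ((m0 b).1 hb).1)
    (fun a ha => hs a ((m0 a).1 ha).1) (fun g hg => ((m0 g).1 hg).2) fun g hg => hf g ((m0 g).1 hg).1 K hK
  by_cases hall : ∀ g ∈ F, cj g K = K
  · have h1 : F ≤ F0 := fun g hg => (m0 g).2 ⟨hg, hall g hg⟩
    exact ((Nat.card_mono (Set.toFinite _) h1).trans c0).trans (by norm_num)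
  · push Not at hall
    obtain ⟨s, hsF, hsK⟩ := hall
    have cs : ∀ g ∈ F, cj g K ≠ K → cj g K = L ∧ cj g L = K := by
      intro g hg h1
      rcases cj_cases h hK hL hne (hn g hg) with h2 | h2
      · exact absurd h2.1 h1
      · exact h2
    have h1 : (F : Set G) ⊆ (F0 : Set G) ∪ (fun g => s * g) '' (F0 : Set G) := by
      intro g hg
      by_cases h2 : cj g K = K
      · exact Or.inl ((m0 g).2 ⟨hg, h2⟩)
      · right
        refine ⟨s * g, (m0 _).2 ⟨mul_mem hsF hg, ?_⟩, ?_⟩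
        · rw [cj_mul, (cs g hg h2).1, (cs s hsF hsK).2]
        · change s * (s * g) = g
          rw [← mul_assoc, hs s hsF, one_mul]
    have h2 := Set.ncard_le_ncard h1 (Set.toFinite _)
    have h3 := Set.ncard_union_le (F0 : Set G) ((fun g => s * g) '' (F0 : Set G))
    have h4 := Set.ncard_image_le (f := fun g => s * g) (Set.toFinite (F0 : Set G))
    have h5 : Nat.card F = (F : Set G).ncard := rfl
    have h6 : Nat.card F0 = (F0 : Set G).ncard := rfl
    omega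

/-! ### The F-bound -/

/-- **F-BOUND** -/
theorem ANS.fb (an : ANS Om) (h : WM Om) (l0 : L0 Om) (hz : InZ Om z) (hu : InZ Om u) (hzu : CP Om z u)
    (hx : InZ Om x) (hxu : x * u ≠ u * x) (hc : ∀ a ∈ F, ∀ b ∈ F, a * b = b * a) (hs : ∀ a ∈ F, a * a = 1)
    (hn : ∀ g ∈ F, g * x = x * g) (hFz : F ≤ CX Om z) (hFu : F ≤ CX Om u) : Nat.card F ≤ 8 :=
  card_le_eight h hx hc hs hn fun g hg _ hK hk => an.no_mem h l0 hz hu hzu hxu (hs g hg) (hFz hg) (hFu hg) hK hk

/-- the stabiliser of a member -/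
theorem ANS.fb_four (an : ANS Om) (h : WM Om) (l0 : L0 Om) (hz : InZ Om z) (hu : InZ Om u) (hzu : CP Om z u)
    (hK : Mem Om x K) (hxu : x * u ≠ u * x) (hc : ∀ a ∈ F, ∀ b ∈ F, a * b = b * a) (hs : ∀ a ∈ F, a * a = 1)
    (hn : ∀ g ∈ F, cj g K = K) (hFz : F ≤ CX Om z) (hFu : F ≤ CX Om u) : Nat.card F ≤ 4 :=
  card_le_four h hK hc hs hn fun g hg hk => an.no_mem h l0 hz hu hzu hxu (hs g hg) (hFz hg) (hFu hg) hK hk

/-! ### `T_u` -/

/-- no element `≠ 1` of `T_u = T ∩ C(R_u)` centralises a member over `x`, if `x` and `u` do not commute -/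
theorem no_mem_t (h : WM Om) (l0 : L0 Om) (ant : ANT Om) (S : Sylow 2 G) (ht : t ∈ TT Om (S : Subgroup G))
    (hu : InZ Om u) (htu : t ∈ CX Om u) (hK : Mem Om x K) (hKt : ∀ k ∈ K, t * k = k * t) (hxu : x * u ≠ u * x) :
    t = 1 := by
  by_contra ht1
  exact hxu (ino_comm_mem ((ant S t ht ht1).inO ⟨hu, htu⟩) h l0 ⟨hu, htu⟩ hK hKt)

/-- **`|T_u| ≤ 8`** -/
theorem t_bound (h : WM Om) (l0 : L0 Om) (ant : ANT Om) (S : Sylow 2 G) (hx : InZ Om x) (hu : InZ Om u)
    (hxT : ∀ t ∈ TT Om (S : Subgroup G), t * x = x * t) (hxu : x * u ≠ u * x) :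
    Nat.card (TT Om (S : Subgroup G) ⊓ CX Om u : Subgroup G) ≤ 8 :=
  card_le_eight h hx (fun a ha b hb => TT_comm h S.isPGroup' ha.1 hb.1) (fun a ha => TT_sq h S.isPGroup' ha.1)
    (fun g hg => hxT g hg.1) fun g hg K hK hk => no_mem_t h l0 ant S hg.1 hu hg.2 hK hk hxu

/-! ### `m ≥ 4` -/

/-- a swap or an `f` at `z` : a four-group of fixed points through `z` -/
theorem exists_four (h : WM Om) (hz : InZ Om z) (hx : x * x = 1) (ho : Swp Om z x ∨ Ff Om z x) :
    ∃ w ∈ RZ Om z, w * w = 1 ∧ w ≠ 1 ∧ w ≠ z ∧ x * w = w * x := by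
  obtain ⟨K, hK⟩ := hz
  obtain ⟨L, hL, hne, -⟩ := hK.other h
  rcases ho with hs | hf
  · obtain ⟨q, hq⟩ := h.exists_q3 hK
    have hk := hq.mem 0
    have hkk := hq.sq 0
    have hk1 : q 0 ≠ 1 := fun h1 => hq.z1 (by rw [← hkk, h1, one_mul])
    have hkz : q 0 ≠ z := fun h1 => hq.z1 (by rw [h1, hq.z2] at hkk; exact hkk.symm)
    refine ⟨qq x (q 0), qq_mem hs h hK hk, qq_sq hs h hK hk, ?_, ?_, qq_comm hs h hx hK hk⟩
    · intro h1
      rcases qq_eq_one hs h hK hk h1 with h2 | h2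
      · exact hk1 h2
      · exact hkz h2
    · intro h1
      have h2 : q 0 ∈ cj x K := by
        have h3 : q 0 = z * (x * q 0 * x⁻¹)⁻¹ := eq_mul_inv_of_mul_eq h1
        rw [h3]
        exact mul_mem ((hs.mem h hK).zmem h) (inv_mem (conj_mem_cj hk))
      rcases hs.inf h hK hk h2 rfl with h3 | h3
      · exact hk1 h3
      · exact hkz h3
  · obtain ⟨a, ha⟩ := hf.exists_tr h hx hK
    obtain ⟨b, hb⟩ := hf.exists_tr h hx hL
    have haa := Tr.sq' ha hK
    have hbb := Tr.sq' hb hL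
    have hab := hK.comm hL h hne ha.mem hb.mem
    have hzz := hK.inZ.z2 h
    refine ⟨a * b, mul_mem (hK.le_RZ ha.mem) (hL.le_RZ hb.mem), ?_, ?_, ?_, ?_⟩
    · calc a * b * (a * b) = a * (b * a) * b := by group
        _ = (a * a) * (b * b) := by rw [← hab]; group
        _ = 1 := by rw [haa, hbb, hzz]
    · intro h1
      have h2 : a ∈ L := by
        rw [eq_inv_of_mul_eq_one_left h1]; exact inv_mem hb.mem
      rcases hK.inf hL h hne ha.mem h2 with h3 | h3
      · rw [h3, one_mul] at haa; exact hK.inZ.z1 h haa.symm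
      · rw [h3, hzz] at haa; exact hK.inZ.z1 h haa.symm
    · intro h1
      have h2 : a ∈ L := by
        rw [eq_mul_inv_of_mul_eq h1]; exact mul_mem (hL.zmem h) (inv_mem hb.mem)
      rcases hK.inf hL h hne ha.mem h2 with h3 | h3
      · rw [h3, one_mul] at haa; exact hK.inZ.z1 h haa.symm
      · rw [h3, hzz] at haa; exact hK.inZ.z1 h haa.symm
    · have h1 := Tr.inv' ha hK h
      have h2 := Tr.inv' hb hL h
      have h3 : x * (a * b) * x⁻¹ = a * b := by
        calc x * (a * b) * x⁻¹ = (x * a * x⁻¹) * (x * b * x⁻¹) := by group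
          _ = (z * a) * (z * b) := by rw [h1, h2]
          _ = z * (a * z) * b := by group
          _ = (z * z) * (a * b) := by rw [hK.comm_z h ha.mem]; group
          _ = a * b := by rw [hzz, one_mul]
      rwa [mul_inv_eq_iff_eq_mul] at h3

theorem elem_closure {A : Set G} (hc : ∀ a ∈ A, ∀ b ∈ A, a * b = b * a) (hs : ∀ a ∈ A, a * a = 1) :
    (∀ a ∈ closure A, ∀ b ∈ closure A, a * b = b * a) ∧ ∀ a ∈ closure A, a * a = 1 := by
  have h1 : closure A ≤ centralizer A := (closure_le _).2 fun a ha => by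
    rw [SetLike.mem_coe, mem_centralizer_iff]
    exact fun b hb => hc b hb a ha
  have h2 : ∀ a ∈ closure A, ∀ b ∈ closure A, a * b = b * a := by
    intro a ha
    have h3 : closure A ≤ centralizer {a} := (closure_le _).2 fun b hb => by
      rw [SetLike.mem_coe, mem_centralizer_singleton_iff]
      exact mem_centralizer_iff.1 (h1 ha) b hb
    exact fun b hb => (mem_centralizer_singleton_iff.1 (h3 hb)).symm
  refine ⟨h2, fun a ha => ?_⟩
  induction ha using closure_induction with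
  | mem x hx => exact hs x hx
  | one => exact one_mul 1
  | mul x y hx hy h3 h4 =>
    calc x * y * (x * y) = x * (y * x) * y := by group
      _ = x * (x * y) * y := by rw [h2 y hy x hx]
      _ = (x * x) * (y * y) := by group
      _ = 1 := by rw [h3, h4, one_mul]
  | inv x hx h3 =>
    rw [← mul_inv_rev, h3, inv_one]

theorem RZ_disjoint (h : WM Om) (hz : InZ Om z) (hu : InZ Om u) (hc : CP Om z u) : RZ Om z ⊓ RZ Om u = ⊥ := by
  rw [eq_bot_iff]
  intro r hr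
  rw [mem_bot]
  rcases RZ_CX h hz hr.1 (RZ_le_CX h hc.symm hr.2) with h1 | h1
  · exact h1
  rcases RZ_CX h hu hr.2 (RZ_le_CX h hc hr.1) with h2 | h2
  · exact h2
  · exact absurd (h1.symm.trans h2) hc.1

theorem four_le {D : Subgroup G} (hz : z ∈ D) (hw : w ∈ D) (hz1 : z ≠ 1) (hw1 : w ≠ 1) (hwz : w ≠ z)
    (hww : w * w = 1) : 4 ≤ Nat.card D := by
  classical
  have hzw : z * w ≠ 1 := by
    intro h1
    have h2 := eq_inv_of_mul_eq_one_left h1
    rw [inv_eq_of_mul_eq_one_right hww] at h2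
    exact hwz h2.symm
  have hzw1 : z * w ≠ z := fun h1 => hw1 (mul_eq_left.1 h1)
  have hzw2 : z * w ≠ w := fun h1 => hz1 (mul_eq_right.1 h1)
  have h1 : ((({1, z, w, z * w} : Finset G)) : Set G) ⊆ (D : Set G) := by
    intro g hg
    simp only [Finset.coe_insert, Finset.coe_singleton, Set.mem_insert_iff, Set.mem_singleton_iff] at hg
    rcases hg with rfl | rfl | rfl | rfl
    · exact one_mem D
    · exact hz
    · exact hw
    · exact mul_mem hz hw
  have h2 : ({1, z, w, z * w} : Finset G).card = 4 := by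
    rw [Finset.card_insert_of_notMem, Finset.card_insert_of_notMem, Finset.card_insert_of_notMem,
      Finset.card_singleton]
    · simpa using hzw2.symm
    · simp only [Finset.mem_insert, Finset.mem_singleton, not_or]
      exact ⟨hwz.symm, hzw1.symm⟩
    · simp only [Finset.mem_insert, Finset.mem_singleton, not_or]
      exact ⟨hz1.symm, hw1.symm, hzw.symm⟩
  have h3 := Set.ncard_le_ncard h1 (Set.toFinite _)
  rw [Set.ncard_coe_finset, h2] at h3
  exact h3

/-- two four-groups with trivial intersection -/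
theorem sixteen_le {D D' : Subgroup G} (h4 : 4 ≤ Nat.card D) (h4' : 4 ≤ Nat.card D') (hd : D ⊓ D' = ⊥)
    (hF : D ≤ F) (hF' : D' ≤ F) : 16 ≤ Nat.card F := by
  have h1 : Function.Injective (fun p : D × D' => (⟨p.1 * p.2, mul_mem (hF p.1.2) (hF' p.2.2)⟩ : F)) := by
    rintro ⟨a, b⟩ ⟨c, d⟩ h1
    have h2 : (a : G) * b = c * d := congrArg Subtype.val h1
    have h3 : (c : G)⁻¹ * a = d * (b : G)⁻¹ := by
      rw [eq_mul_inv_iff_mul_eq, mul_assoc, h2, inv_mul_cancel_left]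
    have h5 : (c : G)⁻¹ * a ∈ D ⊓ D' :=
      ⟨D.mul_mem (D.inv_mem c.2) a.2, by rw [h3]; exact D'.mul_mem d.2 (D'.inv_mem b.2)⟩
    rw [hd, mem_bot] at h5
    rw [h5] at h3
    have h6 : a = c := Subtype.ext (inv_mul_eq_one.1 h5).symm
    have h7 : b = d := Subtype.ext (mul_inv_eq_one.1 h3.symm).symm
    rw [h6, h7]
  have h2 := Nat.card_le_card_of_injective _ h1
  rw [Nat.card_prod] at h2
  calc 16 = 4 * 4 := by norm_num
    _ ≤ Nat.card D * Nat.card D' := Nat.mul_le_mul h4 h4'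
    _ ≤ _ := h2

/-- `x` acts as a swap or as an `f` at a C-partner `z` of `u`, if no involution of `R_z` centralises `R_x` -/
theorem swp_or_ff (h : WM Om) (hz : InZ Om z) (hu : InZ Om u) (hx : InZ Om x) (hzu : CP Om z u)
    (hxu : x * u ≠ u * x) (hxz : x * z = z * x) (hno : ∀ e ∈ RZ Om z, e * e = 1 → e ∈ CX Om x → e = 1) :
    Swp Om z x ∨ Ff Om z x := by
  have hne : z ≠ x := fun h1 => hxu (by rw [← h1]; exact cp_comm h hz hu hzu)
  rcases tri h hz hx hne hxz.symm with h1 | h1 | h1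
  · exact absurd (hno z (z_mem_RZ hz h) (hz.z2 h) (cp_cx h hz h1.symm)) (hz.z1 h)
  · exfalso
    have key : z ∉ RZ Om x := by
      intro h2
      exact hxu (cp_comm h hx hu (cp_of_mem_RZ h h1 ((h1.symm h).mem_symm h h2) hu hzu))
    rcases h1.dich h with h2 | ⟨q, hq, hqx, hqq, -, hq2⟩
    · exact key h2
    · have h3 : q * z = z * q := RZ_le_centralizer h hq
      have h4 : z * q * (z * q) = 1 := by
        calc z * q * (z * q) = z * (q * z) * q := by group
          _ = (z * z) * (q * q) := by rw [h3]; group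
          _ = 1 := by rw [hz.z2 h, hqq, one_mul]
      have h5 := hno _ (mul_mem (z_mem_RZ hz h) hq) h4 hq2
      have h6 := eq_inv_of_mul_eq_one_right h5
      rw [hz.inv h] at h6
      exact key (h6 ▸ hqx)
  · exact h1.1.cases

namespace ANS

variable {z₁ z₂ z₃ z₄ : G} (an : ANS Om)

include an

theorem no_mem_two (h : WM Om) (l0 : L0 Om) {S : Subgroup G} (hS : IsPGroup 2 S) (h1 : z₁ ∈ CS Om S)
    (h2 : z₂ ∈ CS Om S) (h3 : z₃ ∈ CS Om S) (h4 : z₄ ∈ CS Om S) (n13 : z₁ ≠ z₃) (n14 : z₁ ≠ z₄) (n23 : z₂ ≠ z₃)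
    (n24 : z₂ ≠ z₄) (n34 : z₃ ≠ z₄) (hu : InZ Om u) (c1 : CP Om z₁ u) (c2 : CP Om z₂ u) (hK : Mem Om x K)
    (hxu : x * u ≠ u * x) (he : e ∈ RZ Om z₁ ⊔ RZ Om z₂) (hee : e * e = 1) (hKe : ∀ k ∈ K, e * k = k * e) :
    e = 1 := by
  by_contra he1
  have k3 : e ∈ CX Om z₃ :=
    (sup_le (RZ_le_CX h (CS.cp h1 h hS h3 n13)) (RZ_le_CX h (CS.cp h2 h hS h3 n23))) he
  have k4 : e ∈ CX Om z₄ :=
    (sup_le (RZ_le_CX h (CS.cp h1 h hS h4 n14)) (RZ_le_CX h (CS.cp h2 h hS h4 n24))) he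
  have ku : e ∈ CX Om u := (sup_le (RZ_le_CX h c1) (RZ_le_CX h c2)) he
  exact hxu (an.comm_gen h l0 hee he1 ⟨CS.inZ h3, k3⟩ ⟨CS.inZ h4, k4⟩ (CS.cp h3 h hS h4 n34) ⟨hu, ku⟩ hK hKe)

/-- **(5)** : `m ≥ 4`, `x, u ∈ Z` do not commute, `x` commutes with `z₁, z₂ ∈ C_S`: not both `z₁`, `z₂` are C to `u` -/
theorem at_most_one (h : WM Om) (l0 : L0 Om) {S : Subgroup G} (hS : IsPGroup 2 S) (h1 : z₁ ∈ CS Om S)
    (h2 : z₂ ∈ CS Om S) (h3 : z₃ ∈ CS Om S) (h4 : z₄ ∈ CS Om S) (n12 : z₁ ≠ z₂) (n13 : z₁ ≠ z₃) (n14 : z₁ ≠ z₄)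
    (n23 : z₂ ≠ z₃) (n24 : z₂ ≠ z₄) (n34 : z₃ ≠ z₄) (hx : InZ Om x) (hu : InZ Om u) (hxu : x * u ≠ u * x)
    (x1 : x * z₁ = z₁ * x) (x2 : x * z₂ = z₂ * x) (c1 : CP Om z₁ u) (c2 : CP Om z₂ u) : False := by
  have no : ∀ K, Mem Om x K → ∀ e ∈ RZ Om z₁ ⊔ RZ Om z₂, e * e = 1 → (∀ k ∈ K, e * k = k * e) → e = 1 :=
    fun K hK e he hee hKe => an.no_mem_two h l0 hS h1 h2 h3 h4 n13 n14 n23 n24 n34 hu c1 c2 hK hxu he hee hKe
  have no' : ∀ e ∈ RZ Om z₁ ⊔ RZ Om z₂, e * e = 1 → e ∈ CX Om x → e = 1 := by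
    intro e he hee hex
    obtain ⟨K, hK⟩ := hx
    exact no K hK e he hee (mem_CX.1 hex K hK)
  have i1 := CS.inZ h1
  have i2 := CS.inZ h2
  have xx := hx.z2 h
  obtain ⟨w₁, hw1, ww1, nw1, nz1, xw1⟩ := exists_four h i1 xx
    (swp_or_ff h i1 hu hx c1 hxu x1 fun e he => no' e (mem_sup_left he))
  obtain ⟨w₂, hw2, ww2, nw2, nz2, xw2⟩ := exists_four h i2 xx
    (swp_or_ff h i2 hu hx c2 hxu x2 fun e he => no' e (mem_sup_right he))
  have c12 := CS.cp h1 h hS h2 n12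
  have r1 := z_mem_RZ i1 h
  have r2 := z_mem_RZ i2 h
  obtain ⟨A, hA⟩ : ∃ A : Set G, A = {z₁, w₁, z₂, w₂} := ⟨_, rfl⟩
  have mA : ∀ g, g ∈ A ↔ g = z₁ ∨ g = w₁ ∨ g = z₂ ∨ g = w₂ := by
    intro g; rw [hA]; simp only [Set.mem_insert_iff, Set.mem_singleton_iff]
  have zw1 : w₁ * z₁ = z₁ * w₁ := RZ_le_centralizer h hw1
  have zw2 : w₂ * z₂ = z₂ * w₂ := RZ_le_centralizer h hw2
  have cr : ∀ {a b : G}, a ∈ RZ Om z₁ → b ∈ RZ Om z₂ → a * b = b * a := fun ha hb => cp_RZ h c12 ha hb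
  have cA : ∀ a ∈ A, ∀ b ∈ A, a * b = b * a := by
    intro a ha b hb
    rw [mA] at ha hb
    rcases ha with rfl | rfl | rfl | rfl <;> rcases hb with rfl | rfl | rfl | rfl
    · rfl
    · exact zw1.symm
    · exact cr r1 r2
    · exact cr r1 hw2
    · exact zw1
    · rfl
    · exact cr hw1 r2
    · exact cr hw1 hw2
    · exact (cr r1 r2).symm
    · exact (cr hw1 r2).symm
    · rfl
    · exact zw2.symm
    · exact (cr r1 hw2).symm
    · exact (cr hw1 hw2).symm
    · exact zw2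
    · rfl
  have sA : ∀ a ∈ A, a * a = 1 := by
    intro a ha
    rw [mA] at ha
    rcases ha with rfl | rfl | rfl | rfl
    · exact i1.z2 h
    · exact ww1
    · exact i2.z2 h
    · exact ww2
  obtain ⟨cF, sF⟩ := elem_closure cA sA
  have lF : closure A ≤ RZ Om z₁ ⊔ RZ Om z₂ := by
    refine (closure_le _).2 fun a ha => ?_
    rw [mA] at ha
    rcases ha with rfl | rfl | rfl | rfl
    · exact mem_sup_left r1
    · exact mem_sup_left hw1
    · exact mem_sup_right r2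
    · exact mem_sup_right hw2
  have xF : closure A ≤ centralizer {x} := by
    refine (closure_le _).2 fun a ha => ?_
    rw [SetLike.mem_coe, mem_centralizer_singleton_iff]
    rw [mA] at ha
    rcases ha with rfl | rfl | rfl | rfl
    · exact x1.symm
    · exact xw1.symm
    · exact x2.symm
    · exact xw2.symm
  have k1 : Nat.card (closure A) ≤ 8 := card_le_eight h hx cF sF
    (fun g hg => mem_centralizer_singleton_iff.1 (xF hg)) fun g hg K hK hk => no K hK g (lF hg) (sF g hg) hk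
  have k2 : 16 ≤ Nat.card (closure A) := by
    refine sixteen_le (D := closure A ⊓ RZ Om z₁) (D' := closure A ⊓ RZ Om z₂) ?_ ?_ ?_ inf_le_left inf_le_left
    · exact four_le ⟨subset_closure ((mA _).2 (Or.inl rfl)), r1⟩
        ⟨subset_closure ((mA _).2 (Or.inr (Or.inl rfl))), hw1⟩ (i1.z1 h) nw1 nz1 ww1
    · exact four_le ⟨subset_closure ((mA _).2 (Or.inr (Or.inr (Or.inl rfl)))), r2⟩
        ⟨subset_closure ((mA _).2 (Or.inr (Or.inr (Or.inr rfl)))), hw2⟩ (i2.z1 h) nw2 nz2 ww2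
    · rw [eq_bot_iff, ← RZ_disjoint h i1 i2 c12]
      exact inf_le_inf inf_le_right inf_le_right
  omega

end ANS

end Fin

end Cfsg.Agent.Cit.Nil.RTwoM
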