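import Cfsg.Agent.Cit.Nil.RTwoM.BlkPat

/-!
# `r = 2`, any `m`: charts (`χ = 1`)

A chart on a type `I` of points: `e i j` (= the pair `{i,j}`), `e i j + e j k = e i k`; four different points give
`e i j + e k l ∈ D`, `e i j ∈ B (e i j + e k l)`.

* `Cht.trip` : the triple lemma; `Cht.step` : a linked `v ∈ D` is in the chart or there is a one-point extension datum
  `Ex`; `Cht.ext` : the extension to `Option I`.
-/

set_option autoImplicit false
set_option linter.unusedSimpArgs false
set_option linter.unusedVariables false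

namespace Cfsg.Agent.Cit.Nil.RTwoM.Blk

variable {N : Type*} [AddCommGroup N] {D : Set N} {β : N → N → ZMod 2} {B : N → AddSubgroup N}
  {a a' b c d u v w x y z : N}

/-- `δ_ij` -/
def dl {I : Type*} [DecidableEq I] (i j : I) : ZMod 2 := if i = j then 1 else 0

section dl

variable {I : Type*} [DecidableEq I] {i j : I}

@[simp] theorem dl_self (i : I) : dl i i = 1 := if_pos rfl

theorem dl_ne (h : i ≠ j) : dl i j = 0 := if_neg h

theorem dl_comm (i j : I) : dl i j = dl j i := by
  by_cases h : i = j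
  · rw [h]
  · rw [dl_ne h, dl_ne (Ne.symm h)]

end dl

/-- four different points -/
structure Dst {I : Type*} (i j k l : I) : Prop where
  ij : i ≠ j
  ik : i ≠ k
  il : i ≠ l
  jk : j ≠ k
  jl : j ≠ l
  kl : k ≠ l

/-- **chart** -/
structure Cht (D : Set N) (β : N → N → ZMod 2) (B : N → AddSubgroup N) {I : Type*} [DecidableEq I] (e : I → I → N) :
    Prop where
  add : ∀ i j k, e i j + e j k = e i k
  form : ∀ i j k l, β (e i j) (e k l) = dl i k + dl i l + dl j k + dl j l
  mem : ∀ i j k l, Dst i j k l → e i j + e k l ∈ D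
  inB : ∀ i j k l, Dst i j k l → e i j ∈ B (e i j + e k l)

/-- `v` is in the chart -/
def InC {I : Type*} (e : I → I → N) (v : N) : Prop := ∃ i j k l, Dst i j k l ∧ v = e i j + e k l

/-- one-point extension datum -/
structure Ex (D : Set N) (β : N → N → ZMod 2) (B : N → AddSubgroup N) {I : Type*} [DecidableEq I] (e : I → I → N)
    (v : N) (p q r : I) : Prop where
  mem : v ∈ D
  pq : p ≠ q
  pr : p ≠ r
  qr : q ≠ r
  form : ∀ i j, β v (e i j) = (dl i p + dl i q + dl i r) + (dl j p + dl j q + dl j r)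
  inq : e p q ∈ B v
  inr : e p r ∈ B v

namespace Cht

variable {I : Type*} [DecidableEq I] {e : I → I → N} {i j k l p q r : I}

theorem self (c : Cht D β B e) (i : I) : e i i = 0 := by
  have h1 := c.add i i i
  exact left_eq_add.1 h1.symm

theorem sy (c : Cht D β B e) (h : One D β B) (i j : I) : e i j = e j i := by
  apply h.cancel
  rw [c.add, c.self]

theorem add' (c : Cht D β B e) (h : One D β B) (i j k : I) : e i j + e i k = e j k := by
  rw [c.sy h i j, c.add]

theorem q₁ (c : Cht D β B e) (h : One D β B) (i j k l : I) : e i j + e k l = e i k + e j l := by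
  apply h.cancel
  calc e i j + e k l + (e i k + e j l) = (e i j + e i k) + (e k l + e j l) := by abel
    _ = e j k + (e l k + e l j) := by rw [c.add' h, c.sy h k l, c.sy h j l]
    _ = 0 := by rw [c.add' h, c.sy h k j, h.two]

theorem q₂ (c : Cht D β B e) (h : One D β B) (i j k l : I) : e i j + e k l = e i l + e j k := by
  rw [c.sy h k l, c.q₁ h i j l k]

/-- all pairs are in `B` -/
theorem inB₂ (c : Cht D β B e) (h : One D β B) (hd : Dst i j k l) : e i k ∈ B (e i j + e k l) := by
  rw [c.q₁ h]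
  exact c.inB i k j l ⟨hd.ik, hd.ij, hd.il, hd.jk.symm, hd.kl, hd.jl⟩

theorem inB₃ (c : Cht D β B e) (h : One D β B) (hd : Dst i j k l) : e i l ∈ B (e i j + e k l) := by
  rw [c.q₂ h]
  exact c.inB i l j k ⟨hd.il, hd.ij, hd.ik, hd.jl.symm, hd.kl.symm, hd.jk⟩

theorem comp (c : Cht D β B e) {J : Type*} [DecidableEq J] (f : J → I) (hf : Function.Injective f) :
    Cht D β B fun i j => e (f i) (f j) where
  add i j k := c.add _ _ _
  form i j k l := by
    have h1 : ∀ i j : J, dl (f i) (f j) = dl i j := by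
      intro i j
      by_cases h : i = j
      · rw [h, dl_self, dl_self]
      · rw [dl_ne h, dl_ne fun h' => h (hf h')]
    rw [c.form, h1, h1, h1, h1]
  mem i j k l hd := c.mem _ _ _ _ ⟨fun h => hd.ij (hf h), fun h => hd.ik (hf h), fun h => hd.il (hf h),
    fun h => hd.jk (hf h), fun h => hd.jl (hf h), fun h => hd.kl (hf h)⟩
  inB i j k l hd := c.inB _ _ _ _ ⟨fun h => hd.ij (hf h), fun h => hd.ik (hf h), fun h => hd.il (hf h),
    fun h => hd.jk (hf h), fun h => hd.jl (hf h), fun h => hd.kl (hf h)⟩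

/-- **triple lemma** -/
theorem trip (c : Cht D β B e) (h : One D β B) (hv : v ∈ D) (hd : Dst p q r i) (h1 : β v (e p q) = 0)
    (h2 : β v (e p r) = 0) (h3 : β v (e p i) = 1) :
    (e p q ∈ B v ∧ e p r ∈ B v) ∨ ∀ y ∈ B v, β (e p q) y = 0 ∧ β (e p r) y = 0 := by
  have hu := c.mem p q r i hd
  have m1 := c.inB p q r i hd
  have m2 := c.inB₂ h hd
  have huv : β (e p q + e r i) v = 1 := by
    rw [h.symm, h.addr, h1, zero_add, ← c.add' h p r i, h.addr, h2, h3, zero_add]
  rcases h.pat hu hv huv with h4 | h4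
  · exact Or.inl ⟨h4 _ m1 h1, h4 _ m2 h2⟩
  · exact Or.inr fun y hy => ⟨h4 _ m1 h1 y hy, h4 _ m2 h2 y hy⟩

/-- type P -/
theorem caseP (c : Cht D β B e) (h : One D β B) (hv : v ∈ D) (hd : Dst p q r i) (h1 : β v (e p q) = 0)
    (h2 : β v (e p r) = 0) (h3 : β v (e p i) = 1) (m1 : e p q ∈ B v) (m2 : e p r ∈ B v) :
    InC e v ∨ Ex D β B e v p q r := by
  by_cases h4 : ∃ k, k ≠ p ∧ k ≠ q ∧ k ≠ r ∧ β v (e p k) = 0
  · obtain ⟨k, kp, kq, kr, h4⟩ := h4
    left
    have hik : i ≠ k := by
      rintro rfl; rw [h3] at h4; exact absurd h4 (by decide)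
    have f1 : β (e p q) (e p r) = 1 := by
      rw [c.form, dl_self, dl_ne hd.ik, dl_ne hd.ij.symm, dl_ne hd.jk]; decide
    have m3 : e p k ∈ B v := by
      rcases c.trip h hv ⟨hd.ij, kp.symm, hd.il, kq.symm, hd.jl, hik.symm⟩ h1 h4 h3 with h5 | h5
      · exact h5.2
      · exfalso
        have := (h5 _ m2).1
        rw [f1] at this
        exact absurd this (by decide)
    have f2 : β (e p k) (e p q) = 1 := by
      rw [c.form, dl_self, dl_ne hd.ij, dl_ne kp, dl_ne kq]; decide
    have f3 : β (e p k) (e p r) = 1 := by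
      rw [c.form, dl_self, dl_ne hd.ik, dl_ne kp, dl_ne kr]; decide
    have h6 := h.cov hv m1 m2 f1 m3
    rw [f2, f3] at h6
    simp only [sm_one] at h6
    rw [c.add' h] at h6
    rcases h6 with h6 | h6
    · exfalso
      have g1 : β (e p k) (e k i) = 1 := by
        rw [c.form, dl_ne kp.symm, dl_ne hd.il, dl_self, dl_ne hik.symm]; decide
      have g2 : β (e q r) (e k i) = 0 := by
        rw [c.form, dl_ne kq.symm, dl_ne hd.jl, dl_ne kr.symm, dl_ne hd.kl]; decide
      rw [h6, g2] at g1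
      exact absurd g1 (by decide)
    · refine ⟨p, k, q, r, ⟨kp.symm, hd.ij, hd.ik, kq, kr, hd.jk⟩, ?_⟩
      rw [h6, show e q r + v + e q r = e q r + e q r + v by abel, h.two, zero_add]
  · push Not at h4
    right
    have h5 : ∀ i, β v (e p i) = 1 + (dl i p + dl i q + dl i r) := by
      intro i
      by_cases e1 : i = p
      · rw [e1, c.self, h.zr, dl_self, dl_ne hd.ij, dl_ne hd.ik]; decide
      by_cases e2 : i = q
      · rw [e2, h1, dl_self, dl_ne hd.ij.symm, dl_ne hd.jk]; decide
      by_cases e3 : i = r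
      · rw [e3, h2, dl_self, dl_ne hd.ik.symm, dl_ne hd.jk.symm]; decide
      rw [dl_ne e1, dl_ne e2, dl_ne e3]
      rcases z2 (β v (e p i)) with h6 | h6
      · exact absurd h6 (h4 i e1 e2 e3)
      · rw [h6]; decide
    refine ⟨hv, hd.ij, hd.ik, hd.jk, fun i j => ?_, m1, m2⟩
    rw [← c.add' h p i j, h.addr, h5, h5]
    have key : ∀ s t : ZMod 2, 1 + s + (1 + t) = s + t := by decide
    exact key _ _

/-- the extension datum `τ + c` -/
theorem mkEx (c : Cht D β B e) (h : One D β B) (hv : v ∈ D) (hd : Dst p q r i) {x : N} (hx : x ∈ B v) (x0 : x ≠ 0)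
    (xv : x ≠ v) (hf : ∀ j k, β x (e j k) = dl j i + dl k i) (h1 : β v (e p q) = 0) (h2 : β v (e p r) = 0)
    (h3 : β v (e p i) = 1) : Ex D β B e (e p i + e q r + x) p q r := by
  have hd' : Dst p i q r := ⟨hd.il, hd.ij, hd.ik, hd.jl.symm, hd.kl.symm, hd.jk⟩
  have hτ := c.mem p i q r hd'
  have h4 : β (e p i + e q r) v = 1 := by
    rw [h.symm, h.addr, h3, ← c.add' h p q r, h.addr, h1, h2]; decide
  have h5 : β (e p i + e q r) x = 1 := by
    rw [h.symm, h.addr, hf, hf, dl_self, dl_ne hd.il, dl_ne hd.jl, dl_ne hd.kl]; decide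
  have h6 : sg β 1 v x (e p i + e q r) = e p i + e q r + x := by
    rw [sg, h4, h5]
    simp only [sm_one]
    calc e p i + e q r + (x + v) + v = e p i + e q r + x + (v + v) := by abel
      _ = _ := by rw [h.two, add_zero]
  have h7 : ∀ y ∈ B (e p i + e q r), β y v = 0 → β y x = 0 → y ∈ B (e p i + e q r + x) := by
    intro y hy e1 e2
    have h8 := h.actB v hv x hx x0 xv _ hτ y hy
    rw [h6, sg, e1, e2] at h8
    simpa using h8
  refine ⟨?_, hd.ij, hd.ik, hd.jk, fun j k => ?_, ?_, ?_⟩
  · rw [← h6]; exact h.act v hv x hx x0 xv _ hτ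
  · rw [h.addl, h.addl, c.form, c.form, hf, dl_comm p j, dl_comm p k, dl_comm i j, dl_comm i k, dl_comm q j, dl_comm q k,
      dl_comm r j, dl_comm r k]
    generalize dl j p = t1, dl k p = t2, dl j i = t3, dl k i = t4, dl j q = t5, dl k q = t6, dl j r = t7, dl k r = t8
    have key : ∀ t3 t4 : ZMod 2, t3 + t3 = 0 ∧ t4 + t4 = 0 := by decide
    calc t1 + t2 + t3 + t4 + (t5 + t6 + t7 + t8) + (t3 + t4)
        = (t1 + t5 + t7) + (t2 + t6 + t8) + (t3 + t3) + (t4 + t4) := by ring
      _ = _ := by rw [(key t3 t4).1, (key t3 t4).2, add_zero, add_zero]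
  · apply h7 _ (c.inB₂ h hd')
    · rw [h.symm]; exact h1
    · rw [h.symm, hf, dl_ne hd.il, dl_ne hd.jl]; decide
  · apply h7 _ (c.inB₃ h hd')
    · rw [h.symm]; exact h2
    · rw [h.symm, hf, dl_ne hd.il, dl_ne hd.kl]; decide

/-- the main step, three points in one part -/
theorem step₁ (c : Cht D β B e) (h : One D β B) (hv : v ∈ D) (hd : Dst p q r i) (h1 : β v (e p q) = 0)
    (h2 : β v (e p r) = 0) (h3 : β v (e p i) = 1) :
    InC e v ∨ ∃ v₁ p q r, Ex D β B e v₁ p q r := by
  have wrap : ∀ {p q r : I}, (InC e v ∨ Ex D β B e v p q r) → (InC e v ∨ ∃ v₁ p q r, Ex D β B e v₁ p q r) :=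
    fun h4 => h4.imp id fun h5 => ⟨v, _, _, _, h5⟩
  rcases c.trip h hv hd h1 h2 h3 with ⟨m1, m2⟩ | hJ
  · exact wrap (c.caseP h hv hd h1 h2 h3 m1 m2)
  -- the part of `p` is dead
  have dead : ∀ k, β v (e p k) = 0 → ∀ y ∈ B v, β (e p k) y = 0 := by
    intro k hk y hy
    by_cases kp : k = p
    · rw [kp, c.self, h.zl]
    by_cases kq : k = q
    · rw [kq]; exact (hJ y hy).1
    have ik : k ≠ i := by
      rintro rfl; rw [h3] at hk; exact absurd hk (by decide)
    rcases c.trip h hv ⟨hd.ij, Ne.symm kp, hd.il, Ne.symm kq, hd.jl, ik⟩ h1 hk h3 with h5 | h5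
    · exfalso
      have h6 := (hJ _ h5.2).1
      rw [c.form, dl_self, dl_ne (Ne.symm kp), dl_ne hd.ij.symm, dl_ne (Ne.symm kq)] at h6
      exact absurd h6 (by decide)
    · exact (h5 y hy).2
  have hvv := h.mem v hv
  by_cases h4 : ∃ k, k ≠ i ∧ β v (e p k) = 1
  · obtain ⟨k, ki, hk⟩ := h4
    have kp : k ≠ p := by
      rintro rfl; rw [c.self, h.zr] at hk; exact absurd hk (by decide)
    have kq : k ≠ q := by
      rintro rfl; rw [h1] at hk; exact absurd hk (by decide)
    have kr : k ≠ r := by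
      rintro rfl; rw [h2] at hk; exact absurd hk (by decide)
    have hik : β v (e i k) = 0 := by
      rw [← c.add' h p i k, h.addr, h3, hk]; decide
    have hip : β v (e i p) = 1 := by rw [c.sy h]; exact h3
    -- live
    have hd2 : Dst i k p q := ⟨ki.symm, hd.il.symm, hd.jl.symm, kp, kq, hd.ij⟩
    by_cases hin : v = e i k + e p q
    · exact Or.inl ⟨i, k, p, q, hd2, hin⟩
    have live : ∃ y ∈ B v, β (e i k) y = 1 := by
      by_contra hno
      push Not at hno
      have h5 : ∀ y ∈ B v, β (e i k + e p q) y = 0 := by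
        intro y hy
        rw [h.addl, dead q h1 y hy, add_zero]
        exact (z2 _).resolve_right (hno y hy)
      have h6 := h.sym _ (c.mem i k p q hd2) v hv (fun h7 => hin h7.symm) h5 _ (c.inB₂ h hd2) v hvv
      rw [h.symm, hip] at h6
      exact absurd h6 (by decide)
    by_cases h5 : ∃ l, l ≠ i ∧ l ≠ k ∧ β v (e p l) = 1
    · obtain ⟨l, li, lk, hl⟩ := h5
      have lp : l ≠ p := by
        rintro rfl; rw [c.self, h.zr] at hl; exact absurd hl (by decide)
      have hil : β v (e i l) = 0 := by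
        rw [← c.add' h p i l, h.addr, h3, hl]; decide
      have hd3 : Dst i k l p := ⟨ki.symm, li.symm, hd.il.symm, lk.symm, kp, lp⟩
      rcases c.trip h hv hd3 hik hil hip with ⟨m1, m2⟩ | h6
      · exact wrap (c.caseP h hv hd3 hik hil hip m1 m2)
      · obtain ⟨y, hy, h7⟩ := live
        rw [(h6 y hy).1] at h7
        exact absurd h7 (by decide)
    · push Not at h5
      -- the part of `i` is `{i, k}`
      obtain ⟨y, hy, h7⟩ := live
      have key : ∃ x ∈ B v, β (e p i) x = 1 ∧ β (e p k) x = 0 := by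
        have h8 : β (e p i) y + β (e p k) y = 1 := by
          rw [← h.addl, c.add' h]; exact h7
        rcases z2 (β (e p i) y) with h9 | h9 <;> rcases z2 (β (e p k) y) with h10 | h10 <;> rw [h9, h10] at h8
        · exact absurd h8 (by decide)
        · refine ⟨y + v, add_mem hy hvv, ?_, ?_⟩
          · rw [h.addr, h9, h.symm _ v, h3, zero_add]
          · rw [h.addr, h10, h.symm _ v, hk]; decide
        · exact ⟨y, hy, h9, h10⟩
        · exact absurd h8 (by decide)
      obtain ⟨x, hx, hx1, hx2⟩ := key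
      right
      refine ⟨_, p, q, r, c.mkEx h hv hd hx ?_ ?_ ?_ h1 h2 h3⟩
      · rintro rfl; rw [h.zr] at hx1; exact absurd hx1 (by decide)
      · rintro rfl; rw [h.symm, hk] at hx2; exact absurd hx2 (by decide)
      · have h8 : ∀ j, β x (e p j) = dl j i := by
          intro j
          by_cases ji : j = i
          · rw [ji, dl_self, h.symm]; exact hx1
          rw [dl_ne ji]
          by_cases jk : j = k
          · rw [jk, h.symm]; exact hx2
          rcases z2 (β v (e p j)) with h9 | h9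
          · rw [h.symm]; exact dead j h9 x hx
          · exact absurd h9 (h5 j ji jk)
        intro j k
        rw [← c.add' h p j k, h.addr, h8, h8]
  · push Not at h4
    -- the part of `i` is `{i}`
    obtain ⟨x, hx, hx1, hx2⟩ : ∃ x ∈ B v, β (e p i) x = 1 ∧ x ≠ v := by
      obtain ⟨a, ha, a', ha', haa⟩ := h.bas v hv
      have hat : ∀ a ∈ B v, a ≠ v → a ≠ 0 → ∃ x ∈ B v, β (e p i) x = 1 ∧ x ≠ v := by
        intro a ha av a0
        rcases z2 (β (e p i) a) with h9 | h9
        · refine ⟨a + v, add_mem ha hvv, ?_, fun h10 => a0 ?_⟩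
          · rw [h.addr, h9, h.symm _ v, h3, zero_add]
          · exact add_eq_right.1 h10
        · exact ⟨a, ha, h9, av⟩
      refine hat a ha ?_ ?_
      · rintro rfl; rw [h.perp _ hv a' ha'] at haa; exact absurd haa (by decide)
      · rintro rfl; rw [h.zl] at haa; exact absurd haa (by decide)
    right
    refine ⟨_, p, q, r, c.mkEx h hv hd hx ?_ hx2 ?_ h1 h2 h3⟩
    · rintro rfl; rw [h.zr] at hx1; exact absurd hx1 (by decide)
    · have h8 : ∀ j, β x (e p j) = dl j i := by
        intro j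
        by_cases ji : j = i
        · rw [ji, dl_self, h.symm]; exact hx1
        rw [dl_ne ji]
        rcases z2 (β v (e p j)) with h9 | h9
        · rw [h.symm]; exact dead j h9 x hx
        · exact absurd h9 (h4 j ji)
      intro j k
      rw [← c.add' h p j k, h.addr, h8, h8]

/-- **the main step** -/
theorem step (c : Cht D β B e) (h : One D β B) [Fintype I] (hI : 5 ≤ Fintype.card I) (hv : v ∈ D)
    (hl : ∃ i j, β v (e i j) ≠ 0) : InC e v ∨ ∃ v₁ p q r, Ex D β B e v₁ p q r := by
  obtain ⟨i₀, j₀, hl⟩ := hl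
  have hl1 : β v (e i₀ j₀) = 1 := (z2 _).resolve_left hl
  -- the parts of `i₀` and of `j₀`
  have hcard : (Finset.univ.filter fun k => β v (e i₀ k) = 0).card +
      (Finset.univ.filter fun k => ¬ β v (e i₀ k) = 0).card = Fintype.card I :=
    Finset.card_filter_add_card_filter_not _
  have main : ∀ {i₀ j₀ : I}, β v (e i₀ j₀) = 1 → 3 ≤ (Finset.univ.filter fun k => β v (e i₀ k) = 0).card →
      InC e v ∨ ∃ v₁ p q r, Ex D β B e v₁ p q r := by
    intro i₀ j₀ hl1 h3
    have hm : i₀ ∈ (Finset.univ.filter fun k => β v (e i₀ k) = 0) := by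
      rw [Finset.mem_filter]; exact ⟨Finset.mem_univ _, by rw [c.self, h.zr]⟩
    have h4 : 1 < ((Finset.univ.filter fun k => β v (e i₀ k) = 0).erase i₀).card := by
      rw [Finset.card_erase_of_mem hm]; omega
    obtain ⟨q, hq, r, hr, hqr⟩ := Finset.one_lt_card.1 h4
    rw [Finset.mem_erase, Finset.mem_filter] at hq hr
    refine c.step₁ h hv (p := i₀) (q := q) (r := r) (i := j₀) ⟨hq.1.symm, hr.1.symm, ?_, hqr, ?_, ?_⟩ hq.2.2 hr.2.2 hl1
    · rintro rfl; rw [c.self, h.zr] at hl1; exact absurd hl1 (by decide)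
    · rintro rfl; rw [hq.2.2] at hl1; exact absurd hl1 (by decide)
    · rintro rfl; rw [hr.2.2] at hl1; exact absurd hl1 (by decide)
  by_cases h3 : 3 ≤ (Finset.univ.filter fun k => β v (e i₀ k) = 0).card
  · exact main hl1 h3
  · refine main (i₀ := j₀) (j₀ := i₀) (by rw [c.sy h]; exact hl1) ?_
    have h4 : (Finset.univ.filter fun k => ¬ β v (e i₀ k) = 0) = (Finset.univ.filter fun k => β v (e j₀ k) = 0) := by
      ext k
      rw [Finset.mem_filter, Finset.mem_filter]
      have h5 : β v (e j₀ k) = 1 + β v (e i₀ k) := by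
        rw [← c.add' h i₀ j₀ k, h.addr, hl1]
      rw [h5]
      generalize β v (e i₀ k) = t
      have key : ∀ t : ZMod 2, (¬ t = 0) ↔ 1 + t = 0 := by decide
      rw [key]
    rw [h4] at hcard
    omega

end Cht

end Cfsg.Agent.Cit.Nil.RTwoM.Blk
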