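import Mathlib.Data.ZMod.Basic
import Mathlib.Algebra.Group.Subgroup.Basic
import Mathlib.Data.Fintype.Option
import Mathlib.SetTheory.Cardinal.Finite
import Mathlib.Tactic.FinCases
import Mathlib.Data.Fin.VecNotation
import Mathlib.Logic.Equiv.Fin.Basic
import Mathlib.Algebra.BigOperators.Fin
import Mathlib.Tactic.Group
import Mathlib.Tactic.Abel

/-!
# `r = 2`, any `m`: abstract block data (helper599, #18147)

`N` an elementary abelian 2-group (additive), `D ⊆ N` (`= Δ`), `β : N × N → F₂` (`β b n = 1` iff `n` interchanges the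
two members over `b`), `B b = N ⊓ R_b` (order 8), `χ b a ∈ F₂`; the coset of `B b` in `R_b` which belongs to
`a ∈ B b - ⟨b⟩` acts on `N` as `sg β (χ b a) b a : n ↦ n + β(n,b)(a + χ b) + β(n,a) b`.
-/

set_option autoImplicit false

namespace Cfsg.Agent.Cit.Nil.RTwoM.Blk

variable {N : Type*} [AddCommGroup N]

/-- `ε x`, `ε ∈ F₂` -/
def sm (ε : ZMod 2) (x : N) : N := if ε = 0 then 0 else x

@[simp] theorem sm_zero (x : N) : sm 0 x = 0 := if_pos rfl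

@[simp] theorem sm_one (x : N) : sm 1 x = x := if_neg (by decide)

theorem z2 (ε : ZMod 2) : ε = 0 ∨ ε = 1 := by
  revert ε; decide

/-- the action of the coset of `R_b` over `a` -/
def sg (β : N → N → ZMod 2) (χ : ZMod 2) (b a n : N) : N := n + sm (β n b) (a + sm χ b) + sm (β n a) b

/-- **block data** -/
structure Data (D : Set N) (β : N → N → ZMod 2) (B : N → AddSubgroup N) (χ : N → N → ZMod 2) : Prop where
  two : ∀ x : N, x + x = 0
  addl : ∀ x y z : N, β (x + y) z = β x z + β y z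
  addr : ∀ x y z : N, β x (y + z) = β x y + β x z
  alt : ∀ x, β x x = 0
  ne : ∀ b ∈ D, b ≠ 0
  mem : ∀ b ∈ D, b ∈ B b
  perp : ∀ b ∈ D, ∀ a ∈ B b, β b a = 0
  nd : ∀ b ∈ D, ∀ a ∈ B b, ∀ a' ∈ B b, β a a' = 0 → a = 0 ∨ a = b ∨ a' = 0 ∨ a' = b ∨ a' = a ∨ a' = a + b
  bas : ∀ b ∈ D, ∃ a ∈ B b, ∃ a' ∈ B b, β a a' = 1
  sw : ∀ b ∈ D, ∃ w ∈ D, β b w = 1
  act : ∀ b ∈ D, ∀ a ∈ B b, a ≠ 0 → a ≠ b → ∀ c ∈ D, sg β (χ b a) b a c ∈ D
  actB : ∀ b ∈ D, ∀ a ∈ B b, a ≠ 0 → a ≠ b → ∀ c ∈ D, ∀ x ∈ B c, sg β (χ b a) b a x ∈ B (sg β (χ b a) b a c)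
  sym : ∀ b ∈ D, ∀ c ∈ D, b ≠ c → (∀ x ∈ B c, β b x = 0) → ∀ x ∈ B b, ∀ y ∈ B c, β x y = 0

/-- the pattern (111) everywhere: `R_b` acts by `t_a t_{a+b}` -/
abbrev One (D : Set N) (β : N → N → ZMod 2) (B : N → AddSubgroup N) : Prop := Data D β B fun _ _ => 1

end Cfsg.Agent.Cit.Nil.RTwoM.Blk
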