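import Cfsg.Agent.Cit.Nil.RTwoM.MThree.Chart

/-!
# S1309, (6b), (C3), `r = 2`, `m = 3`, `|T_S| ≥ 8`: the block end (helper898, bb #20332 (7), piece (P2))

* `comb` : the combinatorics of the four-sets `X ≠ X'` and of the disjoint sets `Z 0, Z 1, Z 2` (`Z i = ∅` if `z i` is
  not in the block);
* `Is e X v` : `v` is the element of the four-set `X`; `Is.swp`, `Is.swp_iff`, `Is.cp`, `Is.ti`, `Is.disj`, `Is.cx`;
* **`blk_end`**.
-/

set_option autoImplicit false
set_option linter.style.haveILetI false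
set_option linter.unusedSectionVars false

namespace Cfsg.Agent.Cit.Nil.RTwoM.BE

section comb

variable {I : Type*} [DecidableEq I]

theorem ex3 : ∀ i : Fin 3, ∃ j k, i ≠ j ∧ i ≠ k ∧ j ≠ k := by decide

theorem sum_le {X : Finset I} {Z : Fin 3 → Finset I} (hX : X.card = 4) (hdis : ∀ i j, i ≠ j → Disjoint (Z i) (Z j))
    {i j k : Fin 3} (hij : i ≠ j) (hik : i ≠ k) (hjk : j ≠ k) :
    (X ∩ Z i).card + (X ∩ Z j).card + (X ∩ Z k).card ≤ 4 := by
  have d1 : Disjoint (X ∩ Z i) (X ∩ Z j) :=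
    (hdis i j hij).mono Finset.inter_subset_right Finset.inter_subset_right
  have d2 : Disjoint (X ∩ Z i ∪ X ∩ Z j) (X ∩ Z k) := by
    rw [Finset.disjoint_union_left]
    exact ⟨(hdis i k hik).mono Finset.inter_subset_right Finset.inter_subset_right,
      (hdis j k hjk).mono Finset.inter_subset_right Finset.inter_subset_right⟩
  rw [← Finset.card_union_of_disjoint d1, ← Finset.card_union_of_disjoint d2, ← hX]
  apply Finset.card_le_card
  intro x hx
  simp only [Finset.mem_union, Finset.mem_inter] at hx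
  tauto

theorem card_inter_pos {X Z : Finset I} (h : ¬ Disjoint X Z) : 1 ≤ (X ∩ Z).card := by
  rw [Finset.disjoint_iff_inter_eq_empty] at h
  exact Finset.card_pos.mpr (Finset.nonempty_iff_ne_empty.mpr h)

theorem card_inter_zero {X Z : Finset I} : (X ∩ Z).card = 0 ↔ Disjoint X Z := by
  rw [Finset.card_eq_zero, Finset.disjoint_iff_inter_eq_empty]

theorem le2 {X : Finset I} {Z : Fin 3 → Finset I} (hX : X.card = 4)
    (hdis : ∀ i j, i ≠ j → Disjoint (Z i) (Z j))
    (hc : ∀ i j, i ≠ j → ¬ (Disjoint X (Z i) ∧ Disjoint X (Z j)))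
    (hd : ∀ i j k, i ≠ j → i ≠ k → j ≠ k → Disjoint X (Z k) → ¬ X ⊆ Z i ∪ Z j) (i : Fin 3) :
    (X ∩ Z i).card ≤ 2 := by
  have key : ∀ i j k, i ≠ j → i ≠ k → j ≠ k → 3 ≤ (X ∩ Z i).card → 1 ≤ (X ∩ Z j).card → False := by
    intro i j k hij hik hjk h1 h2
    have h3 := sum_le hX hdis hij hik hjk
    have h4 : (X ∩ Z k).card = 0 := by omega
    refine hd i j k hij hik hjk (card_inter_zero.1 h4) ?_
    have h5 : (X ∩ (Z i ∪ Z j)).card = (X ∩ Z i).card + (X ∩ Z j).card := by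
      rw [Finset.inter_union_distrib_left, Finset.card_union_of_disjoint]
      exact (hdis i j hij).mono Finset.inter_subset_right Finset.inter_subset_right
    have h6 : X ∩ (Z i ∪ Z j) = X := Finset.eq_of_subset_of_card_le Finset.inter_subset_left (by omega)
    rw [← h6]
    exact Finset.inter_subset_right
  by_contra hcon
  push Not at hcon
  obtain ⟨j, k, hij, hik, hjk⟩ := ex3 i
  by_cases h1 : Disjoint X (Z j)
  · have h2 : ¬ Disjoint X (Z k) := fun h2 => hc j k hjk ⟨h1, h2⟩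
    exact key i k j hik hij hjk.symm (by omega) (card_inter_pos h2)
  · exact key i j k hij hik hjk (by omega) (card_inter_pos h1)

theorem exists_not_mem {A B : Finset I} (h : A.card = B.card) (hne : A ≠ B) : ∃ a ∈ A, a ∉ B := by
  by_contra hcon
  push Not at hcon
  exact hne (Finset.eq_of_subset_of_card_le hcon h.ge)

theorem comb {X X' : Finset I} {Z : Fin 3 → Finset I} (hX : X.card = 4) (hX' : X'.card = 4) (hne : X ≠ X')
    (hZ : ∀ i, (Z i).card = 4 ∨ Z i = ∅) (hdis : ∀ i j, i ≠ j → Disjoint (Z i) (Z j))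
    (ha : ∀ i, ∀ p ∈ Z i, ∀ q ∈ Z i, ((p ∈ X ↔ q ∈ X) ↔ (p ∈ X' ↔ q ∈ X')))
    (hb : ∀ i, Disjoint X (Z i) ↔ Disjoint X' (Z i))
    (hc : ∀ i j, i ≠ j → ¬ (Disjoint X (Z i) ∧ Disjoint X (Z j)))
    (hd : ∀ i j k, i ≠ j → i ≠ k → j ≠ k → Disjoint X (Z k) → ¬ X ⊆ Z i ∪ Z j ∧ ¬ X' ⊆ Z i ∪ Z j)
    (he : ∃ i, Odd (X ∩ Z i).card) :
    (∃ j, (Z j).card = 4 ∧ (X ∩ Z j).card = 2 ∧ X' = (X \ Z j) ∪ (Z j \ X)) ∨
    ∃ i a a' i₁ i₂, (Z i).card = 4 ∧ a ∈ X ∧ a ∉ X' ∧ a' ∈ X' ∧ a' ∉ X ∧ (∀ j, a ∉ Z j) ∧ (∀ j, a' ∉ Z j) ∧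
      i₁ ≠ i₂ ∧ i₁ ∈ Z i ∧ i₂ ∈ Z i ∧ i₁ ∉ X ∧ i₂ ∉ X ∧ i₁ ∉ X' ∧ i₂ ∉ X' := by
  have n2 := le2 hX hdis hc fun i j k hij hik hjk h => (hd i j k hij hik hjk h).1
  have n2' := le2 hX' hdis (fun i j hij h => hc i j hij ⟨(hb i).2 h.1, (hb j).2 h.2⟩)
    fun i j k hij hik hjk h => (hd i j k hij hik hjk ((hb k).2 h)).2
  have cz : ∀ i, (Z i \ X).card + (X ∩ Z i).card = (Z i).card := by
    intro i
    rw [Finset.inter_comm]
    exact Finset.card_sdiff_add_card_inter _ _
  -- the alternative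
  have alt : ∀ i, X' ∩ Z i = X ∩ Z i ∨ ((X ∩ Z i).card = 2 ∧ X' ∩ Z i = Z i \ X ∧ (Z i).card = 4) := by
    intro i
    rcases hZ i with h4 | h0
    swap
    · left; rw [h0, Finset.inter_empty, Finset.inter_empty]
    obtain ⟨p, hp⟩ : (Z i).Nonempty := Finset.card_pos.mp (by omega)
    by_cases hpp : p ∈ X ↔ p ∈ X'
    · left
      ext q
      simp only [Finset.mem_inter]
      constructor
      · rintro ⟨h1, h2⟩
        have := ha i p hp q h2
        exact ⟨by tauto, h2⟩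
      · rintro ⟨h1, h2⟩
        have := ha i p hp q h2
        exact ⟨by tauto, h2⟩
    · right
      have h1 : X' ∩ Z i = Z i \ X := by
        ext q
        simp only [Finset.mem_inter, Finset.mem_sdiff]
        constructor
        · rintro ⟨h1, h2⟩
          have := ha i p hp q h2
          exact ⟨h2, by tauto⟩
        · rintro ⟨h1, h2⟩
          have := ha i p hp q h1
          exact ⟨by tauto, h1⟩
      have h2 := n2' i
      have h3 := cz i
      have h5 := n2 i
      rw [h1] at h2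
      exact ⟨by omega, h1, h4⟩
  obtain ⟨i, hi⟩ := he
  have hi1 : (X ∩ Z i).card = 1 := by
    have h5 := n2 i
    obtain ⟨m, hm⟩ := hi
    omega
  have hi4 : (Z i).card = 4 := by
    rcases hZ i with h4 | h0
    · exact h4
    · rw [h0, Finset.inter_empty] at hi1; simp at hi1
  have hii : X' ∩ Z i = X ∩ Z i := by
    rcases alt i with h1 | h1
    · exact h1
    · omega
  obtain ⟨i₁, h₁, i₂, h₂, h12⟩ : ∃ i₁ ∈ Z i \ X, ∃ i₂ ∈ Z i \ X, i₁ ≠ i₂ := by
    apply Finset.one_lt_card.mp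
    have := cz i
    omega
  rw [Finset.mem_sdiff] at h₁ h₂
  have nx' : ∀ {q}, q ∈ Z i → q ∉ X → q ∉ X' := by
    intro q hq hqX hqX'
    have : q ∈ X' ∩ Z i := Finset.mem_inter.2 ⟨hqX', hq⟩
    rw [hii] at this
    exact hqX (Finset.mem_inter.1 this).1
  by_cases hB : ∃ j, (X ∩ Z j).card = 2 ∧ X' ∩ Z j = Z j \ X ∧ (Z j).card = 4
  · obtain ⟨j, hj2, hjj, hj4⟩ := hB
    have hij : i ≠ j := by rintro rfl; omega
    have hall : ∀ k, k ≠ j → X' ∩ Z k = X ∩ Z k := by
      intro k hkj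
      rcases alt k with h1 | h1
      · exact h1
      · have hik : i ≠ k := by rintro rfl; omega
        have := sum_le hX hdis hij hik hkj.symm
        omega
    have cj : (X \ Z j).card = 2 := by
      have := Finset.card_sdiff_add_card_inter X (Z j)
      omega
    have cj' : (X' \ Z j).card = 2 := by
      have h1 := Finset.card_sdiff_add_card_inter X' (Z j)
      have h2 := cz j
      rw [hjj] at h1
      omega
    by_cases hE : X \ Z j = X' \ Z j
    · left
      refine ⟨j, hj4, hj2, ?_⟩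
      rw [hE, ← hjj, Finset.sdiff_union_inter]
    · right
      obtain ⟨a, ha1, ha2⟩ := exists_not_mem (cj.trans cj'.symm) hE
      obtain ⟨a', hb1, hb2⟩ := exists_not_mem (cj'.trans cj.symm) (Ne.symm hE)
      rw [Finset.mem_sdiff] at ha1 hb1
      have ha3 : a ∉ X' := fun h => ha2 (Finset.mem_sdiff.2 ⟨h, ha1.2⟩)
      have hb3 : a' ∉ X := fun h => hb2 (Finset.mem_sdiff.2 ⟨h, hb1.2⟩)
      refine ⟨i, a, a', i₁, i₂, hi4, ha1.1, ha3, hb1.1, hb3, fun k hk => ?_, fun k hk => ?_, h12, h₁.1, h₂.1, h₁.2, h₂.2,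
        nx' h₁.1 h₁.2, nx' h₂.1 h₂.2⟩
      · by_cases hkj : k = j
        · subst hkj; exact ha1.2 hk
        · have : a ∈ X ∩ Z k := Finset.mem_inter.2 ⟨ha1.1, hk⟩
          rw [← hall k hkj] at this
          exact ha3 (Finset.mem_inter.1 this).1
      · by_cases hkj : k = j
        · subst hkj; exact hb1.2 hk
        · have : a' ∈ X' ∩ Z k := Finset.mem_inter.2 ⟨hb1.1, hk⟩
          rw [hall k hkj] at this
          exact hb3 (Finset.mem_inter.1 this).1
  · right
    have hall : ∀ k, X' ∩ Z k = X ∩ Z k := fun k => (alt k).resolve_right fun h1 => hB ⟨k, h1⟩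
    obtain ⟨a, ha1, ha3⟩ := exists_not_mem (hX.trans hX'.symm) hne
    obtain ⟨a', hb1, hb3⟩ := exists_not_mem (hX'.trans hX.symm) (Ne.symm hne)
    refine ⟨i, a, a', i₁, i₂, hi4, ha1, ha3, hb1, hb3, fun k hk => ?_, fun k hk => ?_, h12, h₁.1, h₂.1, h₁.2, h₂.2,
      nx' h₁.1 h₁.2, nx' h₂.1 h₂.2⟩
    · have : a ∈ X ∩ Z k := Finset.mem_inter.2 ⟨ha1, hk⟩
      rw [← hall k] at this
      exact ha3 (Finset.mem_inter.1 this).1
    · have : a' ∈ X' ∩ Z k := Finset.mem_inter.2 ⟨hb1, hk⟩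
      rw [hall k] at this
      exact hb3 (Finset.mem_inter.1 this).1


end comb

open Subgroup Cfsg Cfsg.Agent.Cit Cfsg.Agent.Cit.Nil.RTwoM.MThree

open RTwo (Q3)
open RG (WR CP Ov InO Tr)
open RI (CS)
open Blk (Dst dl dl_self dl_ne)

variable {G : Type*} [Group G] {Om : Set (Subgroup G)} {K L M : Subgroup G} {D : Set G}
  {v w x y z u m : G} {I : Type*} [DecidableEq I] {e : I → I → G} {a b p q r s i j k l : I} {X Y W U : Finset I}

/-- `v` is the element of the four-set `X` -/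
def Is (e : I → I → G) (X : Finset I) (v : G) : Prop :=
  X.card = 4 ∧ ∀ i j k l, Dst i j k l → i ∈ X → j ∈ X → k ∈ X → l ∈ X → v = e i j * e k l

theorem eq_of_dst (hX : X.card = 4) (hd : Dst i j k l) (hi : i ∈ X) (hj : j ∈ X) (hk : k ∈ X) (hl : l ∈ X) :
    X = {i, j, k, l} := by
  symm
  apply Finset.eq_of_subset_of_card_le
  · intro m hm
    simp only [Finset.mem_insert, Finset.mem_singleton] at hm
    rcases hm with rfl | rfl | rfl | rfl <;> assumption
  · rw [hX, Finset.card_insert_of_notMem, Finset.card_insert_of_notMem, Finset.card_insert_of_notMem,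
      Finset.card_singleton]
    · simp only [Finset.mem_singleton]; exact hd.kl
    · simp only [Finset.mem_insert, Finset.mem_singleton, not_or]; exact ⟨hd.jk, hd.jl⟩
    · simp only [Finset.mem_insert, Finset.mem_singleton, not_or]; exact ⟨hd.ij, hd.ik, hd.il⟩

/-- enumeration starting with a given pair -/
theorem exists_dst2 (hX : X.card = 4) (hp : p ∈ X) (hq : q ∈ X) (hpq : p ≠ q) :
    ∃ r ∈ X, ∃ s ∈ X, Dst p q r s := by
  obtain ⟨r, hr, s, hs, hrs⟩ : ∃ r ∈ (X.erase p).erase q, ∃ s ∈ (X.erase p).erase q, r ≠ s := by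
    apply Finset.one_lt_card.mp
    rw [Finset.card_erase_of_mem (Finset.mem_erase.2 ⟨hpq.symm, hq⟩), Finset.card_erase_of_mem hp]
    omega
  simp only [Finset.mem_erase] at hr hs
  exact ⟨r, hr.2.2, s, hs.2.2, ⟨hpq, hr.2.1.symm, hs.2.1.symm, hr.1.symm, hs.1.symm, hrs⟩⟩

theorem exists_dst1 (hX : X.card = 4) (hp : p ∈ X) : ∃ q ∈ X, ∃ r ∈ X, ∃ s ∈ X, Dst p q r s := by
  obtain ⟨q, hq, hqp⟩ : ∃ q ∈ X, q ≠ p := by
    apply Finset.exists_mem_ne; omega
  obtain ⟨r, hr, s, hs, hd⟩ := exists_dst2 hX hp hq hqp.symm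
  exact ⟨q, hq, r, hr, s, hs, hd⟩

theorem exists_dst (hX : X.card = 4) : ∃ p ∈ X, ∃ q ∈ X, ∃ r ∈ X, ∃ s ∈ X, Dst p q r s := by
  obtain ⟨p, hp⟩ : X.Nonempty := Finset.card_pos.mp (by omega)
  exact ⟨p, hp, exists_dst1 hX hp⟩

theorem sum_four {N : Type*} [AddCommGroup N] (t : I → N) (hd : Dst i j k l) :
    ∑ p ∈ ({i, j, k, l} : Finset I), t p = t i + t j + (t k + t l) := by
  rw [Finset.sum_insert, Finset.sum_insert, Finset.sum_insert, Finset.sum_singleton]
  · abel
  · simp only [Finset.mem_singleton]; exact hd.kl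
  · simp only [Finset.mem_insert, Finset.mem_singleton, not_or]; exact ⟨hd.jk, hd.jl⟩
  · simp only [Finset.mem_insert, Finset.mem_singleton, not_or]; exact ⟨hd.ij, hd.ik, hd.il⟩

section Fin

variable [Finite G]

/-! ### Coordinates -/

section crd

variable {N : Type*} [AddCommGroup N] {ι : N → G} {t : I → N}

theorem exists_t (c : ChtG Om D e) (nil : NilS Om D) (h : WM Om) (E : Emb D ι) (o : I) :
    ∃ t : I → N, ∀ i j, ι (t i + t j) = e i j := by
  have h1 : ∀ i, ∃ n, ι n = e o i := fun i => E.ex (c.cl o i)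
  choose t ht using h1
  exact ⟨t, fun i j => by rw [E.add, ht, ht, cadd' c nil h]⟩

theorem Is.sum (hX : Is e X v) (E : Emb D ι) (ht : ∀ i j, ι (t i + t j) = e i j) : ι (∑ p ∈ X, t p) = v := by
  obtain ⟨i, hi, j, hj, k, hk, l, hl, hd⟩ := exists_dst hX.1
  rw [hX.2 i j k l hd hi hj hk hl, eq_of_dst hX.1 hd hi hj hk hl, sum_four t hd, E.add, ht, ht]

theorem Is.of_sum (hX : X.card = 4) (E : Emb D ι) (ht : ∀ i j, ι (t i + t j) = e i j) : Is e X (ι (∑ p ∈ X, t p)) := by
  refine ⟨hX, fun i j k l hd hi hj hk hl => ?_⟩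
  rw [eq_of_dst hX hd hi hj hk hl, sum_four t hd, E.add, ht, ht]

end crd

/-- every four-set has an element -/
theorem exists_is (c : ChtG Om D e) (nil : NilS Om D) (h : WM Om) (hX : X.card = 4) : ∃ v, Is e X v := by
  obtain ⟨p, -⟩ := exists_dst hX
  obtain ⟨N, _, _, ι, E⟩ := nil.exists_emb
  obtain ⟨t, ht⟩ := exists_t c nil h E p
  exact ⟨_, Is.of_sum hX E ht⟩

theorem exists_of_inG (c : ChtG Om D e) (nil : NilS Om D) (h : WM Om) (hv : InG e v) : ∃ X, Is e X v := by
  obtain ⟨i, j, k, l, hd, rfl⟩ := hv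
  obtain ⟨N, _, _, ι, E⟩ := nil.exists_emb
  obtain ⟨t, ht⟩ := exists_t c nil h E i
  have hc : ({i, j, k, l} : Finset I).card = 4 := by
    rw [Finset.card_insert_of_notMem, Finset.card_insert_of_notMem, Finset.card_insert_of_notMem,
      Finset.card_singleton]
    · simp only [Finset.mem_singleton]; exact hd.kl
    · simp only [Finset.mem_insert, Finset.mem_singleton, not_or]; exact ⟨hd.jk, hd.jl⟩
    · simp only [Finset.mem_insert, Finset.mem_singleton, not_or]; exact ⟨hd.ij, hd.ik, hd.il⟩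
  refine ⟨{i, j, k, l}, ?_⟩
  have h1 := Is.of_sum hc E ht
  rwa [sum_four t hd, E.add, ht, ht] at h1

theorem Is.inG (hX : Is e X v) : InG e v := by
  obtain ⟨i, hi, j, hj, k, hk, l, hl, hd⟩ := exists_dst hX.1
  exact ⟨i, j, k, l, hd, hX.2 i j k l hd hi hj hk hl⟩

theorem Is.mem (hX : Is e X v) (c : ChtG Om D e) : v ∈ D := by
  obtain ⟨i, hi, j, hj, k, hk, l, hl, hd⟩ := exists_dst hX.1
  rw [hX.2 i j k l hd hi hj hk hl]
  exact c.mem i j k l hd

/-- `e p q` swaps the members over `v` iff `{p, q}` meets `X` in one point -/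
theorem Is.swp (hX : Is e X v) (c : ChtG Om D e) : Swp Om v (e p q) ↔ ¬ (p ∈ X ↔ q ∈ X) := by
  obtain ⟨i, hi, j, hj, k, hk, l, hl, hd⟩ := exists_dst hX.1
  have hXe := eq_of_dst hX.1 hd hi hj hk hl
  have hm : ∀ m, m ∈ X ↔ (m = i ∨ m = j ∨ m = k ∨ m = l) := by
    intro m
    rw [hXe]
    simp only [Finset.mem_insert, Finset.mem_singleton]
  have h1 : ∀ m, m ∈ X → (dl i m + dl j m + dl k m + dl l m : ZMod 2) = 1 := fun m h => par_in hd ((hm m).1 h)
  have h0 : ∀ m, m ∉ X → (dl i m + dl j m + dl k m + dl l m : ZMod 2) = 0 := by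
    intro m h
    rw [hm] at h
    push Not at h
    exact par_out h.1 h.2.1 h.2.2.1 h.2.2.2
  rw [hX.2 i j k l hd hi hj hk hl, c.swp i j k l hd p q]
  by_cases hp : p ∈ X <;> by_cases hq : q ∈ X
  · rw [h1 p hp, h1 q hq]; simp only [hp, hq]; decide
  · rw [h1 p hp, h0 q hq]; simp only [hp, hq]; decide
  · rw [h0 p hp, h1 q hq]; simp only [hp, hq]; decide
  · rw [h0 p hp, h0 q hq]; simp only [hp, hq]; decide

/-- two four-sets -/
theorem Is.swp_iff (hX : Is e X v) (hY : Is e Y w) (c : ChtG Om D e) (nil : NilS Om D) (h : WM Om) :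
    Swp Om v w ↔ Odd (X ∩ Y).card := by
  obtain ⟨p, hp, q, hq, r, hr, s, hs, hd⟩ := exists_dst hY.1
  have hYe := eq_of_dst hY.1 hd hp hq hr hs
  have hvD := hX.mem c
  rw [hY.2 p q r s hd hp hq hr hs, ← not_iff_not, swp_mul h (nil.inZ _ hvD) (nil.comm_cl hvD (c.cl p q))
    (nil.comm_cl hvD (c.cl r s)), hX.swp c, hX.swp c]
  have h1 : (X ∩ Y).card = (if p ∈ X then 1 else 0) + ((if q ∈ X then 1 else 0) + ((if r ∈ X then 1 else 0) +
      (if s ∈ X then 1 else 0))) := by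
    rw [Finset.inter_comm, ← Finset.filter_mem_eq_inter, Finset.card_filter, hYe, Finset.sum_insert, Finset.sum_insert,
      Finset.sum_insert, Finset.sum_singleton]
    · simp only [Finset.mem_singleton]; exact hd.kl
    · simp only [Finset.mem_insert, Finset.mem_singleton, not_or]; exact ⟨hd.jk, hd.jl⟩
    · simp only [Finset.mem_insert, Finset.mem_singleton, not_or]; exact ⟨hd.ij, hd.ik, hd.il⟩
  rw [h1]
  by_cases h1 : p ∈ X <;> by_cases h2 : q ∈ X <;> by_cases h3 : r ∈ X <;> by_cases h4 : s ∈ X <;>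
    simp only [h1, h2, h3, h4, if_true, if_false, iff_true, iff_false, not_true, not_false_iff, iff_self, true_iff,
      false_iff, not_not] <;> decide

theorem Is.inj (hX : Is e X v) (hY : Is e Y v) (c : ChtG Om D e) : X = Y := by
  symm
  apply Finset.eq_of_subset_of_card_le _ (by rw [hX.1, hY.1])
  intro p hp
  obtain ⟨i, hi, j, hj, k, hk, l, hl, hd⟩ := exists_dst hX.1
  obtain ⟨q, hq, r, hr, s, hs, hd'⟩ := exists_dst1 hY.1 hp
  have h1 := (hX.2 i j k l hd hi hj hk hl).symm.trans (hY.2 p q r s hd' hp hq hr hs)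
  rcases c.inj _ _ _ _ _ _ _ _ hd hd' h1 with h2 | h2 | h2 | h2 <;> rw [h2] <;> assumption

/-- **disjoint four-sets** -/
theorem Is.cp (hX : Is e X v) (hY : Is e Y w) (c : ChtG Om D e) (nil : NilS Om D) (h : WM Om) (hdis : Disjoint X Y) :
    CP Om v w := by
  obtain ⟨i, hi, j, hj, k, hk, l, hl, hd⟩ := exists_dst hX.1
  obtain ⟨q, hq⟩ : Y.Nonempty := Finset.card_pos.mp (by rw [hY.1]; norm_num)
  have hqX : q ∉ X := fun h1 => Finset.disjoint_left.1 hdis h1 hq
  have hv := hX.2 i j k l hd hi hj hk hl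
  obtain ⟨N, _, _, ι, E⟩ := nil.exists_emb
  obtain ⟨β, F⟩ := nil.exists_form h E
  obtain ⟨b, rfl⟩ := E.ex (subset_closure (hY.mem c))
  obtain ⟨c', rfl⟩ := E.ex (subset_closure (hX.mem c))
  obtain ⟨w', hw'⟩ := E.ex (c.cl i q)
  have nX : ∀ {m}, m ∈ X → m ∉ Y := fun h1 h2 => Finset.disjoint_left.1 hdis h1 h2
  have ns : ∀ {m m'}, m ∈ X → m' ∈ X → ¬ Swp Om (ι b) (e m m') := by
    intro m m' hm hm' h1
    rw [hY.swp c] at h1
    exact h1 ⟨fun h2 => absurd h2 (nX hm), fun h2 => absurd h2 (nX hm')⟩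
  refine (F.cp_of nil h E (b := b) (c := c') (w := w') (hY.mem c) (hX.mem c) ?_ ?_ ?_).symm
  · rw [F.swp (hX.mem c), hw', hX.swp c]
    exact fun h1 => hqX (h1.1 hi)
  · intro h1
    rw [h1] at hY
    rw [← hX.inj hY c] at hq
    exact hqX hq
  · intro x hx
    have hn : ¬ Swp Om (ι b) (ι x) := by
      rw [hv] at hx
      rcases c.mem_B i j k l hd _ (E.cl x) hx with h1 | h1 | h1 | h1 | h1 | h1 | h1 | h1
      · rw [h1]; exact not_swp_one (nil.inZ _ (hY.mem c))
      · rw [h1, ← hv, hY.swp_iff hX c nil h, Finset.inter_comm, Finset.disjoint_iff_inter_eq_empty.1 hdis]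
        simp
      all_goals rw [h1]; exact ns ‹_› ‹_›
    rcases Blk.z2 (β b x) with h1 | h1
    · exact h1
    · exact absurd ((F.swp (hY.mem c)).1 h1) hn

theorem ccm' (c : ChtG Om D e) (nil : NilS Om D) (hv : v ∈ closure D) (i j : I) : v * e i j = e i j * v :=
  nil.cl_comm hv (c.cl i j)

/-- **four-sets meeting in two points** -/
theorem Is.ti (hX : Is e X v) (hY : Is e Y w) (c : ChtG Om D e) (nil : NilS Om D) (h : WM Om)
    (h2 : (X ∩ Y).card = 2) : TI Om v w := by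
  have hvD := hX.mem c
  have hwD := hY.mem c
  have hne : v ≠ w := by
    rintro rfl
    rw [← hX.inj hY c, Finset.inter_self, hX.1] at h2
    omega
  rcases tri h (nil.inZ _ hvD) (nil.inZ _ hwD) hne (nil.comm _ hvD _ hwD) with h1 | h1 | ⟨h1, -⟩
  · exfalso
    obtain ⟨i, hi, j, hj, hij⟩ := Finset.one_lt_card.1 (show 1 < (X ∩ Y).card by omega)
    rw [Finset.mem_inter] at hi hj
    obtain ⟨k, hk, l, hl, hd⟩ := exists_dst2 hX.1 hi.1 hj.1 hij
    obtain ⟨p, hp, q, hq, hd'⟩ := exists_dst2 hY.1 hi.2 hj.2 hij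
    have hXY : X ∩ Y = {i, j} := by
      symm
      apply Finset.eq_of_subset_of_card_le
      · intro m hm
        simp only [Finset.mem_insert, Finset.mem_singleton] at hm
        rcases hm with rfl | rfl
        · exact Finset.mem_inter.2 hi
        · exact Finset.mem_inter.2 hj
      · rw [h2, Finset.card_pair hij]
    have nX : ∀ {m}, m ∈ Y → m ≠ i → m ≠ j → m ∉ X := by
      intro m h3 h4 h5 h6
      have h7 : m ∈ X ∩ Y := Finset.mem_inter.2 ⟨h6, h3⟩
      rw [hXY] at h7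
      simp only [Finset.mem_insert, Finset.mem_singleton] at h7
      rcases h7 with h7 | h7
      · exact h4 h7
      · exact h5 h7
    have hpX := nX hp hd'.ik.symm hd'.jk.symm
    have hqX := nX hq hd'.il.symm hd'.jl.symm
    have hd2 : Dst i k j l := ⟨hd.ik, hd.ij, hd.il, hd.jk.symm, hd.kl, hd.jl⟩
    obtain ⟨K, hK, y, hy, -, ha⟩ := c.act i k j l hd2
    rw [← hX.2 i k j l hd2 hi.1 hk hj.1 hl] at hK
    have hyw := cp_RZ h h1 (hK.le_RZ hy) (z_mem_RZ (nil.inZ _ hwD) h)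
    have f : ∀ {m}, m ∉ X → Equiv.swap i k (Equiv.swap j l m) = m := by
      intro m hm
      have n : ∀ {m'}, m' ∈ X → m ≠ m' := by
        rintro m' h3 rfl; exact hm h3
      rw [Equiv.swap_apply_of_ne_of_ne (n hj.1) (n hl), Equiv.swap_apply_of_ne_of_ne (n hi.1) (n hk)]
    have a1 := ha i j
    have a2 := ha p q
    rw [f hpX, f hqX] at a2
    rw [Equiv.swap_apply_of_ne_of_ne hd.ij hd.il, Equiv.swap_apply_left, Equiv.swap_apply_left,
      Equiv.swap_apply_of_ne_of_ne hd.il.symm hd.kl.symm] at a1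
    have hw := hY.2 i j p q hd' hi.2 hj.2 hp hq
    have h3 : y * w * y⁻¹ = e k l * e p q := by
      rw [hw, ← a1]
      conv_rhs => rw [← a2]
      group
    have h4 : y * w * y⁻¹ = w := by rw [hyw, mul_inv_cancel_right]
    rw [h4, hw] at h3
    have h5 : e i j = e k l := mul_right_cancel h3
    have h6 := hX.2 i j k l hd hi.1 hj.1 hk hl
    rw [← h5, csq c nil h] at h6
    exact (nil.inZ _ hvD).z1 h h6
  · exact h1
  · exfalso
    rcases h1.cases with h3 | h3
    · rw [hX.swp_iff hY c nil h, h2] at h3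
      exact absurd h3 (by decide)
    · exact nil.not_ff h hvD (subset_closure hwD) h3

theorem not_cp_of_swp (hs : Swp Om v w) (h : WM Om) (hv : InZ Om v) (hw : InZ Om w) : ¬ CP Om v w := by
  have h1 : Out Om v w := ⟨hs.1, Or.inl hs⟩
  exact h1.not_cp h hv hw

theorem Is.disj (hX : Is e X v) (hY : Is e Y w) (c : ChtG Om D e) (nil : NilS Om D) (h : WM Om)
    (hc : CP Om v w) : Disjoint X Y := by
  rw [← card_inter_zero]
  have h4 : (X ∩ Y).card ≤ 4 := by
    rw [← hX.1]; exact Finset.card_le_card Finset.inter_subset_left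
  have h5 : ¬ Odd (X ∩ Y).card := fun ho =>
    not_cp_of_swp ((hX.swp_iff hY c nil h).2 ho) h (nil.inZ _ (hX.mem c)) (nil.inZ _ (hY.mem c)) hc
  have h6 : (X ∩ Y).card ≠ 2 := fun h6 => (hX.ti hY c nil h h6).not_cp h hc
  have h7 : (X ∩ Y).card ≠ 4 := by
    intro h7
    have h8 : X ∩ Y = X := Finset.eq_of_subset_of_card_le Finset.inter_subset_left (by rw [h7, hX.1])
    have h9 : X ∩ Y = Y := Finset.eq_of_subset_of_card_le Finset.inter_subset_right (by rw [h7, hY.1])
    have h10 : X = Y := h8.symm.trans h9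
    subst h10
    obtain ⟨i, hi, j, hj, k, hk, l, hl, hd⟩ := exists_dst hX.1
    exact hc.1 ((hX.2 i j k l hd hi hj hk hl).trans (hY.2 i j k l hd hi hj hk hl).symm)
  generalize (X ∩ Y).card = n at *
  interval_cases n
  · rfl
  · exact absurd (by decide) h5
  · exact absurd rfl h6
  · exact absurd (by decide) h5
  · exact absurd rfl h7

theorem cx_of_cp (h : WM Om) (hw : InZ Om w) (hc : CP Om v w) : w ∈ CX Om v := cp_cx h hw hc

/-- the product of two disjoint four-sets which cover `X` -/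
theorem Is.cx (hX : Is e X v) (hY : Is e Y w) (hW : Is e W u) (c : ChtG Om D e) (nil : NilS Om D) (h : WM Om)
    (hdis : Disjoint Y W) (hsub : X ⊆ Y ∪ W) : w * u ∈ CX Om v := by
  obtain ⟨o, -⟩ := exists_dst hX.1
  obtain ⟨N, _, _, ι, E⟩ := nil.exists_emb
  obtain ⟨t, ht⟩ := exists_t c nil h E o
  have hU : ((Y ∪ W) \ X).card = 4 := by
    have h1 := Finset.card_sdiff_add_card_inter (Y ∪ W) X
    rw [Finset.card_union_of_disjoint hdis, hY.1, hW.1, Finset.inter_eq_right.2 hsub, hX.1] at h1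
    omega
  have hU' := Is.of_sum (e := e) hU E ht
  have h1 : (∑ p ∈ Y, t p) + ∑ p ∈ W, t p = (∑ p ∈ X, t p) + ∑ p ∈ (Y ∪ W) \ X, t p := by
    rw [← Finset.sum_union hdis, ← Finset.sum_sdiff hsub, add_comm]
  have h2 : w * u = v * ι (∑ p ∈ (Y ∪ W) \ X, t p) := by
    rw [← hY.sum E ht, ← hW.sum E ht, ← E.add, h1, E.add, hX.sum E ht]
  rw [h2]
  refine mul_mem (z_mem_CX h) (cp_cx h (nil.inZ _ (hU'.mem c)) (hX.cp hU' c nil h ?_))
  exact Finset.disjoint_sdiff

theorem Is.mul_eq (hX : Is e X v) (hY : Is e Y w) (hW : Is e W u) (c : ChtG Om D e) (nil : NilS Om D) (h : WM Om)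
    (hE : W = (X \ Y) ∪ (Y \ X)) : u = v * w := by
  obtain ⟨o, -⟩ := exists_dst hX.1
  obtain ⟨N, _, _, ι, E⟩ := nil.exists_emb
  obtain ⟨t, ht⟩ := exists_t c nil h E o
  have two := E.two nil h
  rw [← hX.sum E ht, ← hY.sum E ht, ← hW.sum E ht, ← E.add, hE, Finset.sum_union]
  · congr 1
    have h1 := Finset.sum_sdiff (f := t) (Finset.inter_subset_left (s₁ := X) (s₂ := Y))
    have h2 := Finset.sum_sdiff (f := t) (Finset.inter_subset_right (s₁ := X) (s₂ := Y))
    rw [Finset.sdiff_inter_self_left] at h1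
    rw [Finset.inter_comm, Finset.sdiff_inter_self_left] at h2
    rw [← h1, ← h2, Finset.inter_comm Y X]
    calc _ = (∑ p ∈ X \ Y, t p + ∑ p ∈ Y \ X, t p) + 0 := (add_zero _).symm
      _ = (∑ p ∈ X \ Y, t p + ∑ p ∈ Y \ X, t p) + (∑ p ∈ X ∩ Y, t p + ∑ p ∈ X ∩ Y, t p) := by rw [two]
      _ = _ := by abel
  · rw [Finset.disjoint_left]
    intro m h1 h2
    rw [Finset.mem_sdiff] at h1 h2
    exact h1.2 h2.1

/-- `v`, `w` meet the four-set of `m` in one point each: `v w ∉ X_m` -/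
theorem Is.not_cx (hX : Is e X v) (hY : Is e Y w) (hW : Is e W m) (c : ChtG Om D e) (nil : NilS Om D) (h : WM Om)
    (ha : a ∈ W) (hb : b ∈ W) (hi : i ∈ W) (hj : j ∈ W) (hd : Dst a i b j) (haX : a ∈ X) (hbX : b ∉ X) (haY : a ∉ Y)
    (hbY : b ∈ Y) (hiX : i ∉ X) (hjX : j ∉ X) (hiY : i ∉ Y) (hjY : j ∉ Y) : v * w ∉ CX Om m := by
  intro hcx
  obtain ⟨K, hK, y, hy, -, hact⟩ := c.act a i b j hd
  have hm := hW.2 a i b j hd ha hi hb hj
  rw [← hm] at hK
  have hcom := CX_comm (hK.le_RZ hy) hcx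
  have f : ∀ {p}, p ≠ a → p ≠ i → p ≠ b → p ≠ j → Equiv.swap a i (Equiv.swap b j p) = p := by
    intro p h1 h2 h3 h4
    rw [Equiv.swap_apply_of_ne_of_ne h3 h4, Equiv.swap_apply_of_ne_of_ne h1 h2]
  have ne : ∀ {p q : I} {A : Finset I}, p ∈ A → q ∉ A → p ≠ q := by
    rintro p q A h1 h2 rfl
    exact h2 h1
  have vD := subset_closure (hX.mem c)
  have wD := subset_closure (hY.mem c)
  have hv : y * v * y⁻¹ = e a i * v := by
    obtain ⟨q, hq, r, hr, s, hs, hd'⟩ := exists_dst1 hX.1 haX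
    have h1 := hact a q
    have h2 := hact r s
    rw [Equiv.swap_apply_of_ne_of_ne hd.ik hd.il, Equiv.swap_apply_left,
      f hd'.ij.symm (ne hq hiX) (ne hq hbX) (ne hq hjX)] at h1
    rw [f hd'.ik.symm (ne hr hiX) (ne hr hbX) (ne hr hjX), f hd'.il.symm (ne hs hiX) (ne hs hbX) (ne hs hjX)] at h2
    rw [hX.2 a q r s hd' haX hq hr hs]
    calc y * (e a q * e r s) * y⁻¹ = (y * e a q * y⁻¹) * (y * e r s * y⁻¹) := by group
      _ = e i q * e r s := by rw [h1, h2]
      _ = e a i * e a q * e r s := by rw [cadd' c nil h]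
      _ = _ := by rw [mul_assoc]
  have hw : y * w * y⁻¹ = e b j * w := by
    obtain ⟨q, hq, r, hr, s, hs, hd'⟩ := exists_dst1 hY.1 hbY
    have h1 := hact b q
    have h2 := hact r s
    rw [Equiv.swap_apply_left, Equiv.swap_apply_of_ne_of_ne hd.il.symm hd.jl.symm,
      f (ne hq haY) (ne hq hiY) hd'.ij.symm (ne hq hjY)] at h1
    rw [f (ne hr haY) (ne hr hiY) hd'.ik.symm (ne hr hjY), f (ne hs haY) (ne hs hiY) hd'.il.symm (ne hs hjY)] at h2
    rw [hY.2 b q r s hd' hbY hq hr hs]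
    calc y * (e b q * e r s) * y⁻¹ = (y * e b q * y⁻¹) * (y * e r s * y⁻¹) := by group
      _ = e j q * e r s := by rw [h1, h2]
      _ = e b j * e b q * e r s := by rw [cadd' c nil h]
      _ = _ := by rw [mul_assoc]
  have h1 : y * (v * w) * y⁻¹ = m * (v * w) := by
    calc y * (v * w) * y⁻¹ = (y * v * y⁻¹) * (y * w * y⁻¹) := by group
      _ = e a i * (v * e b j) * w := by rw [hv, hw]; group
      _ = e a i * (e b j * v) * w := by rw [ccm' c nil vD]
      _ = _ := by rw [hm]; group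
  have h2 : y * (v * w) * y⁻¹ = v * w := by
    rw [← hcom, mul_inv_cancel_right]
  rw [h2] at h1
  refine (nil.inZ _ (hW.mem c)).z1 h ?_
  exact (mul_eq_right.1 h1.symm)

/-- **The block end** (#20332 (7)). -/
theorem blk_end (h : WM Om) (nil : NilS Om D) (c : ChtG Om D e) {x x' : G} (hx : InG e x) (hx' : InG e x')
    (hne : x ≠ x') {z : Fin 3 → G} (hcp : ∀ i j, i ≠ j → CP Om (z i) (z j))
    (hin : ∀ i, InG e (z i) ∨ ∀ p q r s, Dst p q r s → CP Om (z i) (e p q * e r s))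
    (ha : ∀ i p q, e p q ∈ RZ Om (z i) → (Swp Om x (e p q) ↔ Swp Om x' (e p q)))
    (hb : ∀ i, CP Om x (z i) ↔ CP Om x' (z i))
    (hc : ∀ i j, i ≠ j → ¬ (CP Om x (z i) ∧ CP Om x (z j)))
    (hd : ∀ i j k, i ≠ j → i ≠ k → j ≠ k → CP Om x (z k) → z i * z j ∉ CX Om x ∧ z i * z j ∉ CX Om x')
    (he : ∃ i, Swp Om x (z i)) (hzD : ∀ i, InZ Om (z i)) :
    (∃ j, x' = x * z j ∧ TI Om x (z j)) ∨
    ∃ i m, InG e m ∧ m ∈ D ∧ (∀ j, j ≠ i → CP Om m (z j)) ∧ TI Om m (z i) ∧ Swp Om m x ∧ Swp Om m x' ∧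
      x * x' ∉ CX Om m := by
  obtain ⟨X, hX⟩ := exists_of_inG c nil h hx
  obtain ⟨X', hX'⟩ := exists_of_inG c nil h hx'
  have hxD := hX.mem c
  have hx'D := hX'.mem c
  have hZ : ∀ i, ∃ Z : Finset I, Is e Z (z i) ∨
      (Z = ∅ ∧ ∀ Y v, Is e Y v → CP Om (z i) v) := by
    intro i
    rcases hin i with h1 | h1
    · obtain ⟨Z, hZ⟩ := exists_of_inG c nil h h1
      exact ⟨Z, Or.inl hZ⟩
    · refine ⟨∅, Or.inr ⟨rfl, fun Y v hY => ?_⟩⟩
      obtain ⟨i, hi, j, hj, k, hk, l, hl, hd⟩ := exists_dst hY.1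
      rw [hY.2 i j k l hd hi hj hk hl]
      exact h1 i j k l hd
  choose Z hZ using hZ
  have cpd : ∀ {Y v} (_ : Is e Y v) i, CP Om v (z i) ↔ Disjoint Y (Z i) := by
    intro Y v hY i
    rcases hZ i with h1 | ⟨h1, h2⟩
    · exact ⟨fun h3 => hY.disj h1 c nil h h3, fun h3 => hY.cp h1 c nil h h3⟩
    · rw [h1]
      exact ⟨fun _ => Finset.disjoint_empty_right _, fun _ => (h2 Y v hY).symm⟩
  have hdis : ∀ i j, i ≠ j → Disjoint (Z i) (Z j) := by
    intro i j hij
    rcases hZ i with h1 | ⟨h1, -⟩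
    · exact (cpd h1 j).1 (hcp i j hij)
    · rw [h1]; exact Finset.disjoint_empty_left _
  have hZ4 : ∀ i, (Z i).card = 4 ∨ Z i = ∅ := fun i => (hZ i).imp (fun h1 => h1.1) fun h1 => h1.1
  have hmul : ∀ {Y v} (_ : Is e Y v) i j, i ≠ j → Y ⊆ Z i ∪ Z j → z i * z j ∈ CX Om v := by
    intro Y v hY i j hij hs
    have self : ∀ {W w}, Is e W w → Y ⊆ W → w = v := by
      intro W w hW hYW
      have h1 : Y = W := Finset.eq_of_subset_of_card_le hYW (by rw [hW.1, hY.1])
      subst h1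
      obtain ⟨i, hi, j, hj, k, hk, l, hl, hd⟩ := exists_dst hY.1
      exact (hW.2 i j k l hd hi hj hk hl).trans (hY.2 i j k l hd hi hj hk hl).symm
    rcases hZ i with h1 | ⟨h1, h2⟩ <;> rcases hZ j with h3 | ⟨h3, h4⟩
    · exact hY.cx h1 h3 c nil h (hdis i j hij) hs
    · rw [h3, Finset.union_empty] at hs
      rw [self h1 hs]
      exact mul_mem (z_mem_CX h) (cp_cx h (hzD j) (h4 Y v hY).symm)
    · rw [h1, Finset.empty_union] at hs
      rw [self h3 hs]
      exact mul_mem (cp_cx h (hzD i) (h2 Y v hY).symm) (z_mem_CX h)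
    · rw [h1, h3, Finset.union_empty] at hs
      have h5 := Finset.card_le_card hs
      rw [hY.1] at h5
      simp at h5
  have main := comb (X := X) (X' := X') (Z := Z) hX.1 hX'.1 ?_ hZ4 hdis ?_ ?_ ?_ ?_ ?_
  · rcases main with ⟨j, hj4, hj2, hE⟩ | ⟨i, a, a', i₁, i₂, hi4, h1, h2, h3, h4, h5, h6, h7, h8, h9, h10, h11, h12, h13⟩
    · left
      rcases hZ j with hj | ⟨hj, -⟩
      · exact ⟨j, hX.mul_eq hj hX' c nil h hE, hX.ti hj c nil h hj2⟩
      · rw [hj] at hj4; simp at hj4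
    · right
      have hi : Is e (Z i) (z i) := by
        rcases hZ i with hi | ⟨hi, -⟩
        · exact hi
        · rw [hi] at hi4; simp at hi4
      have n1 : a ≠ a' := by rintro rfl; exact h2 h3
      have n2 : a ≠ i₁ := by rintro rfl; exact h10 h1
      have n3 : a ≠ i₂ := by rintro rfl; exact h11 h1
      have n4 : a' ≠ i₁ := by rintro rfl; exact h12 h3
      have n5 : a' ≠ i₂ := by rintro rfl; exact h13 h3
      have hdd : Dst a i₁ a' i₂ := ⟨n2, n1, n3, n4.symm, h7, n5⟩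
      have hM4 : ({a, i₁, a', i₂} : Finset I).card = 4 := by
        rw [Finset.card_insert_of_notMem, Finset.card_insert_of_notMem, Finset.card_insert_of_notMem,
          Finset.card_singleton]
        · simp only [Finset.mem_singleton]; exact hdd.kl
        · simp only [Finset.mem_insert, Finset.mem_singleton, not_or]; exact ⟨hdd.jk, hdd.jl⟩
        · simp only [Finset.mem_insert, Finset.mem_singleton, not_or]; exact ⟨hdd.ij, hdd.ik, hdd.il⟩
      obtain ⟨m, hM⟩ := exists_is c nil h hM4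
      have ma : a ∈ ({a, i₁, a', i₂} : Finset I) := by simp
      have ma' : a' ∈ ({a, i₁, a', i₂} : Finset I) := by simp
      have m1 : i₁ ∈ ({a, i₁, a', i₂} : Finset I) := by simp
      have m2 : i₂ ∈ ({a, i₁, a', i₂} : Finset I) := by simp
      refine ⟨i, m, hM.inG, hM.mem c, fun j hji => ?_, ?_, ?_, ?_, ?_⟩
      · rw [cpd hM j, Finset.disjoint_left]
        intro p hp hpj
        simp only [Finset.mem_insert, Finset.mem_singleton] at hp
        rcases hp with rfl | rfl | rfl | rfl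
        · exact h5 j hpj
        · exact Finset.disjoint_left.1 (hdis i j hji.symm) h8 hpj
        · exact h6 j hpj
        · exact Finset.disjoint_left.1 (hdis i j hji.symm) h9 hpj
      · refine hM.ti hi c nil h ?_
        have : ({a, i₁, a', i₂} : Finset I) ∩ Z i = {i₁, i₂} := by
          ext p
          simp only [Finset.mem_insert, Finset.mem_singleton, Finset.mem_inter]
          constructor
          · rintro ⟨rfl | rfl | rfl | rfl, hp⟩
            · exact absurd hp (h5 i)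
            · exact Or.inl rfl
            · exact absurd hp (h6 i)
            · exact Or.inr rfl
          · rintro (rfl | rfl)
            · exact ⟨Or.inr (Or.inl rfl), h8⟩
            · exact ⟨Or.inr (Or.inr (Or.inr rfl)), h9⟩
        rw [this, Finset.card_pair h7]
      · rw [hM.swp_iff hX c nil h]
        have : ({a, i₁, a', i₂} : Finset I) ∩ X = {a} := by
          ext p
          simp only [Finset.mem_insert, Finset.mem_singleton, Finset.mem_inter]
          constructor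
          · rintro ⟨rfl | rfl | rfl | rfl, hp⟩
            · rfl
            · exact absurd hp h10
            · exact absurd hp h4
            · exact absurd hp h11
          · rintro rfl
            exact ⟨Or.inl rfl, h1⟩
        rw [this, Finset.card_singleton]; decide
      · rw [hM.swp_iff hX' c nil h]
        have : ({a, i₁, a', i₂} : Finset I) ∩ X' = {a'} := by
          ext p
          simp only [Finset.mem_insert, Finset.mem_singleton, Finset.mem_inter]
          constructor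
          · rintro ⟨rfl | rfl | rfl | rfl, hp⟩
            · exact absurd hp h2
            · exact absurd hp h12
            · rfl
            · exact absurd hp h13
          · rintro rfl
            exact ⟨Or.inr (Or.inr (Or.inl rfl)), h3⟩
        rw [this, Finset.card_singleton]; decide
      · exact hX.not_cx hX' hM c nil h ma ma' m1 m2 hdd h1 h4 h2 h3 h10 h11 h12 h13
  · rintro rfl
    obtain ⟨i, hi, j, hj, k, hk, l, hl, hd⟩ := exists_dst hX.1
    exact hne ((hX.2 i j k l hd hi hj hk hl).trans (hX'.2 i j k l hd hi hj hk hl).symm)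
  · intro i p hp q hq
    have h1 : e p q ∈ RZ Om (z i) := by
      rcases hZ i with h1 | ⟨h1, -⟩
      · by_cases hpq : p = q
        · rw [hpq, cself c]; exact one_mem _
        · obtain ⟨r, hr, s, hs, hdd⟩ := exists_dst2 h1.1 hp hq hpq
          rw [h1.2 p q r s hdd hp hq hr hs]
          exact c.inB p q r s hdd
      · rw [h1] at hp; simp at hp
    have h2 := ha i p q h1
    rw [hX.swp c, hX'.swp c] at h2
    tauto
  · intro i
    rw [← cpd hX i, ← cpd hX' i]; exact hb i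
  · intro i j hij
    rw [← cpd hX i, ← cpd hX j]; exact hc i j hij
  · intro i j k hij hik hjk hk
    rw [← cpd hX k] at hk
    exact ⟨fun h1 => (hd i j k hij hik hjk hk).1 (hmul hX i j hij h1),
      fun h1 => (hd i j k hij hik hjk hk).2 (hmul hX' i j hij h1)⟩
  · obtain ⟨i, hi⟩ := he
    refine ⟨i, ?_⟩
    rcases hZ i with h1 | ⟨h1, h2⟩
    · exact (hX.swp_iff h1 c nil h).1 hi
    · exact absurd (h2 X x hX).symm (not_cp_of_swp hi h (nil.inZ _ hxD) (hzD i))

end Fin

end Cfsg.Agent.Cit.Nil.RTwoM.BE
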