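import Cfsg.Agent.Cit.Nil.RTwoM.BlkChart

/-!
# `r = 2`, any `m`: the block theorem (`χ = 1`)

* `Ex.ext` : extension of a chart by one point; `Ex.start` : the chart with five points;
* `exists_block` : every `u ∈ D` lies in a maximal chart on `Fin n`, `n ≥ 5`; every `v ∈ D` is in the chart or C to it;
* `Cht.inj` : different four-sets give different elements.
-/

set_option autoImplicit false
set_option linter.unusedSimpArgs false
set_option linter.unusedVariables false

namespace Cfsg.Agent.Cit.Nil.RTwoM.Blk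

variable {N : Type*} [AddCommGroup N] {D : Set N} {β : N → N → ZMod 2} {B : N → AddSubgroup N}
  {a a' b c d u v w x y z : N}

/-- symmetric predicates on triples which allow the exchange of one element -/
theorem triple_all {I : Type*} {P : I → I → I → Prop} (s₁ : ∀ a b c, P a b c → P b a c)
    (s₂ : ∀ a b c, P a b c → P a c b) (rep : ∀ a b c d, Dst a b c d → P a b c → P d b c) {p q r : I} (pq : p ≠ q)
    (pr : p ≠ r) (qr : q ≠ r) (h : P p q r) {a b c : I} (ab : a ≠ b) (ac : a ≠ c) (bc : b ≠ c) : P a b c := by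
  -- first element
  obtain ⟨q, r, aq, ar, qr, h⟩ : ∃ q r, a ≠ q ∧ a ≠ r ∧ q ≠ r ∧ P a q r := by
    by_cases e1 : a = p
    · subst e1; exact ⟨q, r, pq, pr, qr, h⟩
    by_cases e2 : a = q
    · subst e2; exact ⟨p, r, e1, qr, pr, s₁ _ _ _ h⟩
    by_cases e3 : a = r
    · subst e3; exact ⟨p, q, e1, e2, pq, s₁ _ _ _ (s₂ _ _ _ h)⟩
    exact ⟨q, r, e2, e3, qr, rep p q r a ⟨pq, pr, Ne.symm e1, qr, Ne.symm e2, Ne.symm e3⟩ h⟩
  -- second element
  obtain ⟨r, ar, br, h⟩ : ∃ r, a ≠ r ∧ b ≠ r ∧ P a b r := by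
    by_cases e2 : b = q
    · subst e2; exact ⟨r, ar, qr, h⟩
    by_cases e3 : b = r
    · subst e3; exact ⟨q, aq, e2, s₂ _ _ _ h⟩
    exact ⟨r, ar, e3, s₁ _ _ _ (rep q a r b ⟨aq.symm, qr, Ne.symm e2, ar, ab, Ne.symm e3⟩ (s₁ _ _ _ h))⟩
  -- third element
  by_cases e3 : c = r
  · rw [e3]; exact h
  · have h1 := rep r a b c ⟨ar.symm, br.symm, Ne.symm e3, ab, ac, bc⟩ (s₁ _ _ _ (s₂ _ _ _ h))
    exact s₂ _ _ _ (s₁ _ _ _ h1)

section Ext

variable {I : Type*} [DecidableEq I] {e : I → I → N} {i j k l p q r : I}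

/-- the pairs `{∞, j}` -/
def fInf (e : I → I → N) (v : N) (p q r : I) (j : I) : N := v + e q r + e p j

/-- the extended chart -/
def eInf (e : I → I → N) (v : N) (p q r : I) : Option I → Option I → N
  | none, none => 0
  | none, some j => fInf e v p q r j
  | some i, none => fInf e v p q r i
  | some i, some j => e i j

theorem Ex.f_add (X : Ex D β B e v p q r) (c : Cht D β B e) (h : One D β B) (i j : I) :
    fInf e v p q r i + fInf e v p q r j = e i j := by
  unfold fInf
  calc v + e q r + e p i + (v + e q r + e p j) = (v + v) + (e q r + e q r) + (e p i + e p j) := by abel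
    _ = _ := by rw [h.two, h.two, c.add' h, zero_add, zero_add]

theorem Ex.f_add' (X : Ex D β B e v p q r) (c : Cht D β B e) (h : One D β B) (i j : I) :
    fInf e v p q r i + e i j = fInf e v p q r j := by
  rw [← X.f_add c h i j, h.addc]

theorem Ex.f_form (X : Ex D β B e v p q r) (c : Cht D β B e) (h : One D β B) (j k l : I) :
    β (fInf e v p q r j) (e k l) = dl j k + dl j l := by
  unfold fInf
  rw [h.addl, h.addl, X.form, c.form, c.form, dl_comm q k, dl_comm q l, dl_comm r k, dl_comm r l, dl_comm p k,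
    dl_comm p l]
  generalize dl k p = t1, dl l p = t2, dl k q = t3, dl l q = t4, dl k r = t5, dl l r = t6, dl j k = t7, dl j l = t8
  have key : ∀ t : ZMod 2, t + t = 0 := by decide
  calc t1 + t3 + t5 + (t2 + t4 + t6) + (t3 + t4 + t5 + t6) + (t1 + t2 + t7 + t8)
      = (t1 + t1) + (t2 + t2) + (t3 + t3) + (t4 + t4) + (t5 + t5) + (t6 + t6) + (t7 + t8) := by ring
    _ = _ := by simp only [key, zero_add]

theorem Ex.f_form' (X : Ex D β B e v p q r) (c : Cht D β B e) (h : One D β B) (j k : I) :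
    β (fInf e v p q r j) (fInf e v p q r k) = 1 + dl j k := by
  have h1 : fInf e v p q r k = fInf e v p q r j + e j k := (X.f_add' c h j k).symm
  conv_lhs => rw [h1]
  rw [h.addr, h.alt, X.f_form c h, dl_self, zero_add]

/-- the four-set `{∞, j, k, l}` -/
def Gd (D : Set N) (B : N → AddSubgroup N) (e : I → I → N) (f : I → N) (j k l : I) : Prop :=
  f j + e k l ∈ D ∧ e k l ∈ B (f j + e k l) ∧ e j k ∈ B (f j + e k l)

theorem Ex.gd_s₁ (X : Ex D β B e v p q r) (c : Cht D β B e) (h : One D β B) (j k l : I)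
    (hg : Gd D B e (fInf e v p q r) j k l) : Gd D B e (fInf e v p q r) k j l := by
  have h1 : fInf e v p q r k + e j l = fInf e v p q r j + e k l := by
    rw [← X.f_add' c h j k, add_assoc, ← c.add' h k j l, c.sy h k j, h.addc]
  unfold Gd
  rw [h1]
  refine ⟨hg.1, ?_, ?_⟩
  · rw [← c.add j k l]; exact add_mem hg.2.2 hg.2.1
  · rw [c.sy h k j]; exact hg.2.2

theorem Ex.gd_s₂ (X : Ex D β B e v p q r) (c : Cht D β B e) (h : One D β B) (j k l : I)
    (hg : Gd D B e (fInf e v p q r) j k l) : Gd D B e (fInf e v p q r) j l k := by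
  unfold Gd
  rw [c.sy h l k]
  refine ⟨hg.1, hg.2.1, ?_⟩
  rw [← c.add j k l]; exact add_mem hg.2.2 hg.2.1

theorem Ex.gd_base (X : Ex D β B e v p q r) (c : Cht D β B e) (h : One D β B) :
    Gd D B e (fInf e v p q r) p q r := by
  have h1 : fInf e v p q r p + e q r = v := by
    unfold fInf
    rw [c.self, add_zero, add_assoc, h.two, add_zero]
  unfold Gd
  rw [h1]
  refine ⟨X.mem, ?_, X.inq⟩
  rw [← c.add' h p q r]; exact add_mem X.inq X.inr

theorem Ex.gd_rep (X : Ex D β B e v p q r) (c : Cht D β B e) (h : One D β B) (i j k l : I) (hd : Dst i j k l)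
    (hg : Gd D B e (fInf e v p q r) i j k) : Gd D B e (fInf e v p q r) l j k := by
  set f := fInf e v p q r with hf
  have hd' : Dst i l j k := ⟨hd.il, hd.ij, hd.ik, hd.jl.symm, hd.kl.symm, hd.jk⟩
  have hu := c.mem i l j k hd'
  have hx := c.inB i l j k hd'
  have x0 : e i l ≠ 0 := by
    intro h0
    have h1 := c.form i l i j
    rw [h0, h.zl, dl_self, dl_ne hd.ij, dl_ne hd.il.symm, dl_ne hd.jl.symm] at h1
    exact absurd h1 (by decide)
  have xu : e i l ≠ e i l + e j k := by
    intro h0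
    have h2 : e j k = 0 := left_eq_add.1 h0
    have h1 := c.form j k i j
    rw [h2, h.zl, dl_ne hd.ij.symm, dl_self, dl_ne hd.ik.symm, dl_ne hd.jk.symm] at h1
    exact absurd h1 (by decide)
  have g1 : β (f i + e j k) (e i l) = 1 := by
    rw [h.addl, X.f_form c h, c.form, dl_self, dl_ne hd.il, dl_ne hd.ij.symm, dl_ne hd.jl, dl_ne hd.ik.symm,
      dl_ne hd.kl]
    decide
  have g2 : β (f i + e j k) (e i l + e j k) = 1 := by
    rw [h.addr, g1, h.addl, X.f_form c h, h.alt, dl_ne hd.ij, dl_ne hd.ik]; decide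
  have h1 : sg β 1 (e i l + e j k) (e i l) (f i + e j k) = f l + e j k := by
    rw [sg, g1, g2]
    simp only [sm_one]
    have hfl : f i + e i l = f l := X.f_add' c h i l
    rw [← hfl]
    calc f i + e j k + (e i l + (e i l + e j k)) + (e i l + e j k)
        = f i + e i l + e j k + ((e i l + e i l) + (e j k + e j k)) := by abel
      _ = _ := by rw [h.two, h.two, add_zero, add_zero]
  have hact := h.actB _ hu _ hx x0 xu _ hg.1
  rw [h1] at hact
  have b1 : e j k ∈ B (f l + e j k) := by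
    have h2 := hact _ hg.2.1
    have g3 : β (e j k) (e i l) = 0 := by
      rw [c.form, dl_ne hd.ij.symm, dl_ne hd.jl, dl_ne hd.ik.symm, dl_ne hd.kl]; decide
    rw [sg, h.addr, g3, h.alt] at h2
    simpa using h2
  have b2 : e k l ∈ B (f l + e j k) := by
    have h2 := hact _ hg.2.2
    have g3 : β (e i j) (e i l) = 1 := by
      rw [c.form, dl_self, dl_ne hd.il, dl_ne hd.ij.symm, dl_ne hd.jl]; decide
    have g4 : β (e i j) (e i l + e j k) = 0 := by
      rw [h.addr, g3, c.form, dl_ne hd.ij, dl_ne hd.ik, dl_self, dl_ne hd.jk]; decide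
    rw [sg, g3, g4] at h2
    simp only [sm_one, sm_zero, add_zero] at h2
    have h3 : e i j + (e i l + e j k) = e k l := by
      rw [add_comm (e i l), ← add_assoc, c.add, c.add' h]
    rwa [h3] at h2
  refine ⟨?_, b1, ?_⟩
  · rw [← h1]; exact h.act _ hu _ hx x0 xu _ hg.1
  · rw [← c.add l k j, c.sy h l k, c.sy h k j]; exact add_mem b2 b1

/-- the chart on `Option I` -/
theorem Ex.ext (X : Ex D β B e v p q r) (c : Cht D β B e) (h : One D β B) : Cht D β B (eInf e v p q r) := by
  set f := fInf e v p q r with hf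
  have good : ∀ {j k l : I}, j ≠ k → j ≠ l → k ≠ l → Gd D B e f j k l := fun jk jl kl =>
    triple_all (X.gd_s₁ c h) (X.gd_s₂ c h) (fun i j k l => X.gd_rep c h i j k l) X.pq X.pr X.qr (X.gd_base c h) jk jl kl
  have s1 : ∀ i : I, dl (some i) (none : Option I) = 0 := fun i => dl_ne (by simp)
  have s2 : ∀ i : I, dl (none : Option I) (some i) = 0 := fun i => dl_ne (by simp)
  have s3 : ∀ i j : I, dl (some i) (some j) = dl i j := by
    intro i j
    by_cases hij : i = j
    · rw [hij, dl_self, dl_self]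
    · rw [dl_ne hij, dl_ne fun h' => hij (Option.some_injective _ h')]
  have ne : ∀ {i j : I}, some i ≠ some j → i ≠ j := fun h1 h2 => h1 (by rw [h2])
  have g0 : ∀ {j k l : I}, j ≠ k → j ≠ l → k ≠ l → f j ∈ B (f j + e k l) := by
    intro j k l jk jl kl
    have h1 := good jk jl kl
    have h2 := add_mem (h.mem _ h1.1) h1.2.1
    rwa [add_assoc, h.two, add_zero] at h2
  refine ⟨?_, ?_, ?_, ?_⟩
  · rintro (_ | i) (_ | j) (_ | k) <;> simp only [eInf]
    · exact zero_add _
    · exact zero_add _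
    · exact h.two _
    · exact X.f_add' c h j k
    · exact add_zero _
    · exact X.f_add c h i k
    · rw [add_comm, c.sy h]; exact X.f_add' c h j i
    · exact c.add i j k
  · have t1 : ∀ x y : ZMod 2, 0 = x + y + x + y := by decide
    have t2 : ∀ x y : ZMod 2, 0 = x + x + y + y := by decide
    have fs : ∀ j k l, β (e k l) (f j) = dl j k + dl j l := fun j k l => by
      rw [h.symm]; exact X.f_form c h j k l
    rintro (_ | i) (_ | j) (_ | k) (_ | l) <;> simp only [eInf, s1, s2, s3, dl_self]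
    · rw [h.zl]; decide
    · rw [h.zl]; decide
    · rw [h.zl]; decide
    · rw [h.zl]; decide
    · rw [h.zr]; decide
    · rw [X.f_form' c h]; ring
    · rw [X.f_form' c h]; ring
    · rw [X.f_form c h]; ring
    · rw [h.zr]; decide
    · rw [X.f_form' c h]; ring
    · rw [X.f_form' c h]; ring
    · rw [X.f_form c h]; ring
    · rw [h.zr]; decide
    · rw [← hf, fs, dl_comm l i, dl_comm l j]; ring
    · rw [← hf, fs, dl_comm k i, dl_comm k j]; ring
    · exact c.form i j k l
  · rintro (_ | i) (_ | j) (_ | k) (_ | l) hd <;> simp only [eInf]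
    · exact absurd rfl hd.ij
    · exact absurd rfl hd.ij
    · exact absurd rfl hd.ij
    · exact absurd rfl hd.ij
    · exact absurd rfl hd.ik
    · exact absurd rfl hd.ik
    · exact absurd rfl hd.il
    · exact (good (ne hd.jk) (ne hd.jl) (ne hd.kl)).1
    · exact absurd rfl hd.jk
    · exact absurd rfl hd.jk
    · exact absurd rfl hd.jl
    · exact (good (ne hd.ik) (ne hd.il) (ne hd.kl)).1
    · exact absurd rfl hd.kl
    · rw [add_comm]; exact (good (ne hd.il.symm) (ne hd.jl.symm) (ne hd.ij)).1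
    · rw [add_comm]; exact (good (ne hd.ik.symm) (ne hd.jk.symm) (ne hd.ij)).1
    · exact c.mem i j k l ⟨ne hd.ij, ne hd.ik, ne hd.il, ne hd.jk, ne hd.jl, ne hd.kl⟩
  · rintro (_ | i) (_ | j) (_ | k) (_ | l) hd <;> simp only [eInf]
    · exact absurd rfl hd.ij
    · exact absurd rfl hd.ij
    · exact absurd rfl hd.ij
    · exact absurd rfl hd.ij
    · exact absurd rfl hd.ik
    · exact absurd rfl hd.ik
    · exact absurd rfl hd.il
    · exact g0 (ne hd.jk) (ne hd.jl) (ne hd.kl)
    · exact absurd rfl hd.jk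
    · exact absurd rfl hd.jk
    · exact absurd rfl hd.jl
    · exact g0 (ne hd.ik) (ne hd.il) (ne hd.kl)
    · exact absurd rfl hd.kl
    · rw [add_comm]; exact (good (ne hd.il.symm) (ne hd.jl.symm) (ne hd.ij)).2.1
    · rw [add_comm]; exact (good (ne hd.ik.symm) (ne hd.jk.symm) (ne hd.ij)).2.1
    · exact c.inB i j k l ⟨ne hd.ij, ne hd.ik, ne hd.il, ne hd.jk, ne hd.jl, ne hd.kl⟩

end Ext

/-! ### The first chart -/

/-- the chart of one element -/
theorem start₄ {a₁ a₂ a₃ : N} (h : One D β B) (hu : u ∈ D) (t : Tri β (B u) u w a₁ a₂ a₃) :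
    Cht D β B (fun i j : Fin 4 => (![0, a₁, a₂, a₃] : Fin 4 → N) i + (![0, a₁, a₂, a₃] : Fin 4 → N) j) := by
  set f : Fin 4 → N := ![0, a₁, a₂, a₃] with hf
  have hm : ∀ i, f i ∈ B u := by
    intro i
    fin_cases i
    · exact zero_mem _
    · exact t.m₁
    · exact t.m₂
    · exact t.m₃
  have hs : ∀ i j k l : Fin 4, Dst i j k l → f i + f j + (f k + f l) = u := by
    intro i j k l hd
    have h1 : ∀ i j k l : Fin 4, i ≠ j → i ≠ k → i ≠ l → j ≠ k → j ≠ l → k ≠ l →
        ({i, j, k, l} : Finset (Fin 4)) = Finset.univ := by decide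
    have h2 : ∑ x ∈ ({i, j, k, l} : Finset (Fin 4)), f x = f i + f j + (f k + f l) := by
      rw [Finset.sum_insert, Finset.sum_insert, Finset.sum_insert, Finset.sum_singleton]
      · abel
      · simp [hd.kl]
      · simp [hd.jk, hd.jl]
      · simp [hd.ij, hd.ik, hd.il]
    rw [← h2, h1 i j k l hd.ij hd.ik hd.il hd.jk hd.jl hd.kl, ← t.sum, Fin.sum_univ_four]
    simp [hf]
  let g : Fin 4 → Fin 4 → ZMod 2 := fun i j => if i = 0 ∨ j = 0 ∨ i = j then 0 else 1
  have hg : ∀ i j, β (f i) (f j) = g i j := by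
    have c21 : β a₂ a₁ = 1 := by rw [h.symm]; exact t.c₁₂
    have c31 : β a₃ a₁ = 1 := by rw [h.symm]; exact t.c₁₃
    have c32 : β a₃ a₂ = 1 := by rw [h.symm]; exact t.c₂₃
    intro i j
    fin_cases i <;> fin_cases j <;> simp [hf, g, h.zl, h.zr, h.alt, t.c₁₂, t.c₁₃, t.c₂₃, c21, c31, c32]
  refine ⟨fun i j k => ?_, fun i j k l => ?_, fun i j k l hd => ?_, fun i j k l hd => ?_⟩
  · calc f i + f j + (f j + f k) = f i + f k + (f j + f j) := by abel
      _ = _ := by rw [h.two, add_zero]
  · rw [h.addl, h.addr, h.addr, hg, hg, hg, hg]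
    revert i j k l
    decide
  · rw [hs i j k l hd]; exact hu
  · rw [hs i j k l hd]; exact add_mem (hm i) (hm j)

/-- **a chart with five points** containing `u` -/
theorem start₅ (h : One D β B) (hu : u ∈ D) : ∃ e : Fin 5 → Fin 5 → N, Cht D β B e ∧ InC e u := by
  obtain ⟨w, hw, huw⟩ := h.sw u hu
  obtain ⟨a₁, a₂, a₃, t⟩ := h.exists_tri hu huw
  have c := start₄ h hu t
  set f : Fin 4 → N := ![0, a₁, a₂, a₃] with hf
  have hwu : β w u = 1 := t.uw h
  have f0 : f 0 = 0 := rfl
  have f1 : f 1 = a₁ := rfl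
  have f2 : f 2 = a₂ := rfl
  have f3 : f 3 = a₃ := rfl
  have m12 : a₁ + a₂ ∈ B u := add_mem t.m₁ t.m₂
  have m13 : a₁ + a₃ ∈ B u := add_mem t.m₁ t.m₃
  have p12 : β w (a₁ + a₂) = 0 := by rw [h.addr, t.w₁, t.w₂]; decide
  have p13 : β w (a₁ + a₃) = 0 := by rw [h.addr, t.w₁, t.w₃]; decide
  -- the form of an element `v` with `β v a_i = 1`
  have form : ∀ v : N, β v a₁ = 1 → β v a₂ = 1 → β v a₃ = 1 →
      ∀ i j : Fin 4, β v (f i + f j) = (dl i 1 + dl i 2 + dl i 3) + (dl j 1 + dl j 2 + dl j 3) := by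
    intro v v1 v2 v3 i j
    have h1 : ∀ i, β v (f i) = dl i 1 + dl i 2 + dl i 3 := by
      intro i
      fin_cases i
      · show β v (f 0) = _
        rw [f0, h.zr]; decide
      · show β v (f 1) = _
        rw [f1, v1]; decide
      · show β v (f 2) = _
        rw [f2, v2]; decide
      · show β v (f 3) = _
        rw [f3, v3]; decide
    rw [h.addr, h1, h1]
  have hX : ∃ v, Ex D β B (fun i j : Fin 4 => f i + f j) v 1 2 3 := by
    rcases h.pat hu hw huw with hP | hJ
    · exact ⟨w, hw, by decide, by decide, by decide, form w t.w₁ t.w₂ t.w₃, hP _ m12 p12, hP _ m13 p13⟩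
    · obtain ⟨b₁, b₂, b₃, t'⟩ := h.exists_tri (w := u) hw hwu
      obtain ⟨n0, n1⟩ := t'.ne₁ h hw
      have h1 : u + b₁ ∈ D := by
        rw [← t'.s₁ h hw]; exact h.act w hw b₁ t'.m₁ n0 n1 u hu
      have j12 := hJ _ m12 p12
      have j13 := hJ _ m13 p13
      -- `β b₁ a_i = 1`
      have k12 : β a₁ b₁ = β a₂ b₁ := by
        have h2 := j12 _ t'.m₁
        rw [h.addl] at h2
        have key : ∀ s t : ZMod 2, s + t = 0 → s = t := by decide
        exact key _ _ h2
      have k13 : β a₁ b₁ = β a₃ b₁ := by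
        have h2 := j13 _ t'.m₁
        rw [h.addl] at h2
        have key : ∀ s t : ZMod 2, s + t = 0 → s = t := by decide
        exact key _ _ h2
      have k1 : β a₁ b₁ = 1 := by
        have h2 := t'.w₁
        rw [← t.sum, h.addl, h.addl, ← k12, ← k13] at h2
        revert h2
        generalize β a₁ b₁ = s
        revert s; decide
      have v1 : β (u + b₁) a₁ = 1 := by rw [h.addl, h.perp u hu a₁ t.m₁, h.symm, k1, zero_add]
      have v2 : β (u + b₁) a₂ = 1 := by rw [h.addl, h.perp u hu a₂ t.m₂, h.symm, ← k12, k1, zero_add]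
      have v3 : β (u + b₁) a₃ = 1 := by rw [h.addl, h.perp u hu a₃ t.m₃, h.symm, ← k13, k1, zero_add]
      have mm : ∀ x ∈ B u, β w x = 0 → β x b₁ = 0 → x ∈ B (u + b₁) := by
        intro x hx e1 e2
        have h2 := h.actB w hw b₁ t'.m₁ n0 n1 u hu x hx
        rw [t'.s₁ h hw, sg, h.symm x w, e1, e2] at h2
        simpa using h2
      exact ⟨u + b₁, h1, by decide, by decide, by decide, form _ v1 v2 v3, mm _ m12 p12 (j12 _ t'.m₁),
        mm _ m13 p13 (j13 _ t'.m₁)⟩
  obtain ⟨v, X⟩ := hX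
  have c' := X.ext c h
  refine ⟨_, c'.comp (finSuccEquiv 4) (finSuccEquiv 4).injective, ?_⟩
  refine ⟨(finSuccEquiv 4).symm (some 0), (finSuccEquiv 4).symm (some 1), (finSuccEquiv 4).symm (some 2),
    (finSuccEquiv 4).symm (some 3), ?_, ?_⟩
  · have h1 : ∀ {i j : Fin 4}, i ≠ j → (finSuccEquiv 4).symm (some i) ≠ (finSuccEquiv 4).symm (some j) :=
      fun h1 h2 => h1 (Option.some_injective _ ((finSuccEquiv 4).symm.injective h2))
    exact ⟨h1 (by decide), h1 (by decide), h1 (by decide), h1 (by decide), h1 (by decide), h1 (by decide)⟩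
  · simp only [Equiv.apply_symm_apply, eInf]
    rw [f0, f1, f2, f3, zero_add, ← add_assoc, t.sum]

/-- charts are bounded -/
theorem Cht.card_le [Finite N] {n : ℕ} {e : Fin n → Fin n → N} (c : Cht D β B e) (h : One D β B) (hn : 5 ≤ n) :
    n ≤ Nat.card N := by
  have hinj : Function.Injective (e ⟨0, by omega⟩) := by
    intro i j hij
    by_contra hne
    have h1 : e i j = 0 := by
      rw [← c.add' h ⟨0, by omega⟩ i j, hij, h.two]
    obtain ⟨k, ki, kj⟩ : ∃ k : Fin n, i ≠ k ∧ j ≠ k := by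
      by_contra hno
      push Not at hno
      have h2 : (Finset.univ : Finset (Fin n)) ⊆ {i, j} := by
        intro k _
        by_cases hk : i = k
        · rw [← hk]; exact Finset.mem_insert_self _ _
        · rw [← hno k hk]; simp
      have h3 := Finset.card_le_card h2
      rw [Finset.card_univ, Fintype.card_fin] at h3
      have h4 : ({i, j} : Finset (Fin n)).card ≤ 2 := Finset.card_le_two
      omega
    have h2 := c.form i j i k
    rw [h1, h.zl, dl_self, dl_ne ki, dl_ne (Ne.symm hne), dl_ne kj] at h2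
    exact absurd h2 (by decide)
  have h1 := Nat.card_le_card_of_injective _ hinj
  rwa [Nat.card_fin] at h1

/-- an element of `B` of a four-set is a sum of two pairs -/
theorem Cht.mem_B {I : Type*} [DecidableEq I] {e : I → I → N} {i j k l : I} (c : Cht D β B e) (h : One D β B)
    (hd : Dst i j k l) (hx : x ∈ B (e i j + e k l)) : ∃ p q r s : I, x = e p q + e r s := by
  have f1 : β (e i j) (e i k) = 1 := by
    rw [c.form, dl_self, dl_ne hd.ik, dl_ne hd.ij.symm, dl_ne hd.jk]; decide
  have h1 := h.cov (c.mem i j k l hd) (c.inB i j k l hd) (c.inB₂ h hd) f1 hx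
  rcases z2 (β x (e i k)) with p | p <;> rcases z2 (β x (e i j)) with q | q <;> rw [p, q] at h1 <;>
    simp only [sm_zero, sm_one, zero_add, add_zero] at h1 <;> rcases h1 with h1 | h1
  · exact ⟨i, i, i, i, by rw [h1, c.self, zero_add]⟩
  · exact ⟨i, j, k, l, h1⟩
  · exact ⟨i, k, i, i, by rw [h1, c.self, add_zero]⟩
  · refine ⟨j, l, i, i, ?_⟩
    rw [h1, c.self, add_zero, c.q₁ h, ← add_assoc, h.two, zero_add]
  · exact ⟨i, j, i, i, by rw [h1, c.self, add_zero]⟩
  · refine ⟨k, l, i, i, ?_⟩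
    rw [h1, c.self, add_zero, ← add_assoc, h.two, zero_add]
  · refine ⟨j, k, i, i, ?_⟩
    rw [h1, c.self, add_zero, c.add' h]
  · refine ⟨i, l, i, i, ?_⟩
    rw [h1, c.self, add_zero, c.add' h, c.q₂ h, show e j k + (e i l + e j k) = e i l + (e j k + e j k) by abel, h.two,
      add_zero]

/-- `v ∈ D` not in the chart and not linked to it: C-pairs -/
theorem Cht.cpair {I : Type*} [DecidableEq I] {e : I → I → N} (c : Cht D β B e) (h : One D β B) (hv : v ∈ D)
    (hin : ¬ InC e v) (h0 : ∀ i j, β v (e i j) = 0) {i j k l : I} (hd : Dst i j k l) :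
    ∀ x ∈ B (e i j + e k l), ∀ y ∈ B v, β x y = 0 := by
  intro x hx y hy
  rw [h.symm]
  refine h.sym v hv _ (c.mem i j k l hd) (fun h1 => hin ⟨i, j, k, l, hd, h1⟩) (fun z hz => ?_) y hy x hx
  obtain ⟨p, q, r, s, rfl⟩ := c.mem_B h hd hz
  rw [h.addr, h0, h0, zero_add]

/-- **BLOCK THEOREM** (`χ = 1`): every `u ∈ D` lies in a chart on `n ≥ 5` points such that every `v ∈ D` is in the chart
or is not linked to it -/
theorem exists_block [Finite N] (h : One D β B) (hu : u ∈ D) :
    ∃ n, 5 ≤ n ∧ ∃ e : Fin n → Fin n → N, Cht D β B e ∧ InC e u ∧ ∀ v ∈ D, InC e v ∨ ∀ i j, β v (e i j) = 0 := by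
  by_contra hno
  have key : ∀ n, 5 ≤ n → ∃ e : Fin n → Fin n → N, Cht D β B e ∧ InC e u := by
    intro n hn
    induction n, hn using Nat.le_induction with
    | base => exact start₅ h hu
    | succ n hn ih =>
      obtain ⟨e, c, hin⟩ := ih
      have h1 : ∃ v ∈ D, ¬ InC e v ∧ ∃ i j, β v (e i j) ≠ 0 := by
        by_contra h1
        apply hno
        refine ⟨n, hn, e, c, hin, fun v hv => ?_⟩
        by_contra h2
        rw [not_or] at h2
        apply h1
        refine ⟨v, hv, h2.1, ?_⟩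
        by_contra h3
        push Not at h3
        exact h2.2 h3
      obtain ⟨v, hv, hnin, hl⟩ := h1
      rcases c.step h (by rw [Fintype.card_fin]; exact hn) hv hl with h2 | ⟨v₁, p, q, r, X⟩
      · exact absurd h2 hnin
      refine ⟨_, (X.ext c h).comp (finSuccEquiv n) (finSuccEquiv n).injective, ?_⟩
      obtain ⟨i, j, k, l, hd, hi⟩ := hin
      refine ⟨(finSuccEquiv n).symm (some i), (finSuccEquiv n).symm (some j), (finSuccEquiv n).symm (some k),
        (finSuccEquiv n).symm (some l), ?_, ?_⟩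
      · have h1 : ∀ {i j : Fin n}, i ≠ j → (finSuccEquiv n).symm (some i) ≠ (finSuccEquiv n).symm (some j) :=
          fun h1 h2 => h1 (Option.some_injective _ ((finSuccEquiv n).symm.injective h2))
        exact ⟨h1 hd.ij, h1 hd.ik, h1 hd.il, h1 hd.jk, h1 hd.jl, h1 hd.kl⟩
      · simp only [Equiv.apply_symm_apply, eInf]
        exact hi
  obtain ⟨e, c, -⟩ := key (Nat.card N + 5) (by omega)
  have := c.card_le h (by omega)
  omega

/-- different four-sets give different elements -/
theorem Cht.inj {I : Type*} [DecidableEq I] {e : I → I → N} {i j k l i' j' k' l' : I} (c : Cht D β B e)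
    (h : One D β B) (hd : Dst i j k l) (hd' : Dst i' j' k' l') (he : e i j + e k l = e i' j' + e k' l') :
    i' = i ∨ i' = j ∨ i' = k ∨ i' = l := by
  by_contra hno
  push Not at hno
  obtain ⟨n1, n2, n3, n4⟩ := hno
  have form : ∀ {i j k l p q : I}, β (e i j + e k l) (e p q) = (dl i p + dl j p + dl k p + dl l p) +
      (dl i q + dl j q + dl k q + dl l q) := by
    intro i j k l p q
    rw [h.addl, c.form, c.form]; ring
  -- `i` is not in the other set
  have hcase : ∀ {i' j' k' l' : I}, Dst i' j' k' l' → ∀ p, dl i' p + dl j' p + dl k' p + dl l' p = 1 ↔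
      (p = i' ∨ p = j' ∨ p = k' ∨ p = l') := by
    intro i' j' k' l' hd' p
    constructor
    · intro h1
      by_contra h2
      push Not at h2
      rw [dl_ne (Ne.symm h2.1), dl_ne (Ne.symm h2.2.1), dl_ne (Ne.symm h2.2.2.1), dl_ne (Ne.symm h2.2.2.2)] at h1
      exact absurd h1 (by decide)
    · rintro (h1 | h1 | h1 | h1) <;> subst h1
      · rw [dl_self, dl_ne hd'.ij.symm, dl_ne hd'.ik.symm, dl_ne hd'.il.symm]; decide
      · rw [dl_self, dl_ne hd'.ij, dl_ne hd'.jk.symm, dl_ne hd'.jl.symm]; decide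
      · rw [dl_self, dl_ne hd'.ik, dl_ne hd'.jk, dl_ne hd'.kl.symm]; decide
      · rw [dl_self, dl_ne hd'.il, dl_ne hd'.jl, dl_ne hd'.kl]; decide
  have hi' : dl i i' + dl j i' + dl k i' + dl l i' = 0 := by
    rcases z2 (dl i i' + dl j i' + dl k i' + dl l i') with h1 | h1
    · exact h1
    · rw [hcase hd] at h1
      rcases h1 with h1 | h1 | h1 | h1
      · exact absurd h1 n1
      · exact absurd h1 n2
      · exact absurd h1 n3
      · exact absurd h1 n4
  have hp : ∀ p, dl i p + dl j p + dl k p + dl l p + (dl i' p + dl j' p + dl k' p + dl l' p) = 1 := by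
    intro p
    have h1 : β (e i j + e k l) (e i' p) = β (e i' j' + e k' l') (e i' p) := by rw [he]
    rw [form, form, hi', (hcase hd' i').2 (Or.inl rfl)] at h1
    revert h1
    generalize dl i p + dl j p + dl k p + dl l p = s, dl i' p + dl j' p + dl k' p + dl l' p = t
    revert s t; decide
  -- the four-sets are disjoint
  have disj : ∀ p, (p = i ∨ p = j ∨ p = k ∨ p = l) → ¬ (p = i' ∨ p = j' ∨ p = k' ∨ p = l') := by
    intro p h1 h2
    have h3 := hp p
    rw [(hcase hd p).2 h1, (hcase hd' p).2 h2] at h3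
    exact absurd h3 (by decide)
  have hc := c.mem i j k l hd
  have m1 := c.inB i j k l hd
  have m2 := c.inB₂ h hd
  have m3 : e i' j' ∈ B (e i j + e k l) := by rw [he]; exact c.inB i' j' k' l' hd'
  have m4 : e i' k' ∈ B (e i j + e k l) := by rw [he]; exact c.inB₂ h hd'
  have di := disj i (Or.inl rfl)
  have dj := disj j (Or.inr (Or.inl rfl))
  have dk := disj k (Or.inr (Or.inr (Or.inl rfl)))
  rw [not_or, not_or, not_or] at di dj dk
  have f1 : β (e i j) (e i k) = 1 := by
    rw [c.form, dl_self, dl_ne hd.ik, dl_ne hd.ij.symm, dl_ne hd.jk]; decide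
  have g1 : β (e i' j') (e i j) = 0 := by
    rw [h.symm, c.form, dl_ne di.1, dl_ne di.2.1, dl_ne dj.1, dl_ne dj.2.1]; decide
  have g2 : β (e i' j') (e i k) = 0 := by
    rw [h.symm, c.form, dl_ne di.1, dl_ne di.2.1, dl_ne dk.1, dl_ne dk.2.1]; decide
  have h5 := h.cov hc m1 m2 f1 m3
  rw [g1, g2] at h5
  simp only [sm_zero, zero_add] at h5
  have f2 : β (e i' j') (e i' k') = 1 := by
    rw [c.form, dl_self, dl_ne hd'.ik, dl_ne hd'.ij.symm, dl_ne hd'.jk]; decide
  rcases h5 with h5 | h5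
  · rw [h5, h.zl] at f2; exact absurd f2 (by decide)
  · rw [h5, h.perp _ hc _ m4] at f2; exact absurd f2 (by decide)

end Cfsg.Agent.Cit.Nil.RTwoM.Blk
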