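import Cfsg.Agent.Cit.Nil.RTwoM.Act
import Cfsg.Agent.Cit.Nil.RTwoM.BlkMain

/-!
# S1309, (6b), (C3), `r = 2`, any `m`: block data from the group (helper599, CIT-6b-r2-blocks, section 0)

* `NilS Om D` : `D ⊆ Z` is a commuting set normalised by the `R_b`, `b ∈ D`; `cl_comm`, `cl_sq`, `cl_conj`,
  `exists_as` (no type `f`), `sI_symm`;
* `sI Om b n ∈ F₂` : `1` iff `n` interchanges the members over `b`; `sI_mul`, `sI_conj`;
* `Emb D ι` : `ι : N → G`, `N` additive, `ι` injective onto `⟨D⟩`; `NilS.exists_emb`;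
* `Form Om D ι β`, `NilS.exists_form` (0.2), `Form.conj` (invariance);
* **`Form.act`** (0.4) : the action of `k ∈ K_b` on `N` is `sg β (β w a) b a`;
* **`NilS.exists_data`** : `Data` on the elements of `D` of type A.
-/

set_option autoImplicit false
set_option linter.style.haveILetI false
set_option linter.unusedSectionVars false

namespace Cfsg.Agent.Cit.Nil.RTwoM

open Subgroup Cfsg Cfsg.Agent.Cit

open RTwo (Q3)
open RG (WR CP Ov InO Tr)
open Blk (sm sg Data One sm_zero sm_one)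

variable {G : Type*} [Group G] {Om : Set (Subgroup G)} {K L M : Subgroup G} {D : Set G}
  {a b c d e g g' k l m n r s t u v w x y z : G}

/-- a commuting subset of `Z` normalised by the `R_b` -/
structure NilS (Om : Set (Subgroup G)) (D : Set G) : Prop where
  inZ : ∀ b ∈ D, InZ Om b
  comm : ∀ b ∈ D, ∀ c ∈ D, b * c = c * b
  nor : ∀ b ∈ D, ∀ y ∈ RZ Om b, ∀ c ∈ D, y * c * y⁻¹ ∈ D

open Classical in
/-- `1` iff `n` interchanges the members over `b` -/
noncomputable def sI (Om : Set (Subgroup G)) (b n : G) : ZMod 2 := if Swp Om b n then 1 else 0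

theorem sI_eq_one : sI Om b n = 1 ↔ Swp Om b n := by
  classical
  rw [sI]
  split_ifs with h1
  · simp [h1]
  · simp only [h1, iff_false]; decide

theorem sI_eq_zero : sI Om b n = 0 ↔ ¬ Swp Om b n := by
  classical
  rw [sI]
  split_ifs with h1
  · simp [h1]
  · simp [h1]

section Fin

variable [Finite G]

theorem swp_iff (h : WM Om) (hK : Mem Om z K) (hg : g * z = z * g) : Swp Om z g ↔ cj g K ≠ K :=
  ⟨fun hs => hs.2 K hK, Swp.of_one h hK hg⟩

theorem sI_of_fix (h : WM Om) (hK : Mem Om z K) (hgK : cj g K = K) : sI Om z g = 0 :=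
  sI_eq_zero.2 fun h1 => h1.2 K hK hgK

theorem sI_of_move (h : WM Om) (hK : Mem Om z K) (hg : g * z = z * g) (hgK : cj g K ≠ K) : sI Om z g = 1 :=
  sI_eq_one.2 (Swp.of_one h hK hg hgK)

theorem sI_mul (h : WM Om) (hz : InZ Om z) (hg : g * z = z * g) (hg' : g' * z = z * g') :
    sI Om z (g * g') = sI Om z g + sI Om z g' := by
  obtain ⟨K, hK⟩ := hz
  obtain ⟨L, hL, hne, -⟩ := hK.other h
  have hgg : (g * g') * z = z * (g * g') := by rw [mul_assoc, hg', ← mul_assoc, hg, mul_assoc]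
  rcases cj_cases h hK hL hne hg with ⟨h1, h1'⟩ | ⟨h1, h1'⟩ <;>
    rcases cj_cases h hK hL hne hg' with ⟨h2, h2'⟩ | ⟨h2, h2'⟩
  · rw [sI_of_fix h hK h1, sI_of_fix h hK h2, sI_of_fix h hK (by rw [cj_mul, h2, h1])]; decide
  · rw [sI_of_fix h hK h1, sI_of_move h hK hg' (by rw [h2]; exact hne.symm),
      sI_of_move h hK hgg (by rw [cj_mul, h2, h1']; exact hne.symm)]; decide
  · rw [sI_of_move h hK hg (by rw [h1]; exact hne.symm), sI_of_fix h hK h2,
      sI_of_move h hK hgg (by rw [cj_mul, h2, h1]; exact hne.symm)]; decide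
  · rw [sI_of_move h hK hg (by rw [h1]; exact hne.symm), sI_of_move h hK hg' (by rw [h2]; exact hne.symm),
      sI_of_fix h hK (by rw [cj_mul, h2, h1'])]; decide

theorem sI_conj (h : WM Om) (y : G) : sI Om (y * z * y⁻¹) (y * g * y⁻¹) = sI Om z g := by
  by_cases h1 : Swp Om z g
  · rw [sI_eq_one.2 h1, sI_eq_one.2 (h1.conj h y)]
  · rw [sI_eq_zero.2 h1, sI_eq_zero.2]
    intro h2
    apply h1
    have h3 := h2.conj h y⁻¹
    rwa [show y⁻¹ * (y * z * y⁻¹) * y⁻¹⁻¹ = z by group, show y⁻¹ * (y * g * y⁻¹) * y⁻¹⁻¹ = g by group] at h3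

theorem sI_inn (h : WM Om) (hz : InZ Om z) (hi : Inn Om z g) : sI Om z g = 0 := by
  obtain ⟨K, hK⟩ := hz
  exact sI_of_fix h hK (hi.cj_eq hK h)

/-! ### The subgroup `⟨D⟩` -/

namespace NilS

theorem cl_comm (nil : NilS Om D) (hn : n ∈ closure D) (hm : m ∈ closure D) : n * m = m * n := by
  have h1 : ∀ b ∈ D, closure D ≤ centralizer ({b} : Set G) := fun b hb =>
    (closure_le _).2 fun c hc => mem_centralizer_singleton_iff.2 (nil.comm c hc b hb)
  have h2 : closure D ≤ centralizer ({m} : Set G) :=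
    (closure_le _).2 fun c hc => mem_centralizer_singleton_iff.2 (mem_centralizer_singleton_iff.1 (h1 c hc hm)).symm
  exact mem_centralizer_singleton_iff.1 (h2 hn)

theorem cl_sq (nil : NilS Om D) (h : WM Om) (hn : n ∈ closure D) : n * n = 1 := by
  refine closure_induction (p := fun x _ => x * x = 1) ?_ ?_ ?_ ?_ hn
  · exact fun u hu => (nil.inZ u hu).z2 h
  · rw [one_mul]
  · intro a b ha hb h1 h2
    calc a * b * (a * b) = a * (b * a) * b := by group
      _ = (a * a) * (b * b) := by rw [nil.cl_comm hb ha]; group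
      _ = 1 := by rw [h1, h2, one_mul]
  · intro a _ h1
    rw [← mul_inv_rev, h1, inv_one]

/-- `y` normalising `D` normalises `⟨D⟩` -/
theorem _root_.Cfsg.Agent.Cit.Nil.RTwoM.cl_conj_of (hy : ∀ c ∈ D, y * c * y⁻¹ ∈ D) (hn : n ∈ closure D) :
    y * n * y⁻¹ ∈ closure D := by
  have h1 : closure D ≤ (closure D).comap (MulAut.conj y).toMonoidHom :=
    (closure_le _).2 fun c hc => subset_closure (hy c hc)
  exact h1 hn

theorem cl_conj (nil : NilS Om D) (hb : b ∈ D) (hy : y ∈ RZ Om b) (hn : n ∈ closure D) : y * n * y⁻¹ ∈ closure D :=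
  cl_conj_of (nil.nor b hb y hy) hn

/-- the elements of `⟨D⟩` fixing a member over `b ∈ D` act on it as inner automorphisms -/
theorem exists_as (nil : NilS Om D) (h : WM Om) (hb : b ∈ D) (hK : Mem Om b K) (hn : n ∈ closure D)
    (hnK : cj n K = K) : ∃ a, As K n a := by
  rcases h.wr.inn_or_tr hK.1 hnK (nil.cl_sq h hn) with ⟨y, hy, h1⟩ | ⟨a, ha⟩
  · exact ⟨y, hy, h1⟩
  exfalso
  have haa := Tr.sq' ha hK
  obtain ⟨k, hk, hkk, hne, hne'⟩ := hK.exists_off h ha.mem haa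
  have h1 : n * k * n⁻¹ * k⁻¹ ∈ closure D := by
    have h2 := nil.cl_conj hb (hK.le_RZ hk) (inv_mem hn)
    have h3 : n * k * n⁻¹ * k⁻¹ = n * (k * n⁻¹ * k⁻¹) := by group
    rw [h3]
    exact mul_mem hn h2
  have h2 : a * a = 1 := by
    rcases ha.com k hk (by rw [hkk, hK.2]) hne hne' with h3 | h3
    · rw [h3] at h1; exact nil.cl_sq h h1
    · rw [h3] at h1
      have h4 := nil.cl_sq h h1
      rw [← mul_inv_rev, inv_eq_one] at h4
      exact h4
  rw [haa] at h2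
  exact hK.inZ.z1 h h2

theorem not_ff (nil : NilS Om D) (h : WM Om) (hb : b ∈ D) (hn : n ∈ closure D) : ¬ Ff Om b n := by
  intro hf
  obtain ⟨K, hK⟩ := nil.inZ b hb
  obtain ⟨a, ha⟩ := nil.exists_as h hb hK hn (hf.2 K hK).1
  exact (hf.2 K hK).2 fun k hk => by rw [ha.2 k hk]; exact hK.comm_or h hk ha.1

/-- **(0.1)** -/
theorem sI_symm (nil : NilS Om D) (h : WM Om) (hb : b ∈ D) (hc : c ∈ D) : sI Om b c = sI Om c b := by
  by_cases hne : b = c
  · rw [hne]
  have ib := nil.inZ b hb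
  have ic := nil.inZ c hc
  rcases tri h ib ic hne (nil.comm b hb c hc) with h1 | h1 | ⟨h1, h2⟩
  · rw [sI_inn h ib (inn_of_cp h ic h1), sI_inn h ic (inn_of_cp h ib h1.symm)]
  · rw [sI_inn h ib h1.inn, sI_inn h ic (h1.symm h).inn]
  · rw [sI_eq_one.2 (h1.cases.resolve_right (nil.not_ff h hb (subset_closure hc))),
      sI_eq_one.2 (h2.cases.resolve_right (nil.not_ff h hc (subset_closure hb)))]

theorem comm_cl (nil : NilS Om D) (hb : b ∈ D) (hn : n ∈ closure D) : n * b = b * n :=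
  nil.cl_comm hn (subset_closure hb)

end NilS

/-! ### Additive notation -/

/-- `ι : N → G` identifies the additive group `N` with `⟨D⟩` -/
structure Emb {N : Type*} [AddCommGroup N] (D : Set G) (ι : N → G) : Prop where
  add : ∀ x y, ι (x + y) = ι x * ι y
  inj : Function.Injective ι
  rng : ∀ g, g ∈ closure D ↔ ∃ n, ι n = g

theorem NilS.exists_emb.{u} {G : Type u} [Group G] [Finite G] {Om : Set (Subgroup G)} {D : Set G}
    (nil : NilS Om D) : ∃ (N : Type u) (_ : AddCommGroup N) (_ : Finite N) (ι : N → G), Emb D ι := by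
  letI : CommGroup (closure D) := { (inferInstance : Group (closure D)) with
    mul_comm := fun a b => Subtype.ext (nil.cl_comm a.2 b.2) }
  refine ⟨Additive (closure D), inferInstance, inferInstance, fun x => ((Additive.toMul x : closure D) : G), ?_, ?_, ?_⟩
  · intro x y; rfl
  · intro x y hxy
    exact Additive.toMul.injective (Subtype.ext hxy)
  · intro g
    constructor
    · intro hg
      exact ⟨Additive.ofMul ⟨g, hg⟩, rfl⟩
    · rintro ⟨n, rfl⟩
      exact (Additive.toMul n).2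

namespace Emb

variable {N : Type*} [AddCommGroup N] {ι : N → G} {p q : N}

theorem zero (E : Emb D ι) : ι 0 = 1 := by
  have h1 := E.add 0 0
  rw [add_zero] at h1
  exact left_eq_mul.1 h1

theorem neg (E : Emb D ι) (x : N) : ι (-x) = (ι x)⁻¹ := by
  apply eq_inv_of_mul_eq_one_left
  rw [← E.add, neg_add_cancel, E.zero]

theorem cl (E : Emb D ι) (x : N) : ι x ∈ closure D := (E.rng _).2 ⟨x, rfl⟩

theorem ex (E : Emb D ι) (hg : g ∈ closure D) : ∃ n, ι n = g := (E.rng g).1 hg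

theorem two (E : Emb D ι) (nil : NilS Om D) (h : WM Om) (x : N) : x + x = 0 := by
  apply E.inj
  rw [E.add, E.zero, nil.cl_sq h (E.cl x)]

theorem sq (E : Emb D ι) (nil : NilS Om D) (h : WM Om) (x : N) : ι x * ι x = 1 := nil.cl_sq h (E.cl x)

theorem cm (E : Emb D ι) (nil : NilS Om D) (x y : N) : ι x * ι y = ι y * ι x := nil.cl_comm (E.cl x) (E.cl y)

theorem ind (E : Emb D ι) {P : N → Prop} (h1 : ∀ c, ι c ∈ D → P c) (h0 : P 0) (ha : ∀ x y, P x → P y → P (x + y))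
    (nil : NilS Om D) (h : WM Om) (x : N) : P x := by
  have key : ∀ g ∈ closure D, ∀ x, ι x = g → P x := by
    intro g hg
    refine closure_induction (p := fun g _ => ∀ x, ι x = g → P x) ?_ ?_ ?_ ?_ hg
    · rintro c hc x rfl
      exact h1 x hc
    · intro x hx
      rw [← E.zero] at hx
      rw [E.inj hx]; exact h0
    · intro a b hga hgb h2 h3 x hx
      obtain ⟨a', rfl⟩ := E.ex hga
      obtain ⟨b', rfl⟩ := E.ex hgb
      rw [← E.add] at hx
      rw [E.inj hx]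
      exact ha _ _ (h2 _ rfl) (h3 _ rfl)
    · intro a hga h2 x hx
      obtain ⟨a', rfl⟩ := E.ex hga
      rw [← E.neg] at hx
      rw [E.inj hx, neg_eq_of_add_eq_zero_left (E.two nil h a')]
      exact h2 _ rfl
  exact key _ (E.cl x) x rfl

/-- conjugation -/
theorem exists_conj (E : Emb D ι) (hy : ∀ c ∈ D, y * c * y⁻¹ ∈ D) : ∃ σ : N → N, ∀ n, ι (σ n) = y * ι n * y⁻¹ := by
  have h1 : ∀ n : N, ∃ m : N, ι m = y * ι n * y⁻¹ := fun n => E.ex (cl_conj_of hy (E.cl n))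
  choose σ hσ using h1
  exact ⟨σ, hσ⟩

end Emb

/-- the form: `β c n = 1` iff `n` interchanges the members over `c ∈ D` -/
structure Form {N : Type*} [AddCommGroup N] (Om : Set (Subgroup G)) (D : Set G) (ι : N → G) (β : N → N → ZMod 2) :
    Prop where
  addl : ∀ x y z, β (x + y) z = β x z + β y z
  addr : ∀ x y z, β x (y + z) = β x y + β x z
  symm : ∀ x y, β x y = β y x
  alt : ∀ x, β x x = 0
  val : ∀ c, ι c ∈ D → ∀ n, β c n = sI Om (ι c) (ι n)

/-- **(0.2)** -/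
theorem NilS.exists_form {N : Type*} [AddCommGroup N] {ι : N → G} (nil : NilS Om D) (h : WM Om) (E : Emb D ι) :
    ∃ β, Form Om D ι β := by
  have sadd : ∀ c, ι c ∈ D → ∀ x y, sI Om (ι c) (ι (x + y)) = sI Om (ι c) (ι x) + sI Om (ι c) (ι y) := by
    intro c hc x y
    rw [E.add]
    exact sI_mul h (nil.inZ _ hc) (nil.comm_cl hc (E.cl x)) (nil.comm_cl hc (E.cl y))
  have s0 : ∀ c, ι c ∈ D → sI Om (ι c) (ι 0) = 0 := by
    intro c hc
    have h1 := sadd c hc 0 0
    rw [add_zero] at h1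
    exact left_eq_add.1 h1
  have ex : ∀ x : N, ∃ φ : N → ZMod 2, (∀ y z, φ (y + z) = φ y + φ z) ∧ ∀ c, ι c ∈ D → φ c = sI Om (ι c) (ι x) := by
    intro x
    refine E.ind (P := fun x => ∃ φ : N → ZMod 2, (∀ y z, φ (y + z) = φ y + φ z) ∧
      ∀ c, ι c ∈ D → φ c = sI Om (ι c) (ι x)) ?_ ?_ ?_ nil h x
    · intro c hc
      exact ⟨fun y => sI Om (ι c) (ι y), sadd c hc, fun d hd => nil.sI_symm h hc hd⟩
    · exact ⟨fun _ => 0, fun _ _ => (add_zero (0 : ZMod 2)).symm, fun c hc => (s0 c hc).symm⟩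
    · rintro x y ⟨φ, h1, h2⟩ ⟨ψ, h3, h4⟩
      refine ⟨fun z => φ z + ψ z, fun y z => ?_, fun c hc => ?_⟩
      · show φ (y + z) + ψ (y + z) = (φ y + ψ y) + (φ z + ψ z)
        rw [h1, h3]; ring
      · show φ c + ψ c = _
        rw [h2 c hc, h4 c hc, sadd c hc]
  have uniq : ∀ φ ψ : N → ZMod 2, (∀ y z, φ (y + z) = φ y + φ z) → (∀ y z, ψ (y + z) = ψ y + ψ z) →
      (∀ c, ι c ∈ D → φ c = ψ c) → ∀ x, φ x = ψ x := by
    intro φ ψ h1 h2 h3 x
    refine E.ind (P := fun x => φ x = ψ x) h3 ?_ (fun x y hx hy => by rw [h1, h2, hx, hy]) nil h x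
    have h4 := h1 0 0
    have h5 := h2 0 0
    rw [add_zero] at h4 h5
    rw [left_eq_add.1 h4, left_eq_add.1 h5]
  choose β h1 h2 using ex
  have val : ∀ c, ι c ∈ D → ∀ n, β c n = sI Om (ι c) (ι n) := by
    intro c hc n
    exact uniq (β c) (fun y => sI Om (ι c) (ι y)) (h1 c) (sadd c hc)
      (fun d hd => (h2 c d hd).trans (nil.sI_symm h hd hc)) n
  have addl : ∀ x y z, β (x + y) z = β x z + β y z := by
    intro x y z
    refine uniq (β (x + y)) (fun z => β x z + β y z) (h1 _) (fun y' z' => ?_) (fun c hc => ?_) z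
    · show β x (y' + z') + β y (y' + z') = (β x y' + β y y') + (β x z' + β y z')
      rw [h1, h1]; ring
    · show β (x + y) c = β x c + β y c
      rw [h2 _ c hc, h2 _ c hc, h2 _ c hc, sadd c hc]
  have symm : ∀ x y, β x y = β y x := by
    intro x y
    refine uniq (β x) (fun y => β y x) (h1 x) (fun y z => addl y z x) (fun c hc => ?_) y
    show β x c = β c x
    rw [h2 x c hc, val c hc]
  refine ⟨β, addl, h1, symm, fun x => ?_, val⟩
  refine uniq (fun x => β x x) (fun _ => 0) (fun y z => ?_) (fun _ _ => (add_zero (0 : ZMod 2)).symm)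
    (fun c hc => ?_) x
  · show β (y + z) (y + z) = β y y + β z z
    rw [addl, h1, h1, symm z y]
    generalize β y z = p, β y y = q, β z z = r
    revert p q r; decide
  · show β c c = 0
    rw [val c hc]
    exact sI_inn h (nil.inZ _ hc) (Inn.of_CX (z_mem_CX h))

namespace Form

variable {N : Type*} [AddCommGroup N] {ι : N → G} {β : N → N → ZMod 2} {p q : N}

theorem zr (F : Form Om D ι β) (x : N) : β x 0 = 0 := by
  have h1 := F.addr x 0 0
  rw [add_zero] at h1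
  exact left_eq_add.1 h1

theorem smr (F : Form Om D ι β) (ε : ZMod 2) (x y : N) : β x (sm ε y) = ε * β x y := by
  rcases Blk.z2 ε with rfl | rfl
  · rw [sm_zero, F.zr, zero_mul]
  · rw [sm_one, one_mul]

theorem swp (F : Form Om D ι β) {c n : N} (hc : ι c ∈ D) : β c n = 1 ↔ Swp Om (ι c) (ι n) := by
  rw [F.val c hc, sI_eq_one]

/-- **invariance** -/
theorem conj (F : Form Om D ι β) (nil : NilS Om D) (h : WM Om) (E : Emb D ι) {σ : N → N}
    (hy : ∀ c ∈ D, y * c * y⁻¹ ∈ D) (hσ : ∀ n, ι (σ n) = y * ι n * y⁻¹) (n m : N) : β (σ n) (σ m) = β n m := by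
  have hadd : ∀ x y, σ (x + y) = σ x + σ y := by
    intro x y
    apply E.inj
    rw [E.add, hσ, hσ, hσ, E.add]
    group
  refine E.ind (P := fun n => β (σ n) (σ m) = β n m) (fun c hc => ?_) ?_ (fun x y hx hy => ?_) nil h n
  · have h1 : ι (σ c) ∈ D := by rw [hσ]; exact hy _ hc
    rw [F.val _ h1, F.val _ hc, hσ, hσ, sI_conj h]
  · have h1 : σ 0 = 0 := by
      have h2 := hadd 0 0
      rw [add_zero] at h2
      exact left_eq_add.1 h2
    rw [h1, F.symm, F.zr, F.symm, F.zr]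
  · rw [hadd, F.addl, F.addl, hx, hy]

/-- elements of `R_b` -/
theorem perp (F : Form Om D ι β) (nil : NilS Om D) (h : WM Om) {b a : N} (hb : ι b ∈ D) (ha : ι a ∈ RZ Om (ι b)) :
    β b a = 0 := by
  rw [F.val b hb]
  exact sI_inn h (nil.inZ _ hb) (Inn.of_RZ (nil.inZ _ hb) h ha)

/-- the element `a_k = [w, k] = b · k k^w` -/
theorem exists_ak (F : Form Om D ι β) (nil : NilS Om D) (h : WM Om) (E : Emb D ι) {b w : N} (hb : ι b ∈ D)
    (hw : β b w = 1) (hK : Mem Om (ι b) K) (hk : k ∈ K) (hkk : k * k = ι b) :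
    ∃ a : N, ι a = ι b * qq (ι w) k ∧ ι (w + a) = k * ι w * k⁻¹ ∧ ι a ∈ RZ Om (ι b) := by
  have hs := (F.swp hb).1 hw
  have hww := E.sq nil h w
  have h1 : ι b * qq (ι w) k = ι w * (k * ι w * k⁻¹) := by
    have h2 : k⁻¹ = ι b * k := hK.inv_eq h hk hkk
    have h3 := hs.cm h hK hk hk
    have h4 : (ι w)⁻¹ = ι w := inv_eq_of_mul_eq_one_right hww
    have h5 := hK.comm_z h hk
    have hL := hs.mem h hK
    have hwk : ι w * k * (ι w)⁻¹ ∈ cj (ι w) K := conj_mem_cj hk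
    have h6 := hL.comm_z h hwk
    calc ι b * qq (ι w) k = ι b * (k * (ι w * k * (ι w)⁻¹)) := rfl
      _ = ι b * ((ι w * k * (ι w)⁻¹) * k) := by rw [h3]
      _ = (ι b * (ι w * k * (ι w)⁻¹)) * k := by group
      _ = (ι w * k * (ι w)⁻¹) * (ι b * k) := by rw [← h6]; group
      _ = ι w * k * (ι w)⁻¹ * k⁻¹ := by rw [← h2]
      _ = ι w * (k * ι w * k⁻¹) := by rw [h4]; group
  have h2 : ι w * (k * ι w * k⁻¹) ∈ closure D := mul_mem (E.cl w) (nil.cl_conj hb (hK.le_RZ hk) (E.cl w))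
  obtain ⟨a, ha⟩ := E.ex h2
  refine ⟨a, ha.trans h1.symm, ?_, ?_⟩
  · rw [E.add, ha, ← mul_assoc, hww, one_mul]
  · rw [ha, ← h1]
    exact mul_mem (z_mem_RZ hK.inZ h) (qq_mem hs h hK hk)

/-- the action of `k` on `b^⊥` -/
theorem act_perp (F : Form Om D ι β) (nil : NilS Om D) (h : WM Om) (E : Emb D ι) {b w a n : N} (hb : ι b ∈ D)
    (hw : β b w = 1) (hK : Mem Om (ι b) K) (hk : k ∈ K) (hwa : ι (w + a) = k * ι w * k⁻¹)
    (hab : ι a ∈ RZ Om (ι b)) (hn : β b n = 0) : k * ι n * k⁻¹ = ι (n + sm (β n a) b) := by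
  have hnK : cj (ι n) K = K := by
    by_contra hcon
    have h1 := sI_of_move h hK (nil.comm_cl hb (E.cl n)) hcon
    rw [← F.val b hb, hn] at h1
    exact absurd h1 (by decide)
  obtain ⟨c, hc⟩ := nil.exists_as h hb hK (E.cl n) hnK
  obtain ⟨σ, hσ⟩ := E.exists_conj (nil.nor _ hb k (hK.le_RZ hk))
  have hbb := (nil.inZ _ hb).z2 h
  have hw' : σ w = w + a := by apply E.inj; rw [hσ, hwa]
  -- `n^k = n + ε b`
  obtain ⟨ε, hε⟩ : ∃ ε : ZMod 2, k * ι n * k⁻¹ = ι (n + sm ε b) := by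
    have h1 : ι n * k * (ι n)⁻¹ = k ∨ ι n * k * (ι n)⁻¹ = ι b * k := by
      rw [hc.2 k hk]; exact hK.comm_or h hk hc.1
    rcases h1 with h1 | h1
    · refine ⟨0, ?_⟩
      rw [sm_zero, add_zero]
      rw [mul_inv_eq_iff_eq_mul] at h1
      rw [← h1, mul_inv_cancel_right]
    · refine ⟨1, ?_⟩
      rw [sm_one, E.add]
      rw [mul_inv_eq_iff_eq_mul] at h1
      have h2 : k * ι n = ι b * (ι n * k) := by rw [h1, mul_assoc, ← mul_assoc, hbb, one_mul]
      rw [h2, E.cm nil n b]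
      group
  have hn' : σ n = n + sm ε b := by apply E.inj; rw [hσ, hε]
  have h1 := F.conj nil h E (nil.nor _ hb k (hK.le_RZ hk)) hσ w n
  have hbw : β w b = 1 := by rw [F.symm, hw]
  have hab' : β a b = 0 := by rw [F.symm, F.perp nil h hb hab]
  rw [hw', hn', F.addl, F.addr, F.addr, F.smr, F.smr, hbw, hab', F.symm a n] at h1
  have h2 : ε = β n a := by
    have key : ∀ ε s t : ZMod 2, s + ε * 1 + (t + ε * 0) = s → ε = t := by decide
    exact key _ _ _ h1
  rw [hε, h2]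

/-- **(0.4)** the action of `k` -/
theorem act (F : Form Om D ι β) (nil : NilS Om D) (h : WM Om) (E : Emb D ι) {b w a : N} (hb : ι b ∈ D)
    (hw : β b w = 1) (hK : Mem Om (ι b) K) (hk : k ∈ K) (hwa : ι (w + a) = k * ι w * k⁻¹)
    (hab : ι a ∈ RZ Om (ι b)) (n : N) : k * ι n * k⁻¹ = ι (sg β (β w a) b a n) := by
  rcases Blk.z2 (β n b) with hn | hn
  · rw [F.act_perp nil h E hb hw hK hk hwa hab (by rw [F.symm, hn]), sg, hn, sm_zero, add_zero]
  · have two := E.two nil h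
    have h1 : β b (n + w) = 0 := by
      rw [F.addr, F.symm b n, hn, hw]; decide
    have h2 := F.act_perp nil h E hb hw hK hk hwa hab h1
    have h3 : n = (n + w) + w := by rw [add_assoc, two, add_zero]
    have h4 : k * ι n * k⁻¹ = (k * ι (n + w) * k⁻¹) * (k * ι w * k⁻¹) := by
      conv_lhs => rw [h3, E.add]
      group
    rw [h4, h2, ← hwa, ← E.add]
    congr 1
    rw [sg, hn, sm_one, F.addl]
    have h5 : sm (β n a + β w a) b = sm (β n a) b + sm (β w a) b := by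
      rcases Blk.z2 (β n a) with e1 | e1 <;> rcases Blk.z2 (β w a) with e2 | e2 <;> rw [e1, e2]
      · simp
      · simp
      · simp
      · rw [sm_one, two, show (1 : ZMod 2) + 1 = 0 by decide, sm_zero]
    rw [h5]
    calc n + w + (sm (β n a) b + sm (β w a) b) + (w + a)
        = n + (w + w) + (a + sm (β w a) b) + sm (β n a) b := by abel
      _ = _ := by rw [two, add_zero]

theorem sg_add (F : Form Om D ι β) (two : ∀ x : N, x + x = 0) {a b : N} (ε : ZMod 2) (n : N) :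
    sg β ε b (a + b) n = sg β ε b a n := by
  rw [sg, sg, F.addr]
  rcases Blk.z2 (β n b) with e1 | e1 <;> rcases Blk.z2 (β n a) with e2 | e2 <;> rw [e1, e2]
  · simp
  · simp
  · simp only [zero_add, sm_one, sm_zero, add_zero]
    calc n + (a + b + sm ε b) + b = n + (a + sm ε b) + (b + b) := by abel
      _ = _ := by rw [two, add_zero]
  · simp only [sm_one, show (1 : ZMod 2) + 1 = 0 by decide, sm_zero, add_zero]
    abel

/-- the elements of `N ⊓ R_b` -/
theorem cov (F : Form Om D ι β) (nil : NilS Om D) (h : WM Om) (E : Emb D ι) {b w x : N} (hb : ι b ∈ D)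
    (hw : β b w = 1) (hK : Mem Om (ι b) K) (hx : ι x ∈ RZ Om (ι b)) :
    x = 0 ∨ x = b ∨ ∃ k ∈ K, k * k = ι b ∧ ∃ a : N, ι a = ι b * qq (ι w) k ∧ ι (w + a) = k * ι w * k⁻¹ ∧
      ι a ∈ RZ Om (ι b) ∧ (x = a ∨ x = a + b) := by
  have hs := (F.swp hb).1 hw
  have hbb := (nil.inZ _ hb).z2 h
  have two := E.two nil h
  obtain ⟨k, hk, h1⟩ := hs.fix h (E.sq nil h w) hK hx (E.cm nil w x)
  rcases hK.sq_cases h hk with rfl | rfl | hkk
  · rw [qq_one, mul_one] at h1
    rcases h1 with h1 | h1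
    · left; apply E.inj; rw [h1, E.zero]
    · right; left; exact E.inj h1
  · rw [qq_z hs hK.inZ h, mul_one] at h1
    rcases h1 with h1 | h1
    · left; apply E.inj; rw [h1, E.zero]
    · right; left; exact E.inj h1
  · right; right
    obtain ⟨a, ha1, ha2, ha3⟩ := F.exists_ak nil h E hb hw hK hk hkk
    refine ⟨k, hk, hkk, a, ha1, ha2, ha3, ?_⟩
    rcases h1 with h1 | h1
    · right
      apply E.inj
      rw [E.add, E.cm nil a b, ha1, ← mul_assoc, hbb, one_mul, h1]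
    · left
      apply E.inj
      rw [ha1, h1]

/-- the form on `N ⊓ R_b` -/
theorem ak_form (F : Form Om D ι β) (nil : NilS Om D) (h : WM Om) (E : Emb D ι) {b w a a' : N} (hb : ι b ∈ D)
    (hw : β b w = 1) (hK : Mem Om (ι b) K) (hk : k ∈ K) (hkk : k * k = ι b) (hl : l ∈ K)
    (hwa : ι (w + a) = k * ι w * k⁻¹) (hab : ι a ∈ RZ Om (ι b)) (ha' : ι a' = ι b * qq (ι w) l)
    (hab' : ι a' ∈ RZ Om (ι b)) : β a a' = 0 ↔ k * l = l * k := by
  have hs := (F.swp hb).1 hw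
  have hL := hs.mem h hK
  have h1 := F.act_perp nil h E hb hw hK hk hwa hab (n := a') (F.perp nil h hb hab')
  have h2 : k * ι a' * k⁻¹ = ι b * ((k * l * k⁻¹) * (ι w * l * (ι w)⁻¹)) := by
    have hml : ι w * l * (ι w)⁻¹ ∈ cj (ι w) K := conj_mem_cj hl
    have h3 : (ι w * l * (ι w)⁻¹) * k⁻¹ = k⁻¹ * (ι w * l * (ι w)⁻¹) :=
      (hK.comm hL h (hs.ne hK) (inv_mem hk) hml).symm
    calc k * ι a' * k⁻¹ = k * ι b * l * ((ι w * l * (ι w)⁻¹) * k⁻¹) := by rw [ha', qq]; group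
      _ = (k * ι b) * l * (k⁻¹ * (ι w * l * (ι w)⁻¹)) := by rw [h3]
      _ = (ι b * k) * l * (k⁻¹ * (ι w * l * (ι w)⁻¹)) := by rw [hK.comm_z h hk]
      _ = _ := by group
  have hz1 := (nil.inZ _ hb).z1 h
  rw [F.symm]
  constructor
  · intro h3
    rw [h3, sm_zero, add_zero, h2, ha', qq] at h1
    have h4 := mul_left_cancel h1
    have h5 := mul_right_cancel h4
    rwa [mul_inv_eq_iff_eq_mul] at h5
  · intro h3
    rcases Blk.z2 (β a' a) with h4 | h4
    · exact h4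
    exfalso
    rw [h4, sm_one, h2, h3, mul_inv_cancel_right, E.add] at h1
    have h5 : ι a' = ι a' * ι b := by
      rw [← h1, ha', qq]
    exact hz1 (left_eq_mul.1 h5)

end Form

open Classical in
/-- **block data from the group** -/
theorem NilS.exists_data {N : Type*} [AddCommGroup N] {ι : N → G} {β : N → N → ZMod 2} (nil : NilS Om D) (h : WM Om)
    (E : Emb D ι) (F : Form Om D ι β) (B : N → AddSubgroup N) (hB : ∀ b x, x ∈ B b ↔ ι x ∈ RZ Om (ι b)) :
    ∃ χ, Data {b | ι b ∈ D ∧ ∃ w, β b w = 1} β B χ ∧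
      ∀ b, ι b ∈ D → (∃ w, β b w = 1) → ∀ a ∈ B b, a ≠ 0 → a ≠ b → ∃ K, Mem Om (ι b) K ∧ ∃ k ∈ K, k * k = ι b ∧
        ∀ n, k * ι n * k⁻¹ = ι (sg β (χ b a) b a n) := by
  have two := E.two nil h
  -- `χ`
  have ex : ∀ b a : N, ∃ χ : ZMod 2, (ι b ∈ D ∧ (∃ w, β b w = 1) ∧ a ∈ B b ∧ a ≠ 0 ∧ a ≠ b) →
      ∃ K, Mem Om (ι b) K ∧ ∃ k ∈ K, k * k = ι b ∧ ∀ n, k * ι n * k⁻¹ = ι (sg β χ b a n) := by
    intro b a
    by_cases h1 : ι b ∈ D ∧ (∃ w, β b w = 1) ∧ a ∈ B b ∧ a ≠ 0 ∧ a ≠ b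
    · obtain ⟨hb, ⟨w, hw⟩, ha, ha0, hab⟩ := h1
      obtain ⟨K, hK⟩ := nil.inZ _ hb
      rcases F.cov nil h E hb hw hK ((hB b a).1 ha) with h2 | h2 | ⟨k, hk, hkk, a', h2, h3, h4, h5⟩
      · exact absurd h2 ha0
      · exact absurd h2 hab
      · refine ⟨β w a', fun _ => ⟨K, hK, k, hk, hkk, fun n => ?_⟩⟩
        rcases h5 with rfl | rfl
        · exact F.act nil h E hb hw hK hk h3 h4 n
        · rw [F.sg_add two]
          exact F.act nil h E hb hw hK hk h3 h4 n
    · exact ⟨0, fun h2 => absurd h2 h1⟩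
  choose χ hχ using ex
  have act : ∀ b, ι b ∈ D → (∃ w, β b w = 1) → ∀ a ∈ B b, a ≠ 0 → a ≠ b → ∃ K, Mem Om (ι b) K ∧ ∃ k ∈ K,
      k * k = ι b ∧ ∀ n, k * ι n * k⁻¹ = ι (sg β (χ b a) b a n) := fun b hb hw a ha h0 h1 =>
    hχ b a ⟨hb, hw, ha, h0, h1⟩
  have aw : ∀ b : N, (∃ w, β b w = 1) → ∃ w, ι w ∈ D ∧ β b w = 1 := by
    intro b hb
    by_contra hcon
    push Not at hcon
    obtain ⟨w, hw⟩ := hb
    have h1 : β b w = 0 := by
      refine E.ind (P := fun w => β b w = 0) (fun c hc => ?_) (F.zr b) (fun x y hx hy => ?_) nil h w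
      · exact (Blk.z2 _).resolve_right (hcon c hc)
      · rw [F.addr, hx, hy, add_zero]
    rw [h1] at hw
    exact absurd hw (by decide)
  -- the conjugate of an element of type A
  have cjA : ∀ {y : G} {c c' : N}, (∀ d ∈ D, y * d * y⁻¹ ∈ D) → ι c ∈ D → (∃ w, β c w = 1) →
      ι c' = y * ι c * y⁻¹ → ι c' ∈ D ∧ ∃ w, β c' w = 1 := by
    intro y c c' hy hc hw hc'
    obtain ⟨w, hw⟩ := hw
    obtain ⟨σ, hσ⟩ := E.exists_conj hy
    have h1 : c' = σ c := by apply E.inj; rw [hc', hσ]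
    refine ⟨by rw [hc']; exact hy _ hc, σ w, ?_⟩
    rw [h1, F.conj nil h E hy hσ, hw]
  refine ⟨χ, ?_, act⟩
  refine
    { two := two
      addl := F.addl
      addr := F.addr
      alt := F.alt
      ne := ?_
      mem := ?_
      perp := ?_
      nd := ?_
      bas := ?_
      sw := ?_
      act := ?_
      actB := ?_
      sym := ?_ }
  · rintro b ⟨hb, -⟩ rfl
    rw [E.zero] at hb
    exact (nil.inZ _ hb).z1 h rfl
  · rintro b ⟨hb, -⟩
    rw [hB]; exact z_mem_RZ (nil.inZ _ hb) h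
  · rintro b ⟨hb, -⟩ a ha
    exact F.perp nil h hb ((hB b a).1 ha)
  · rintro b ⟨hb, w, hw⟩ x hx x' hx' h0
    obtain ⟨K, hK⟩ := nil.inZ _ hb
    rcases F.cov nil h E hb hw hK ((hB b x).1 hx) with h2 | h2 | ⟨k, hk, hkk, a, h2, h3, h4, h5⟩
    · exact Or.inl h2
    · exact Or.inr (Or.inl h2)
    rcases F.cov nil h E hb hw hK ((hB b x').1 hx') with h2' | h2' | ⟨l, hl, hll, a', h2', h3', h4', h5'⟩
    · exact Or.inr (Or.inr (Or.inl h2'))
    · exact Or.inr (Or.inr (Or.inr (Or.inl h2')))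
    have e1 : β b a' = 0 := F.perp nil h hb h4'
    have e2 : β a b = 0 := by rw [F.symm]; exact F.perp nil h hb h4
    have h6 : β a a' = 0 := by
      rcases h5 with rfl | rfl <;> rcases h5' with rfl | rfl
      · exact h0
      · rwa [F.addr, e2, add_zero] at h0
      · rwa [F.addl, e1, add_zero] at h0
      · rwa [F.addl, F.addr, F.addr, e2, e1, F.alt, add_zero, add_zero, add_zero] at h0
    have h7 := (F.ak_form nil h E hb hw hK hk hkk hl h3 h4 h2' h4').1 h6
    have hs := (F.swp hb).1 hw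
    have h8 : a' = a := by
      apply E.inj
      rw [h2', h2]
      rcases hK.of_comm h hk hkk hl h7 with h8 | h8 | h8 | h8
      · rw [h8, one_mul] at hll; exact absurd hll.symm (hK.inZ.z1 h)
      · rw [h8, hK.inZ.z2 h] at hll; exact absurd hll.symm (hK.inZ.z1 h)
      · rw [h8]
      · rw [h8, qq_mul hs h hK (hK.zmem h) hk, qq_z hs hK.inZ h, one_mul]
    right; right; right; right
    rw [h8] at h5'
    rcases h5 with rfl | rfl <;> rcases h5' with rfl | rfl
    · exact Or.inl rfl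
    · exact Or.inr rfl
    · right; rw [add_assoc, two, add_zero]
    · exact Or.inl rfl
  · rintro b ⟨hb, w, hw⟩
    obtain ⟨K, hK⟩ := nil.inZ _ hb
    obtain ⟨x, hx⟩ := h.exists_q3 hK
    obtain ⟨l, hl, hll, hkl⟩ := hK.exists_nc h (hx.mem 0) (hx.sq 0)
    obtain ⟨a, a1, a2, a3⟩ := F.exists_ak nil h E hb hw hK (hx.mem 0) (hx.sq 0)
    obtain ⟨a', b1, b2, b3⟩ := F.exists_ak nil h E hb hw hK hl hll
    refine ⟨a, (hB b a).2 a3, a', (hB b a').2 b3, ?_⟩
    rcases Blk.z2 (β a a') with h1 | h1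
    · exact absurd ((F.ak_form nil h E hb hw hK (hx.mem 0) (hx.sq 0) hl a2 a3 b1 b3).1 h1) hkl
    · exact h1
  · rintro b ⟨hb, hw⟩
    obtain ⟨w, hwD, hw⟩ := aw b hw
    exact ⟨w, ⟨hwD, b, by rw [F.symm, hw]⟩, hw⟩
  · rintro b ⟨hb, hw⟩ a ha h0 h1 c ⟨hc, hc'⟩
    obtain ⟨K, hK, k, hk, -, h2⟩ := act b hb hw a ha h0 h1
    exact cjA (nil.nor _ hb k (hK.le_RZ hk)) hc hc' (h2 c).symm
  · rintro b ⟨hb, hw⟩ a ha h0 h1 c ⟨hc, hc'⟩ x hx
    obtain ⟨K, hK, k, hk, -, h2⟩ := act b hb hw a ha h0 h1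
    rw [hB, ← h2, ← h2]
    exact RZ_conj h k ((hB c x).1 hx)
  · rintro b ⟨hb, hw⟩ c ⟨hc, w, hw'⟩ hne h0
    -- `b` centralises the members over `c`
    have hcp : CP Om (ι b) (ι c) := by
      have h2 : ι b ∈ CX Om (ι c) := by
        rw [mem_CX]
        intro K hK k hk
        rcases hK.sq_cases h hk with rfl | rfl | hkk
        · rw [mul_one, one_mul]
        · exact E.cm nil b c
        · obtain ⟨a, a1, a2, a3⟩ := F.exists_ak nil h E hc hw' hK hk hkk
          have h3 := F.act nil h E hc hw' hK hk a2 a3 b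
          rw [sg, h0 c ((hB c c).2 (z_mem_RZ (nil.inZ _ hc) h)), h0 a ((hB c a).2 a3), sm_zero, sm_zero, add_zero,
            add_zero, mul_inv_eq_iff_eq_mul] at h3
          exact h3.symm
      rcases (cen_iff h (nil.inZ _ hc) (nil.inZ _ hb)).1 h2 with h3 | h3
      · exact absurd (E.inj h3).symm hne
      · exact h3.symm
    intro x hx y hy
    have hx' : ∀ g ∈ RZ Om (ι c), ι x * g = g * ι x := fun g hg => cp_RZ h hcp ((hB b x).1 hx) hg
    obtain ⟨K, hK⟩ := nil.inZ _ hc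
    have hxc : β c x = 0 := by
      rw [F.val c hc]
      refine sI_inn h (nil.inZ _ hc) (Inn.of_CX ?_)
      rw [mem_CX]
      exact fun K hK k hk => hx' k (hK.le_RZ hk)
    rcases F.cov nil h E hc hw' hK ((hB c y).1 hy) with h2 | h2 | ⟨k, hk, hkk, a, h2, h3, h4, h5⟩
    · rw [h2, F.zr]
    · rw [h2, F.symm, hxc]
    · have h6 : β x a = 0 := by
        have h7 := F.act_perp nil h E hc hw' hK hk h3 h4 hxc
        rw [← hx' k (hK.le_RZ hk), mul_inv_cancel_right] at h7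
        rcases Blk.z2 (β x a) with h8 | h8
        · exact h8
        exfalso
        rw [h8, sm_one, E.add] at h7
        exact (nil.inZ _ hc).z1 h (left_eq_mul.1 h7)
      rcases h5 with rfl | rfl
      · exact h6
      · rw [F.addr, h6, F.symm x c, hxc, add_zero]

end Fin

end Cfsg.Agent.Cit.Nil.RTwoM
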