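import Cfsg.Agent.Cit.Nil.RTwoM.BlkPat

/-!
# `r = 2`, any `m`: the pattern lemma, general `χ` (CIT-6b-r2-blocks, (W), (E), (1.2), (1.3), (1.4))

* `Full` : block data with the properties of the type `χ`;
* `TriX` : coordinates `a_l = [w, y_l]` of `B u`; `Full.zero` = (W), `Full.ee` = (E);
* `Full.no_mixed` = (1.2), `Full.hun` = (1.3), `Full.pattern` : the three outcomes, `Full.clique` = (1.4).
-/

set_option autoImplicit false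
set_option linter.unusedSimpArgs false
set_option linter.unusedVariables false

namespace Cfsg.Agent.Cit.Nil.RTwoM.Blk

variable {N : Type*} [AddCommGroup N] {D : Set N} {β : N → N → ZMod 2} {B : N → AddSubgroup N} {χ : N → N → ZMod 2}
  {a a' b c d q u v w x y z a₁ a₂ a₃ b₁ b₂ b₃ : N}

/-- block data with the properties of the type -/
structure Full (D : Set N) (β : N → N → ZMod 2) (B : N → AddSubgroup N) (χ : N → N → ZMod 2) : Prop extends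
    Data D β B χ where
  chia : ∀ b ∈ D, ∀ a ∈ B b, χ b (a + b) = χ b a
  chis : ∀ b ∈ D, ∀ a ∈ B b, ∀ a' ∈ B b, β a a' = 1 → χ b a + χ b a' + χ b (a + a') = 1
  actχ : ∀ b ∈ D, ∀ a ∈ B b, a ≠ 0 → a ≠ b → ∀ c ∈ D, ∀ x ∈ B c,
    χ (sg β (χ b a) b a c) (sg β (χ b a) b a x) = χ c x

/-- coordinates of `B u` with respect to a swap partner `w` of `u` -/
structure TriX (β : N → N → ZMod 2) (χ : N → N → ZMod 2) (Bu : AddSubgroup N) (u w a₁ a₂ a₃ : N) : Prop where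
  m₁ : a₁ ∈ Bu
  m₂ : a₂ ∈ Bu
  m₃ : a₃ ∈ Bu
  sum : a₁ + a₂ + a₃ = u
  w₁ : β w a₁ = χ u a₁
  w₂ : β w a₂ = χ u a₂
  w₃ : β w a₃ = χ u a₃
  wu : β w u = 1
  c₁₂ : β a₁ a₂ = 1
  c₁₃ : β a₁ a₃ = 1
  c₂₃ : β a₂ a₃ = 1
  cov : ∀ x ∈ Bu, x = 0 ∨ x = a₁ ∨ x = a₂ ∨ x = a₃ ∨ x = a₁ + a₂ ∨ x = a₁ + a₃ ∨ x = a₂ + a₃ ∨ x = u

theorem TriX.rot (t : TriX β χ (B u) u w a₁ a₂ a₃) (h : Data D β B χ) : TriX β χ (B u) u w a₂ a₃ a₁ := by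
  refine ⟨t.m₂, t.m₃, t.m₁, ?_, t.w₂, t.w₃, t.w₁, t.wu, t.c₂₃, ?_, ?_, ?_⟩
  · rw [← t.sum]; abel
  · rw [h.symm]; exact t.c₁₂
  · rw [h.symm]; exact t.c₁₃
  · intro x hx
    rcases t.cov x hx with h1 | h1 | h1 | h1 | h1 | h1 | h1 | h1
    · exact Or.inl h1
    · exact Or.inr (Or.inr (Or.inr (Or.inl h1)))
    · exact Or.inr (Or.inl h1)
    · exact Or.inr (Or.inr (Or.inl h1))
    · exact Or.inr (Or.inr (Or.inr (Or.inr (Or.inr (Or.inl (by rw [h1, add_comm]))))))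
    · exact Or.inr (Or.inr (Or.inr (Or.inr (Or.inr (Or.inr (Or.inl (by rw [h1, add_comm])))))))
    · exact Or.inr (Or.inr (Or.inr (Or.inr (Or.inl h1))))
    · exact Or.inr (Or.inr (Or.inr (Or.inr (Or.inr (Or.inr (Or.inr h1))))))

/-- exchange of the last two coordinates -/
theorem TriX.flip (t : TriX β χ (B u) u w a₁ a₂ a₃) (h : Data D β B χ) : TriX β χ (B u) u w a₁ a₃ a₂ := by
  refine ⟨t.m₁, t.m₃, t.m₂, ?_, t.w₁, t.w₃, t.w₂, t.wu, t.c₁₃, t.c₁₂, ?_, ?_⟩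
  · rw [← t.sum]; abel
  · rw [h.symm]; exact t.c₂₃
  · intro x hx
    rcases t.cov x hx with h1 | h1 | h1 | h1 | h1 | h1 | h1 | h1
    · exact Or.inl h1
    · exact Or.inr (Or.inl h1)
    · exact Or.inr (Or.inr (Or.inr (Or.inl h1)))
    · exact Or.inr (Or.inr (Or.inl h1))
    · exact Or.inr (Or.inr (Or.inr (Or.inr (Or.inr (Or.inl h1)))))
    · exact Or.inr (Or.inr (Or.inr (Or.inr (Or.inl h1))))
    · exact Or.inr (Or.inr (Or.inr (Or.inr (Or.inr (Or.inr (Or.inl (by rw [h1, add_comm])))))))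
    · exact Or.inr (Or.inr (Or.inr (Or.inr (Or.inr (Or.inr (Or.inr h1))))))

theorem TriX.perp (t : TriX β χ (B u) u w a₁ a₂ a₃) (h : Data D β B χ) (h₁ : β x a₁ = 0) (h₂ : β x a₂ = 0)
    (h₃ : β x a₃ = 0) (hy : y ∈ B u) : β x y = 0 := by
  rcases t.cov y hy with h6 | h6 | h6 | h6 | h6 | h6 | h6 | h6
  · rw [h6, h.zr]
  · rw [h6, h₁]
  · rw [h6, h₂]
  · rw [h6, h₃]
  · rw [h6, h.addr, h₁, h₂]; decide
  · rw [h6, h.addr, h₁, h₃]; decide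
  · rw [h6, h.addr, h₂, h₃]; decide
  · rw [h6, ← t.sum, h.addr, h.addr, h₁, h₂, h₃]; decide

theorem TriX.ne₁ (t : TriX β χ (B u) u w a₁ a₂ a₃) (h : Data D β B χ) (hu : u ∈ D) : a₁ ≠ 0 ∧ a₁ ≠ u := by
  constructor
  · intro h1
    have := t.c₁₂
    rw [h1, h.zl] at this
    exact absurd this (by decide)
  · intro h1
    have := t.c₁₂
    rw [h1, h.perp u hu a₂ t.m₂] at this
    exact absurd this (by decide)

/-- `w^{y₁} = w + a₁` -/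
theorem TriX.s₁ (t : TriX β χ (B u) u w a₁ a₂ a₃) (h : Data D β B χ) (hu : u ∈ D) :
    sg β (χ u a₁) u a₁ w = w + a₁ := by
  rw [sg, t.wu, t.w₁, sm_one]
  calc w + (a₁ + sm (χ u a₁) u) + sm (χ u a₁) u = w + a₁ + (sm (χ u a₁) u + sm (χ u a₁) u) := by abel
    _ = w + a₁ := by rw [h.two, add_zero]

theorem TriX.c_mem (t : TriX β χ (B u) u w a₁ a₂ a₃) (h : Data D β B χ) (hu : u ∈ D) (hw : w ∈ D) : w + a₁ ∈ D := by
  obtain ⟨n0, n1⟩ := t.ne₁ h hu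
  rw [← t.s₁ h hu]; exact h.act u hu a₁ t.m₁ n0 n1 w hw

/-- `B (w + a₁)` is the image of `B w` -/
theorem TriX.c_B (t : TriX β χ (B u) u w a₁ a₂ a₃) (h : Data D β B χ) (hu : u ∈ D) (hw : w ∈ D) (hx : x ∈ B w) :
    sg β (χ u a₁) u a₁ x ∈ B (w + a₁) := by
  obtain ⟨n0, n1⟩ := t.ne₁ h hu
  rw [← t.s₁ h hu]; exact h.actB u hu a₁ t.m₁ n0 n1 w hw x hx

theorem TriX.c_B' (t : TriX β χ (B u) u w a₁ a₂ a₃) (h : Data D β B χ) (hu : u ∈ D) (hw : w ∈ D)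
    (hx : x ∈ B (w + a₁)) : sg β (χ u a₁) u a₁ x ∈ B w := by
  obtain ⟨n0, n1⟩ := t.ne₁ h hu
  rw [← t.s₁ h hu] at hx
  exact h.actB' hu t.m₁ n0 n1 hw hx

theorem Full.exists_tri (h : Full D β B χ) (hu : u ∈ D) (huw : β u w = 1) :
    ∃ a₁ a₂ a₃, TriX β χ (B u) u w a₁ a₂ a₃ := by
  have h' := h.toData
  obtain ⟨a, ha, a', ha', haa⟩ := h.bas u hu
  have hwu : β w u = 1 := by rw [h'.symm]; exact huw
  have huu := h.mem u hu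
  have hat : ∀ a ∈ B u, ∃ a₁ ∈ B u, β w a₁ = χ u a₁ ∧ ∀ y ∈ B u, β a₁ y = β a y := by
    intro a ha
    by_cases h1 : β w a = χ u a
    · exact ⟨a, ha, h1, fun _ _ => rfl⟩
    · refine ⟨a + u, add_mem ha huu, ?_, fun y hy => ?_⟩
      · rw [h.chia u hu a ha, h.addr, hwu]
        revert h1
        generalize β w a = s, χ u a = t
        revert s t; decide
      · rw [h.addl, h.perp u hu y hy, add_zero]
  obtain ⟨a₁, m₁, w₁, e₁⟩ := hat a ha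
  obtain ⟨a₂, m₂, w₂, e₂⟩ := hat a' ha'
  have c₁₂ : β a₁ a₂ = 1 := by
    rw [e₁ _ m₂, h'.symm, e₂ _ ha, h'.symm]; exact haa
  have c₂₁ : β a₂ a₁ = 1 := by rw [h'.symm]; exact c₁₂
  have m₃ : a₁ + a₂ + u ∈ B u := add_mem (add_mem m₁ m₂) huu
  refine ⟨a₁, a₂, a₁ + a₂ + u, m₁, m₂, m₃, ?_, w₁, w₂, ?_, hwu, c₁₂, ?_, ?_, ?_⟩
  · rw [h'.addc]
  · rw [h.chia u hu _ (add_mem m₁ m₂), h.addr, h.addr, hwu, w₁, w₂]
    have h1 := h.chis u hu a₁ m₁ a₂ m₂ c₁₂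
    revert h1
    generalize χ u a₁ = s, χ u a₂ = t, χ u (a₁ + a₂) = r
    revert s t r; decide
  · rw [h.addr, h.addr, h'.perp' hu m₁, h.alt, c₁₂]; decide
  · rw [h.addr, h.addr, h'.perp' hu m₂, h.alt, c₂₁]; decide
  · intro x hx
    have e2 : a₁ + (a₁ + a₂ + u) = a₂ + u := by rw [add_assoc a₁ a₂ u, h'.addc]
    have e3 : a₂ + (a₁ + a₂ + u) = a₁ + u := by
      rw [show a₂ + (a₁ + a₂ + u) = a₂ + (a₂ + (a₁ + u)) by abel, h'.addc]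
    rw [e2, e3]
    rcases z2 (β x a₁) with p | p <;> rcases z2 (β x a₂) with q | q <;>
      rcases h'.cov hu m₁ m₂ c₁₂ hx with h1 | h1 <;>
      rw [p, q] at h1 <;> simp only [sm_zero, sm_one, zero_add, add_zero] at h1 <;> simp [h1]

/-- row sums -/
theorem TriX.row (t' : TriX β χ (B w) w u b₁ b₂ b₃) (h : Data D β B χ) (x : N) :
    β x b₁ + β x b₂ + β x b₃ = β x w := by
  rw [← t'.sum, h.addr, h.addr]

/-- **(W)** -/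
theorem Full.zero (h : Full D β B χ) (hu : u ∈ D) (hw : w ∈ D) (t : TriX β χ (B u) u w a₁ a₂ a₃)
    (t' : TriX β χ (B w) w u b₁ b₂ b₃) (hχ : χ u a₁ = 0) (h₁ : β a₁ b₁ = 0) (h₂ : β a₁ b₂ = 0) (h₃ : β a₁ b₃ = 0) :
    False := by
  have h' := h.toData
  have hc := t.c_mem h' hu hw
  have hne : w + a₁ ≠ w := by
    intro h1
    exact (t.ne₁ h' hu).1 (add_eq_left.1 h1)
  have k : ∀ b, b ∈ B w → β a₁ b = 0 → β (w + a₁) b = 0 := by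
    intro b hb hab
    rw [h.addl, h.perp w hw b hb, hab, add_zero]
  have hC := h.sym _ hc w hw hne fun x hx =>
    t'.perp h' (k _ t'.m₁ h₁) (k _ t'.m₂ h₂) (k _ t'.m₃ h₃) hx
  have h4 := hC _ (t.c_B h' hu hw t'.m₂) _ t'.m₁
  have e1 : β b₂ a₁ = 0 := by rw [h'.symm]; exact h₂
  have e2 : β b₂ b₁ = 1 := by rw [h'.symm]; exact t'.c₁₂
  rw [sg, e1, hχ] at h4
  simp only [sm_zero, add_zero] at h4
  rw [h.addl, h'.sml, e2, h₁, mul_zero, add_zero] at h4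
  exact absurd h4 (by decide)

/-- **(E)** -/
theorem Full.ee (h : Full D β B χ) (hu : u ∈ D) (hw : w ∈ D) (t : TriX β χ (B u) u w a₁ a₂ a₃)
    (t' : TriX β χ (B w) w u b₁ b₂ b₃) (hχ : χ u a₁ = 1) (hχ' : χ w b₁ = 1) (h₁ : β a₁ b₁ = 1)
    (h₂ : β a₁ b₂ = 1 + χ w b₂) (h₃ : β a₁ b₃ = 1 + χ w b₃) :
    (u + b₁ = w + a₁ ∨ ∀ x ∈ B (u + b₁), ∀ y ∈ B (w + a₁), β x y = 0) ∧ β a₂ b₁ = 1 + χ u a₂ ∧
      β a₃ b₁ = 1 + χ u a₃ := by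
  have h' := h.toData
  have hc := t.c_mem h' hu hw
  have hd := t'.c_mem h' hw hu
  have hau : β a₁ u = 0 := h'.perp' hu t.m₁
  have hbw : β b₁ w = 0 := h'.perp' hw t'.m₁
  have e0 : β b₁ a₁ = 1 := by rw [h'.symm]; exact h₁
  have e1 : β b₁ u = 1 := by rw [h'.symm, t'.w₁]; exact hχ'
  have e2 : β a₁ w = 1 := by rw [h'.symm, t.w₁]; exact hχ
  have hperp : ∀ x ∈ B (w + a₁), β (u + b₁) x = 0 := by
    intro x hx
    have h4 := t.c_B' h' hu hw hx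
    rw [← h'.isom (χ u a₁) (h.perp u hu a₁ t.m₁)]
    have h5 : sg β (χ u a₁) u a₁ (u + b₁) = u + b₁ + a₁ := by
      rw [sg, hχ, h.addl, h.addl, h.alt, e1, h.perp u hu a₁ t.m₁, e0]
      simp only [zero_add, sm_one]
      rw [← add_assoc, add_assoc _ u u, h.two, add_zero]
    rw [h5]
    refine t'.perp h' ?_ ?_ ?_ h4
    · rw [h.addl, h.addl, t'.w₁, h.alt, h₁, hχ']; decide
    · rw [h.addl, h.addl, t'.w₂, t'.c₁₂, h₂]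
      generalize χ w b₂ = s
      revert s; decide
    · rw [h.addl, h.addl, t'.w₃, t'.c₁₃, h₃]
      generalize χ w b₃ = s
      revert s; decide
  have hC : u + b₁ = w + a₁ ∨ ∀ x ∈ B (u + b₁), ∀ y ∈ B (w + a₁), β x y = 0 := by
    by_cases hne : u + b₁ = w + a₁
    · exact Or.inl hne
    · exact Or.inr (h.sym _ hd _ hc hne hperp)
  have hD : ∀ x ∈ B (u + b₁), β x (w + a₁) = 0 := by
    intro x hx
    rcases hC with h4 | h4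
    · rw [← h4]; exact h'.perp' hd hx
    · exact h4 x hx _ (h.mem _ hc)
  have hwu : β w u = 1 := t.wu
  have huw : β u w = 1 := t'.wu
  have val : ∀ a ∈ B u, β w a = χ u a → β a₁ a = 1 → β a b₁ = 1 + χ u a := by
    intro a ha hwa haa
    have h4 := hD _ (t'.c_B h' hw hu ha)
    have e3 : β a w = χ u a := by rw [h'.symm]; exact hwa
    have e4 : β a a₁ = 1 := by rw [h'.symm]; exact haa
    rw [sg, hχ', sm_one, e3] at h4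
    simp only [h.addl, h.addr, h'.sml, e3, e4, hbw, h.alt, h'.symm b₁ a₁, h₁, t.w₁, hχ] at h4
    revert h4
    generalize β a b₁ = s, χ u a = t
    revert s t; decide
  exact ⟨hC, val a₂ t.m₂ t.w₂ t.c₁₂, val a₃ t.m₃ t.w₃ t.c₁₃⟩

/-- type (111) -/
def Typ1 (β : N → N → ZMod 2) (B : N → AddSubgroup N) (χ : N → N → ZMod 2) (b : N) : Prop :=
  ∀ a ∈ B b, a ≠ 0 → a ≠ b → χ b a = 1

theorem Full.typ1_of (h : Full D β B χ) (hu : u ∈ D) (t : TriX β χ (B u) u w a₁ a₂ a₃) (h₁ : χ u a₁ = 1)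
    (h₂ : χ u a₂ = 1) (h₃ : χ u a₃ = 1) : Typ1 β B χ u := by
  have h' := h.toData
  intro x hx n0 n1
  have k : ∀ {a b c : N}, a + b + c = u → c ∈ B u → χ u c = 1 → χ u (a + b) = 1 := by
    intro a b c hs hc hχ
    have h1 : a + b = c + u := by
      rw [← hs, show c + (a + b + c) = c + c + (a + b) by abel, h.two, zero_add]
    rw [h1, h.chia u hu c hc, hχ]
  rcases t.cov x hx with h6 | h6 | h6 | h6 | h6 | h6 | h6 | h6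
  · exact absurd h6 n0
  · rw [h6, h₁]
  · rw [h6, h₂]
  · rw [h6, h₃]
  · rw [h6]; exact k t.sum t.m₃ h₃
  · rw [h6]; exact k (by rw [← t.sum]; abel) t.m₂ h₂
  · rw [h6]; exact k (by rw [← t.sum]; abel) t.m₁ h₁
  · exact absurd h6 n1

/-- the sum of the types is one -/
theorem TriX.chi_sum (t : TriX β χ (B u) u w a₁ a₂ a₃) (h : Data D β B χ) : χ u a₁ + χ u a₂ + χ u a₃ = 1 := by
  rw [← t.w₁, ← t.w₂, ← t.w₃, ← h.addr, ← h.addr, t.sum, t.wu]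

/-- (100) or (111), after a rotation -/
theorem Full.typ_cases (h : Full D β B χ) (hu : u ∈ D) (huw : β u w = 1) :
    Typ1 β B χ u ∨ ∃ a₁ a₂ a₃, TriX β χ (B u) u w a₁ a₂ a₃ ∧ χ u a₁ = 1 ∧ χ u a₂ = 0 ∧ χ u a₃ = 0 := by
  obtain ⟨a₁, a₂, a₃, t⟩ := h.exists_tri hu huw
  have hs := t.chi_sum h.toData
  have t2 := t.rot h.toData
  have t3 := t2.rot h.toData
  rcases z2 (χ u a₁) with p | p <;> rcases z2 (χ u a₂) with q | q <;> rcases z2 (χ u a₃) with r | r <;>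
    rw [p, q, r] at hs
  · exact absurd hs (by decide)
  · exact Or.inr ⟨_, _, _, t3, r, p, q⟩
  · exact Or.inr ⟨_, _, _, t2, q, r, p⟩
  · exact absurd hs (by decide)
  · exact Or.inr ⟨_, _, _, t, p, q, r⟩
  · exact absurd hs (by decide)
  · exact absurd hs (by decide)
  · exact Or.inl (h.typ1_of hu t p q r)

/-- (1.2), the case with column `e₁` -/
theorem Full.no_mixed_aux (h : Full D β B χ) (hu : u ∈ D) (hw : w ∈ D) (t : TriX β χ (B u) u w a₁ a₂ a₃)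
    (t' : TriX β χ (B w) w u b₁ b₂ b₃) (h1 : Typ1 β B χ u) (p₁ : χ w b₁ = 1) (p₂ : χ w b₂ = 0) (p₃ : χ w b₃ = 0)
    (c₁ : β a₁ b₁ = 1) (c₂ : β a₂ b₁ = 0) (c₃ : β a₃ b₁ = 0) : False := by
  have h' := h.toData
  obtain ⟨n0, n1⟩ := t.ne₁ h' hu
  obtain ⟨n0', n1'⟩ := (t.rot h').ne₁ h' hu
  obtain ⟨n0'', n1''⟩ := ((t.rot h').rot h').ne₁ h' hu
  obtain ⟨k0, k1⟩ := t'.ne₁ h' hw
  have x₁ : χ u a₁ = 1 := h1 _ t.m₁ n0 n1
  have x₂ : χ u a₂ = 1 := h1 _ t.m₂ n0' n1'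
  have x₃ : χ u a₃ = 1 := h1 _ t.m₃ n0'' n1''
  have d₁ : β b₁ a₁ = 1 := by rw [h'.symm]; exact c₁
  have d₂ : β b₁ a₂ = 0 := by rw [h'.symm]; exact c₂
  have d₃ : β b₁ a₃ = 0 := by rw [h'.symm]; exact c₃
  obtain ⟨hC, r₂, r₃⟩ := h.ee hw hu t' t p₁ x₁ d₁ (by rw [d₂, x₂]; decide) (by rw [d₃, x₃]; decide)
  rw [p₂, add_zero] at r₂
  rw [p₃, add_zero] at r₃
  -- columns 2 and 3 have sum 0
  have s₂ : β a₁ b₂ + β a₂ b₂ + β a₃ b₂ = 0 := by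
    rw [← h.addl, ← h.addl, t.sum, t'.w₂, p₂]
  have s₃ : β a₁ b₃ + β a₂ b₃ + β a₃ b₃ = 0 := by
    rw [← h.addl, ← h.addl, t.sum, t'.w₃, p₃]
  have q₂ : β a₂ b₁ + β a₂ b₂ + β a₂ b₃ = 1 := by
    rw [t'.row h', h'.symm, t.w₂, x₂]
  have v₁ : β a₁ b₂ = 1 := by rw [h'.symm]; exact r₂
  have v₂ : β a₁ b₃ = 1 := by rw [h'.symm]; exact r₃
  rw [c₂, zero_add] at q₂
  -- an entry 0
  obtain ⟨b, hb, hb0, hb1, hχb, hab, hbb⟩ : ∃ b ∈ B w, β a₂ b = 0 ∧ β a₁ b = 1 ∧ χ w b = 0 ∧ β u b = 0 ∧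
      β b b₁ = 1 := by
    rcases z2 (β a₂ b₂) with e | e
    · exact ⟨b₂, t'.m₂, e, v₁, p₂, by rw [t'.w₂, p₂], by rw [h'.symm]; exact t'.c₁₂⟩
    · refine ⟨b₃, t'.m₃, ?_, v₂, p₃, by rw [t'.w₃, p₃], by rw [h'.symm]; exact t'.c₁₃⟩
      rw [e] at q₂
      revert q₂
      generalize β a₂ b₃ = s
      revert s; decide
  have hbu : β b u = 0 := by rw [h'.symm]; exact hab
  have hba₁ : β b a₁ = 1 := by rw [h'.symm]; exact hb1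
  have hba₂ : β b a₂ = 0 := by rw [h'.symm]; exact hb0
  have m1 : b + u ∈ B (w + a₁) := by
    have := t.c_B h' hu hw hb
    rwa [sg, hbu, hba₁, sm_zero, sm_one, add_zero] at this
  have m2 : a₂ + b₁ + w ∈ B (u + b₁) := by
    have := t'.c_B h' hw hu t.m₂
    rw [sg, h'.symm a₂ w, t.w₂, x₂, c₂, sm_zero, sm_one, p₁, sm_one, add_zero, ← add_assoc] at this
    exact this
  have hval : β (b + u) (a₂ + b₁ + w) = 1 := by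
    rw [h.addl, h.addr, h.addr, h.addr, h.addr, hba₂, hbb, h'.perp' hw hb, h.perp u hu _ t.m₂, t'.w₁, p₁, t'.wu]
    decide
  have hcd : w + a₁ = u + b₁ := by
    rcases hC with h2 | h2
    · exact h2
    · exfalso
      rw [h2 _ m1 _ m2] at hval
      exact absurd hval (by decide)
  -- types
  have hb' : sg β (χ u a₁) u a₁ b = b + u := by rw [sg, hbu, hba₁, sm_zero, sm_one, add_zero]
  have y1 : χ (w + a₁) (b + u) = 0 := by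
    have := h.actχ u hu a₁ t.m₁ n0 n1 w hw b hb
    rwa [t.s₁ h' hu, hb', hχb] at this
  have m3 : sg β (χ w b₁) w b₁ (b + u) ∈ B u := t'.c_B' h' hw hu (by rw [← hcd]; exact m1)
  have y2 : χ (u + b₁) (b + u) = χ u (sg β (χ w b₁) w b₁ (b + u)) := by
    have := h.actχ w hw b₁ t'.m₁ k0 k1 u hu _ m3
    rwa [t'.s₁ h' hw, h'.inv _ (h.perp w hw b₁ t'.m₁)] at this
  rw [← hcd, y1] at y2
  have hne : β (sg β (χ w b₁) w b₁ (b + u)) a₂ = 1 := by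
    have e : β (b + u) w = 1 := by rw [h.addl, h'.perp' hw hb, t'.wu, zero_add]
    have e' : β (b + u) b₁ = 0 := by rw [h.addl, hbb, t'.w₁, p₁]; decide
    rw [sg, e, e', sm_one, sm_zero, p₁, sm_one, add_zero, h.addl, h.addl, h.addl, hba₂, h.perp u hu _ t.m₂, d₂,
      t.w₂, x₂]
    decide
  have f0 : sg β (χ w b₁) w b₁ (b + u) ≠ 0 := by
    intro e
    rw [e, h'.zl] at hne
    exact absurd hne (by decide)
  have f1 : sg β (χ w b₁) w b₁ (b + u) ≠ u := by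
    intro e
    rw [e, h.perp u hu _ t.m₂] at hne
    exact absurd hne (by decide)
  rw [h1 _ m3 f0 f1] at y2
  exact absurd y2 (by decide)

/-- **(1.2)** no mixed pairs -/
theorem Full.no_mixed (h : Full D β B χ) (hu : u ∈ D) (hw : w ∈ D) (huw : β u w = 1) (h1 : Typ1 β B χ u) :
    Typ1 β B χ w := by
  have h' := h.toData
  rcases h.typ_cases hw (w := u) (by rw [h'.symm]; exact huw) with h2 | ⟨b₁, b₂, b₃, t', p₁, p₂, p₃⟩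
  · exact h2
  exfalso
  obtain ⟨a₁, a₂, a₃, t⟩ := h.exists_tri hu huw
  have tr := t.rot h'
  have trr := tr.rot h'
  obtain ⟨n0, n1⟩ := t.ne₁ h' hu
  obtain ⟨n0', n1'⟩ := tr.ne₁ h' hu
  obtain ⟨n0'', n1''⟩ := trr.ne₁ h' hu
  have x₁ : χ u a₁ = 1 := h1 _ t.m₁ n0 n1
  have x₂ : χ u a₂ = 1 := h1 _ t.m₂ n0' n1'
  have x₃ : χ u a₃ = 1 := h1 _ t.m₃ n0'' n1''
  have s₁ : β a₁ b₁ + β a₂ b₁ + β a₃ b₁ = 1 := by
    rw [← h.addl, ← h.addl, t.sum, t'.w₁, p₁]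
  rcases z2 (β a₁ b₁) with c₁ | c₁ <;> rcases z2 (β a₂ b₁) with c₂ | c₂ <;> rcases z2 (β a₃ b₁) with c₃ | c₃ <;>
    rw [c₁, c₂, c₃] at s₁
  · exact absurd s₁ (by decide)
  · exact h.no_mixed_aux hu hw trr t' h1 p₁ p₂ p₃ c₃ c₁ c₂
  · exact h.no_mixed_aux hu hw tr t' h1 p₁ p₂ p₃ c₂ c₃ c₁
  · exact absurd s₁ (by decide)
  · exact h.no_mixed_aux hu hw t t' h1 p₁ p₂ p₃ c₁ c₂ c₃
  · exact absurd s₁ (by decide)
  · exact absurd s₁ (by decide)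
  · -- column 1 is `(111)`: all rows are `(100)`
    have rows : ∀ {a₁ a₂ a₃ : N}, TriX β χ (B u) u w a₁ a₂ a₃ → χ u a₁ = 1 → χ u a₂ = 1 → β a₁ b₁ = 1 →
        β a₂ b₁ = 1 → β a₁ b₂ = 0 ∧ β a₁ b₃ = 0 := by
      intro a₁ a₂ a₃ t x₁ x₂ c₁ c₂
      have q := t'.row h' a₁
      rw [h'.symm a₁ w, t.w₁, x₁, c₁] at q
      rcases z2 (β a₁ b₂) with e₂ | e₂ <;> rcases z2 (β a₁ b₃) with e₃ | e₃ <;> rw [e₂, e₃] at q
      · exact ⟨e₂, e₃⟩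
      · exact absurd q (by decide)
      · exact absurd q (by decide)
      · exfalso
        have h3 := (h.ee hu hw t t' x₁ p₁ c₁ (by rw [e₂, p₂, add_zero]) (by rw [e₃, p₃, add_zero])).2.1
        rw [c₂, x₂] at h3
        exact absurd h3 (by decide)
    have r₁ := rows t x₁ x₂ c₁ c₂
    have r₂ := rows tr x₂ x₃ c₂ c₃
    have r₃ := rows trr x₃ x₁ c₃ c₁
    refine h.zero hw hu (t'.rot h') t p₂ ?_ ?_ ?_
    · rw [h'.symm]; exact r₁.1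
    · rw [h'.symm]; exact r₂.1
    · rw [h'.symm]; exact r₃.1

/-- (1.3) (i) -/
theorem Full.case_i (h : Full D β B χ) (hu : u ∈ D) (hw : w ∈ D) (t : TriX β χ (B u) u w a₁ a₂ a₃)
    (t' : TriX β χ (B w) w u b₁ b₂ b₃) (x₁ : χ u a₁ = 1) (x₂ : χ u a₂ = 0) (x₃ : χ u a₃ = 0) (p₁ : χ w b₁ = 1)
    (p₂ : χ w b₂ = 0) (p₃ : χ w b₃ = 0) (m₁₁ : β a₁ b₁ = 1) (m₁₂ : β a₁ b₂ = 1) (m₁₃ : β a₁ b₃ = 1)
    (m₂₁ : β a₂ b₁ = 1) (m₂₂ : β a₂ b₂ = 1) (m₂₃ : β a₂ b₃ = 0) : b₂ ∈ B u := by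
  have h' := h.toData
  have hc := t.c_mem h' hu hw
  have e := h.ee hu hw t t' x₁ p₁ m₁₁ (by rw [m₁₂, p₂, add_zero]) (by rw [m₁₃, p₃, add_zero])
  have hC := e.1
  have ub₂ : β u b₂ = 0 := by rw [t'.w₂, p₂]
  have ub₃ : β u b₃ = 0 := by rw [t'.w₃, p₃]
  have wa₂ : β w a₂ = 0 := by rw [t.w₂, x₂]
  have hX : b₂ + u ∈ B (w + a₁) := by
    have := t.c_B h' hu hw t'.m₂
    rwa [sg, h'.symm b₂ u, ub₂, h'.symm b₂ a₁, m₁₂, sm_zero, sm_one, add_zero] at this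
  have hY : b₃ + u ∈ B (w + a₁) := by
    have := t.c_B h' hu hw t'.m₃
    rwa [sg, h'.symm b₃ u, ub₃, h'.symm b₃ a₁, m₁₃, sm_zero, sm_one, add_zero] at this
  have hZ : a₂ + w ∈ B (u + b₁) := by
    have := t'.c_B h' hw hu t.m₂
    rwa [sg, h'.symm a₂ w, wa₂, m₂₁, sm_zero, sm_one, add_zero] at this
  have f1 : β (a₂ + w) (b₃ + u) = 1 := by
    rw [h.addl, h.addr, h.addr, m₂₃, h'.perp' hu t.m₂, h.perp w hw _ t'.m₃, t.wu]; decide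
  have f2 : β (a₂ + w) (b₂ + u) = 0 := by
    rw [h.addl, h.addr, h.addr, m₂₂, h'.perp' hu t.m₂, h.perp w hw _ t'.m₂, t.wu]; decide
  have hcd : u + b₁ = w + a₁ := by
    rcases hC with h2 | h2
    · exact h2
    · exfalso
      rw [h2 _ hZ _ hY] at f1
      exact absurd f1 (by decide)
  rw [hcd] at hZ
  have f3 : β (b₂ + u) (b₃ + u) = 1 := by
    rw [h.addl, h.addr, h.addr, t'.c₂₃, h'.symm b₂ u, ub₂, ub₃, h.alt]; decide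
  have h3 := h'.cov hc hX hY f3 hZ
  rw [f1, f2] at h3
  simp only [sm_one, sm_zero, add_zero] at h3
  rcases h3 with h3 | h3
  · exfalso
    have f4 : β (a₂ + w) w = 0 := by rw [h.addl, h.alt, h'.symm, wa₂, zero_add]
    rw [h3, h.addl, h'.perp' hw t'.m₂, t'.wu] at f4
    exact absurd f4 (by decide)
  · have h4 : b₂ = u + a₁ + a₂ := by
      calc b₂ = (b₂ + u + (w + a₁)) + (u + w + a₁) := by
            rw [show (b₂ + u + (w + a₁)) + (u + w + a₁) = b₂ + (u + u) + (w + w) + (a₁ + a₁) by abel, h.two, h.two,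
              h.two, add_zero, add_zero, add_zero]
        _ = (a₂ + w) + (u + w + a₁) := by rw [h3]
        _ = u + a₁ + a₂ + (w + w) := by abel
        _ = _ := by rw [h.two, add_zero]
    rw [h4]
    exact add_mem (add_mem (h.mem u hu) t.m₁) t.m₂

/-- (1.3) (ii) -/
theorem Full.case_ii (h : Full D β B χ) (hu : u ∈ D) (hw : w ∈ D) (t : TriX β χ (B u) u w a₁ a₂ a₃)
    (t' : TriX β χ (B w) w u b₁ b₂ b₃) (x₁ : χ u a₁ = 1) (x₂ : χ u a₂ = 0) (x₃ : χ u a₃ = 0) (p₁ : χ w b₁ = 1)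
    (p₂ : χ w b₂ = 0) (m₁₂ : β a₁ b₂ = 1) (m₂₂ : β a₂ b₂ = 1) (m₃₁ : β a₃ b₁ = 1) (m₃₂ : β a₃ b₂ = 0) :
    b₂ ∈ B u := by
  have h' := h.toData
  have t3 := (t.rot h').rot h'
  have t'2 := t'.rot h'
  obtain ⟨n0, n1⟩ := t.ne₁ h' hu
  obtain ⟨k0, k1⟩ := t'.ne₁ h' hw
  have ub₂ : β u b₂ = 0 := by rw [t'.w₂, p₂]
  have wa₃ : β w a₃ = 0 := by rw [t.w₃, x₃]
  have wa₁ : β w a₁ = 1 := by rw [t.w₁, x₁]
  -- `a₃ ∈ D`
  have D1 : w + a₃ ∈ D := t3.c_mem h' hu hw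
  have E1 : sg β (χ w b₁) w b₁ (w + a₃) = a₃ := by
    rw [sg, h.addl, h.addl, h.alt, h'.symm a₃ w, wa₃, h.perp w hw _ t'.m₁, m₃₁]
    simp only [add_zero, zero_add, sm_zero, sm_one]
    rw [add_comm w a₃, add_assoc, h.two, add_zero]
  have D2 : a₃ ∈ D := by
    rw [← E1]; exact h.act w hw b₁ t'.m₁ k0 k1 _ D1
  have M1 : b₂ ∈ B (w + a₃) := by
    have := t3.c_B h' hu hw t'.m₂
    rwa [sg, h'.symm b₂ u, ub₂, h'.symm b₂ a₃, m₃₂, sm_zero, sm_zero, add_zero, add_zero] at this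
  have M2 : b₂ + w ∈ B a₃ := by
    have := h.actB w hw b₁ t'.m₁ k0 k1 _ D1 _ M1
    rwa [E1, sg, h'.perp' hw t'.m₂, h'.symm b₂ b₁, t'.c₁₂, sm_zero, sm_one, add_zero] at this
  -- `b₂ ∈ D`
  have D3 : u + b₂ ∈ D := t'2.c_mem h' hw hu
  have E2 : sg β (χ u a₁) u a₁ (u + b₂) = b₂ := by
    rw [sg, h.addl, h.addl, h.alt, h'.symm b₂ u, ub₂, h.perp u hu _ t.m₁, h'.symm b₂ a₁, m₁₂]
    simp only [add_zero, zero_add, sm_zero, sm_one]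
    rw [add_comm u b₂, add_assoc, h.two, add_zero]
  have D4 : b₂ ∈ D := by
    rw [← E2]; exact h.act u hu a₁ t.m₁ n0 n1 _ D3
  have M3 : a₃ ∈ B (u + b₂) := by
    have := t'2.c_B h' hw hu t.m₃
    rwa [sg, h'.symm a₃ w, wa₃, m₃₂, sm_zero, sm_zero, add_zero, add_zero] at this
  have M4 : a₃ + u ∈ B b₂ := by
    have := h.actB u hu a₁ t.m₁ n0 n1 _ D3 _ M3
    rwa [E2, sg, h'.perp' hu t.m₃, h'.symm a₃ a₁, t.c₁₃, sm_zero, sm_one, add_zero] at this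
  -- `a₃ ⊥ B b₂`
  have hperp : ∀ x ∈ B b₂, β a₃ x = 0 := by
    intro x hx
    rw [← E2] at hx
    have h1 := h'.actB' hu t.m₁ n0 n1 D3 hx
    have h2 := t'2.c_B' h' hw hu h1
    rw [← h'.isom (χ u a₁) (h.perp u hu a₁ t.m₁), ← h'.isom (χ w b₂) (h.perp w hw b₂ t'.m₂)]
    have F1 : sg β (χ u a₁) u a₁ a₃ = a₃ + u := by
      rw [sg, h'.perp' hu t.m₃, h'.symm a₃ a₁, t.c₁₃, sm_zero, sm_one, add_zero]
    have F2 : sg β (χ w b₂) w b₂ (a₃ + u) = a₃ + u + b₂ := by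
      rw [sg, h.addl, h.addl, h'.symm a₃ w, wa₃, t'.wu, m₃₂, ub₂, p₂]
      simp only [add_zero, zero_add, sm_zero, sm_one]
    rw [F1, F2]
    refine t.perp h' ?_ ?_ ?_ h2
    · rw [h.addl, h.addl, h'.symm a₃ a₁, t.c₁₃, h.perp u hu _ t.m₁, h'.symm b₂ a₁, m₁₂]; decide
    · rw [h.addl, h.addl, h'.symm a₃ a₂, t.c₂₃, h.perp u hu _ t.m₂, h'.symm b₂ a₂, m₂₂]; decide
    · rw [h.addl, h.addl, h.alt, h.perp u hu _ t.m₃, h'.symm b₂ a₃, m₃₂]; decide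
  have fin : a₃ = b₂ := by
    by_contra hne
    have h1 := h.sym _ D2 _ D4 hne hperp _ M2 _ M4
    rw [h.addl, h.addr, h.addr, h'.symm b₂ a₃, m₃₂, h'.symm b₂ u, ub₂, wa₃, t.wu] at h1
    exact absurd h1 (by decide)
  rw [← fin]; exact t.m₃

/-- **(1.3)** two elements of type (100) -/
theorem Full.hun (h : Full D β B χ) (hu : u ∈ D) (hw : w ∈ D) (t : TriX β χ (B u) u w a₁ a₂ a₃)
    (t' : TriX β χ (B w) w u b₁ b₂ b₃) (x₁ : χ u a₁ = 1) (x₂ : χ u a₂ = 0) (x₃ : χ u a₃ = 0) (p₁ : χ w b₁ = 1)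
    (p₂ : χ w b₂ = 0) (p₃ : χ w b₃ = 0) :
    (∃ e ∈ B u, e ≠ 0 ∧ e ≠ u ∧ ∀ y ∈ B w, β e y = 0) ∨ b₂ ∈ B u ∨ b₃ ∈ B u := by
  have h' := h.toData
  have hrow : ∀ {a}, β w a = χ u a → β a b₁ + β a b₂ + β a b₃ = χ u a := by
    intro a ha
    rw [t'.row h', h'.symm, ha]
  have r₁ := hrow t.w₁
  have r₂ := hrow t.w₂
  have r₃ := hrow t.w₃
  have hcol : ∀ b, β a₁ b + β a₂ b + β a₃ b = β u b := by
    intro b
    rw [← h.addl, ← h.addl, t.sum]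
  have k₁ := hcol b₁
  have k₂ := hcol b₂
  have k₃ := hcol b₃
  rw [t'.w₁, p₁] at k₁
  rw [t'.w₂, p₂] at k₂
  rw [t'.w₃, p₃] at k₃
  rw [x₁] at r₁
  rw [x₂] at r₂
  rw [x₃] at r₃
  have tf := t.flip h'
  have tf' := t'.flip h'
  have z₂ : ¬ (β a₂ b₁ = 0 ∧ β a₂ b₂ = 0 ∧ β a₂ b₃ = 0) := fun e => h.zero hu hw (t.rot h') t' x₂ e.1 e.2.1 e.2.2
  have z₃ : ¬ (β a₃ b₁ = 0 ∧ β a₃ b₂ = 0 ∧ β a₃ b₃ = 0) := fun e =>
    h.zero hu hw ((t.rot h').rot h') t' x₃ e.1 e.2.1 e.2.2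
  have y₂ : ¬ (β a₁ b₂ = 0 ∧ β a₂ b₂ = 0 ∧ β a₃ b₂ = 0) := fun e => by
    refine h.zero hw hu (t'.rot h') t p₂ ?_ ?_ ?_
    · rw [h'.symm]; exact e.1
    · rw [h'.symm]; exact e.2.1
    · rw [h'.symm]; exact e.2.2
  have y₃ : ¬ (β a₁ b₃ = 0 ∧ β a₂ b₃ = 0 ∧ β a₃ b₃ = 0) := fun e => by
    refine h.zero hw hu ((t'.rot h').rot h') t p₃ ?_ ?_ ?_
    · rw [h'.symm]; exact e.1
    · rw [h'.symm]; exact e.2.1
    · rw [h'.symm]; exact e.2.2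
  -- the seven matrices
  have key : ∀ m₁₁ m₁₂ m₁₃ m₂₁ m₂₂ m₂₃ m₃₁ m₃₂ m₃₃ : ZMod 2, m₁₁ + m₁₂ + m₁₃ = 1 → m₂₁ + m₂₂ + m₂₃ = 0 →
      m₃₁ + m₃₂ + m₃₃ = 0 → m₁₁ + m₂₁ + m₃₁ = 1 → m₁₂ + m₂₂ + m₃₂ = 0 → m₁₃ + m₂₃ + m₃₃ = 0 →
      ¬ (m₂₁ = 0 ∧ m₂₂ = 0 ∧ m₂₃ = 0) → ¬ (m₃₁ = 0 ∧ m₃₂ = 0 ∧ m₃₃ = 0) → ¬ (m₁₂ = 0 ∧ m₂₂ = 0 ∧ m₃₂ = 0) →
      ¬ (m₁₃ = 0 ∧ m₂₃ = 0 ∧ m₃₃ = 0) →
      (m₂₁ = 0 ∧ m₂₂ = 1 ∧ m₂₃ = 1 ∧ m₃₁ = 0 ∧ m₃₂ = 1 ∧ m₃₃ = 1) ∨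
      (m₁₁ = 1 ∧ m₁₂ = 1 ∧ m₁₃ = 1 ∧ m₂₁ = 1 ∧ m₂₂ = 1 ∧ m₂₃ = 0) ∨
      (m₁₁ = 1 ∧ m₁₂ = 1 ∧ m₁₃ = 1 ∧ m₂₁ = 1 ∧ m₂₂ = 0 ∧ m₂₃ = 1) ∨
      (m₁₂ = 1 ∧ m₂₂ = 1 ∧ m₃₁ = 1 ∧ m₃₂ = 0) ∨ (m₁₂ = 1 ∧ m₃₂ = 1 ∧ m₂₁ = 1 ∧ m₂₂ = 0) ∨
      (m₁₃ = 1 ∧ m₂₃ = 1 ∧ m₃₁ = 1 ∧ m₃₃ = 0) ∨ (m₁₃ = 1 ∧ m₃₃ = 1 ∧ m₂₁ = 1 ∧ m₂₃ = 0) := by
    intro m₁₁ m₁₂ m₁₃ m₂₁ m₂₂ m₂₃ m₃₁ m₃₂ m₃₃ R₁ R₂ R₃ K₁ K₂ K₃ Z₂ Z₃ Y₂ Y₃
    rcases z2 m₂₁ with i₁ | i₁ <;> rcases z2 m₂₂ with i₂ | i₂ <;> rcases z2 m₂₃ with i₃ | i₃ <;>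
      rcases z2 m₃₁ with j₁ | j₁ <;> rcases z2 m₃₂ with j₂ | j₂ <;> rcases z2 m₃₃ with j₃ | j₃ <;>
      subst i₁ i₂ i₃ j₁ j₂ j₃ <;> first
      | exact absurd R₂ (by decide)
      | exact absurd R₃ (by decide)
      | exact absurd Z₂ (by decide)
      | exact absurd Z₃ (by decide)
      | (rcases z2 m₁₁ with k₁ | k₁ <;> rcases z2 m₁₂ with k₂ | k₂ <;> rcases z2 m₁₃ with k₃ | k₃ <;>
          subst k₁ k₂ k₃ <;> first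
          | exact absurd R₁ (by decide)
          | exact absurd K₁ (by decide)
          | exact absurd K₂ (by decide)
          | exact absurd K₃ (by decide)
          | exact absurd Y₂ (by decide)
          | exact absurd Y₃ (by decide)
          | decide)
  rcases key _ _ _ _ _ _ _ _ _ r₁ r₂ r₃ k₁ k₂ k₃ z₂ z₃ y₂ y₃ with e | e | e | e | e | e | e
  · left
    obtain ⟨e1, e2, e3, e4, e5, e6⟩ := e
    have f : β (a₂ + a₃) a₂ = 1 := by rw [h.addl, h.alt, h'.symm, t.c₂₃, zero_add]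
    refine ⟨a₂ + a₃, add_mem t.m₂ t.m₃, ?_, ?_, fun y hy => t'.perp h' ?_ ?_ ?_ hy⟩
    · intro h0
      rw [h0, h'.zl] at f
      exact absurd f (by decide)
    · intro h0
      rw [h0, h.perp u hu _ t.m₂] at f
      exact absurd f (by decide)
    · rw [h.addl, e1, e4]; decide
    · rw [h.addl, e2, e5]; decide
    · rw [h.addl, e3, e6]; decide
  · exact Or.inr (Or.inl (h.case_i hu hw t t' x₁ x₂ x₃ p₁ p₂ p₃ e.1 e.2.1 e.2.2.1 e.2.2.2.1 e.2.2.2.2.1 e.2.2.2.2.2))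
  · exact Or.inr (Or.inr (h.case_i hu hw t tf' x₁ x₂ x₃ p₁ p₃ p₂ e.1 e.2.2.1 e.2.1 e.2.2.2.1 e.2.2.2.2.2 e.2.2.2.2.1))
  · exact Or.inr (Or.inl (h.case_ii hu hw t t' x₁ x₂ x₃ p₁ p₂ e.1 e.2.1 e.2.2.1 e.2.2.2))
  · exact Or.inr (Or.inl (h.case_ii hu hw tf t' x₁ x₃ x₂ p₁ p₂ e.1 e.2.1 e.2.2.1 e.2.2.2))
  · exact Or.inr (Or.inr (h.case_ii hu hw t tf' x₁ x₂ x₃ p₁ p₃ e.1 e.2.1 e.2.2.1 e.2.2.2))
  · exact Or.inr (Or.inr (h.case_ii hu hw tf tf' x₁ x₃ x₂ p₁ p₃ e.1 e.2.1 e.2.2.1 e.2.2.2))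

/-- **PATTERN LEMMA**: the three outcomes for a swap pair `(u, w)` -/
theorem Full.pattern (h : Full D β B χ) (hu : u ∈ D) (hw : w ∈ D) (huw : β u w = 1) :
    (Typ1 β B χ u ∧ Typ1 β B χ w) ∨ (∃ e ∈ B u, e ≠ 0 ∧ e ≠ u ∧ ∀ y ∈ B w, β e y = 0) ∨
      ∃ b ∈ B w, b ≠ 0 ∧ b ≠ w ∧ b ∈ B u ∧ χ w b = 0 := by
  have h' := h.toData
  have hwu : β w u = 1 := by rw [h'.symm]; exact huw
  rcases h.typ_cases hu huw with h1 | ⟨a₁, a₂, a₃, t, x₁, x₂, x₃⟩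
  · exact Or.inl ⟨h1, h.no_mixed hu hw huw h1⟩
  rcases h.typ_cases hw hwu with h2 | ⟨b₁, b₂, b₃, t', p₁, p₂, p₃⟩
  · exact Or.inl ⟨h.no_mixed hw hu hwu h2, h2⟩
  right
  rcases h.hun hu hw t t' x₁ x₂ x₃ p₁ p₂ p₃ with h3 | h3 | h3
  · exact Or.inl h3
  · obtain ⟨n0, n1⟩ := (t'.rot h').ne₁ h' hw
    exact Or.inr ⟨b₂, t'.m₂, n0, n1, h3, p₂⟩
  · obtain ⟨n0, n1⟩ := ((t'.rot h').rot h').ne₁ h' hw
    exact Or.inr ⟨b₃, t'.m₃, n0, n1, h3, p₃⟩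

/-- **(1.4)** : a third element `q` of `D`, C to `u`, which swaps with `w`, excludes the third outcome -/
theorem Full.clique (h : Full D β B χ) (hu : u ∈ D) (hw : w ∈ D) (hq : q ∈ D) (hqw : β q w = 1)
    (hC : ∀ x ∈ B q, ∀ y ∈ B u, β x y = 0) (hb : b ∈ B w) (b0 : b ≠ 0) (bw : b ≠ w) (hbu : b ∈ B u)
    (hχ : χ w b = 0) : False := by
  have h' := h.toData
  obtain ⟨b₁, b₂, b₃, t'⟩ := h.exists_tri hw (w := q) (by rw [h'.symm]; exact hqw)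
  obtain ⟨a₁, a₂, a₃, t⟩ := h.exists_tri hq hqw
  have hqq := h.mem q hq
  have qb : β q b = 0 := hC q hqq b hbu
  -- `b` is one of the coordinates
  have main : ∀ {b₁ b₂ b₃ : N}, TriX β χ (B w) w q b₁ b₂ b₃ → b = b₁ ∨ b = b₂ + b₃ → False := by
    intro b₁ b₂ b₃ t' e
    have hb₁ : b = b₁ := by
      rcases e with e | e
      · exact e
      · exfalso
        have h1 : b = b₁ + w := by
          rw [e, ← t'.sum, show b₁ + (b₁ + b₂ + b₃) = b₁ + b₁ + (b₂ + b₃) by abel, h.two, zero_add]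
        have h2 : χ w b₁ = 0 := by rw [← h.chia w hw b₁ t'.m₁, ← h1, hχ]
        rw [h1, h.addr, t'.w₁, h2, t'.wu] at qb
        exact absurd qb (by decide)
    rw [hb₁] at hχ hbu
    refine h.zero hw hq t' t hχ ?_ ?_ ?_
    · rw [h'.symm]; exact hC _ t.m₁ _ hbu
    · rw [h'.symm]; exact hC _ t.m₂ _ hbu
    · rw [h'.symm]; exact hC _ t.m₃ _ hbu
  have tr := t'.rot h'
  have trr := tr.rot h'
  rcases t'.cov b hb with e | e | e | e | e | e | e | e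
  · exact b0 e
  · exact main t' (Or.inl e)
  · exact main tr (Or.inl e)
  · exact main trr (Or.inl e)
  · exact main trr (Or.inr e)
  · exact main tr (Or.inr (by rw [e, add_comm]))
  · exact main t' (Or.inr e)
  · exact bw e

end Cfsg.Agent.Cit.Nil.RTwoM.Blk
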