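import Cfsg.Agent.Cit.Nil.RTwoM.BlkNM

/-!
# `r = 2`, any `m`: nil modules: the theorem `DW.exists_bmod` (CIT-6b-r2-blocks, section 0)
-/

set_option autoImplicit false
set_option linter.style.haveILetI false
set_option linter.unusedSectionVars false
set_option linter.unusedVariables false

namespace Cfsg.Agent.Cit.Nil.RTwoM

open Subgroup Cfsg Cfsg.Agent.Cit

open RTwo (Q3)
open RG (WR CP Ov InO Tr)
open Blk (sm sg sm_zero sm_one z2)

variable {G : Type*} [Group G] {Om : Set (Subgroup G)} {Dl : Set G} {K L M : Subgroup G}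
  {g k l n r s t u v w x y z : G}

namespace Bf

variable {N : Type*} [AddCommGroup N] {φ : N → G} {β : N → N → ZMod 2} {a b c m p q : N}

theorem symm (f : Bf Om Dl φ β) (x y : N) : β x y = β y x := by
  have h1 := f.alt (x + y)
  rw [f.addl, f.addr, f.addr, f.alt, f.alt, zero_add, add_zero] at h1
  have key : ∀ s t : ZMod 2, s + t = 0 → s = t := by decide
  exact key _ _ h1

theorem zl (f : Bf Om Dl φ β) (x : N) : β 0 x = 0 := by
  have h1 := f.addl 0 0 x
  rw [add_zero] at h1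
  exact left_eq_add.1 h1

theorem zr (f : Bf Om Dl φ β) (x : N) : β x 0 = 0 := by rw [f.symm, f.zl]

theorem sml (f : Bf Om Dl φ β) (ε : ZMod 2) (x y : N) : β (sm ε x) y = ε * β x y := by
  rcases z2 ε with rfl | rfl
  · rw [sm_zero, f.zl, zero_mul]
  · rw [sm_one, one_mul]

theorem smr (f : Bf Om Dl φ β) (ε : ZMod 2) (x y : N) : β x (sm ε y) = ε * β x y := by
  rw [f.symm, f.sml, f.symm]

theorem swp (f : Bf Om Dl φ β) (hb : φ b ∈ Dl) : β b p = 1 ↔ Swp Om (φ b) (φ p) := by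
  rw [f.val b hb, sb_one]

variable [Finite G]

theorem inn (f : Bf Om Dl φ β) (d : DW0 Om Dl) (h : WM Om) (M : NM Dl φ) (hb : φ b ∈ Dl) (hp : β b p = 0) :
    Inn Om (φ b) (φ p) := by
  refine (d.fix_or h hb (M.mem p)).resolve_right fun hs => ?_
  rw [← f.swp hb, hp] at hs
  exact absurd hs (by decide)

/-- elements of `R_b` do not swap at `b` -/
theorem perp (f : Bf Om Dl φ β) (d : DW0 Om Dl) (h : WM Om) (hb : φ b ∈ Dl) (hp : φ p ∈ RZ Om (φ b)) : β b p = 0 := by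
  rw [f.val b hb, sb_zero]
  exact DW0.not_both h (d.inZ _ hb) (Inn.of_RZ (d.inZ _ hb) h hp)

/-- the form is invariant -/
theorem inv (f : Bf Om Dl φ β) (d : DW0 Om Dl) (h : WM Om) (M : NM Dl φ) (hg : ∀ c ∈ Dl, g * c * g⁻¹ ∈ Dl)
    (x y : N) : β (cn φ g x) (cn φ g y) = β x y := by
  have cz : cn φ g (0 : N) = 0 := by
    apply M.inj
    rw [M.cn_spec hg, M.zero]; group
  refine M.ind d h (P := fun x => β (cn φ g x) (cn φ g y) = β x y) ?_ ?_ ?_ x
  · rw [cz, f.zl, f.zl]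
  · intro b hb
    refine M.ind d h (P := fun y => β (cn φ g b) (cn φ g y) = β b y) ?_ ?_ ?_ y
    · rw [cz, f.zr, f.zr]
    · intro c hc
      rw [f.val _ (by rw [M.cn_spec hg]; exact hg _ hb), f.val _ hb, M.cn_spec hg, M.cn_spec hg, sb_conj h]
    · intro u v hu hv
      rw [M.cn_add hg, f.addr, f.addr, hu, hv]
  · intro u v hu hv
    rw [M.cn_add hg, f.addl, f.addl, hu, hv]

end Bf

variable [Finite G] {N : Type*} [AddCommGroup N] {φ : N → G} {β : N → N → ZMod 2} {a a' a₁ a₂ b c m p q : N}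
  {h : WM Om}

/-- `y ∈ R_b` moves `n ∈ b^⊥` by `1` or `b` -/
theorem inn_move (h : WM Om) (hz : InZ Om z) (hi : Inn Om z x) (hy : y ∈ RZ Om z) :
    y * x * y⁻¹ = x ∨ y * x * y⁻¹ = x * z := by
  obtain ⟨K, hK⟩ := hz
  obtain ⟨L, hL, hne, -⟩ := hK.other h
  obtain ⟨k, hk, l, hl, rfl⟩ := (mem_RZ hK hL h hne).1 hy
  have hxz := hi.comm_z hK.inZ h
  have hzz := hK.inZ.z2 h
  have hkz := hK.comm_z h hk
  have hlz := hL.comm_z h hl
  have zx : z⁻¹ = z := inv_eq_of_mul_eq_one_right hzz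
  have key : ∀ {k}, (x * k * x⁻¹ = k ∨ x * k * x⁻¹ = z * k) → k * z = z * k →
      k * x * k⁻¹ = x ∨ k * x * k⁻¹ = x * z := by
    intro k h1 hkz
    rcases h1 with h1 | h1
    · left
      rw [mul_inv_eq_iff_eq_mul] at h1 ⊢
      exact h1.symm
    · right
      rw [mul_inv_eq_iff_eq_mul] at h1 ⊢
      calc k * x = (z * z) * (k * x) := by rw [hzz, one_mul]
        _ = z * (z * k * x) := by group
        _ = z * (x * k) := by rw [h1]
        _ = (z * x) * k := by group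
        _ = x * z * k := by rw [hxz]
  have h1 := key (hi K hK k hk) hkz
  have h2 := key (hi L hL l hl) hlz
  have e : k * l * x * (k * l)⁻¹ = k * (l * x * l⁻¹) * k⁻¹ := by group
  rw [e]
  have e2 : k * (x * z) * k⁻¹ = (k * x * k⁻¹) * z := by
    calc k * (x * z) * k⁻¹ = k * x * (z * k⁻¹) := by group
      _ = k * x * (k⁻¹ * z) := by
        rw [show z * k⁻¹ = k⁻¹ * (k * z) * k⁻¹ by group, hkz]; group
      _ = _ := by group
  rcases h2 with h2 | h2
  · rw [h2]; exact h1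
  · rw [h2, e2]
    rcases h1 with h1 | h1
    · right; rw [h1]
    · left; rw [h1, mul_assoc, hzz, mul_one]

/-- a swap is not moved by `z` -/
theorem swp_not_move (h : WM Om) (hs : Swp Om z x) (hz : InZ Om z) (hx : x * x = 1) (hy : y ∈ RZ Om z) :
    y * x * y⁻¹ ≠ x * z := by
  intro h1
  obtain ⟨K, hK⟩ := hz
  have hL := hs.mem h hK
  obtain ⟨k, hk, l, hl, rfl⟩ := (mem_RZ hK hL h (hs.ne hK)).1 hy
  obtain ⟨l', hl', rfl⟩ : ∃ l' ∈ K, x * l' * x⁻¹ = l := hl
  have hzz := hK.inZ.z2 h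
  have hx' : x⁻¹ = x := inv_eq_of_mul_eq_one_right hx
  have hkz := hK.comm_z h hk
  have hlz := hK.comm_z h hl'
  -- `x y x⁻¹ = z y`
  have h2 : x * (k * (x * l' * x⁻¹)) * x⁻¹ = z * (k * (x * l' * x⁻¹)) := by
    rw [mul_inv_eq_iff_eq_mul] at h1
    have hyz : k * (x * l' * x⁻¹) * z = z * (k * (x * l' * x⁻¹)) := by
      rw [mul_assoc, hL.comm_z h (conj_mem_cj hl'), ← mul_assoc, hkz, mul_assoc]
    rw [mul_inv_eq_iff_eq_mul]
    generalize k * (x * l' * x⁻¹) = Y at h1 hyz ⊢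
    -- `Y x = x z Y`
    have h3 : x * Y = (x * Y * x) * x := by
      rw [mul_assoc (x * Y), hx, mul_one]
    calc x * Y = (x * Y * x) * x := h3
      _ = x * (Y * x) * x := by group
      _ = x * (x * z * Y) * x := by rw [h1]
      _ = (x * x) * z * Y * x := by group
      _ = z * Y * x := by rw [hx, one_mul]
  have h3 : x * (k * (x * l' * x⁻¹)) * x⁻¹ = l' * (x * k * x⁻¹) := by
    calc x * (k * (x * l' * x⁻¹)) * x⁻¹ = (x * k * x⁻¹) * ((x * x) * l' * (x * x)⁻¹) := by group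
      _ = (x * k * x⁻¹) * l' := by rw [hx, one_mul, inv_one, mul_one]
      _ = l' * (x * k * x⁻¹) := (hs.cm h hK hl' hk).symm
  rw [h3] at h2
  have h4 : (z * k)⁻¹ * l' = (x * l' * x⁻¹) * (x * k * x⁻¹)⁻¹ := by
    rw [eq_mul_inv_iff_mul_eq, mul_assoc, h2]; group
  have h5 := hs.inf h hK (mul_mem (inv_mem (mul_mem (hK.zmem h) hk)) hl')
    (mul_mem (conj_mem_cj hl') (inv_mem (conj_mem_cj hk))) h4
  have h6 : l' = k ∨ l' = z * k := by
    rcases h5 with h5 | h5
    · right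
      rw [inv_mul_eq_one] at h5
      exact h5.symm
    · left
      rw [inv_mul_eq_iff_eq_mul] at h5
      rw [h5, mul_assoc, hkz, ← mul_assoc, hzz, one_mul]
  have h7 : x * (k * (x * l' * x⁻¹)) = (k * (x * l' * x⁻¹)) * x := by
    rcases h6 with rfl | rfl
    · exact qq_comm hs h hx hK hk
    · have h8 := qq_comm hs h hx hK hk
      have h9 : k * (x * (z * k) * x⁻¹) = z * qq x k := by
        calc k * (x * (z * k) * x⁻¹) = k * ((x * z) * k * x⁻¹) := by group
          _ = k * ((z * x) * k * x⁻¹) := by rw [hs.1]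
          _ = (k * z) * (x * k * x⁻¹) := by group
          _ = (z * k) * (x * k * x⁻¹) := by rw [hkz]
          _ = _ := by rw [qq]; group
      rw [h9]
      calc x * (z * qq x k) = (x * z) * qq x k := by group
        _ = z * (x * qq x k) := by rw [hs.1]; group
        _ = _ := by rw [h8]; group
  have h8 : k * (x * l' * x⁻¹) * x * (k * (x * l' * x⁻¹))⁻¹ = x := by
    rw [mul_inv_eq_iff_eq_mul]; exact h7.symm
  rw [h8] at h1
  exact hK.inZ.z1 h (left_eq_mul.1 h1)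

/-- `qq w k ∈ E` -/
theorem qq_mem_E (d : DW0 Om Dl) (h : WM Om) (hz : z ∈ Dl) (hx : x ∈ closure Dl) (hK : Mem Om z K) (hk : k ∈ K) :
    qq x k ∈ closure Dl := by
  have h1 := d.norm' hz (hK.le_RZ (inv_mem hk)) hx
  have h2 : k * k ∈ closure Dl := by
    rcases hK.sq_cases h hk with h3 | h3 | h3
    · rw [h3, one_mul]; exact one_mem _
    · rw [h3, hK.inZ.z2 h]; exact one_mem _
    · rw [h3]; exact subset_closure hz
  have h3 : qq x k = (k * k) * (k⁻¹ * x * k⁻¹⁻¹) * x⁻¹ := by rw [qq]; group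
  rw [h3]
  exact mul_mem (mul_mem h2 h1) (inv_mem hx)

/-- the elements of `R_b ⊓ E` -/
theorem E_RZ (d : DW0 Om Dl) (h : WM Om) (hz : z ∈ Dl) (hx : x ∈ closure Dl) (hs : Swp Om z x) (hK : Mem Om z K)
    (hr : r ∈ RZ Om z) (hrE : r ∈ closure Dl) : ∃ k ∈ K, r = qq x k ∨ r = z * qq x k :=
  hs.fix h (d.E_sq h hx) hK hr (d.E_comm hx hrE)

/-- `[w, k] = z qq w k`, `k` of order 4 -/
theorem comm_eq_qq (h : WM Om) (hs : Swp Om z x) (hx : x * x = 1) (hK : Mem Om z K) (hk : k ∈ K) (hkk : k * k = z) :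
    k * x * k⁻¹ = x * (z * qq x k) := by
  have h1 := hs.cm h hK hk hk
  have hx' : x⁻¹ = x := inv_eq_of_mul_eq_one_right hx
  have hki := hK.inv_eq h hk hkk
  have hkz := hK.comm_z h hk
  have e1 : x * (z * qq x k) = z * (x * qq x k) := by
    calc x * (z * qq x k) = (x * z) * qq x k := by group
      _ = _ := by rw [hs.1]; group
  rw [e1, qq_comm hs h hx hK hk, hki, qq]
  calc k * x * (z * k) = k * (x * z) * k := by group
    _ = k * (z * x) * k := by rw [hs.1]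
    _ = (k * z) * x * k := by group
    _ = z * (k * (x * k * x⁻¹) * x) := by rw [hkz]; group

/-- `B b = N ⊓ R_b` -/
def Bb (Om : Set (Subgroup G)) (M : NM Dl φ) (b : N) : AddSubgroup N where
  carrier := {n | φ n ∈ RZ Om (φ b)}
  add_mem' := fun {x y} hx hy => by
    change φ (x + y) ∈ RZ Om (φ b)
    rw [M.add]; exact mul_mem hx hy
  zero_mem' := by
    change φ 0 ∈ RZ Om (φ b)
    rw [M.zero]; exact one_mem _
  neg_mem' := fun {x} hx => by
    change φ (-x) ∈ RZ Om (φ b)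
    rw [M.neg]; exact inv_mem hx

theorem mem_Bb {M : NM Dl φ} : p ∈ Bb Om M b ↔ φ p ∈ RZ Om (φ b) := Iff.rfl

/-- `[w, y] ∈ R_b` -/
theorem a_mem (M : NM Dl φ) (d : DW0 Om Dl) (h : WM Om) {w : N} (hb : φ b ∈ Dl) (hy : y ∈ RZ Om (φ b))
    (ha : φ (w + a) = y * φ w * y⁻¹) : φ a ∈ RZ Om (φ b) := by
  have h1 : φ a = ((φ w)⁻¹ * y * (φ w)⁻¹⁻¹) * y⁻¹ := by
    rw [M.add] at ha
    have h2 : φ a = (φ w)⁻¹ * (y * φ w * y⁻¹) := by rw [← ha]; group
    rw [h2]; group
  rw [h1]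
  refine mul_mem (RZ_conj_comm h ?_ hy) (inv_mem hy)
  exact d.E_comm (inv_mem (M.mem w)) (M.mem b)

/-- **(0.4)** -/
theorem formula (M : NM Dl φ) (d : DW0 Om Dl) (h : WM Om) (f : Bf Om Dl φ β) {w : N} (hb : φ b ∈ Dl)
    (hw : β b w = 1) (hy : y ∈ RZ Om (φ b)) (ha : φ (w + a) = y * φ w * y⁻¹) (n : N) :
    φ (sg β (β w a) b a n) = y * φ n * y⁻¹ := by
  have hg := d.norm _ hb y hy
  have two := M.two d h
  have hba : β b a = 0 := f.perp d h hb (a_mem M d h hb hy ha)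
  have cw : cn φ y w = w + a := M.inj _ _ (by rw [M.cn_spec hg, ha])
  have key : ∀ p, β b p = 0 → cn φ y p = p + sm (β p a) b := by
    intro p hp
    have h1 : ∃ ε, cn φ y p = p + sm ε b := by
      rcases inn_move h (d.inZ _ hb) (f.inn d h M hb hp) hy with h2 | h2
      · refine ⟨0, ?_⟩
        rw [sm_zero, add_zero]
        apply M.inj
        rw [M.cn_spec hg, h2]
      · refine ⟨1, ?_⟩
        rw [sm_one]
        apply M.inj
        rw [M.cn_spec hg, h2, M.add]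
    obtain ⟨ε, hε⟩ := h1
    have h2 := f.inv d h M hg p w
    rw [hε, cw, f.addl, f.addr, f.addr, f.sml, f.sml, hw, hba] at h2
    have key2 : ∀ s t ε : ZMod 2, s + t + (ε * 1 + ε * 0) = s → ε = t := by decide
    have h3 : ε = β p a := key2 _ _ _ h2
    rw [hε, h3]
  rw [← M.cn_spec hg]
  congr 1
  rcases z2 (β b n) with h1 | h1
  · rw [key n h1, sg, f.symm n b, h1, sm_zero, add_zero]
  · have h2 : β b (n + w) = 0 := by rw [f.addr, h1, hw]; decide
    have h3 := key _ h2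
    rw [M.cn_add hg, cw, f.addl] at h3
    rw [sg, f.symm n b, h1, sm_one]
    have h4 : cn φ y n = n + w + sm (β n a + β w a) b + (w + a) := by
      rw [← h3, add_assoc, two, add_zero]
    rw [h4]
    have h5 : sm (β n a + β w a) b = sm (β n a) b + sm (β w a) b := by
      rcases z2 (β n a) with h6 | h6 <;> rcases z2 (β w a) with h7 | h7 <;> rw [h6, h7]
      · simp
      · simp
      · simp
      · rw [sm_one, two, show (1 : ZMod 2) + 1 = 0 by decide, sm_zero]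
    rw [h5]
    calc n + (a + sm (β w a) b) + sm (β n a) b = n + a + sm (β w a) b + sm (β n a) b + 0 := by abel
      _ = n + a + sm (β w a) b + sm (β n a) b + (w + w) := by rw [two]
      _ = _ := by abel

/-- `sg` depends on `a` modulo `b` only -/
theorem sg_addb (M : NM Dl φ) (d : DW0 Om Dl) (h : WM Om) (f : Bf Om Dl φ β) (ε : ZMod 2) (n : N) :
    sg β ε b (a + b) n = sg β ε b a n := by
  have two := M.two d h
  rw [sg, sg, f.addr]
  rcases z2 (β n b) with h1 | h1 <;> rw [h1]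
  · rw [add_zero]; simp
  · rcases z2 (β n a) with h2 | h2 <;> rw [h2]
    · simp only [sm_one, zero_add, sm_zero, add_zero]
      calc n + (a + b + sm ε b) + b = n + (a + sm ε b) + (b + b) := by abel
        _ = _ := by rw [two, add_zero]
    · rw [show (1 : ZMod 2) + 1 = 0 by decide]
      simp only [sm_one, sm_zero, add_zero]
      abel

/-- `y` and `a` belong to each other -/
def Rel (Om : Set (Subgroup G)) (φ : N → G) (β : N → N → ZMod 2) (b a w a' : N) (y : G) : Prop :=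
  y ∈ RZ Om (φ b) ∧ β b w = 1 ∧ (a' = a ∨ a' = a + b) ∧ φ (w + a') = y * φ w * y⁻¹

theorem Rel.sg {w : N} (r : Rel Om φ β b a w a' y) (M : NM Dl φ) (d : DW0 Om Dl) (h : WM Om) (f : Bf Om Dl φ β)
    (hb : φ b ∈ Dl) (n : N) : φ (sg β (β w a') b a n) = y * φ n * y⁻¹ := by
  obtain ⟨h1, h2, h3, h4⟩ := r
  have h5 := formula M d h f hb h2 h1 h4 n
  rcases h3 with h3 | h3
  · rw [h3] at h5 ⊢; exact h5
  · rw [← h5]
    conv_rhs => rw [h3]
    rw [sg_addb M d h f, h3]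

theorem Rel.uniq {w w' : N} {y' : G} (r : Rel Om φ β b a w a₁ y) (r' : Rel Om φ β b a w' a₂ y') (M : NM Dl φ)
    (d : DW0 Om Dl) (h : WM Om) (f : Bf Om Dl φ β) (hb : φ b ∈ Dl) : β w a₁ = β w' a₂ := by
  by_contra hne
  have h1 := r.sg M d h f hb w
  have h2 := r'.sg M d h f hb w
  have hwb : β w b = 1 := by rw [f.symm]; exact r.2.1
  have two := M.two d h
  -- the two values differ by `b`
  have h3 : Blk.sg β (β w a₁) b a w = Blk.sg β (β w' a₂) b a w + b := by
    rw [Blk.sg, Blk.sg, hwb, sm_one, sm_one]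
    rcases z2 (β w a₁) with e1 | e1 <;> rcases z2 (β w' a₂) with e2 | e2
    · rw [e1, e2] at hne; exact absurd rfl hne
    · rw [e1, e2, sm_zero, sm_one]
      calc w + (a + 0) + sm (β w a) b = w + a + sm (β w a) b + 0 := by abel
        _ = w + a + sm (β w a) b + (b + b) := by rw [two]
        _ = _ := by abel
    · rw [e1, e2, sm_zero, sm_one]
      abel
    · rw [e1, e2] at hne; exact absurd rfl hne
  have h4 : y * φ w * y⁻¹ = y' * φ w * y'⁻¹ * φ b := by
    rw [← h1, ← h2, h3, M.add]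
  refine swp_not_move h ((f.swp hb).1 r.2.1) (d.inZ _ hb) (d.E_sq h (M.mem w)) (mul_mem (inv_mem r'.1) r.1) ?_
  have hyb : y' * φ b = φ b * y' := RZ_le_centralizer h r'.1
  calc y'⁻¹ * y * φ w * (y'⁻¹ * y)⁻¹ = y'⁻¹ * (y * φ w * y⁻¹) * y' := by group
    _ = y'⁻¹ * (y' * φ w * y'⁻¹ * φ b) * y' := by rw [h4]
    _ = φ w * y'⁻¹ * (φ b * y') := by group
    _ = φ w * y'⁻¹ * (y' * φ b) := by rw [hyb]
    _ = _ := by group

/-- truth value -/
noncomputable def bit (p : Prop) : ZMod 2 := by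
  classical exact if p then 1 else 0

theorem bit_pos {p : Prop} (hp : p) : bit p = 1 := by
  unfold bit; exact if_pos hp

theorem bit_neg {p : Prop} (hp : ¬ p) : bit p = 0 := by
  unfold bit; exact if_neg hp

theorem bit_congr {p q : Prop} (hpq : p ↔ q) : bit p = bit q := by rw [propext hpq]

/-- the type function -/
noncomputable def chi (Om : Set (Subgroup G)) (φ : N → G) (β : N → N → ZMod 2) (b a : N) : ZMod 2 :=
  bit (∃ w a' y, Rel Om φ β b a w a' y ∧ β w a' = 1)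

theorem Rel.chi {w : N} (r : Rel Om φ β b a w a' y) (M : NM Dl φ) (d : DW0 Om Dl) (h : WM Om) (f : Bf Om Dl φ β)
    (hb : φ b ∈ Dl) : chi Om φ β b a = β w a' := by
  unfold RTwoM.chi
  by_cases h1 : ∃ w a' y, Rel Om φ β b a w a' y ∧ β w a' = 1
  · rw [bit_pos h1]
    obtain ⟨w', a₂, y', r', h2⟩ := h1
    rw [← h2]
    exact r'.uniq r M d h f hb
  · rw [bit_neg h1]
    rcases z2 (β w a') with h2 | h2
    · exact h2.symm
    · exact absurd ⟨w, a', y, r, h2⟩ h1

theorem chi_addb (M : NM Dl φ) (d : DW0 Om Dl) (h : WM Om) : chi Om φ β b (a + b) = chi Om φ β b a := by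
  have two := M.two d h
  have key : ∀ {w a' : N} {y}, Rel Om φ β b (a + b) w a' y ↔ Rel Om φ β b a w a' y := by
    intro w a' y
    have h1 : (a' = a + b ∨ a' = a + b + b) ↔ (a' = a ∨ a' = a + b) := by
      rw [add_assoc, two, add_zero]; exact or_comm
    unfold Rel
    rw [h1]
  refine bit_congr ⟨?_, ?_⟩
  · rintro ⟨w, a', y, r, h1⟩
    exact ⟨w, a', y, key.1 r, h1⟩
  · rintro ⟨w, a', y, r, h1⟩
    exact ⟨w, a', y, key.2 r, h1⟩

theorem exists_rel (M : NM Dl φ) (d : DW0 Om Dl) (h : WM Om) (f : Bf Om Dl φ β) (hb : φ b ∈ Dl) {w : N}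
    (hw : β b w = 1) (hK : Mem Om (φ b) K) (hk : k ∈ K) (hkk : k * k = φ b)
    (ha : φ a = qq (φ w) k ∨ φ a = φ b * qq (φ w) k) :
    ∃ a', Rel Om φ β b a w a' k ∧ φ a' = φ b * qq (φ w) k := by
  have hs := (f.swp hb).1 hw
  have h1 := comm_eq_qq h hs (d.E_sq h (M.mem w)) hK hk hkk
  have h2 : ∃ a', (a' = a ∨ a' = a + b) ∧ φ a' = φ b * qq (φ w) k := by
    rcases ha with h2 | h2
    · refine ⟨a + b, Or.inr rfl, ?_⟩
      rw [M.add, d.E_comm (M.mem a) (M.mem b), h2]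
    · exact ⟨a, Or.inl rfl, h2⟩
  obtain ⟨a', h3, h4⟩ := h2
  refine ⟨a', ⟨hK.le_RZ hk, hw, h3, ?_⟩, h4⟩
  rw [M.add, h4, h1]

theorem Bb_cases (M : NM Dl φ) (d : DW0 Om Dl) (h : WM Om) (f : Bf Om Dl φ β) (hb : φ b ∈ Dl) {w : N}
    (hw : β b w = 1) (hK : Mem Om (φ b) K) (ha : φ a ∈ RZ Om (φ b)) (a0 : a ≠ 0) (ab : a ≠ b) :
    ∃ k ∈ K, k * k = φ b ∧ (φ a = qq (φ w) k ∨ φ a = φ b * qq (φ w) k) := by
  have hs := (f.swp hb).1 hw
  obtain ⟨k, hk, h1⟩ := E_RZ d h hb (M.mem w) hs hK ha (M.mem a)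
  refine ⟨k, hk, ?_, h1⟩
  have h2 : ¬ qq (φ w) k = 1 := by
    intro h3
    rw [h3, mul_one] at h1
    rcases h1 with h1 | h1
    · exact a0 (M.inj _ _ (by rw [h1, M.zero]))
    · exact ab (M.inj _ _ h1)
  rcases hK.sq_cases h hk with h3 | h3 | h3
  · exact absurd (by rw [h3, qq_one]) h2
  · exact absurd (by rw [h3, qq_z hs hK.inZ h]) h2
  · exact h3

theorem qq_comm_of (M : NM Dl φ) (d : DW0 Om Dl) (h : WM Om) (f : Bf Om Dl φ β) (hb : φ b ∈ Dl) {w : N}
    (hw : β b w = 1) (hK : Mem Om (φ b) K) (hk : k ∈ K) (hkk : k * k = φ b) (hl : l ∈ K)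
    (ha : φ a = qq (φ w) k ∨ φ a = φ b * qq (φ w) k) (ha' : φ a' = qq (φ w) l ∨ φ a' = φ b * qq (φ w) l)
    (haa : β a' a = 0) : k * l = l * k := by
  have hs := (f.swp hb).1 hw
  obtain ⟨a₁, r, -⟩ := exists_rel M d h f hb hw hK hk hkk ha
  have h1 := r.sg M d h f hb a'
  have hR : φ a' ∈ RZ Om (φ b) := by
    rcases ha' with h2 | h2
    · rw [h2]; exact qq_mem hs h hK hl
    · rw [h2]; exact mul_mem (z_mem_RZ (d.inZ _ hb) h) (qq_mem hs h hK hl)
  have h2 : β a' b = 0 := by rw [f.symm]; exact f.perp d h hb hR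
  rw [Blk.sg, h2, haa, sm_zero, sm_zero, add_zero, add_zero] at h1
  have h3 : k * φ a' = φ a' * k := by
    rw [eq_mul_inv_iff_mul_eq] at h1; exact h1.symm
  have hkz := hK.comm_z h hk
  have hzz := hK.inZ.z2 h
  have h4 : k * qq (φ w) l = qq (φ w) l * k := by
    rcases ha' with h5 | h5
    · rw [h5] at h3; exact h3
    · rw [h5] at h3
      have h6 : qq (φ w) l = φ b * (φ b * qq (φ w) l) := by rw [← mul_assoc, hzz, one_mul]
      rw [h6]
      calc k * (φ b * (φ b * qq (φ w) l)) = (k * φ b) * (φ b * qq (φ w) l) := by group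
        _ = φ b * (k * (φ b * qq (φ w) l)) := by rw [hkz]; group
        _ = _ := by rw [h3]; group
  have h5 := hs.cm h hK hk hl
  rw [qq] at h4
  have h6 : (k * l) * (φ w * l * (φ w)⁻¹) = (l * k) * (φ w * l * (φ w)⁻¹) := by
    calc (k * l) * (φ w * l * (φ w)⁻¹) = k * (l * (φ w * l * (φ w)⁻¹)) := by group
      _ = l * (φ w * l * (φ w)⁻¹) * k := h4
      _ = l * (k * (φ w * l * (φ w)⁻¹)) := by rw [h5]; group
      _ = _ := by group
  exact mul_right_cancel h6

/-- every element of `B b` outside `⟨b⟩` belongs to a coset of `R_b` -/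
theorem rel_of_mem (M : NM Dl φ) (d : DW Om Dl) (h : WM Om) (f : Bf Om Dl φ β) (hb : φ b ∈ Dl)
    (ha : φ a ∈ RZ Om (φ b)) (a0 : a ≠ 0) (ab : a ≠ b) : ∃ w a' y, φ w ∈ Dl ∧ Rel Om φ β b a w a' y := by
  obtain ⟨K, hK⟩ := d.inZ _ hb
  obtain ⟨w', hw', hs⟩ := d.sw _ hb
  obtain ⟨w, rfl⟩ := M.sur w' (subset_closure hw')
  have hw := (f.swp hb).2 hs
  obtain ⟨k, hk, hkk, h1⟩ := Bb_cases M d.toDW0 h f hb hw hK ha a0 ab
  obtain ⟨a', r, -⟩ := exists_rel M d.toDW0 h f hb hw hK hk hkk h1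
  exact ⟨w, a', k, hw', r⟩

/-- **the C-criterion (0.6)** -/
theorem cp_crit (M : NM Dl φ) (d : DW Om Dl) (h : WM Om) (f : Bf Om Dl φ β) (hb : φ b ∈ Dl) (hc : φ c ∈ Dl)
    (hbc : b ≠ c) (hx : ∀ x, φ x ∈ RZ Om (φ c) → β b x = 0) : CP Om (φ b) (φ c) := by
  obtain ⟨K, hK⟩ := d.inZ _ hc
  obtain ⟨w', hw', hs⟩ := d.sw _ hc
  obtain ⟨w, rfl⟩ := M.sur w' (subset_closure hw')
  have hw := (f.swp hc).2 hs
  have hne : φ c ≠ φ b := fun h1 => hbc (M.inj _ _ h1.symm)
  refine (cp_of_cen h hK (d.inZ _ hb) hne fun y hy => ?_).symm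
  have hyR := hK.le_RZ hy
  obtain ⟨a, ha⟩ : ∃ a, φ (w + a) = y * φ w * y⁻¹ := by
    obtain ⟨p, hp⟩ := M.sur _ (d.norm' hc hyR (M.mem w))
    refine ⟨-w + p, ?_⟩
    rw [add_neg_cancel_left, hp]
  have h1 := formula M d.toDW0 h f hc hw hyR ha b
  have h2 : β b c = 0 := hx c (z_mem_RZ (d.inZ _ hc) h)
  have h3 : β b a = 0 := hx a (a_mem M d.toDW0 h hc hyR ha)
  rw [Blk.sg, h2, h3, sm_zero, sm_zero, add_zero, add_zero, eq_mul_inv_iff_mul_eq] at h1
  exact h1

/-- **nil modules** -/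
structure BMod (Om : Set (Subgroup G)) (Dl : Set G) {N : Type*} [AddCommGroup N] (φ : N → G) (β : N → N → ZMod 2)
    (B : N → AddSubgroup N) (χ : N → N → ZMod 2) : Prop extends NM Dl φ, Bf Om Dl φ β where
  memB : ∀ b p, p ∈ B b ↔ φ p ∈ RZ Om (φ b)
  chi_eq : ∀ b, φ b ∈ Dl → ∀ w, β b w = 1 → ∀ y ∈ RZ Om (φ b), ∀ a, φ (w + a) = y * φ w * y⁻¹ → χ b a = β w a
  sg_eq : ∀ b, φ b ∈ Dl → ∀ w, β b w = 1 → ∀ y ∈ RZ Om (φ b), ∀ a, φ (w + a) = y * φ w * y⁻¹ →
    ∀ n, φ (sg β (χ b a) b a n) = y * φ n * y⁻¹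
  full : Blk.Full {b | φ b ∈ Dl} β B χ

/-- **the block data of a nil module** -/
theorem full_of (M : NM Dl φ) (d : DW Om Dl) (h : WM Om) (f : Bf Om Dl φ β) :
    Blk.Full {b | φ b ∈ Dl} β (Bb Om M) (chi Om φ β) := by
  have d0 := d.toDW0
  have two := M.two d0 h
  have sgy : ∀ b, φ b ∈ Dl → ∀ a ∈ Bb Om M b, a ≠ 0 → a ≠ b → ∃ y ∈ RZ Om (φ b), ∀ n,
      φ (sg β (chi Om φ β b a) b a n) = y * φ n * y⁻¹ := by
    intro b hb a ha a0 ab
    obtain ⟨w, a', y, -, r⟩ := rel_of_mem M d h f hb ha a0 ab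
    refine ⟨y, r.1, fun n => ?_⟩
    rw [r.chi M d0 h f hb]
    exact r.sg M d0 h f hb n
  -- a swap partner in `N`
  have swN : ∀ b, φ b ∈ Dl → ∃ w, φ w ∈ Dl ∧ β b w = 1 := by
    intro b hb
    obtain ⟨w', hw', hs⟩ := d.sw _ hb
    obtain ⟨w, rfl⟩ := M.sur w' (subset_closure hw')
    exact ⟨w, hw', (f.swp hb).2 hs⟩
  have hperp : ∀ b, φ b ∈ Dl → ∀ a ∈ Bb Om M b, β b a = 0 := fun b hb a ha => f.perp d0 h hb ha
  refine
    { two := two
      addl := f.addl
      addr := f.addr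
      alt := f.alt
      ne := ?_
      mem := fun b hb => z_mem_RZ (d.inZ _ hb) h
      perp := hperp
      nd := ?_
      bas := ?_
      sw := ?_
      act := ?_
      actB := ?_
      sym := ?_
      chia := fun b _ a _ => chi_addb M d0 h
      chis := ?_
      actχ := ?_ }
  · rintro b hb rfl
    exact (d.inZ _ hb).z1 h M.zero
  · -- nd
    intro b hb a ha a' ha' haa
    by_cases a0 : a = 0
    · exact Or.inl a0
    by_cases ab : a = b
    · exact Or.inr (Or.inl ab)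
    by_cases a0' : a' = 0
    · exact Or.inr (Or.inr (Or.inl a0'))
    by_cases ab' : a' = b
    · exact Or.inr (Or.inr (Or.inr (Or.inl ab')))
    obtain ⟨K, hK⟩ := d.inZ _ hb
    obtain ⟨w, hwD, hw⟩ := swN b hb
    have hs := (f.swp hb).1 hw
    obtain ⟨k, hk, hkk, h1⟩ := Bb_cases M d0 h f hb hw hK ha a0 ab
    obtain ⟨l, hl, hll, h2⟩ := Bb_cases M d0 h f hb hw hK ha' a0' ab'
    have h3 := qq_comm_of M d0 h f hb hw hK hk hkk hl h1 h2 (by rw [f.symm]; exact haa)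
    have hbb := hK.inZ.z2 h
    have h4 : qq (φ w) l = qq (φ w) k := by
      rcases hK.of_comm h hk hkk hl h3 with h4 | h4 | h4 | h4
      · rw [h4, one_mul] at hll; exact absurd hll.symm (hK.inZ.z1 h)
      · rw [h4, hbb] at hll; exact absurd hll.symm (hK.inZ.z1 h)
      · rw [h4]
      · rw [h4, qq_mul hs h hK (hK.zmem h) hk, qq_z hs hK.inZ h, one_mul]
    rw [h4] at h2
    have hab : φ a * φ b = φ b * φ a := d0.E_comm (M.mem a) (M.mem b)
    right; right; right; right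
    rcases h1 with h1 | h1 <;> rcases h2 with h2 | h2
    · left; exact M.inj _ _ (by rw [h1, h2])
    · right; apply M.inj; rw [M.add, hab, h1, h2]
    · right; apply M.inj; rw [M.add, hab, h1, h2, ← mul_assoc, hbb, one_mul]
    · left; exact M.inj _ _ (by rw [h1, h2])
  · -- bas
    intro b hb
    obtain ⟨K, hK⟩ := d.inZ _ hb
    obtain ⟨w, hwD, hw⟩ := swN b hb
    have hs := (f.swp hb).1 hw
    obtain ⟨q, hq⟩ := h.exists_q3 hK
    obtain ⟨l, hl, hll, hne⟩ := hK.exists_nc h (hq.mem 0) (hq.sq 0)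
    obtain ⟨a, ha⟩ := M.sur _ (qq_mem_E d0 h hb (M.mem w) hK (hq.mem 0))
    obtain ⟨a', ha'⟩ := M.sur _ (qq_mem_E d0 h hb (M.mem w) hK hl)
    refine ⟨a, ?_, a', ?_, ?_⟩
    · show φ a ∈ RZ Om (φ b)
      rw [ha]; exact qq_mem hs h hK (hq.mem 0)
    · show φ a' ∈ RZ Om (φ b)
      rw [ha']; exact qq_mem hs h hK hl
    · rcases z2 (β a a') with h1 | h1
      · exfalso
        exact hne (qq_comm_of M d0 h f hb hw hK (hq.mem 0) (hq.sq 0) hl (Or.inl ha) (Or.inl ha')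
          (by rw [f.symm]; exact h1))
      · exact h1
  · intro b hb
    obtain ⟨w, hwD, hw⟩ := swN b hb
    exact ⟨w, hwD, hw⟩
  · -- act
    intro b hb a ha a0 ab c hc
    obtain ⟨y, hy, h1⟩ := sgy b hb a ha a0 ab
    show φ _ ∈ Dl
    rw [h1]
    exact d.norm _ hb y hy _ hc
  · -- actB
    intro b hb a ha a0 ab c hc x hx
    obtain ⟨y, hy, h1⟩ := sgy b hb a ha a0 ab
    show φ _ ∈ RZ Om (φ _)
    rw [h1, h1]
    exact RZ_conj h y hx
  · -- sym
    intro b hb c hc hbc hx x hxb y hyc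
    have hcp := cp_crit M d h f hb hc hbc hx
    have hcx : β x c = 0 := by
      rw [f.symm]
      rw [f.val c hc, sb_zero]
      refine DW0.not_both h (d.inZ _ hc) (Inn.of_CX (mem_CX.2 fun K hK k hk => ?_))
      exact cp_RZ h hcp hxb (hK.le_RZ hk)
    by_cases y0 : y = 0
    · rw [y0, f.zr]
    by_cases yc : y = c
    · rw [yc, hcx]
    obtain ⟨w, a', g, hwD, r⟩ := rel_of_mem M d h f hc hyc y0 yc
    have h1 := r.sg M d0 h f hc x
    have h2 : g * φ x * g⁻¹ = φ x := by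
      rw [mul_inv_eq_iff_eq_mul]
      exact (cp_RZ h hcp hxb r.1).symm
    rw [h2, sg, hcx, sm_zero, add_zero] at h1
    have h3 := M.inj _ _ h1
    rcases z2 (β x y) with h4 | h4
    · exact h4
    · exfalso
      rw [h4, sm_one] at h3
      have h5 : c = 0 := left_eq_add.1 h3.symm
      rw [h5] at hc
      exact (d.inZ _ hc).z1 h M.zero
  · -- chis
    intro b hb a ha a' ha' haa
    obtain ⟨K, hK⟩ := d.inZ _ hb
    obtain ⟨w, hwD, hw⟩ := swN b hb
    have hs := (f.swp hb).1 hw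
    have pb := hperp b hb
    have pb' : ∀ a ∈ Bb Om M b, β a b = 0 := fun a ha => by rw [f.symm]; exact pb a ha
    have ne : ∀ {a a' : N}, a ∈ Bb Om M b → a' ∈ Bb Om M b → β a a' = 1 → a ≠ 0 ∧ a ≠ b := by
      intro a a' ha ha' haa
      constructor
      · rintro rfl
        rw [f.zl] at haa; exact absurd haa (by decide)
      · rintro rfl
        rw [pb a' ha'] at haa; exact absurd haa (by decide)
    obtain ⟨a0, ab⟩ := ne ha ha' haa
    obtain ⟨a0', ab'⟩ := ne ha' ha (by rw [f.symm]; exact haa)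
    obtain ⟨k, hk, hkk, h1⟩ := Bb_cases M d0 h f hb hw hK ha a0 ab
    obtain ⟨l, hl, hll, h2⟩ := Bb_cases M d0 h f hb hw hK ha' a0' ab'
    obtain ⟨a₁, r₁, e₁⟩ := exists_rel M d0 h f hb hw hK hk hkk h1
    obtain ⟨a₂, r₂, e₂⟩ := exists_rel M d0 h f hb hw hK hl hll h2
    have m₁ : a₁ ∈ Bb Om M b := a_mem M d0 h hb r₁.1 r₁.2.2.2
    have m₂ : a₂ ∈ Bb Om M b := a_mem M d0 h hb r₂.1 r₂.2.2.2
    -- `β a₂ a₁ = 1`
    have h12 : β a₂ a₁ = 1 := by
      rcases r₁.2.2.1 with e | e <;> rcases r₂.2.2.1 with e' | e' <;> rw [e, e']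
      · rw [f.symm]; exact haa
      · rw [f.addl, pb a ha, f.symm, haa, add_zero]
      · rw [f.addr, pb' a' ha', f.symm, haa, add_zero]
      · rw [f.addl, f.addr, f.addr, pb a ha, f.alt, pb' a' ha', f.symm, haa]; decide
    have r₃ : Rel Om φ β b (a + a') w (a₁ + a₂ + b) (k * l) := by
      refine ⟨mul_mem r₁.1 r₂.1, hw, ?_, ?_⟩
      · rcases r₁.2.2.1 with e | e <;> rcases r₂.2.2.1 with e' | e' <;> rw [e, e']
        · exact Or.inr rfl
        · left
          rw [show a + (a' + b) + b = a + a' + (b + b) by abel, two, add_zero]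
        · left
          rw [show a + b + a' + b = a + a' + (b + b) by abel, two, add_zero]
        · right
          rw [show a + b + (a' + b) + b = a + a' + (b + b) + b by abel, two, add_zero]
      · have h3 : k * l * φ w * (k * l)⁻¹ = k * (l * φ w * l⁻¹) * k⁻¹ := by group
        rw [h3, ← r₂.2.2.2, M.add w a₂]
        have h4 := r₁.sg M d0 h f hb a₂
        rw [sg, pb' _ m₂, sm_zero, add_zero] at h4
        have h5 : β a₂ a = 1 := by
          rcases r₁.2.2.1 with e | e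
          · rw [e] at h12; exact h12
          · rw [e, f.addr, pb' _ m₂, add_zero] at h12; exact h12
        rw [h5, sm_one] at h4
        have h6 : k * (φ w * φ a₂) * k⁻¹ = (k * φ w * k⁻¹) * (k * φ a₂ * k⁻¹) := by group
        rw [h6, ← h4, ← r₁.2.2.2, ← M.add]
        congr 1
        abel
    rw [r₁.chi M d0 h f hb, r₂.chi M d0 h f hb, r₃.chi M d0 h f hb, f.addr, f.addr, f.symm w b, hw]
    generalize β w a₁ = s, β w a₂ = t
    revert s t; decide
  · -- actχ
    intro b hb a ha a0 ab c hc x hx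
    obtain ⟨y, hy, h1⟩ := sgy b hb a ha a0 ab
    have key : ∀ g, (∀ c ∈ Dl, g * c * g⁻¹ ∈ Dl) → ∀ c, φ c ∈ Dl → ∀ x c' x', φ c' = g * φ c * g⁻¹ →
        φ x' = g * φ x * g⁻¹ → chi Om φ β c x = 1 → chi Om φ β c' x' = 1 := by
      intro g hg c hc x c' x' hc' hx' h2
      have h3 : ∃ w a' y, Rel Om φ β c x w a' y ∧ β w a' = 1 := by
        by_contra h4
        unfold chi at h2
        rw [bit_neg h4] at h2
        exact absurd h2 (by decide)
      obtain ⟨w, a', y, r, h4⟩ := h3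
      have ec : cn φ g c = c' := M.inj _ _ (by rw [M.cn_spec hg, hc'])
      have exx : cn φ g x = x' := M.inj _ _ (by rw [M.cn_spec hg, hx'])
      unfold chi
      refine bit_pos ⟨cn φ g w, cn φ g a', g * y * g⁻¹, ⟨?_, ?_, ?_, ?_⟩, ?_⟩
      · rw [hc']; exact RZ_conj h g r.1
      · rw [← ec, f.inv d0 h M hg]; exact r.2.1
      · rcases r.2.2.1 with e | e
        · left; rw [e, exx]
        · right; rw [e, M.cn_add hg, exx, ec]
      · rw [← M.cn_add hg, M.cn_spec hg, M.cn_spec hg, r.2.2.2]; group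
      · rw [f.inv d0 h M hg]; exact h4
    have hyn := d.norm _ hb y hy
    have hyn' := d.norm _ hb y⁻¹ (inv_mem hy)
    have e1 := key y hyn c hc x _ _ (h1 c) (h1 x)
    have hc' : φ (sg β (chi Om φ β b a) b a c) ∈ Dl := by rw [h1]; exact hyn _ hc
    have e2 := key y⁻¹ hyn' _ hc' (sg β (chi Om φ β b a) b a x) c x (by rw [h1]; group) (by rw [h1]; group)
    rcases z2 (chi Om φ β c x) with h2 | h2
    · rw [h2]
      rcases z2 (chi Om φ β (sg β (chi Om φ β b a) b a c) (sg β (chi Om φ β b a) b a x)) with h3 | h3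
      · exact h3
      · exfalso
        rw [e2 h3] at h2
        exact absurd h2 (by decide)
    · rw [e1 h2, h2]

theorem bmod_of (M : NM Dl φ) (d : DW Om Dl) (h : WM Om) (f : Bf Om Dl φ β) :
    BMod Om Dl φ β (Bb Om M) (chi Om φ β) where
  toNM := M
  toBf := f
  memB := fun _ _ => Iff.rfl
  chi_eq := fun b hb w hw y hy a ha => Rel.chi (a' := a) ⟨hy, hw, Or.inl rfl, ha⟩ M d.toDW0 h f hb
  sg_eq := fun b hb w hw y hy a ha n => by
    have r : Rel Om φ β b a w a y := ⟨hy, hw, Or.inl rfl, ha⟩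
    rw [r.chi M d.toDW0 h f hb]
    exact r.sg M d.toDW0 h f hb n
  full := full_of M d h f

/-- type (111), in the group -/
def Typ (Om : Set (Subgroup G)) (Dl : Set G) (u : G) : Prop :=
  ∀ w ∈ Dl, Swp Om u w → ∀ y ∈ RZ Om u, y * w ≠ w * y → Swp Om w (y * w * y⁻¹)

namespace BMod

variable {B : N → AddSubgroup N} {χ : N → N → ZMod 2}

/-- C-pairs -/
theorem cp_iff (m : BMod Om Dl φ β B χ) (d : DW Om Dl) (h : WM Om) (hb : φ b ∈ Dl) (hc : φ c ∈ Dl) :
    (∀ x ∈ B c, β b x = 0) ↔ b = c ∨ CP Om (φ b) (φ c) := by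
  constructor
  · intro h1
    by_cases hbc : b = c
    · exact Or.inl hbc
    · exact Or.inr (cp_crit m.toNM d h m.toBf hb hc hbc fun x hx => h1 x ((m.memB c x).2 hx))
  · rintro (rfl | h1) x hx
    · exact m.full.perp b hb x hx
    · rw [m.val b hb, sb_zero]
      refine DW0.not_both h (d.inZ _ hb) (Inn.of_CX (mem_CX.2 fun K hK k hk => ?_))
      exact (cp_RZ h h1 (hK.le_RZ hk) ((m.memB c x).1 hx)).symm

/-- the values of `χ` -/
theorem typ_iff (m : BMod Om Dl φ β B χ) (d : DW Om Dl) (h : WM Om) (hb : φ b ∈ Dl) :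
    Blk.Typ1 β B χ b ↔ Typ Om Dl (φ b) := by
  have mv : ∀ {w : N}, β b w = 1 → ∀ y ∈ RZ Om (φ b), ∃ a, φ (w + a) = y * φ w * y⁻¹ := by
    intro w hw y hy
    obtain ⟨p, hp⟩ := m.sur _ (d.norm' hb hy (m.mem w))
    exact ⟨-w + p, by rw [add_neg_cancel_left, hp]⟩
  constructor
  · intro h1 w' hw' hs y hy hyw
    obtain ⟨w, rfl⟩ := m.sur w' (subset_closure hw')
    have hw := (m.swp hb).2 hs
    obtain ⟨a, ha⟩ := mv hw y hy
    have aB : a ∈ B b := (m.memB b a).2 (a_mem m.toNM d.toDW0 h hb hy ha)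
    have a0 : a ≠ 0 := by
      rintro rfl
      rw [add_zero, eq_mul_inv_iff_mul_eq] at ha
      exact hyw ha.symm
    have ab : a ≠ b := by
      rintro rfl
      rw [m.add] at ha
      exact swp_not_move h hs (d.inZ _ hb) (d.E_sq h (m.mem w)) hy ha.symm
    have h2 := h1 a aB a0 ab
    rw [m.chi_eq b hb w hw y hy a ha] at h2
    have hyD := d.norm _ hb y hy _ hw'
    rw [← ha] at hyD ⊢
    rw [← sb_one, ← m.val w hw', m.addr, m.alt, h2]; decide
  · intro h1 a haB a0 ab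
    obtain ⟨w, a', y, hwD, r⟩ := rel_of_mem m.toNM d h m.toBf hb ((m.memB b a).1 haB) a0 ab
    have h2 := m.chi_eq b hb w r.2.1 y r.1 a' r.2.2.2
    have h3 : χ b a = χ b a' := by
      rcases r.2.2.1 with e | e
      · rw [e]
      · rw [e, m.full.chia b hb a haB]
    rw [h3, h2]
    have hyw : y * φ w ≠ φ w * y := by
      intro e
      have h4 : φ (w + a') = φ w := by rw [r.2.2.2, e, mul_inv_cancel_right]
      have h5 : a' = 0 := by
        have := m.inj _ _ h4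
        exact add_eq_left.1 this
      rcases r.2.2.1 with e' | e'
      · exact a0 (e'.symm.trans h5)
      · rw [e'] at h5
        exact ab (m.full.cancel h5)
    have h4 := h1 (φ w) hwD ((m.swp hb).1 r.2.1) y r.1 hyw
    rw [← r.2.2.2, ← sb_one, ← m.val w hwD, m.addr, m.alt, zero_add] at h4
    exact h4

/-- type (111) everywhere -/
theorem one (m : BMod Om Dl φ β B χ) (d : DW Om Dl) (h : WM Om) (h1 : ∀ b ∈ Dl, Typ Om Dl b) :
    Blk.One {b | φ b ∈ Dl} β B := by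
  have hf := m.full
  have ht : ∀ b, φ b ∈ Dl → ∀ a ∈ B b, a ≠ 0 → a ≠ b → χ b a = 1 := fun b hb =>
    (m.typ_iff d h hb).2 (h1 _ hb)
  exact
    { two := hf.two
      addl := hf.addl
      addr := hf.addr
      alt := hf.alt
      ne := hf.ne
      mem := hf.mem
      perp := hf.perp
      nd := hf.nd
      bas := hf.bas
      sw := hf.sw
      act := fun b hb a ha a0 ab c hc => by
        have := hf.act b hb a ha a0 ab c hc
        rwa [ht b hb a ha a0 ab] at this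
      actB := fun b hb a ha a0 ab c hc x hx => by
        have := hf.actB b hb a ha a0 ab c hc x hx
        rwa [ht b hb a ha a0 ab] at this
      sym := hf.sym }

theorem finite (m : BMod Om Dl φ β B χ) : Finite N := Finite.of_injective φ fun a b => m.inj a b

end BMod

end Cfsg.Agent.Cit.Nil.RTwoM

namespace Cfsg.Agent.Cit.Nil.RTwoM

universe u

/-- **block data exist** -/
theorem DW.exists_bmod {G : Type u} [Group G] [Finite G] {Om : Set (Subgroup G)} {Dl : Set G} (d : DW Om Dl)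
    (h : WM Om) : ∃ (N : Type u) (_ : AddCommGroup N) (φ : N → G) (β : N → N → ZMod 2) (B : N → AddSubgroup N)
      (χ : N → N → ZMod 2), BMod Om Dl φ β B χ := by
  obtain ⟨N, i, φ, M⟩ := exists_nm Dl d.comm
  obtain ⟨β, f⟩ := exists_form h d.toDW0 M
  exact ⟨N, i, φ, β, Bb Om M, chi Om φ β, bmod_of M d h f⟩

end Cfsg.Agent.Cit.Nil.RTwoM
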