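import Cfsg.Agent.Cit.Nil.RTwoM.Act
import Cfsg.Agent.Cit.Nil.RTwoM.BlkMix

/-!
# `r = 2`, any `m`: nil modules, the group side of the block theorem (CIT-6b-r2-blocks, section 0)

* `DW0 Om Dl` : `Dl` (`= Δ`) consists of pairwise commuting elements of `Z`, `R_b` normalises `Dl` for `b ∈ Dl`;
  `DW Om Dl` : moreover every `b ∈ Dl` has a swap partner in `Dl` (`DW0.aType`: the A-type elements of `Dl`);
* `DW0.inner` : an element of `E = ⟨Dl⟩` fixing a member over `b ∈ Dl` is inner on it; `DW0.sw_symm`;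
* `NM Dl N φ` : `N` = `E` written additively; `exists_nm`;
* `Bf Om Dl φ β` : the form; `exists_form`;
* `BMod` : the full package, **`DW.exists_bmod`**.
-/

set_option autoImplicit false
set_option linter.style.haveILetI false
set_option linter.unusedSectionVars false
set_option linter.unusedVariables false

namespace Cfsg.Agent.Cit.Nil.RTwoM

open Subgroup Cfsg Cfsg.Agent.Cit

open RTwo (Q3)
open RG (WR CP Ov InO Tr)
open Blk (sm sg sm_zero sm_one z2)

variable {G : Type*} [Group G] {Om : Set (Subgroup G)} {Dl : Set G} {K L M : Subgroup G}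
  {g k l n r s t u v w x y z : G}

/-- `Δ` : pairwise commuting elements of `Z`, `R_b` normalises `Δ` -/
structure DW0 (Om : Set (Subgroup G)) (Dl : Set G) : Prop where
  inZ : ∀ b ∈ Dl, InZ Om b
  comm : ∀ b ∈ Dl, ∀ c ∈ Dl, b * c = c * b
  norm : ∀ b ∈ Dl, ∀ y ∈ RZ Om b, ∀ c ∈ Dl, y * c * y⁻¹ ∈ Dl

/-- `Δ` as in `DW0`, every element has a swap partner -/
structure DW (Om : Set (Subgroup G)) (Dl : Set G) : Prop extends DW0 Om Dl where
  sw : ∀ b ∈ Dl, ∃ w ∈ Dl, Swp Om b w

namespace DW0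

variable [Finite G]

theorem E_comm (d : DW0 Om Dl) (hx : x ∈ closure Dl) (hy : y ∈ closure Dl) : x * y = y * x := by
  have h1 : closure Dl ≤ centralizer (closure Dl : Set G) := by
    refine (closure_le _).2 fun b hb => ?_
    have h2 : closure Dl ≤ centralizer {b} := by
      refine (closure_le _).2 fun c hc => ?_
      exact mem_centralizer_singleton_iff.2 (d.comm c hc b hb)
    exact mem_centralizer_iff.2 fun e he => mem_centralizer_singleton_iff.1 (h2 he)
  exact mem_centralizer_iff.1 (h1 hy) x hx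

theorem E_sq (d : DW0 Om Dl) (h : WM Om) (hx : x ∈ closure Dl) : x * x = 1 := by
  refine closure_induction (p := fun x _ => x * x = 1) ?_ ?_ ?_ ?_ hx
  · exact fun u hu => (d.inZ u hu).z2 h
  · rw [one_mul]
  · intro a b ha hb h1 h2
    calc a * b * (a * b) = a * (b * a) * b := by group
      _ = (a * a) * (b * b) := by rw [d.E_comm hb ha]; group
      _ = 1 := by rw [h1, h2, one_mul]
  · intro a _ h1
    rw [← mul_inv_rev, h1, inv_one]

theorem E_inv (d : DW0 Om Dl) (h : WM Om) (hx : x ∈ closure Dl) : x⁻¹ = x :=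
  inv_eq_of_mul_eq_one_right (d.E_sq h hx)

/-- elements normalising `Dl` normalise `E` -/
theorem E_conj (hg : ∀ c ∈ Dl, g * c * g⁻¹ ∈ Dl) (hx : x ∈ closure Dl) : g * x * g⁻¹ ∈ closure Dl := by
  have h1 : closure Dl ≤ (closure Dl).comap (MulAut.conj g).toMonoidHom := by
    refine (closure_le _).2 fun b hb => ?_
    exact subset_closure (hg b hb)
  exact h1 hx

theorem norm' (d : DW0 Om Dl) (hb : u ∈ Dl) (hy : y ∈ RZ Om u) (hx : x ∈ closure Dl) :
    y * x * y⁻¹ ∈ closure Dl := E_conj (d.norm u hb y hy) hx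

/-- an element of `E` fixing a member over `b ∈ Dl` is inner on it -/
theorem inner (d : DW0 Om Dl) (h : WM Om) (hu : u ∈ Dl) (hK : Mem Om u K) (hx : x ∈ closure Dl)
    (hxK : cj x K = K) : ∀ k ∈ K, x * k * x⁻¹ = k ∨ x * k * x⁻¹ = u * k := by
  intro k hk
  have h1 : x * k * x⁻¹ ∈ K := by
    have := conj_mem_cj (g := x) hk
    rwa [hxK] at this
  have h2 : k⁻¹ * (x * k * x⁻¹) ∈ K := mul_mem (inv_mem hk) h1
  have h3 : k⁻¹ * (x * k * x⁻¹) ∈ closure Dl := by
    have h4 := d.norm' hu (hK.le_RZ (inv_mem hk)) hx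
    have h5 := mul_mem h4 (inv_mem hx)
    have h6 : k⁻¹ * x * k⁻¹⁻¹ * x⁻¹ = k⁻¹ * (x * k * x⁻¹) := by group
    rwa [h6] at h5
  have h4 := d.E_sq h h3
  rcases hK.sq_cases h h2 with h5 | h5 | h5
  · left
    rw [inv_mul_eq_one] at h5
    exact h5.symm
  · right
    rw [inv_mul_eq_iff_eq_mul] at h5
    rw [h5, hK.comm_z h hk]
  · exfalso
    rw [h4] at h5
    exact hK.inZ.z1 h h5.symm

/-- `x ∈ E` fixes or interchanges the members over `b ∈ Dl` -/
theorem fix_or (d : DW0 Om Dl) (h : WM Om) (hu : u ∈ Dl) (hx : x ∈ closure Dl) : Inn Om u x ∨ Swp Om u x := by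
  have hxu : x * u = u * x := d.E_comm hx (subset_closure hu)
  by_cases h1 : Swp Om u x
  · exact Or.inr h1
  left
  intro K hK
  refine d.inner h hu hK hx ?_
  by_contra h2
  exact h1 (Swp.of_one h hK hxu h2)

theorem not_both (h : WM Om) (hu : InZ Om u) (hi : Inn Om u x) : ¬ Swp Om u x := by
  obtain ⟨K, hK⟩ := hu
  exact fun hs => hs.2 K hK (hi.cj_eq hK h)

/-- no `f` inside `Dl` : swapping is symmetric -/
theorem sw_symm (d : DW0 Om Dl) (h : WM Om) (hu : u ∈ Dl) (hv : v ∈ Dl) (hs : Swp Om u v) : Swp Om v u := by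
  refine (d.fix_or h hv (subset_closure hu)).resolve_left fun hi => ?_
  exact not_both h (d.inZ u hu) (hi.symm (d.inZ v hv) (d.inZ u hu) h) hs

/-- the A-type elements -/
theorem aType (d : DW0 Om Dl) (h : WM Om) : DW Om {b | b ∈ Dl ∧ ∃ w ∈ Dl, Swp Om b w} := by
  refine ⟨⟨fun b hb => d.inZ b hb.1, fun b hb c hc => d.comm b hb.1 c hc.1, ?_⟩, ?_⟩
  · rintro b ⟨hb, -⟩ y hy c ⟨hc, w, hw, hs⟩
    exact ⟨d.norm b hb y hy c hc, _, d.norm b hb y hy w hw, hs.conj h y⟩
  · rintro b ⟨hb, w, hw, hs⟩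
    exact ⟨w, ⟨hw, b, hb, d.sw_symm h hb hw hs⟩, hs⟩

end DW0

/-! ### `E` written additively -/

/-- `N` = `⟨Dl⟩` written additively -/
structure NM (Dl : Set G) {N : Type*} [AddCommGroup N] (φ : N → G) : Prop where
  add : ∀ a b, φ (a + b) = φ a * φ b
  inj : ∀ a b, φ a = φ b → a = b
  mem : ∀ a, φ a ∈ closure Dl
  sur : ∀ g ∈ closure Dl, ∃ a, φ a = g

/-- conjugation by `g` on `N` -/
noncomputable def cn {N : Type*} [AddCommGroup N] (φ : N → G) (g : G) (n : N) : N :=
  Function.invFun φ (g * φ n * g⁻¹)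

namespace NM

variable [Finite G] {N : Type*} [AddCommGroup N] {φ : N → G} {a b c m p q : N}

theorem zero (M : NM Dl φ) : φ 0 = 1 := by
  have h1 := M.add 0 0
  rw [add_zero] at h1
  exact left_eq_mul.1 h1

theorem two (M : NM Dl φ) (d : DW0 Om Dl) (h : WM Om) (a : N) : a + a = 0 := by
  apply M.inj
  rw [M.add, M.zero, d.E_sq h (M.mem a)]

theorem neg (M : NM Dl φ) (a : N) : φ (-a) = (φ a)⁻¹ := by
  apply eq_inv_of_mul_eq_one_left
  rw [← M.add, neg_add_cancel, M.zero]

/-- induction -/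
theorem ind (M : NM Dl φ) (d : DW0 Om Dl) (h : WM Om) {P : N → Prop} (h0 : P 0) (h1 : ∀ b, φ b ∈ Dl → P b)
    (h2 : ∀ a b, P a → P b → P (a + b)) (n : N) : P n := by
  have key : ∀ g ∈ closure Dl, ∀ n, φ n = g → P n := by
    intro g hg
    refine closure_induction (p := fun g _ => ∀ n, φ n = g → P n) ?_ ?_ ?_ ?_ hg
    · intro g hg n hn
      exact h1 n (by rw [hn]; exact hg)
    · intro n hn
      have : n = 0 := M.inj _ _ (by rw [hn, M.zero])
      rw [this]; exact h0
    · intro x y hx hy hPx hPy n hn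
      obtain ⟨a, ha⟩ := M.sur x hx
      obtain ⟨b, hb⟩ := M.sur y hy
      have : n = a + b := M.inj _ _ (by rw [hn, M.add, ha, hb])
      rw [this]
      exact h2 _ _ (hPx a ha) (hPy b hb)
    · intro x hx hPx n hn
      rw [d.E_inv h hx] at hn
      exact hPx n hn
  exact key _ (M.mem n) n rfl

theorem cn_spec (M : NM Dl φ) (hg : ∀ c ∈ Dl, g * c * g⁻¹ ∈ Dl) (n : N) : φ (cn φ g n) = g * φ n * g⁻¹ :=
  Function.invFun_eq (M.sur _ (DW0.E_conj hg (M.mem n)))

theorem cn_add (M : NM Dl φ) (hg : ∀ c ∈ Dl, g * c * g⁻¹ ∈ Dl) (m n : N) :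
    cn φ g (m + n) = cn φ g m + cn φ g n := by
  apply M.inj
  rw [M.add, M.cn_spec hg, M.cn_spec hg, M.cn_spec hg, M.add]
  group

end NM

/-! ### The form -/

/-- `[n interchanges the members over b]` -/
noncomputable def sb (Om : Set (Subgroup G)) (g x : G) : ZMod 2 := by
  classical exact if Swp Om g x then 1 else 0

theorem sb_one : sb Om g x = 1 ↔ Swp Om g x := by
  unfold sb
  split_ifs with h1
  · exact ⟨fun _ => h1, fun _ => rfl⟩
  · exact ⟨fun h2 => absurd h2 (by decide), fun h2 => absurd h2 h1⟩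

theorem sb_zero : sb Om g x = 0 ↔ ¬ Swp Om g x := by
  rw [← sb_one]
  generalize sb Om g x = s
  revert s; decide

section Fin

variable [Finite G]

theorem sb_mul (h : WM Om) (hu : InZ Om u) (hx : x * u = u * x) (hy : y * u = u * y) :
    sb Om u (x * y) = sb Om u x + sb Om u y := by
  obtain ⟨K, hK⟩ := hu
  obtain ⟨L, hL, hne, -⟩ := hK.other h
  have hxy : x * y * u = u * (x * y) := by
    calc x * y * u = x * (y * u) := by group
      _ = (x * u) * y := by rw [hy]; group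
      _ = u * (x * y) := by rw [hx]; group
  have key : ∀ {x}, x * u = u * x → (cj x K = K → sb Om u x = 0) ∧ (cj x K = L → sb Om u x = 1) := by
    intro x hx
    constructor
    · intro h1
      rw [sb_zero]
      exact fun hs => hs.2 K hK h1
    · intro h1
      rw [sb_one]
      exact Swp.of_one h hK hx (by rw [h1]; exact hne.symm)
  rcases cj_cases h hK hL hne hx with h1 | h1 <;> rcases cj_cases h hK hL hne hy with h2 | h2
  · rw [(key hx).1 h1.1, (key hy).1 h2.1, (key hxy).1 (by rw [cj_mul, h2.1, h1.1]), add_zero]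
  · rw [(key hx).1 h1.1, (key hy).2 h2.1, (key hxy).2 (by rw [cj_mul, h2.1, h1.2]), zero_add]
  · rw [(key hx).2 h1.1, (key hy).1 h2.1, (key hxy).2 (by rw [cj_mul, h2.1, h1.1]), add_zero]
  · rw [(key hx).2 h1.1, (key hy).2 h2.1, (key hxy).1 (by rw [cj_mul, h2.1, h1.2])]
    decide

theorem sb_symm (d : DW0 Om Dl) (h : WM Om) (hu : u ∈ Dl) (hv : v ∈ Dl) : sb Om u v = sb Om v u := by
  rcases z2 (sb Om u v) with h1 | h1
  · rw [h1]
    symm
    rw [sb_zero] at h1 ⊢
    exact fun hs => h1 (d.sw_symm h hv hu hs)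
  · rw [h1]
    symm
    rw [sb_one] at h1 ⊢
    exact d.sw_symm h hu hv h1

theorem Swp.conj_iff (h : WM Om) (g : G) : Swp Om (g * z * g⁻¹) (g * x * g⁻¹) ↔ Swp Om z x := by
  refine ⟨fun h1 => ?_, fun h1 => h1.conj h g⟩
  have h2 := h1.conj h g⁻¹
  rwa [show g⁻¹ * (g * z * g⁻¹) * g⁻¹⁻¹ = z by group, show g⁻¹ * (g * x * g⁻¹) * g⁻¹⁻¹ = x by group] at h2

theorem sb_conj (h : WM Om) (g : G) : sb Om (g * z * g⁻¹) (g * x * g⁻¹) = sb Om z x := by
  rcases z2 (sb Om z x) with h1 | h1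
  · rw [h1]
    rw [sb_zero] at h1 ⊢
    rwa [Swp.conj_iff h]
  · rw [h1]
    rw [sb_one] at h1 ⊢
    rwa [Swp.conj_iff h]

end Fin

/-- the form on `N` -/
structure Bf (Om : Set (Subgroup G)) (Dl : Set G) {N : Type*} [AddCommGroup N] (φ : N → G)
    (β : N → N → ZMod 2) : Prop where
  addl : ∀ x y z : N, β (x + y) z = β x z + β y z
  addr : ∀ x y z : N, β x (y + z) = β x y + β x z
  alt : ∀ x, β x x = 0
  val : ∀ b, φ b ∈ Dl → ∀ n, β b n = sb Om (φ b) (φ n)

theorem exists_form [Finite G] (h : WM Om) (d : DW0 Om Dl) {N : Type*} [AddCommGroup N] {φ : N → G} (M : NM Dl φ) :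
    ∃ β, Bf Om Dl φ β := by
  classical
  -- uniqueness of additive functions
  have uni : ∀ f f' : N → ZMod 2, (∀ x y, f (x + y) = f x + f y) → (∀ x y, f' (x + y) = f' x + f' y) →
      (∀ b, φ b ∈ Dl → f b = f' b) → ∀ n, f n = f' n := by
    intro f f' hf hf' hff n
    refine M.ind d h (P := fun n => f n = f' n) ?_ hff ?_ n
    · have h1 := hf 0 0
      have h2 := hf' 0 0
      rw [add_zero] at h1 h2
      rw [left_eq_add.1 h1, left_eq_add.1 h2]
    · intro a b ha hb
      rw [hf, hf', ha, hb]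
  have sadd : ∀ b, φ b ∈ Dl → ∀ m n, sb Om (φ b) (φ (m + n)) = sb Om (φ b) (φ m) + sb Om (φ b) (φ n) := by
    intro b hb m n
    rw [M.add]
    exact sb_mul h (d.inZ _ hb) (d.E_comm (M.mem m) (M.mem b)) (d.E_comm (M.mem n) (M.mem b))
  -- existence
  have ex : ∀ m : N, ∃ f : N → ZMod 2, (∀ x y, f (x + y) = f x + f y) ∧ ∀ c, φ c ∈ Dl → f c = sb Om (φ c) (φ m) := by
    intro m
    refine M.ind d h (P := fun m => ∃ f : N → ZMod 2, (∀ x y, f (x + y) = f x + f y) ∧
      ∀ c, φ c ∈ Dl → f c = sb Om (φ c) (φ m)) ?_ ?_ ?_ m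
    · refine ⟨fun _ => 0, fun _ _ => (add_zero (0 : ZMod 2)).symm, fun c hc => ?_⟩
      have h1 := sadd c hc 0 0
      rw [add_zero] at h1
      exact (left_eq_add.1 h1).symm
    · intro b hb
      exact ⟨fun n => sb Om (φ b) (φ n), sadd b hb, fun c hc => sb_symm d h hb hc⟩
    · rintro a b ⟨f, hf, hf'⟩ ⟨g, hg, hg'⟩
      refine ⟨fun n => f n + g n, fun x y => ?_, fun c hc => ?_⟩
      · show f (x + y) + g (x + y) = f x + g x + (f y + g y)
        rw [hf, hg]; ring
      · show f c + g c = _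
        rw [hf' c hc, hg' c hc, sadd c hc]
  choose β hβ hβ' using ex
  have val : ∀ b, φ b ∈ Dl → ∀ n, β b n = sb Om (φ b) (φ n) := by
    intro b hb n
    refine uni (β b) (fun n => sb Om (φ b) (φ n)) (hβ b) (sadd b hb) (fun c hc => ?_) n
    rw [hβ' b c hc]
    exact sb_symm d h hc hb
  have addl : ∀ x y z : N, β (x + y) z = β x z + β y z := by
    intro x y z
    refine uni (β (x + y)) (fun z => β x z + β y z) (hβ _) (fun u v => ?_) (fun c hc => ?_) z
    · show β x (u + v) + β y (u + v) = β x u + β y u + (β x v + β y v)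
      rw [hβ, hβ]; ring
    · rw [hβ' _ c hc, hβ' _ c hc, hβ' _ c hc, sadd c hc]
  have symm : ∀ x y, β x y = β y x := by
    intro x y
    refine uni (β x) (fun y => β y x) (hβ x) (fun u v => addl u v x) (fun c hc => ?_) y
    rw [hβ' x c hc, val c hc]
  refine ⟨β, addl, hβ, fun x => ?_, val⟩
  refine uni (fun x => β x x) (fun _ => 0) (fun u v => ?_) (fun _ _ => (add_zero (0 : ZMod 2)).symm) (fun c hc => ?_) x
  · show β (u + v) (u + v) = β u u + β v v
    rw [addl, hβ, hβ, symm v u]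
    generalize β u u = p, β v v = q, β u v = r
    revert p q r; decide
  · show β c c = 0
    rw [val c hc, sb_zero]
    intro hs
    obtain ⟨K, hK⟩ := d.inZ _ hc
    refine hs.2 K hK ?_
    exact (Inn.of_CX (z_mem_CX h)).cj_eq hK h

end Cfsg.Agent.Cit.Nil.RTwoM

namespace Cfsg.Agent.Cit.Nil.RTwoM

open Subgroup Cfsg Cfsg.Agent.Cit

universe u

theorem exists_nm {G : Type u} [Group G] (Dl : Set G) (hc : ∀ b ∈ Dl, ∀ c ∈ Dl, b * c = c * b) :
    ∃ (N : Type u) (_ : AddCommGroup N) (φ : N → G), NM Dl φ := by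
  have hcomm : ∀ a b : ↥(closure Dl), a * b = b * a := by
    have h1 : closure Dl ≤ centralizer (closure Dl : Set G) := by
      refine (closure_le _).2 fun b hb => ?_
      have h2 : closure Dl ≤ centralizer {b} := by
        refine (closure_le _).2 fun c hc' => ?_
        exact mem_centralizer_singleton_iff.2 (hc c hc' b hb)
      exact mem_centralizer_iff.2 fun e he => mem_centralizer_singleton_iff.1 (h2 he)
    intro a b
    exact Subtype.ext (mem_centralizer_iff.1 (h1 b.2) a a.2)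
  letI : CommGroup ↥(closure Dl) := { (inferInstance : Group ↥(closure Dl)) with mul_comm := hcomm }
  refine ⟨Additive ↥(closure Dl), inferInstance, fun n => ((Additive.toMul n : ↥(closure Dl)) : G), ?_, ?_, ?_, ?_⟩
  · intro a b; rfl
  · intro a b hab
    exact Additive.toMul.injective (Subtype.ext hab)
  · intro a; exact (Additive.toMul a).2
  · intro g hg
    exact ⟨Additive.ofMul ⟨g, hg⟩, rfl⟩

end Cfsg.Agent.Cit.Nil.RTwoM
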