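import Cfsg.Agent.Cit.Nil.RTwoM.BlkGrp

/-!
# S1309, (6b), (C3), `r = 2`, any `m`: pattern (111) and the BLOCK THEOREM in the group
(helper599, CIT-6b-r2-blocks; helper589's abstract block theorem `Blk.exists_block`)

* `Pat1 Om D` : (111) for one swap partner `w` of every `b`; `Form.chi_indep`; **`NilS.exists_one`** : `One`;
* **`NilS.pat1_of_rot`** : if some `c` normalising `D` rotates a member over `b`, then (111) at `b`;
* `Form.cp_of` (0.6);
* `ChtG Om D e` : a chart in the group; `ChtG.mem_B`, `ChtG.act4` (the action of `V₄` of a four-set), `ChtG.inj`;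
* **`NilS.exists_block`**.
-/

set_option autoImplicit false
set_option linter.style.haveILetI false
set_option linter.unusedSectionVars false

namespace Cfsg.Agent.Cit.Nil.RTwoM

open Subgroup Cfsg Cfsg.Agent.Cit

open RTwo (Q3 i_cases3)
open RG (WR CP Ov InO Tr)
open Blk (sm sg Data sm_zero sm_one Cht InC Dst dl dl_self dl_ne)

variable {G : Type*} [Group G] {Om : Set (Subgroup G)} {K L M : Subgroup G} {D : Set G}
  {b c d g g' k l m n r s t u v w x y z : G}

/-- the pattern (111), for one swap partner `w ∈ D` of every `b ∈ D` -/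
def Pat1 (Om : Set (Subgroup G)) (D : Set G) : Prop :=
  ∀ b ∈ D, (∃ w ∈ D, Swp Om b w) → ∃ w ∈ D, Swp Om b w ∧ ∃ K, Mem Om b K ∧
    ∀ k ∈ K, k * k = b → Swp Om w (k * w * k⁻¹)

section Fin

variable [Finite G]

namespace Form

variable {N : Type*} [AddCommGroup N] {ι : N → G} {β : N → N → ZMod 2}

/-- `χ` does not depend on `w` -/
theorem chi_indep (F : Form Om D ι β) (nil : NilS Om D) (h : WM Om) (E : Emb D ι) {b w w' a a' : N} (hb : ι b ∈ D)
    (hw : β b w = 1) (hw' : β b w' = 1) (hK : Mem Om (ι b) K) (hk : k ∈ K) (hwa : ι (w + a) = k * ι w * k⁻¹)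
    (hab : ι a ∈ RZ Om (ι b)) (hwa' : ι (w' + a') = k * ι w' * k⁻¹) : β w' a' = β w a := by
  have h1 := F.act nil h E hb hw hK hk hwa hab w'
  rw [← hwa'] at h1
  have h2 := E.inj h1
  have h3 : β w' (w' + a') = β w' a' := by rw [F.addr, F.alt, zero_add]
  have hbw : β w' b = 1 := by rw [F.symm, hw']
  rw [← h3, h2, sg, hbw, sm_one, F.addr, F.addr, F.addr, F.smr, F.smr, F.alt, hbw]
  generalize β w' a = p, β w a = q
  revert p q; decide

theorem chi_val (F : Form Om D ι β) {w a : N} (hwD : ι w ∈ D) (hwa : ι (w + a) = k * ι w * k⁻¹) :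
    β w a = sI Om (ι w) (k * ι w * k⁻¹) := by
  rw [← hwa, ← F.val w hwD, F.addr, F.alt, zero_add]

/-- **(0.6)** -/
theorem cp_of (F : Form Om D ι β) (nil : NilS Om D) (h : WM Om) (E : Emb D ι) {b c w : N} (hb : ι b ∈ D)
    (hc : ι c ∈ D) (hw : β c w = 1) (hne : b ≠ c) (h0 : ∀ x, ι x ∈ RZ Om (ι c) → β b x = 0) :
    CP Om (ι b) (ι c) := by
  have h2 : ι b ∈ CX Om (ι c) := by
    rw [mem_CX]
    intro K hK k hk
    rcases hK.sq_cases h hk with rfl | rfl | hkk
    · rw [mul_one, one_mul]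
    · exact E.cm nil b c
    · obtain ⟨a, a1, a2, a3⟩ := F.exists_ak nil h E hc hw hK hk hkk
      have h3 := F.act nil h E hc hw hK hk a2 a3 b
      rw [sg, h0 c (z_mem_RZ (nil.inZ _ hc) h), h0 a a3, sm_zero, sm_zero, add_zero,
        add_zero, mul_inv_eq_iff_eq_mul] at h3
      exact h3.symm
  rcases (cen_iff h (nil.inZ _ hc) (nil.inZ _ hb)).1 h2 with h3 | h3
  · exact absurd (E.inj h3).symm hne
  · exact h3.symm

theorem exists_D (F : Form Om D ι β) (nil : NilS Om D) (h : WM Om) (E : Emb D ι) {b w : N} (hw : β b w = 1) :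
    ∃ w, ι w ∈ D ∧ β b w = 1 := by
  by_contra hcon
  push Not at hcon
  have h1 : β b w = 0 := by
    refine E.ind (P := fun w => β b w = 0) (fun c hc => ?_) (F.zr b) (fun x y hx hy => ?_) nil h w
    · exact (Blk.z2 _).resolve_right (hcon c hc)
    · rw [F.addr, hx, hy, add_zero]
  rw [h1] at hw
  exact absurd hw (by decide)

end Form

/-- **(111)** gives `One` -/
theorem NilS.exists_one {N : Type*} [AddCommGroup N] {ι : N → G} {β : N → N → ZMod 2} (nil : NilS Om D) (h : WM Om)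
    (E : Emb D ι) (F : Form Om D ι β) (B : N → AddSubgroup N) (hB : ∀ b x, x ∈ B b ↔ ι x ∈ RZ Om (ι b))
    (hp : Pat1 Om D) :
    Blk.One {b | ι b ∈ D ∧ ∃ w, β b w = 1} β B ∧
      ∀ b, ι b ∈ D → (∃ w, β b w = 1) → ∀ a ∈ B b, a ≠ 0 → a ≠ b → ∃ K, Mem Om (ι b) K ∧ ∃ k ∈ K, k * k = ι b ∧
        ∀ n, k * ι n * k⁻¹ = ι (sg β 1 b a n) := by
  obtain ⟨χ, hd, -⟩ := nil.exists_data h E F B hB
  have act : ∀ b, ι b ∈ D → (∃ w, β b w = 1) → ∀ a ∈ B b, a ≠ 0 → a ≠ b → ∃ K, Mem Om (ι b) K ∧ ∃ k ∈ K,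
      k * k = ι b ∧ ∀ n, k * ι n * k⁻¹ = ι (sg β 1 b a n) := by
    rintro b hb ⟨w₀, hw₀⟩ a ha h0 h1
    obtain ⟨w₁, hw₁D, hw₁⟩ := F.exists_D nil h E hw₀
    obtain ⟨w', hw'D, hs, K, hK, hall⟩ := hp (ι b) hb ⟨ι w₁, hw₁D, (F.swp hb).1 hw₁⟩
    obtain ⟨w, rfl⟩ := E.ex (subset_closure hw'D)
    have hw : β b w = 1 := (F.swp hb).2 hs
    rcases F.cov nil h E hb hw hK ((hB b a).1 ha) with h2 | h2 | ⟨k, hk, hkk, a', h2, h3, h4, h5⟩
    · exact absurd h2 h0
    · exact absurd h2 h1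
    · have h6 : β w a' = 1 := by
        rw [F.chi_val hw'D h3]
        exact sI_eq_one.2 (hall k hk hkk)
      refine ⟨K, hK, k, hk, hkk, fun n => ?_⟩
      have h7 := F.act nil h E hb hw hK hk h3 h4 n
      rw [h6] at h7
      rcases h5 with rfl | rfl
      · exact h7
      · rw [F.sg_add (E.two nil h)]; exact h7
  refine ⟨{ hd with act := ?_, actB := ?_ }, act⟩
  · rintro b ⟨hb, hw⟩ a ha h0 h1 c ⟨hc, w, hcw⟩
    obtain ⟨K, hK, k, hk, -, h2⟩ := act b hb hw a ha h0 h1
    have hy := nil.nor _ hb k (hK.le_RZ hk)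
    obtain ⟨σ, hσ⟩ := E.exists_conj hy
    have h3 : sg β 1 b a c = σ c := by apply E.inj; rw [← h2, hσ]
    refine ⟨by rw [← h2]; exact hy _ hc, σ w, ?_⟩
    rw [h3, F.conj nil h E hy hσ, hcw]
  · rintro b ⟨hb, hw⟩ a ha h0 h1 c ⟨hc, hc'⟩ x hx
    obtain ⟨K, hK, k, hk, -, h2⟩ := act b hb hw a ha h0 h1
    rw [hB, ← h2, ← h2]
    exact RZ_conj h k ((hB c x).1 hx)

/-- **a rotation gives (111)** -/
theorem NilS.pat1_of_rot (nil : NilS Om D) (h : WM Om)
    (hr : ∀ b ∈ D, (∃ w ∈ D, Swp Om b w) → ∃ c, (∀ d ∈ D, c * d * c⁻¹ ∈ D) ∧ ∃ K, Mem Om b K ∧ cj c K = K ∧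
      ∀ k ∈ K, k * k = b → k * (c * k * c⁻¹) ≠ (c * k * c⁻¹) * k) : Pat1 Om D := by
  intro b₀ hb₀ hw₀
  obtain ⟨N, _, _, ι, E⟩ := nil.exists_emb
  obtain ⟨β, F⟩ := nil.exists_form h E
  obtain ⟨c, hcD, K, hK, hcK, hrot⟩ := hr b₀ hb₀ hw₀
  obtain ⟨w₀, hw₀, hs⟩ := hw₀
  obtain ⟨b, rfl⟩ := E.ex (subset_closure hb₀)
  obtain ⟨w, rfl⟩ := E.ex (subset_closure hw₀)
  refine ⟨_, hw₀, hs, K, hK, ?_⟩
  have hw : β b w = 1 := (F.swp hb₀).2 hs
  have hwb : β w b = 1 := by rw [F.symm, hw]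
  have hcb : c * ι b = ι b * c := hK.of_cj h hcK
  have two := E.two nil h
  have hbb := hK.inZ.z2 h
  obtain ⟨σ, hσ⟩ := E.exists_conj hcD
  have hσb : σ b = b := by apply E.inj; rw [hσ, hcb, mul_inv_cancel_right]
  have cK : ∀ {k}, k ∈ K → c * k * c⁻¹ ∈ K := by
    intro k hk
    have := conj_mem_cj (g := c) hk
    rwa [hcK] at this
  have csq : ∀ {k}, k * k = ι b → (c * k * c⁻¹) * (c * k * c⁻¹) = ι b := by
    intro k hkk
    calc (c * k * c⁻¹) * (c * k * c⁻¹) = c * (k * k) * c⁻¹ := by group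
      _ = ι b := by rw [hkk, hcb, mul_inv_cancel_right]
  -- `χ(k) = 1` as a property of `k`
  let P : G → Prop := fun k => ∀ a : N, ι (w + a) = k * ι w * k⁻¹ → β w a = 1
  -- the value of `χ`
  have val : ∀ {k} (_ : k ∈ K) (_ : k * k = ι b) {a : N}, ι (w + a) = k * ι w * k⁻¹ → ι a ∈ RZ Om (ι b) := by
    intro k hk hkk a ha
    obtain ⟨a', h1, h2, h3⟩ := F.exists_ak nil h E hb₀ hw hK hk hkk
    rw [← h2] at ha
    rwa [add_left_cancel (E.inj ha)]
  have hbK : ∀ {k}, k ∈ K → (ι b * k) * ι w * (ι b * k)⁻¹ = k * ι w * k⁻¹ := by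
    intro k hk
    have h1 : k * ι w * k⁻¹ ∈ closure D := nil.cl_conj hb₀ (hK.le_RZ hk) (E.cl w)
    have h2 := nil.cl_comm (E.cl b) h1
    calc (ι b * k) * ι w * (ι b * k)⁻¹ = (ι b * (k * ι w * k⁻¹)) * (ι b)⁻¹ := by group
      _ = _ := by rw [h2, mul_inv_cancel_right]
  -- invariance under `c`
  have inv : ∀ {k} (_ : k ∈ K) (_ : k * k = ι b), P k → P (c * k * c⁻¹) := by
    intro k hk hkk hP a' ha'
    obtain ⟨a, h1, h2, h3⟩ := F.exists_ak nil h E hb₀ hw hK hk hkk
    have hk' := cK hk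
    -- at `w' = σ w`
    have h4 : ι (σ w + σ a) = (c * k * c⁻¹) * ι (σ w) * (c * k * c⁻¹)⁻¹ := by
      rw [E.add, hσ, hσ]
      calc c * ι w * c⁻¹ * (c * ι a * c⁻¹) = c * (ι w * ι a) * c⁻¹ := by group
        _ = c * (k * ι w * k⁻¹) * c⁻¹ := by rw [← E.add, h2]
        _ = _ := by group
    have hw' : β b (σ w) = 1 := by
      have := F.conj nil h E hcD hσ b w
      rw [hσb] at this
      rw [this, hw]
    have h5 := F.chi_indep nil h E hb₀ hw hw' hK hk' ha' (val hk' (csq hkk) ha') h4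
    rw [F.conj nil h E hcD hσ] at h5
    rw [← h5]
    exact hP a h2
  -- the product
  have prod : ∀ {k l} (_ : k ∈ K) (_ : k * k = ι b) (_ : l ∈ K) (_ : l * l = ι b) (_ : k * l ≠ l * k) {a a' a'' : N},
      ι (w + a) = k * ι w * k⁻¹ → ι (w + a') = l * ι w * l⁻¹ → ι (w + a'') = (k * l) * ι w * (k * l)⁻¹ →
      β w a'' = β w a + β w a' + 1 := by
    intro k l hk hkk hl hll hkl a a' a'' h1 h2 h3
    have h4 : (k * l) * (k * l) = ι b := by
      have h5 := hK.anti h hk hkk hl hll hkl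
      rw [mul_inv_eq_iff_eq_mul] at h5
      calc (k * l) * (k * l) = k * (l * k) * l := by group
        _ = k * (ι b * k * l) * l := by rw [h5]
        _ = (k * ι b) * k * (l * l) := by group
        _ = (ι b * k) * k * (l * l) := by rw [hK.comm_z h hk]
        _ = ι b * (k * k) * (l * l) := by group
        _ = ι b := by rw [hkk, hll, hbb, one_mul]
    obtain ⟨a₁, p1, p2, p3⟩ := F.exists_ak nil h E hb₀ hw hK hk hkk
    obtain ⟨a₂, q1, q2, q3⟩ := F.exists_ak nil h E hb₀ hw hK hl hll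
    obtain ⟨a₃, r1, r2, r3⟩ := F.exists_ak nil h E hb₀ hw hK (mul_mem hk hl) h4
    rw [← p2] at h1
    rw [← q2] at h2
    rw [← r2] at h3
    rw [add_left_cancel (E.inj h1), add_left_cancel (E.inj h2), add_left_cancel (E.inj h3)]
    have h6 : a₃ = a₁ + a₂ + b := by
      apply E.inj
      rw [E.add, E.add, r1, p1, q1, qq_mul hs h hK hk hl]
      have c1 : ι b * qq (ι w) l = qq (ι w) l * ι b := (RZ_le_centralizer h (qq_mem hs h hK hl)).symm
      calc ι b * (qq (ι w) k * qq (ι w) l) = (ι b * qq (ι w) k) * qq (ι w) l * (ι b * ι b) := by rw [hbb]; group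
        _ = (ι b * qq (ι w) k) * (qq (ι w) l * ι b) * ι b := by group
        _ = _ := by rw [← c1]
    rw [h6, F.addr, F.addr, hwb]
  -- `P (k k^c)`
  have pcc : ∀ {k} (_ : k ∈ K) (_ : k * k = ι b), P (k * (c * k * c⁻¹)) := by
    intro k hk hkk a'' ha''
    have hk' := cK hk
    have hkk' := csq hkk
    obtain ⟨a, -, p2, p3⟩ := F.exists_ak nil h E hb₀ hw hK hk hkk
    obtain ⟨a', -, q2, q3⟩ := F.exists_ak nil h E hb₀ hw hK hk' hkk'
    have h1 := prod hk hkk hk' hkk' (hrot k hk hkk) p2 q2 ha''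
    rcases Blk.z2 (β w a) with h2 | h2
    · have h3 : β w a' = 0 := by
        rcases Blk.z2 (β w a') with h3 | h3
        · exact h3
        exfalso
        -- go round: `σ`
        have h4 : ι (σ w + σ a) = (c * k * c⁻¹) * ι (σ w) * (c * k * c⁻¹)⁻¹ := by
          rw [E.add, hσ, hσ]
          calc c * ι w * c⁻¹ * (c * ι a * c⁻¹) = c * (ι w * ι a) * c⁻¹ := by group
            _ = c * (k * ι w * k⁻¹) * c⁻¹ := by rw [← E.add, p2]
            _ = _ := by group
        have hw' : β b (σ w) = 1 := by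
          have := F.conj nil h E hcD hσ b w
          rw [hσb] at this
          rw [this, hw]
        have h5 := F.chi_indep nil h E hb₀ hw hw' hK hk' q2 q3 h4
        rw [F.conj nil h E hcD hσ, h2, h3] at h5
        exact absurd h5 (by decide)
      rw [h1, h2, h3]; decide
    · have h3 : β w a' = 1 := inv hk hkk (fun a₁ ha₁ => by
        rw [← p2] at ha₁
        rw [add_left_cancel (E.inj ha₁), h2]) a' q2
      rw [h1, h2, h3]; decide
  -- all `k`
  have all : ∀ {k} (_ : k ∈ K) (_ : k * k = ι b), P k := by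
    intro k hk hkk
    have hk' := cK hk
    have hkk' := csq hkk
    have hne := hrot k hk hkk
    obtain ⟨q, qa, q0, q1⟩ := hK.exists_q2 h hk hkk hk' hkk' hne
    have q2 : q 2 = k * (c * k * c⁻¹) := by
      have := qa.mul 0
      rw [q0] at this
      simp only [zero_add] at this
      rw [q1] at this
      exact this.symm
    -- `l = k k^c`
    obtain ⟨l, hl⟩ : ∃ l, l = k * (c * k * c⁻¹) := ⟨_, rfl⟩
    have hlK : l ∈ K := by rw [hl]; exact mul_mem hk hk'
    have hll : l * l = ι b := by rw [hl, ← q2]; exact qa.sq 2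
    have hPl : P l := by rw [hl]; exact pcc hk hkk
    have hl' := cK hlK
    have hll' := csq hll
    have hPl' : P (c * l * c⁻¹) := inv hlK hll hPl
    have hPll : P (l * (c * l * c⁻¹)) := pcc hlK hll
    have hnl := hrot l hlK hll
    obtain ⟨p, pa, p0, p1⟩ := hK.exists_q2 h hlK hll hl' hll' hnl
    have p2 : p 2 = l * (c * l * c⁻¹) := by
      have := pa.mul 0
      rw [p0] at this
      simp only [zero_add] at this
      rw [p1] at this
      exact this.symm
    have key : ∀ i, P (p i) := by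
      intro i
      fin_cases i
      · show P (p 0); rw [p0]; exact hPl
      · show P (p 1); rw [p1]; exact hPl'
      · show P (p 2); rw [p2]; exact hPll
    obtain ⟨i, hi⟩ := pa.of_sq hk hkk
    rcases hi with hi | hi
    · rw [hi]; exact key i
    · intro a ha
      rw [hi, hbK (pa.mem i)] at ha
      exact key i a ha
  intro k hk hkk
  obtain ⟨a, -, h2, -⟩ := F.exists_ak nil h E hb₀ hw hK hk hkk
  rw [← sI_eq_one, ← F.chi_val hw₀ h2]
  exact all hk hkk a h2

/-! ### Charts in the group -/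

/-- a chart in the group -/
structure ChtG (Om : Set (Subgroup G)) (D : Set G) {I : Type*} [DecidableEq I] (e : I → I → G) : Prop where
  cl : ∀ i j, e i j ∈ closure D
  add : ∀ i j k, e i j * e j k = e i k
  mem : ∀ i j k l, Dst i j k l → e i j * e k l ∈ D
  inB : ∀ i j k l, Dst i j k l → e i j ∈ RZ Om (e i j * e k l)
  swp : ∀ i j k l, Dst i j k l → ∀ p q, Swp Om (e i j * e k l) (e p q) ↔
    (dl i p + dl j p + dl k p + dl l p) + (dl i q + dl j q + dl k q + dl l q) = 1
  inj : ∀ i j k l i' j' k' l', Dst i j k l → Dst i' j' k' l' → e i j * e k l = e i' j' * e k' l' →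
    i' = i ∨ i' = j ∨ i' = k ∨ i' = l
  mem_B : ∀ i j k l, Dst i j k l → ∀ x ∈ closure D, x ∈ RZ Om (e i j * e k l) → x = 1 ∨ x = e i j * e k l ∨
    x = e i j ∨ x = e k l ∨ x = e i k ∨ x = e j l ∨ x = e i l ∨ x = e j k
  act : ∀ i j k l, Dst i j k l → ∃ K, Mem Om (e i j * e k l) K ∧ ∃ y ∈ K, y * y = e i j * e k l ∧
    ∀ p q, y * e p q * y⁻¹ = e (Equiv.swap i j (Equiv.swap k l p)) (Equiv.swap i j (Equiv.swap k l q))

/-- `v` is in the chart -/
def InG {I : Type*} (e : I → I → G) (v : G) : Prop := ∃ i j k l, Dst i j k l ∧ v = e i j * e k l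

end Fin

/-- the action of `V₄` in an abstract chart -/
theorem _root_.Cfsg.Agent.Cit.Nil.RTwoM.Blk.Cht.sg_eq {N : Type*} [AddCommGroup N] {D : Set N} {β : N → N → ZMod 2}
    {B : N → AddSubgroup N} {I : Type*} [DecidableEq I] {e : I → I → N} (c : Cht D β B e) (h : Blk.One D β B)
    {i j k l : I} (hd : Dst i j k l) (p q : I) :
    sg β 1 (e i j + e k l) (e i j) (e p q) =
      e (Equiv.swap i j (Equiv.swap k l p)) (Equiv.swap i j (Equiv.swap k l q)) := by
  have hadd : ∀ x y : N, sg β 1 (e i j + e k l) (e i j) (x + y) =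
      sg β 1 (e i j + e k l) (e i j) x + sg β 1 (e i j + e k l) (e i j) y := by
    intro x y
    simp only [sg, h.addl, h.sm_add]
    abel
  have s1 : Equiv.swap i j (Equiv.swap k l i) = j := by
    rw [Equiv.swap_apply_of_ne_of_ne hd.ik hd.il, Equiv.swap_apply_left]
  -- the special case
  have key : ∀ q, sg β 1 (e i j + e k l) (e i j) (e i q) = e j (Equiv.swap i j (Equiv.swap k l q)) := by
    intro q
    have f1 : β (e i q) (e i j + e k l) = (1 + dl i j + dl i k + dl i l) + (dl i q + dl j q + dl k q + dl l q) := by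
      rw [h.addr, c.form, c.form, dl_self, Blk.dl_comm q i, Blk.dl_comm q j, Blk.dl_comm q k, Blk.dl_comm q l]; ring
    have f2 : β (e i q) (e i j) = (1 + dl i j) + (dl i q + dl j q) := by
      rw [c.form, dl_self, Blk.dl_comm q i, Blk.dl_comm q j]; ring
    rw [dl_ne hd.ij, dl_ne hd.ik, dl_ne hd.il] at f1
    rw [dl_ne hd.ij] at f2
    by_cases q1 : q = i
    · subst q1
      rw [s1, c.self]
      have h0 : sg β 1 (e q j + e k l) (e q j) (0 : N) = 0 := by
        rw [sg, h.zl, h.zl, sm_zero, sm_zero, add_zero, add_zero]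
      rw [h0, c.self]
    by_cases q2 : q = j
    · subst q2
      rw [dl_ne hd.ij, dl_self, dl_ne hd.jk.symm, dl_ne hd.jl.symm] at f1
      rw [dl_ne hd.ij, dl_self] at f2
      rw [Equiv.swap_apply_of_ne_of_ne hd.jk hd.jl, Equiv.swap_apply_right, sg, f1, f2,
        show (1 : ZMod 2) + 0 + 0 + 0 + (0 + 1 + 0 + 0) = 0 by decide, show (1 : ZMod 2) + 0 + (0 + 1) = 0 by decide,
        sm_zero, sm_zero, add_zero, add_zero, c.sy h]
    by_cases q3 : q = k
    · subst q3
      rw [dl_ne hd.ik, dl_ne hd.jk, dl_self, dl_ne hd.kl.symm] at f1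
      rw [dl_ne hd.ik, dl_ne hd.jk] at f2
      rw [Equiv.swap_apply_left, Equiv.swap_apply_of_ne_of_ne hd.il.symm hd.jl.symm, sg, f1, f2,
        show (1 : ZMod 2) + 0 + 0 + 0 + (0 + 0 + 1 + 0) = 0 by decide, show (1 : ZMod 2) + 0 + (0 + 0) = 1 by decide,
        sm_zero, sm_one, add_zero, ← add_assoc, add_comm (e i q), c.add' h i j q, c.add]
    by_cases q4 : q = l
    · subst q4
      rw [dl_ne hd.il, dl_ne hd.jl, dl_ne hd.kl, dl_self] at f1
      rw [dl_ne hd.il, dl_ne hd.jl] at f2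
      rw [Equiv.swap_apply_right, Equiv.swap_apply_of_ne_of_ne hd.ik.symm hd.jk.symm, sg, f1, f2,
        show (1 : ZMod 2) + 0 + 0 + 0 + (0 + 0 + 0 + 1) = 0 by decide, show (1 : ZMod 2) + 0 + (0 + 0) = 1 by decide,
        sm_zero, sm_one, add_zero, ← add_assoc, add_comm (e i q), c.add' h i j q, c.sy h k q, c.add]
    · rw [dl_ne (Ne.symm q1), dl_ne (Ne.symm q2), dl_ne (Ne.symm q3), dl_ne (Ne.symm q4)] at f1
      rw [dl_ne (Ne.symm q1), dl_ne (Ne.symm q2)] at f2
      rw [Equiv.swap_apply_of_ne_of_ne q3 q4, Equiv.swap_apply_of_ne_of_ne q1 q2, sg, f1, f2,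
        show (1 : ZMod 2) + 0 + 0 + 0 + (0 + 0 + 0 + 0) = 1 by decide, show (1 : ZMod 2) + 0 + (0 + 0) = 1 by decide]
      simp only [sm_one]
      calc e i q + (e i j + (e i j + e k l)) + (e i j + e k l)
          = (e i j + e i q) + ((e i j + e k l) + (e i j + e k l)) := by abel
        _ = e j q := by rw [h.two, add_zero, c.add' h i j q]
  rw [← c.add' h i p q, hadd, key, key, c.add' h]

section Fin

variable [Finite G]

/-- an abstract chart gives a chart in the group -/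
theorem ChtG.of {N : Type*} [AddCommGroup N] {ι : N → G} {β : N → N → ZMod 2} {B : N → AddSubgroup N} {I : Type*}
    [DecidableEq I] {e : I → I → N} (nil : NilS Om D) (h : WM Om)
    (E : Emb D ι) (F : Form Om D ι β) (hB : ∀ b x, x ∈ B b ↔ ι x ∈ RZ Om (ι b))
    (one : Blk.One {b | ι b ∈ D ∧ ∃ w, β b w = 1} β B)
    (act : ∀ b, ι b ∈ D → (∃ w, β b w = 1) → ∀ a ∈ B b, a ≠ 0 → a ≠ b → ∃ K, Mem Om (ι b) K ∧ ∃ k ∈ K,
      k * k = ι b ∧ ∀ n, k * ι n * k⁻¹ = ι (sg β 1 b a n))
    (c : Cht {b | ι b ∈ D ∧ ∃ w, β b w = 1} β B e) : ChtG Om D fun i j => ι (e i j) := by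
  refine
    { cl := fun i j => E.cl _
      add := fun i j k => by rw [← E.add, c.add]
      mem := fun i j k l hd => by rw [← E.add]; exact (c.mem i j k l hd).1
      inB := fun i j k l hd => by rw [← E.add, ← hB]; exact c.inB i j k l hd
      swp := ?_
      inj := ?_
      mem_B := ?_
      act := ?_ }
  · intro i j k l hd p q
    rw [← E.add, ← F.swp (c.mem i j k l hd).1, F.addl, c.form, c.form]
    have h1 : dl i p + dl i q + dl j p + dl j q + (dl k p + dl k q + dl l p + dl l q) =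
        (dl i p + dl j p + dl k p + dl l p) + (dl i q + dl j q + dl k q + dl l q) := by ring
    rw [h1]
  · intro i j k l i' j' k' l' hd hd' he
    rw [← E.add, ← E.add] at he
    exact c.inj one hd hd' (E.inj he)
  · intro i j k l hd x hx hxB
    obtain ⟨x, rfl⟩ := E.ex hx
    rw [← E.add, ← hB] at hxB
    have f1 : β (e i j) (e i k) = 1 := by
      rw [c.form, dl_self, dl_ne hd.ik, dl_ne hd.ij.symm, dl_ne hd.jk]; decide
    have h1 := one.cov (c.mem i j k l hd) (c.inB i j k l hd) (c.inB₂ one hd) f1 hxB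
    have two := one.two
    have e1 : e i k + (e i j + e k l) = e j l := by
      rw [c.q₁ one, ← add_assoc, two, zero_add]
    have e2 : e i j + (e i j + e k l) = e k l := by rw [← add_assoc, two, zero_add]
    have e3 : e i k + e i j = e j k := by rw [add_comm, c.add' one]
    have e4 : e i k + e i j + (e i j + e k l) = e i l := by
      rw [e3, c.q₂ one]
      calc e j k + (e i l + e j k) = e i l + (e j k + e j k) := by abel
        _ = _ := by rw [two, add_zero]
    rcases Blk.z2 (β x (e i k)) with p | p <;> rcases Blk.z2 (β x (e i j)) with q | q <;> rw [p, q] at h1 <;>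
      simp only [sm_zero, sm_one, zero_add, add_zero] at h1 <;> rcases h1 with h1 | h1
    · left; rw [h1, E.zero]
    · right; left; rw [h1, E.add]
    · right; right; right; right; left; rw [h1]
    · right; right; right; right; right; left; rw [h1, e1]
    · right; right; left; rw [h1]
    · right; right; right; left; rw [h1, e2]
    · right; right; right; right; right; right; right
      rw [h1, add_comm, e3]
    · right; right; right; right; right; right; left
      rw [h1, add_comm (e i j) (e i k), e4]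
  · intro i j k l hd
    have hm := c.mem i j k l hd
    have f1 : β (e i j) (e i k) = 1 := by
      rw [c.form, dl_self, dl_ne hd.ik, dl_ne hd.ij.symm, dl_ne hd.jk]; decide
    have n0 : e i j ≠ 0 := by
      intro h0
      rw [h0, one.zl] at f1
      exact absurd f1 (by decide)
    have n1 : e i j ≠ e i j + e k l := by
      intro h0
      rw [h0, one.perp _ hm _ (c.inB₂ one hd)] at f1
      exact absurd f1 (by decide)
    obtain ⟨K, hK, y, hy, hyy, h1⟩ := act _ hm.1 hm.2 _ (c.inB i j k l hd) n0 n1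
    rw [E.add] at hK hyy
    exact ⟨K, hK, y, hy, hyy, fun p q => by rw [h1, c.sg_eq one hd]⟩

/-- **BLOCK THEOREM in the group** -/
theorem NilS.exists_block (nil : NilS Om D) (h : WM Om) (hp : Pat1 Om D) (hu : u ∈ D) (huw : ∃ w ∈ D, Swp Om u w) :
    ∃ n, 5 ≤ n ∧ ∃ e : Fin n → Fin n → G, ChtG Om D e ∧ InG e u ∧
      ∀ v ∈ D, InG e v ∨ ((∀ i j, ¬ Swp Om v (e i j)) ∧ ∀ i j k l, Dst i j k l → CP Om v (e i j * e k l)) := by
  obtain ⟨N, _, _, ι, E⟩ := nil.exists_emb
  obtain ⟨β, F⟩ := nil.exists_form h E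
  have two := E.two nil h
  obtain ⟨B, hB⟩ : ∃ B : N → AddSubgroup N, ∀ b x, x ∈ B b ↔ ι x ∈ RZ Om (ι b) := by
    refine ⟨fun b =>
      { carrier := {x | ι x ∈ RZ Om (ι b)}
        add_mem' := ?_
        zero_mem' := ?_
        neg_mem' := ?_ }, fun b x => Iff.rfl⟩
    · intro x y hx hy
      show ι (x + y) ∈ RZ Om (ι b)
      rw [E.add]; exact mul_mem hx hy
    · show ι 0 ∈ RZ Om (ι b)
      rw [E.zero]; exact one_mem _
    · intro x hx
      show ι (-x) ∈ RZ Om (ι b)
      rw [E.neg]; exact inv_mem hx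
  obtain ⟨one, act⟩ := nil.exists_one h E F B hB hp
  obtain ⟨u', rfl⟩ := E.ex (subset_closure hu)
  obtain ⟨w, hwD, hsw⟩ := huw
  obtain ⟨w', rfl⟩ := E.ex (subset_closure hwD)
  have hu' : u' ∈ {b | ι b ∈ D ∧ ∃ w, β b w = 1} := ⟨hu, w', (F.swp hu).2 hsw⟩
  obtain ⟨n, hn, e, c, hin, hall⟩ := Blk.exists_block one hu'
  have cg := ChtG.of nil h E F hB one act c
  refine ⟨n, hn, _, cg, ?_, ?_⟩
  · obtain ⟨i, j, k, l, hd, h1⟩ := hin
    exact ⟨i, j, k, l, hd, by rw [h1, E.add]⟩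
  · intro v hv
    obtain ⟨v', rfl⟩ := E.ex (subset_closure hv)
    by_cases hin' : InC e v'
    · left
      obtain ⟨i, j, k, l, hd, h1⟩ := hin'
      exact ⟨i, j, k, l, hd, by rw [h1, E.add]⟩
    right
    have h0 : ∀ i j, β v' (e i j) = 0 := by
      by_cases hA : ∃ w, β v' w = 1
      · exact (hall v' ⟨hv, hA⟩).resolve_left hin'
      · intro i j
        rcases Blk.z2 (β v' (e i j)) with h1 | h1
        · exact h1
        · exact absurd ⟨_, h1⟩ hA
    refine ⟨fun i j => ?_, fun i j k l hd => ?_⟩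
    · rw [← F.swp hv, h0]; decide
    · rw [← E.add]
      obtain ⟨hm, w, hw⟩ := c.mem i j k l hd
      refine F.cp_of nil h E hv hm hw (fun h1 => hin' ⟨i, j, k, l, hd, h1⟩) fun x hx => ?_
      obtain ⟨p, q, r, s, rfl⟩ := c.mem_B one hd ((hB _ _).2 hx)
      rw [F.addr, h0, h0, zero_add]

end Fin

end Cfsg.Agent.Cit.Nil.RTwoM
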