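import Cfsg.Agent.Cit.Nil.RTwoM.BlkDef

/-!
# `r = 2`, any `m`: the calculus of block data; the pattern lemma when `χ = 1`
-/

set_option autoImplicit false
set_option linter.unusedSimpArgs false

namespace Cfsg.Agent.Cit.Nil.RTwoM.Blk

variable {N : Type*} [AddCommGroup N] {D : Set N} {β : N → N → ZMod 2} {B : N → AddSubgroup N} {χ : N → N → ZMod 2}
  {a a' b c d u v w x y z a₁ a₂ a₃ b₁ b₂ b₃ : N}

namespace Data

theorem neg (h : Data D β B χ) (x : N) : -x = x := neg_eq_of_add_eq_zero_left (h.two x)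

theorem cancel (h : Data D β B χ) (hxy : x + y = 0) : x = y := by
  rw [eq_neg_of_add_eq_zero_left hxy, h.neg]

theorem addc (h : Data D β B χ) (x y : N) : x + (x + y) = y := by
  rw [← add_assoc, h.two, zero_add]

theorem addc' (h : Data D β B χ) (x y : N) : x + (y + x) = y := by
  rw [add_comm y x, h.addc]

theorem sub (h : Data D β B χ) (x y : N) : x - y = x + y := by
  rw [sub_eq_add_neg, h.neg]

theorem symm (h : Data D β B χ) (x y : N) : β x y = β y x := by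
  have h1 := h.alt (x + y)
  rw [h.addl, h.addr, h.addr, h.alt, h.alt, zero_add, add_zero] at h1
  have key : ∀ s t : ZMod 2, s + t = 0 → s = t := by decide
  exact key _ _ h1

theorem zl (h : Data D β B χ) (x : N) : β 0 x = 0 := by
  have h1 := h.addl 0 0 x
  rw [add_zero] at h1
  exact left_eq_add.1 h1

theorem zr (h : Data D β B χ) (x : N) : β x 0 = 0 := by rw [h.symm, h.zl]

theorem sml (h : Data D β B χ) (ε : ZMod 2) (x y : N) : β (sm ε x) y = ε * β x y := by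
  rcases z2 ε with rfl | rfl
  · rw [sm_zero, h.zl, zero_mul]
  · rw [sm_one, one_mul]

theorem smr (h : Data D β B χ) (ε : ZMod 2) (x y : N) : β x (sm ε y) = ε * β x y := by
  rw [h.symm, h.sml, h.symm]

theorem sm_add (h : Data D β B χ) (ε ε' : ZMod 2) (x : N) : sm (ε + ε') x = sm ε x + sm ε' x := by
  rcases z2 ε with rfl | rfl <;> rcases z2 ε' with rfl | rfl
  · simp
  · simp
  · simp
  · rw [sm_one, h.two, show (1 : ZMod 2) + 1 = 0 by decide, sm_zero]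

theorem sm_mem {S : AddSubgroup N} (ε : ZMod 2) (hx : x ∈ S) : sm ε x ∈ S := by
  rcases z2 ε with rfl | rfl
  · rw [sm_zero]; exact zero_mem _
  · rwa [sm_one]

/-- `sg` is an isometry -/
theorem isom (h : Data D β B χ) (ε : ZMod 2) (hab : β b a = 0) (x y : N) :
    β (sg β ε b a x) (sg β ε b a y) = β x y := by
  simp only [sg, h.addl, h.addr, h.sml, h.smr, h.alt, h.symm a b, hab, h.symm b y, h.symm a y]
  generalize β x b = p, β x a = q, β y b = r, β y a = s, β x y = t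
  revert ε p q r s t
  decide

/-- `sg` is an involution -/
theorem inv (h : Data D β B χ) (ε : ZMod 2) (hab : β b a = 0) (x : N) : sg β ε b a (sg β ε b a x) = x := by
  have h1 : β (sg β ε b a x) b = β x b := by
    simp only [sg, h.addl, h.sml, h.alt, h.symm a b, hab]
    ring
  have h2 : β (sg β ε b a x) a = β x a := by
    simp only [sg, h.addl, h.sml, h.alt, hab]
    ring
  have h3 : sg β ε b a (sg β ε b a x) = sg β ε b a x + sm (β x b) (a + sm ε b) + sm (β x a) b := by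
    conv_lhs => rw [sg, h1, h2]
  rw [h3, sg]
  have h4 := h.two (sm (β x b) (a + sm ε b))
  have h5 := h.two (sm (β x a) b)
  calc x + sm (β x b) (a + sm ε b) + sm (β x a) b + sm (β x b) (a + sm ε b) + sm (β x a) b
      = x + (sm (β x b) (a + sm ε b) + sm (β x b) (a + sm ε b)) + (sm (β x a) b + sm (β x a) b) := by abel
    _ = x := by rw [h4, h5, add_zero, add_zero]

theorem perp' (h : Data D β B χ) (hb : b ∈ D) (ha : a ∈ B b) : β a b = 0 := by
  rw [h.symm, h.perp b hb a ha]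

/-- the action on `B` backwards -/
theorem actB' (h : Data D β B χ) (hb : b ∈ D) (ha : a ∈ B b) (h0 : a ≠ 0) (h1 : a ≠ b) (hc : c ∈ D)
    (hx : x ∈ B (sg β (χ b a) b a c)) : sg β (χ b a) b a x ∈ B c := by
  have h2 := h.actB b hb a ha h0 h1 _ (h.act b hb a ha h0 h1 c hc) x hx
  rwa [h.inv _ (h.perp b hb a ha)] at h2

/-- the eight elements of `B b` -/
theorem cov (h : Data D β B χ) (hb : b ∈ D) (ha : a ∈ B b) (ha' : a' ∈ B b) (haa : β a a' = 1) (hx : x ∈ B b) :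
    x = sm (β x a') a + sm (β x a) a' ∨ x = sm (β x a') a + sm (β x a) a' + b := by
  have n0 : a ≠ 0 := by rintro rfl; rw [h.zl] at haa; exact absurd haa (by decide)
  have n0' : a' ≠ 0 := by rintro rfl; rw [h.zr] at haa; exact absurd haa (by decide)
  have n1 : a ≠ b := by rintro rfl; rw [h.perp a hb a' ha'] at haa; exact absurd haa (by decide)
  have n1' : a' ≠ b := by rintro rfl; rw [h.perp' hb ha] at haa; exact absurd haa (by decide)
  set s := sm (β x a') a + sm (β x a) a' with hs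
  have hsm : s ∈ B b := add_mem (sm_mem _ ha) (sm_mem _ ha')
  have haa' : β a' a = 1 := by rw [h.symm]; exact haa
  have h1 : β (x + s) a = 0 := by
    rw [h.addl, hs, h.addl, h.sml, h.sml, h.alt, haa', mul_zero, zero_add, mul_one]
    generalize β x a = p
    revert p; decide
  have h2 : β (x + s) a' = 0 := by
    rw [h.addl, hs, h.addl, h.sml, h.sml, h.alt, haa, mul_zero, add_zero, mul_one]
    generalize β x a' = p
    revert p; decide
  have hm : x + s ∈ B b := add_mem hx hsm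
  have fin : x + s = 0 ∨ x + s = b → x = s ∨ x = s + b := by
    rintro (h3 | h3)
    · exact Or.inl (h.cancel h3)
    · right
      rw [← h3, add_comm x s, h.addc]
  apply fin
  rcases h.nd b hb _ hm _ ha h1 with h3 | h3 | h3 | h3 | h3 | h3
  · exact Or.inl h3
  · exact Or.inr h3
  · exact absurd h3 n0
  · exact absurd h3 n1
  · exfalso
    rw [← h3, haa] at h2
    exact absurd h2 (by decide)
  · exfalso
    have h4 : x + s = a + b := by rw [h3, add_assoc, h.two, add_zero]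
    rw [h4, h.addl, haa, h.perp b hb a' ha'] at h2
    exact absurd h2 (by decide)

end Data

/-- coordinates of `B u` with respect to a swap partner `w` of `u` -/
structure Tri (β : N → N → ZMod 2) (Bu : AddSubgroup N) (u w a₁ a₂ a₃ : N) : Prop where
  m₁ : a₁ ∈ Bu
  m₂ : a₂ ∈ Bu
  m₃ : a₃ ∈ Bu
  sum : a₁ + a₂ + a₃ = u
  w₁ : β w a₁ = 1
  w₂ : β w a₂ = 1
  w₃ : β w a₃ = 1
  c₁₂ : β a₁ a₂ = 1
  c₁₃ : β a₁ a₃ = 1
  c₂₃ : β a₂ a₃ = 1
  cov : ∀ x ∈ Bu, x = 0 ∨ x = a₁ ∨ x = a₂ ∨ x = a₃ ∨ x = a₁ + a₂ ∨ x = a₁ + a₃ ∨ x = a₂ + a₃ ∨ x = u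

theorem Tri.rot (t : Tri β (B u) u w a₁ a₂ a₃) (h : Data D β B χ) : Tri β (B u) u w a₂ a₃ a₁ := by
  refine ⟨t.m₂, t.m₃, t.m₁, ?_, t.w₂, t.w₃, t.w₁, t.c₂₃, ?_, ?_, ?_⟩
  · rw [← t.sum]; abel
  · rw [h.symm]; exact t.c₁₂
  · rw [h.symm]; exact t.c₁₃
  · intro x hx
    rcases t.cov x hx with h1 | h1 | h1 | h1 | h1 | h1 | h1 | h1
    · exact Or.inl h1
    · exact Or.inr (Or.inr (Or.inr (Or.inl h1)))
    · exact Or.inr (Or.inl h1)
    · exact Or.inr (Or.inr (Or.inl h1))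
    · exact Or.inr (Or.inr (Or.inr (Or.inr (Or.inr (Or.inl (by rw [h1, add_comm]))))))
    · exact Or.inr (Or.inr (Or.inr (Or.inr (Or.inr (Or.inr (Or.inl (by rw [h1, add_comm])))))))
    · exact Or.inr (Or.inr (Or.inr (Or.inr (Or.inl h1))))
    · exact Or.inr (Or.inr (Or.inr (Or.inr (Or.inr (Or.inr (Or.inr h1))))))

theorem Data.exists_tri (h : Data D β B χ) (hu : u ∈ D) (huw : β u w = 1) :
    ∃ a₁ a₂ a₃, Tri β (B u) u w a₁ a₂ a₃ := by
  obtain ⟨a, ha, a', ha', haa⟩ := h.bas u hu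
  have hwu : β w u = 1 := by rw [h.symm]; exact huw
  have hat : ∀ a ∈ B u, ∃ a₁ ∈ B u, β w a₁ = 1 ∧ ∀ y ∈ B u, β a₁ y = β a y := by
    intro a ha
    rcases z2 (β w a) with h1 | h1
    · refine ⟨a + u, add_mem ha (h.mem u hu), ?_, fun y hy => ?_⟩
      · rw [h.addr, h1, hwu, zero_add]
      · rw [h.addl, h.perp u hu y hy, add_zero]
    · exact ⟨a, ha, h1, fun _ _ => rfl⟩
  obtain ⟨a₁, m₁, w₁, e₁⟩ := hat a ha
  obtain ⟨a₂, m₂, w₂, e₂⟩ := hat a' ha'
  have c₁₂ : β a₁ a₂ = 1 := by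
    rw [e₁ _ m₂, h.symm, e₂ _ ha, h.symm]; exact haa
  have c₂₁ : β a₂ a₁ = 1 := by rw [h.symm]; exact c₁₂
  have m₃ : u + a₁ + a₂ ∈ B u := add_mem (add_mem (h.mem u hu) m₁) m₂
  refine ⟨a₁, a₂, u + a₁ + a₂, m₁, m₂, m₃, ?_, w₁, w₂, ?_, c₁₂, ?_, ?_, ?_⟩
  · calc a₁ + a₂ + (u + a₁ + a₂) = u + (a₁ + a₁) + (a₂ + a₂) := by abel
      _ = u := by rw [h.two, h.two, add_zero, add_zero]
  · rw [h.addr, h.addr, hwu, w₁, w₂]; decide
  · rw [h.addr, h.addr, h.perp' hu m₁, h.alt, c₁₂]; decide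
  · rw [h.addr, h.addr, h.perp' hu m₂, h.alt, c₂₁]; decide
  · intro x hx
    have e1 : u + a₁ + a₂ = a₁ + a₂ + u := by abel
    have e2 : a₁ + (u + a₁ + a₂) = a₂ + u := by
      rw [show a₁ + (u + a₁ + a₂) = a₁ + a₁ + (a₂ + u) by abel, h.two, zero_add]
    have e3 : a₂ + (u + a₁ + a₂) = a₁ + u := by
      rw [show a₂ + (u + a₁ + a₂) = a₂ + a₂ + (a₁ + u) by abel, h.two, zero_add]
    rw [e1, ← e1, e2, e3, e1]
    rcases z2 (β x a₁) with p | p <;> rcases z2 (β x a₂) with q | q <;>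
      rcases h.cov hu m₁ m₂ c₁₂ hx with h1 | h1 <;>
      rw [p, q] at h1 <;> simp only [sm_zero, sm_one, zero_add, add_zero] at h1 <;> simp [h1]

theorem Tri.s₁ (t : Tri β (B u) u w a₁ a₂ a₃) (h : Data D β B χ) (hu : u ∈ D) :
    sg β 1 u a₁ w = w + a₁ := by
  have h1 : β w u = 1 := by
    rw [← t.sum, h.addr, h.addr, t.w₁, t.w₂, t.w₃]; decide
  rw [sg, h1, t.w₁]
  simp only [sm_one]
  calc w + (a₁ + u) + u = w + a₁ + (u + u) := by abel
    _ = w + a₁ := by rw [h.two, add_zero]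

theorem Tri.ne₁ (t : Tri β (B u) u w a₁ a₂ a₃) (h : Data D β B χ) (hu : u ∈ D) : a₁ ≠ 0 ∧ a₁ ≠ u := by
  constructor
  · intro h1
    have := t.c₁₂
    rw [h1, h.zl] at this
    exact absurd this (by decide)
  · intro h1
    have := t.c₁₂
    rw [h1, h.perp u hu a₂ t.m₂] at this
    exact absurd this (by decide)

theorem Tri.uw (t : Tri β (B u) u w a₁ a₂ a₃) (h : Data D β B χ) : β w u = 1 := by
  rw [← t.sum, h.addr, h.addr, t.w₁, t.w₂, t.w₃]; decide

/-- (E): a row of the matrix is a unit vector -/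
theorem Data.row (h : One D β B) (hu : u ∈ D) (hw : w ∈ D) (t : Tri β (B u) u w a₁ a₂ a₃)
    (t' : Tri β (B w) w u b₁ b₂ b₃) (h₁ : β a₁ b₁ = 1) (h₂ : β a₁ b₂ = 0) (h₃ : β a₁ b₃ = 0) :
    u + w = a₁ + b₁ := by
  have hwu := t.uw h
  have huw := t'.uw h
  obtain ⟨n0, n1⟩ := t.ne₁ h hu
  obtain ⟨n0', n1'⟩ := t'.ne₁ h hw
  have hc : w + a₁ ∈ D := by
    rw [← t.s₁ h hu]; exact h.act u hu a₁ t.m₁ n0 n1 w hw
  have hd : u + b₁ ∈ D := by
    rw [← t'.s₁ h hw]; exact h.act w hw b₁ t'.m₁ n0' n1' u hu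
  by_contra hne
  have hne' : u + b₁ ≠ w + a₁ := by
    intro h4
    apply hne
    calc u + w = (u + b₁) + (b₁ + w) := by
          rw [show (u + b₁) + (b₁ + w) = u + w + (b₁ + b₁) by abel, h.two, add_zero]
      _ = (w + a₁) + (b₁ + w) := by rw [h4]
      _ = (w + w) + (a₁ + b₁) := by abel
      _ = a₁ + b₁ := by rw [h.two, zero_add]
  have hperp : ∀ x ∈ B (w + a₁), β (u + b₁) x = 0 := by
    intro x hx
    rw [← t.s₁ h hu] at hx
    have h4 := Data.actB' (χ := fun _ _ => 1) h hu t.m₁ n0 n1 hw hx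
    rw [← h.isom 1 (h.perp u hu a₁ t.m₁)]
    have h5 : sg β 1 u a₁ (u + b₁) = u + b₁ + a₁ := by
      rw [sg, h.addl, h.addl, h.alt, h.symm b₁ u, t'.w₁, h.perp u hu a₁ t.m₁, h.symm b₁ a₁, h₁]
      simp only [sm_one, zero_add]
      calc u + b₁ + (a₁ + u) + u = u + b₁ + a₁ + (u + u) := by abel
        _ = _ := by rw [h.two, add_zero]
    rw [h5]
    have k₁ : β (u + b₁ + a₁) b₁ = 0 := by
      rw [h.addl, h.addl, t'.w₁, h.alt, h₁]; decide
    have k₂ : β (u + b₁ + a₁) b₂ = 0 := by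
      rw [h.addl, h.addl, t'.w₂, t'.c₁₂, h₂]; decide
    have k₃ : β (u + b₁ + a₁) b₃ = 0 := by
      rw [h.addl, h.addl, t'.w₃, t'.c₁₃, h₃]; decide
    rcases t'.cov _ h4 with h6 | h6 | h6 | h6 | h6 | h6 | h6 | h6
    · rw [h6, h.zr]
    · rw [h6, k₁]
    · rw [h6, k₂]
    · rw [h6, k₃]
    · rw [h6, h.addr, k₁, k₂]; decide
    · rw [h6, h.addr, k₁, k₃]; decide
    · rw [h6, h.addr, k₂, k₃]; decide
    · rw [h6, ← t'.sum, h.addr, h.addr, k₁, k₂, k₃]; decide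
  have hC := h.sym _ hd _ hc hne' hperp
  have val : ∀ a ∈ B u, β w a = 1 → β a₁ a = 1 → β a b₂ = 0 := by
    intro a ha hwa haa
    have h4 : sg β 1 w b₁ a ∈ B (u + b₁) := by
      rw [← t'.s₁ h hw]
      exact h.actB w hw b₁ t'.m₁ n0' n1' u hu a ha
    have h5 : sg β 1 u a₁ b₂ ∈ B (w + a₁) := by
      rw [← t.s₁ h hu]
      exact h.actB u hu a₁ t.m₁ n0 n1 w hw b₂ t'.m₂
    have h6 := hC _ h4 _ h5
    have e1 : β a w = 1 := by rw [h.symm]; exact hwa
    have e2 : β b₂ u = 1 := by rw [h.symm]; exact t'.w₂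
    have e3 : β b₂ a₁ = 0 := by rw [h.symm]; exact h₂
    have e4 : β a a₁ = 1 := by rw [h.symm]; exact haa
    have e5 : β b₁ a₁ = 1 := by rw [h.symm]; exact h₁
    have e6 : β b₁ u = 1 := by rw [h.symm]; exact t'.w₁
    have e7 : β w b₂ = 0 := h.perp w hw b₂ t'.m₂
    have e8 : β a u = 0 := h.perp' hu ha
    simp only [sg, e1, e2, e3, sm_one, sm_zero, add_zero] at h6
    rcases z2 (β a b₁) with h7 | h7 <;> rw [h7] at h6 <;>
      simp only [sm_zero, sm_one, add_zero, h.addl, h.addr, e1, e2, e3, e4, e5, e6, e7, e8, t'.c₁₂, hwu, t.w₁] at h6 <;>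
      revert h6 <;> generalize β a b₂ = q <;> revert q <;> decide
  have v₂ := val a₂ t.m₂ t.w₂ t.c₁₂
  have v₃ := val a₃ t.m₃ t.w₃ t.c₁₃
  have h8 := t'.w₂
  rw [← t.sum, h.addl, h.addl, h₂, v₂, v₃] at h8
  exact absurd h8 (by decide)

/-- **PATTERN LEMMA**, `χ = 1` : a swap pair is of type P or of type J -/
theorem Data.pat (h : One D β B) (hu : u ∈ D) (hw : w ∈ D) (huw : β u w = 1) :
    (∀ x ∈ B u, β w x = 0 → x ∈ B w) ∨ (∀ x ∈ B u, β w x = 0 → ∀ y ∈ B w, β x y = 0) := by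
  obtain ⟨a₁, a₂, a₃, t⟩ := h.exists_tri hu huw
  obtain ⟨b₁, b₂, b₃, t'⟩ := h.exists_tri (w := u) hw (by rw [h.symm]; exact huw)
  -- rows
  have row : ∀ {a₁ a₂ a₃ : N}, Tri β (B u) u w a₁ a₂ a₃ →
      (∃ b ∈ B w, u + w = a₁ + b) ∨ (β a₁ b₁ = 1 ∧ β a₁ b₂ = 1 ∧ β a₁ b₃ = 1) := by
    intro a₁ a₂ a₃ t
    have hs : β a₁ b₁ + β a₁ b₂ + β a₁ b₃ = 1 := by
      rw [← h.addr, ← h.addr, t'.sum, h.symm]; exact t.w₁
    rcases z2 (β a₁ b₁) with p | p <;> rcases z2 (β a₁ b₂) with q | q <;> rcases z2 (β a₁ b₃) with r | r <;>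
      rw [p, q, r] at hs
    · exact absurd hs (by decide)
    · exact Or.inl ⟨b₃, t'.m₃, h.row hu hw t ((t'.rot h).rot h) r p q⟩
    · exact Or.inl ⟨b₂, t'.m₂, h.row hu hw t (t'.rot h) q r p⟩
    · exact absurd hs (by decide)
    · exact Or.inl ⟨b₁, t'.m₁, h.row hu hw t t' p q r⟩
    · exact absurd hs (by decide)
    · exact absurd hs (by decide)
    · exact Or.inr ⟨p, q, r⟩
  -- the elements `x ∈ B u` with `β w x = 0`
  have cases : ∀ x ∈ B u, β w x = 0 → x = 0 ∨ x = a₁ + a₂ ∨ x = a₁ + a₃ ∨ x = a₂ + a₃ := by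
    intro x hx hwx
    rcases t.cov x hx with h1 | h1 | h1 | h1 | h1 | h1 | h1 | h1
    · exact Or.inl h1
    · rw [h1, t.w₁] at hwx; exact absurd hwx (by decide)
    · rw [h1, t.w₂] at hwx; exact absurd hwx (by decide)
    · rw [h1, t.w₃] at hwx; exact absurd hwx (by decide)
    · exact Or.inr (Or.inl h1)
    · exact Or.inr (Or.inr (Or.inl h1))
    · exact Or.inr (Or.inr (Or.inr h1))
    · rw [h1, t.uw h] at hwx; exact absurd hwx (by decide)
  have colsum : ∀ b, β u b = β a₁ b + β a₂ b + β a₃ b := fun b => by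
    rw [← t.sum, h.addl, h.addl]
  have two : ∀ {a a' b b' : N}, b ∈ B w → b' ∈ B w → u + w = a + b → u + w = a' + b' → a + a' ∈ B w := by
    intro a a' b b' hb hb' e e'
    have h1 : a + a' = b + b' := by
      apply h.cancel
      calc a + a' + (b + b') = (a + b) + (a' + b') := by abel
        _ = 0 := by rw [← e, ← e', h.two]
    rw [h1]; exact add_mem hb hb'
  -- a unit row and a row of ones cannot both occur
  have mixed : ∀ {a₁ a₂ a₃ : N}, Tri β (B u) u w a₁ a₂ a₃ → (∃ b ∈ B w, u + w = a₁ + b) →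
      (β a₂ b₁ = 1 ∧ β a₂ b₂ = 1 ∧ β a₂ b₃ = 1) → False := by
    rintro a₁ a₂ a₃ t ⟨b, hb, e⟩ ⟨q₁, q₂, q₃⟩
    have h1 : a₁ = u + w + b := by rw [e, add_assoc, h.two, add_zero]
    have h3 : ∀ y ∈ B w, β a₂ y = 1 → β b y = β b y := fun _ _ _ => rfl
    have h4 : β a₂ b = 0 := by
      have h5 := t.c₁₂
      rw [h1, h.addl, h.addl, h.perp u hu a₂ t.m₂, t.w₂, h.symm b a₂] at h5
      revert h5
      generalize β a₂ b = p
      revert p; decide
    have h6 : β b w = 0 := h.perp' hw hb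
    have h7 : β u b = 1 := by
      have h5 := t.w₁
      rw [h1, h.addr, h.addr, h.alt, t.uw h, h.perp w hw b hb] at h5
      have h8 : β u a₁ = 0 := h.perp u hu a₁ t.m₁
      rw [h1, h.addr, h.addr, h.alt, t'.uw h] at h8
      revert h8
      generalize β u b = p
      revert p; decide
    have t0 := t'.cov b hb
    have hz : (1 : ZMod 2) ≠ 0 := by decide
    rcases t0 with h8 | h8 | h8 | h8 | h8 | h8 | h8 | h8
    · rw [h8, h.zr] at h7; exact hz h7.symm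
    · rw [h8, q₁] at h4; exact hz h4
    · rw [h8, q₂] at h4; exact hz h4
    · rw [h8, q₃] at h4; exact hz h4
    · rw [h8, h.addr, t'.w₁, t'.w₂] at h7; exact absurd h7 (by decide)
    · rw [h8, h.addr, t'.w₁, t'.w₃] at h7; exact absurd h7 (by decide)
    · rw [h8, h.addr, t'.w₂, t'.w₃] at h7; exact absurd h7 (by decide)
    · rw [h8, ← t'.sum, h.addr, h.addr, q₁, q₂, q₃] at h4; exact absurd h4 (by decide)
  have tr := t.rot h
  have trr := tr.rot h
  rcases row t with r₁ | r₁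
  · -- all rows are unit vectors
    have r₂ : ∃ b ∈ B w, u + w = a₂ + b := by
      rcases row tr with r₂ | r₂
      · exact r₂
      · exact (mixed t r₁ r₂).elim
    have r₃ : ∃ b ∈ B w, u + w = a₃ + b := by
      rcases row trr with r₃ | r₃
      · exact r₃
      · exact (mixed tr r₂ r₃).elim
    obtain ⟨p₁, m₁, e₁⟩ := r₁
    obtain ⟨p₂, m₂, e₂⟩ := r₂
    obtain ⟨p₃, m₃, e₃⟩ := r₃
    left
    intro x hx hwx
    rcases cases x hx hwx with h1 | h1 | h1 | h1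
    · rw [h1]; exact zero_mem _
    · rw [h1]; exact two m₁ m₂ e₁ e₂
    · rw [h1]; exact two m₁ m₃ e₁ e₃
    · rw [h1]; exact two m₂ m₃ e₂ e₃
  · have r₃ : β a₃ b₁ = 1 ∧ β a₃ b₂ = 1 ∧ β a₃ b₃ = 1 := by
      rcases row trr with r₃ | r₃
      · exact (mixed trr r₃ r₁).elim
      · exact r₃
    have r₂ : β a₂ b₁ = 1 ∧ β a₂ b₂ = 1 ∧ β a₂ b₃ = 1 := by
      rcases row tr with r₂ | r₂
      · exact (mixed tr r₂ r₃).elim
      · exact r₂
    right
    have gen : ∀ {a a' : N}, (β a b₁ = 1 ∧ β a b₂ = 1 ∧ β a b₃ = 1) → (β a' b₁ = 1 ∧ β a' b₂ = 1 ∧ β a' b₃ = 1) →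
        ∀ y ∈ B w, β (a + a') y = 0 := by
      rintro a a' ⟨p₁, p₂, p₃⟩ ⟨q₁, q₂, q₃⟩ y hy
      have k₁ : β (a + a') b₁ = 0 := by rw [h.addl, p₁, q₁]; decide
      have k₂ : β (a + a') b₂ = 0 := by rw [h.addl, p₂, q₂]; decide
      have k₃ : β (a + a') b₃ = 0 := by rw [h.addl, p₃, q₃]; decide
      rcases t'.cov y hy with h6 | h6 | h6 | h6 | h6 | h6 | h6 | h6
      · rw [h6, h.zr]
      · rw [h6, k₁]
      · rw [h6, k₂]
      · rw [h6, k₃]
      · rw [h6, h.addr, k₁, k₂]; decide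
      · rw [h6, h.addr, k₁, k₃]; decide
      · rw [h6, h.addr, k₂, k₃]; decide
      · rw [h6, ← t'.sum, h.addr, h.addr, k₁, k₂, k₃]; decide
    intro x hx hwx
    rcases cases x hx hwx with h1 | h1 | h1 | h1
    · intro y _
      rw [h1, h.zl]
    · rw [h1]; exact gen r₁ r₂
    · rw [h1]; exact gen r₁ r₃
    · rw [h1]; exact gen r₂ r₃

end Cfsg.Agent.Cit.Nil.RTwoM.Blk
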