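import Cfsg.Agent.S1301
import Cfsg.Agent.Intrinsic.Basic
import Cfsg.Agent.ClassificationK.PCompTransport
import Cfsg.Agent.PLocal.SubnormalCore
import Cfsg.Agent.SignalizersComponents.EvenComponent
import Cfsg.Agent.Cit.Nil.RG.Delta

/-!
# Layers of subgroups of a fixed group

* `EH H` : the layer `E(H)` as a subgroup of `G`;
* `EH_cj`, `le_norm_EH` : conjugation; `EH_comm` : a 2-subgroup which is normal in `H` centralises `E(H)`;
* **`EH_le_EH`** (L-balance, S1301): `u`, `v` commuting involutions, `O(C(u)) = 1`, `E(C(v)) ≤ C(u)`: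
  `E(C(v)) ≤ E(C(u))`;
* `EH_eq_bot` : no components.
-/

set_option autoImplicit false
set_option linter.style.haveILetI false
set_option linter.unusedSectionVars false

namespace Cfsg.Agent.Cit.Nil.RTwoM

open Subgroup Cfsg Cfsg.Agent.Cit
open Cfsg.Agent.SignalizersComponents Cfsg.Agent.Lib

variable {G : Type*} [Group G]

/-- `E(H)` -/
def EH (H : Subgroup G) : Subgroup G := (layer ↥H).map H.subtype

theorem EH_le (H : Subgroup G) : EH H ≤ H := map_subtype_le _

theorem comp_le_EH {H K : Subgroup G} (hK : K ≤ H) (hc : IsComponent (K.subgroupOf H)) : K ≤ EH H := by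
  intro k hk
  exact ⟨⟨k, hK hk⟩, Components.component_le_layer hc hk, rfl⟩

theorem EH_le_of {H X : Subgroup G} (h : ∀ K : Subgroup G, K ≤ H → IsComponent (K.subgroupOf H) → K ≤ X) :
    EH H ≤ X := by
  rw [EH, map_le_iff_le_comap, Components.layer_le_iff]
  intro K hK k hk
  refine h (K.map H.subtype) (map_subtype_le _) ?_ ⟨k, hk, rfl⟩
  rwa [subgroupOf, comap_map_eq_self_of_injective H.subtype_injective]

theorem comp_of_le {A B K : Subgroup G} (hKA : K ≤ A) (hAB : A ≤ B) (hc : IsComponent (K.subgroupOf B)) :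
    IsComponent (K.subgroupOf A) := by
  refine ⟨?_, Components.isQuasisimple_of_mulEquiv
    ((subgroupOfEquivOfLe (hKA.trans hAB)).trans (subgroupOfEquivOfLe hKA).symm) hc.2⟩
  exact hc.1.comap (inclusion hAB)

theorem EH_cj (g : G) (H : Subgroup G) : EH (cj g H) = cj g (EH H) := by
  have h1 := Components.map_equiv_layer (H.equivMapOfInjective (MulAut.conj g).toMonoidHom (MulAut.conj g).injective)
  have h2 : (layer ↥(H.map (MulAut.conj g).toMonoidHom)).map (H.map (MulAut.conj g).toMonoidHom).subtype =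
      ((layer ↥H).map H.subtype).map (MulAut.conj g).toMonoidHom := by
    rw [← h1, map_map, map_map]
    rfl
  exact h2

theorem le_norm_EH {H : Subgroup G} : H ≤ normalizer (EH H : Set G) := fun h hh => by
  rw [mem_normalizer_iff_cj, ← EH_cj]
  congr 1
  ext x
  rw [mem_cj]
  constructor
  · intro h1
    have h2 := mul_mem (mul_mem hh h1) (inv_mem hh)
    rwa [show h * (h⁻¹ * x * h) * h⁻¹ = x by group] at h2
  · exact fun h1 => mul_mem (mul_mem (inv_mem hh) h1) hh

/-- `E(C(v))` under conjugation -/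
theorem EH_cent_cj (g v : G) : EH (centralizer {g * v * g⁻¹}) = cj g (EH (centralizer {v})) := by
  rw [← EH_cj]
  congr 1
  ext x
  rw [mem_cj, mem_centralizer_singleton_iff, mem_centralizer_singleton_iff]
  constructor
  · intro h1
    calc g⁻¹ * x * g * v = g⁻¹ * (x * (g * v * g⁻¹)) * g := by group
      _ = g⁻¹ * ((g * v * g⁻¹) * x) * g := by rw [h1]
      _ = v * (g⁻¹ * x * g) := by group
  · intro h1
    calc x * (g * v * g⁻¹) = g * (g⁻¹ * x * g * v) * g⁻¹ := by group
      _ = g * (v * (g⁻¹ * x * g)) * g⁻¹ := by rw [h1]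
      _ = g * v * g⁻¹ * x := by group

theorem EH_perfect (H : Subgroup G) : ⁅EH H, EH H⁆ = EH H := by
  have h1 := Components.layer_commutator_self (G := ↥H)
  rw [EH, ← map_commutator, h1]

/-- no components -/
theorem not_comp_of_EH {H : Subgroup G} (h : EH H = ⊥) (K : Subgroup ↥H) : ¬ IsComponent K := fun hK => by
  refine Components.component_ne_bot hK ?_
  rw [EH, map_eq_bot_iff_of_injective _ H.subtype_injective] at h
  exact le_bot_iff.1 ((Components.component_le_layer hK).trans h.le)

section Fin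

variable [Finite G]

/-- a 2-subgroup which is normal in `H` centralises `E(H)` -/
theorem EH_comm {H N : Subgroup G} (hN : N ≤ H) (hn : H ≤ normalizer (N : Set G)) (h2 : IsPGroup 2 N) {n e : G}
    (hnN : n ∈ N) (he : e ∈ EH H) : n * e = e * n := by
  have : Fact (Nat.Prime 2) := ⟨Nat.prime_two⟩
  obtain ⟨e', he', rfl⟩ := he
  have hN' : (N.subgroupOf H).Normal := by
    refine ⟨fun x hx g => ?_⟩
    rw [mem_subgroupOf] at hx ⊢
    exact (mem_normalizer_iff.1 (hn g.2) x).1 hx
  have h3 : N.subgroupOf H ≤ pCore 2 ↥H := Cores.le_pCore hN' (h2.comap_subtype)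
  have h4 : (⟨n, hN hnN⟩ : ↥H) ∈ fittingSubgroup ↥H := Cores.pCore_le_fittingSubgroup 2 (h3 hnN)
  have h5 := mem_centralizer_iff.1 (Components.layer_le_centralizer_fitting he') _ h4
  exact congrArg Subtype.val h5

theorem two_dvd_card_comp {H : Subgroup G} (hO : oddCore ↥H = ⊥) {K : Subgroup ↥H} (hK : IsComponent K) :
    2 ∣ Nat.card K := by
  by_contra h1
  have h2 : (Nat.card K).Coprime 2 := (Nat.Prime.coprime_iff_not_dvd Nat.prime_two).2 h1 |>.symm
  have h3 := CompBasic.subnormal_coprime_le_pPrimeCore hK.1 h2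
  exact Components.component_ne_bot hK (le_bot_iff.1 (h3.trans (le_of_eq hO)))

/-- the 2-layer is the layer if `O(H) = 1` -/
theorem L2_le_EH {H : Subgroup G} (hO : oddCore ↥H = ⊥) : Intrinsic.Basic.L2 H ≤ EH H := by
  refine map_mono ?_
  refine sSup_le fun K hK => ?_
  refine Components.component_le_layer (ClassificationK.PCompTransport.isComponent_of_isPComponent 2 hK ?_)
  have h1 : pPrimeCore 2 ↥H = ⊥ := hO
  rw [h1]
  exact commutator_bot_right _

/-- **L-balance** -/
theorem comp_le_of_lbal {H K : Subgroup G} {u : G} (hu : u ∈ H) (huu : u * u = 1) (hO : oddCore ↥H = ⊥)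
    (hK : K ≤ H ⊓ centralizer {u}) (hc : IsComponent (K.subgroupOf (H ⊓ centralizer ({u} : Set G))))
    (h2 : 2 ∣ Nat.card K) : K ≤ EH H := by
  have : Fact (Nat.Prime 2) := ⟨Nat.prime_two⟩
  refine (Intrinsic.Basic.isComp_le_L2 hu huu ⟨hK, ?_⟩).trans (L2_le_EH hO)
  refine EvenComponent.isPComponent_of_isComponent hc ?_
  rwa [Nat.card_congr (subgroupOfEquivOfLe hK).toEquiv]

/-- **L-balance** for centralisers of commuting involutions -/
theorem EH_le_EH {u v : G} (hvv : v * v = 1) (huv : u * v = v * u)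
    (hOu : oddCore ↥(centralizer ({u} : Set G)) = ⊥) (hOv : oddCore ↥(centralizer ({v} : Set G)) = ⊥)
    (hle : EH (centralizer {v}) ≤ centralizer {u}) : EH (centralizer {v}) ≤ EH (centralizer {u}) := by
  refine EH_le_of fun K hKv hc => ?_
  have hKu : K ≤ centralizer {u} := (comp_le_EH hKv hc).trans hle
  have h2 := two_dvd_card_comp hOv hc
  rw [Nat.card_congr (subgroupOfEquivOfLe hKv).toEquiv] at h2
  exact comp_le_of_lbal (mem_centralizer_singleton_iff.2 huv.symm) hvv hOu (le_inf hKu hKv)
    (comp_of_le (le_inf hKu hKv) inf_le_right hc) h2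

end Fin

end Cfsg.Agent.Cit.Nil.RTwoM
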