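import Cfsg.Agent.Cit.Nil.RTwoM.UPsi

/-!
# S1309, (6b), (C3), `r = 2`, any `m`, `LAMBDA0 ⟹ StarC` (helper762's uniform proof), section 6

* `RZero Om`, `ROneA Om` : the statements (R0), (R1a);
* `OneC.exists_two` : (R1c), the form for section 6;
* **`StarC.of_r0`** : `CENT`, (R0), (R1a) imply `StarC`.
-/

set_option autoImplicit false
set_option linter.style.haveILetI false
set_option linter.unusedSectionVars false

namespace Cfsg.Agent.Cit.Nil.RTwoM

open Subgroup Cfsg Cfsg.Agent.Cit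
open RG (WR CP Ov InO)
open RI (CS)

variable {G : Type*} [Group G] {Om : Set (Subgroup G)} {K L M X A : Subgroup G} {a c d s t u v w x y z g k n : G}

/-- (R0) -/
def RZero (Om : Set (Subgroup G)) : Prop := ∀ (S : Sylow 2 G) (x : G), Psi Om (S : Subgroup G) x →
  Free Om (S : Subgroup G) x → x ∈ AA Om (S : Subgroup G) ∨ (Nat.card (TT Om (S : Subgroup G)) = 4 ∧
    ((∃ z u, OneA Om (S : Subgroup G) x z u) ∨ ∃ z u, OneC Om (S : Subgroup G) x z u))

/-- (R1a), the form for section 6 -/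
def ROneA (Om : Set (Subgroup G)) : Prop := ∀ (S : Sylow 2 G) (x z u : G), Psi Om (S : Subgroup G) x →
  Nat.card (TT Om (S : Subgroup G)) = 4 → OneA Om (S : Subgroup G) x z u →
    x ∈ AA Om (S : Subgroup G) ∨ ∃ y, InZ Om y ∧ CP Om z y ∧ z * y ∈ CX Om x

section Fin

variable [Finite G]

theorem Swp.not_cases (hs : Swp Om x z) (h : WM Om) (hx : InZ Om x) (hz : InZ Om z) :
    ¬ (z = x ∨ CP Om z x ∨ TI Om z x) := by
  have hO : Out Om x z := ⟨hs.1, Or.inl hs⟩
  have hni := hO.not_inn h hx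
  rintro (h1 | h1 | h1)
  · rw [h1] at hs
    obtain ⟨K, hK⟩ := hx
    exact hs.2 K hK (mem_normalizer_iff_cj.1 (le_normalizer (hK.zmem h)))
  · exact hni (inn_of_cp h hz h1.symm)
  · exact hni (h1.symm h).inn

/-- **(R1c)** -/
theorem OneC.exists_two {S : Subgroup G} (o : OneC Om S x z u) (h : WM Om) (hS : IsPGroup 2 S) :
    ∃ k1 k2 z2, z2 = k2 * z * k2⁻¹ ∧ Psi Om S z2 ∧ k1 * (z * u) = (z * u) * k1 ∧
      k1 * (z * z2) * k1⁻¹ = x * (z * z2) ∧ ∀ K2, Mem Om z2 K2 → ∀ a, ¬ As K2 (z * u) a := by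
  obtain ⟨K, k1, hK, hk1, hkk, hAs⟩ := o.inn
  have hzZ := CS.inZ o.hz
  have huZ := CS.inZ o.hu
  have hzz := hzZ.z2 h
  have hzu : z * u = u * z := CS.comm o.hz h hS o.hu
  obtain ⟨k2, hk2, hkk2, hne⟩ := hK.exists_nc h hk1 hkk
  have hx := hK.inZ
  have hxx := hx.z2 h
  have hxz : z * x = x * z := o.swz.1
  have hxu : u * x = x * u := o.swu.1
  have hxk : ∀ k ∈ K, k * x = x * k := fun k hk => hK.comm_z h hk
  -- `(zu) k₂ (zu)⁻¹ = x k₂`
  have e1 : (z * u) * k2 * (z * u)⁻¹ = x * k2 := by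
    rw [hAs.2 k2 hk2]
    exact hK.anti h hk2 hkk2 hk1 hkk (fun h1 => hne h1.symm)
  -- the element of `K^z`
  have hl : z * k2 * z⁻¹ ∈ cj z K := conj_mem_cj hk2
  have hcm : ∀ k ∈ K, k * (z * k2 * z⁻¹) = (z * k2 * z⁻¹) * k := fun k hk => o.swz.cm h hK hk hk2
  have hzi : z⁻¹ = z := hzZ.inv h
  have hk2i : k2⁻¹ = x * k2 := hK.inv_eq h hk2 hkk2
  obtain ⟨g2, hg2⟩ : ∃ g2, g2 = (z * k2 * z⁻¹) * k2⁻¹ := ⟨_, rfl⟩
  have e2 : z * (k2 * z * k2⁻¹) = g2 := by rw [hg2, hzi]; group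
  have e3 : k1 * g2 * k1⁻¹ = x * g2 := by
    have h1 : k1 * k2⁻¹ * k1⁻¹ = x * k2⁻¹ := by
      have h2 : k1 * k2 * k1⁻¹ = x * k2 := hK.anti h hk2 hkk2 hk1 hkk (fun h1 => hne h1.symm)
      rw [hk2i]
      calc k1 * (x * k2) * k1⁻¹ = (k1 * x) * k2 * k1⁻¹ := by group
        _ = (x * k1) * k2 * k1⁻¹ := by rw [hxk k1 hk1]
        _ = x * (k1 * k2 * k1⁻¹) := by group
        _ = _ := by rw [h2]
    calc k1 * g2 * k1⁻¹ = (k1 * (z * k2 * z⁻¹)) * k2⁻¹ * k1⁻¹ := by rw [hg2]; group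
      _ = ((z * k2 * z⁻¹) * k1) * k2⁻¹ * k1⁻¹ := by rw [hcm k1 hk1]
      _ = (z * k2 * z⁻¹) * (k1 * k2⁻¹ * k1⁻¹) := by group
      _ = (z * k2 * z⁻¹) * (x * k2⁻¹) := by rw [h1]
      _ = ((z * k2 * z⁻¹) * x) * k2⁻¹ := by group
      _ = (x * (z * k2 * z⁻¹)) * k2⁻¹ := by
          have h3 : (z * k2 * z⁻¹) * x = x * (z * k2 * z⁻¹) := (o.swz.mem h hK).comm_z h hl
          rw [h3]
      _ = x * g2 := by rw [hg2]; group
  refine ⟨k1, k2, k2 * z * k2⁻¹, rfl, ?_, hAs.comm.symm, ?_, ?_⟩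
  · -- `z₂` commutes with `z`, `u`
    have hc1 : (k2 * z * k2⁻¹) * z = z * (k2 * z * k2⁻¹) := by
      have h1 := hcm k2 hk2
      have h2 : k2⁻¹ * (z * k2 * z⁻¹) = (z * k2 * z⁻¹) * k2⁻¹ := by
        rw [inv_mul_eq_iff_eq_mul, ← mul_assoc, h1, mul_inv_cancel_right]
      have hLz : Mem Om x (cj z K) := o.swz.mem h hK
      have hlz : (z * k2 * z⁻¹) * (z * k2 * z⁻¹) = x := by
        calc (z * k2 * z⁻¹) * (z * k2 * z⁻¹) = z * (k2 * k2) * z⁻¹ := by group
          _ = x := by rw [hkk2, hxz, mul_inv_cancel_right]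
      have hli : (z * k2 * z⁻¹)⁻¹ = x * (z * k2 * z⁻¹) := hLz.inv_eq h hl hlz
      rw [hzi] at h1 h2 hli hlz
      have hk2x : k2 * x = x * k2 := hxk k2 hk2
      calc (k2 * z * k2⁻¹) * z = k2 * (z * k2⁻¹ * z) := by group
        _ = k2 * (z * k2 * z)⁻¹ := by
            rw [show (z * k2 * z)⁻¹ = z⁻¹ * k2⁻¹ * z⁻¹ by group, hzi]
        _ = k2 * (x * (z * k2 * z)) := by rw [hli]
        _ = x * (k2 * (z * k2 * z)) := by rw [← mul_assoc, hk2x, mul_assoc]
        _ = x * ((z * k2 * z) * k2) := by rw [h1]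
        _ = (z * k2 * z) * (x * k2) := by
            have h3 : (z * k2 * z) * x = x * (z * k2 * z) := by
              have := hLz.comm_z h hl
              rwa [hzi] at this
            rw [← mul_assoc, ← h3, mul_assoc]
        _ = (z * k2 * z) * k2⁻¹ := by rw [hk2i]
        _ = z * (k2 * z * k2⁻¹) := by group
    have hc2 : (k2 * z * k2⁻¹) * (z * u) = (z * u) * (k2 * z * k2⁻¹) := by
      have h1 : (z * u) * (k2 * z * k2⁻¹) * (z * u)⁻¹ = k2 * z * k2⁻¹ := by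
        have h2 : (z * u) * z * (z * u)⁻¹ = z := by
          rw [show (z * u) * z * (z * u)⁻¹ = z * (u * z) * (z * u)⁻¹ by group, ← hzu]
          group
        calc (z * u) * (k2 * z * k2⁻¹) * (z * u)⁻¹
            = ((z * u) * k2 * (z * u)⁻¹) * ((z * u) * z * (z * u)⁻¹) * ((z * u) * k2 * (z * u)⁻¹)⁻¹ := by group
          _ = (x * k2) * z * (x * k2)⁻¹ := by rw [e1, h2]
          _ = (k2 * x) * z * (k2 * x)⁻¹ := by rw [hxk k2 hk2]
          _ = k2 * (x * z * x⁻¹) * k2⁻¹ := by group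
          _ = k2 * z * k2⁻¹ := by rw [← hxz, mul_inv_cancel_right]
      rw [mul_inv_eq_iff_eq_mul] at h1
      exact h1.symm
    refine Psi.of_comm (hzZ.conj h k2) fun v hv => ?_
    rcases o.all v hv with rfl | rfl
    · exact hc1
    · have h3 : v = z * (z * v) := by rw [← mul_assoc, hzz, one_mul]
      calc (k2 * z * k2⁻¹) * v = (k2 * z * k2⁻¹) * (z * (z * v)) := by rw [← h3]
        _ = ((k2 * z * k2⁻¹) * z) * (z * v) := by group
        _ = (z * (k2 * z * k2⁻¹)) * (z * v) := by rw [hc1]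
        _ = z * ((k2 * z * k2⁻¹) * (z * v)) := by group
        _ = z * ((z * v) * (k2 * z * k2⁻¹)) := by rw [hc2]
        _ = (z * (z * v)) * (k2 * z * k2⁻¹) := by group
        _ = _ := by rw [← h3]
  · rw [e2]; exact e3
  · -- `z u` acts on the members over `z₂` as `x` on those over `z`
    intro K2 hK2 b hb
    have h1 := hb.conj k2⁻¹
    have hM : Mem Om z (cj k2⁻¹ K2) := by
      have h2 := hK2.cj h k2⁻¹
      rwa [inv_inv, show k2⁻¹ * (k2 * z * k2⁻¹) * k2 = z by group] at h2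
    have e4 : k2⁻¹ * (z * u) * k2⁻¹⁻¹ = x * (z * u) := by
      rw [inv_inv]
      have h2 : (z * u) * k2 = x * k2 * (z * u) := by rw [← e1]; group
      calc k2⁻¹ * (z * u) * k2 = k2⁻¹ * ((z * u) * k2) := by group
        _ = k2⁻¹ * (x * k2 * (z * u)) := by rw [h2]
        _ = k2⁻¹ * (k2 * x * (z * u)) := by rw [hxk k2 hk2]
        _ = x * (z * u) := by group
    rw [e4] at h1
    have hz1 : As (cj k2⁻¹ K2) z 1 := hM.as_z h
    have hu1 : As (cj k2⁻¹ K2) u 1 := by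
      rw [As.one_iff]
      have hcp : CP Om z u := CS.cp o.hz h hS o.hu o.ne
      exact mem_CX.1 (cp_cx h huZ hcp) _ hM
    have h3 := h1.mul ((hz1.mul hu1).inv)
    rw [mul_inv_cancel_right, one_mul, inv_one, mul_one] at h3
    -- `x` is inner on a member over `z`
    refine o.swz.not_cases h hx hzZ (inn_cases h hM hx fun k hk => ?_)
    rw [h3.2 k hk]
    exact hM.comm_or h hk h3.1

namespace StarC

/-- **the end of CASE I** -/
theorem of_r0 (ce : CENT Om) (r0 : RZero Om) (r1 : ROneA Om) (h : WM Om) (cl : OneCl Om) : StarC Om := by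
  intro S x y hx hy hxS hyS
  by_cases hne : ∃ z, z ∈ CS Om (S : Subgroup G)
  swap
  · exfalso
    obtain ⟨S', hS'⟩ := exists_sylow h hx
    obtain ⟨g, hg⟩ := MulAction.exists_smul_eq G S' S
    have hgS : (S : Subgroup G) = cj g S' := by
      rw [← hg]
      rfl
    have h1 := cj_CS h g hS'
    rw [← hgS] at h1
    exact hne ⟨_, h1⟩
  obtain ⟨z0, hz0⟩ := hne
  -- facts on `F` and `D`
  have hFc : ∀ f ∈ FF Om z0, ∀ a ∈ closure (DS Om z0), f * a = a * f := by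
    intro f hf
    have h2 : closure (DS Om z0) ≤ centralizer {f} := by
      rw [closure_le]
      intro b hb
      rw [SetLike.mem_coe, mem_centralizer_singleton_iff]
      have h3 : f ∈ FF Om b := by rw [hb.2]; exact hf
      exact h3.2.symm
    exact fun a ha => (mem_centralizer_singleton_iff.1 (h2 ha)).symm
  have hnot : ∀ x, InZ Om x → x ∉ DS Om z0 → x ∉ closure (DS Om z0) := by
    intro x hx hxD hxA
    apply hxD
    have h1 : FF Om z0 ⊆ FF Om x := fun f hf => ⟨hf.1, hFc f hf x hxA⟩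
    exact ⟨hx, (Set.eq_of_subset_of_ncard_le h1 (le_of_eq (FF_ncard h cl (CS.inZ hz0) hx)) (Set.toFinite _)).symm⟩
  have hZs : ∀ t ∈ TT Om (S : Subgroup G), t ≠ 1 → ∀ y ∈ ZS Om t, y ∈ DS Om z0 := fun t ht ht1 y hy =>
    ce.mem_DS h cl hz0 ht ht1 hy
  -- `x ∈ Ψ - D` is of type (1c)
  have key : ∀ x, Psi Om (S : Subgroup G) x → x ∉ DS Om z0 → ∃ z u, OneC Om (S : Subgroup G) x z u := by
    intro x hxP hxD
    have hxA := hnot x hxP.1 hxD
    have hfree : Free Om (S : Subgroup G) x := by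
      intro t ht htx
      by_contra ht1
      exact hxD (hZs t ht ht1 x ⟨hxP.1, htx⟩)
    have hAA : x ∉ AA Om (S : Subgroup G) := by
      intro h1
      apply hxA
      have h2 : AA Om (S : Subgroup G) ≤ closure (DS Om z0) := by
        rw [AA, closure_le]
        rintro y ⟨t, ht, ht1, hy⟩
        exact subset_closure (hZs t ht ht1 y hy)
      exact h2 h1
    rcases r0 S x hxP hfree with h1 | ⟨h4, ⟨z, u, o⟩ | h1⟩
    · exact absurd h1 hAA
    · exfalso
      obtain ⟨y, hyZ, hcp, hzy⟩ := (r1 S x z u hxP h4 o).resolve_left hAA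
      have hzZ := CS.inZ o.hz
      obtain ⟨P, hzP, hyP⟩ := exists_sylow_of_cp h hzZ hyZ hcp
      have hs : z * y ∈ TT Om (P : Subgroup G) := mul_mem (CS.mem_TT hzP) (CS.mem_TT hyP)
      have hs1 : z * y ≠ 1 := by
        intro h2
        apply hcp.1
        rw [eq_inv_of_mul_eq_one_left h2, hyZ.inv h]
      have h2 : FF Om x = FF Om z := ce.FF_eq h cl hzP hs hs1 ⟨hxP.1, hzy⟩
      have h3 := ce.CS_sub h cl hz0 o.hz
      exact hxD ⟨hxP.1, h2.trans h3.2⟩
    · exact h1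
  have hall : ∀ x, Psi Om (S : Subgroup G) x → x ∈ DS Om z0 := by
    intro x hxP
    by_contra hxD
    obtain ⟨z, u, o⟩ := key x hxP hxD
    have hxA := hnot x hxP.1 hxD
    obtain ⟨k1, k2, z2, -, hz2P, hk1, hk1g, hno⟩ := o.exists_two h S.isPGroup'
    have hzu : z * u = u * z := CS.comm o.hz h S.isPGroup' o.hu
    have hs : z * u ∈ TT Om (S : Subgroup G) := mul_mem (CS.mem_TT o.hz) (CS.mem_TT o.hu)
    have hs1 : z * u ≠ 1 := by
      intro h2
      apply o.ne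
      rw [eq_inv_of_mul_eq_one_left h2, (CS.inZ o.hu).inv h]
    have hz2D : z2 ∉ DS Om z0 := by
      intro h1
      apply hxA
      have h2 : z * z2 ∈ closure (DS Om z0) :=
        mul_mem (subset_closure (ce.CS_sub h cl hz0 o.hz)) (subset_closure h1)
      have h3 := ce.norm h cl hz0 hs hs1 hk1 h2
      rw [hk1g] at h3
      have h4 := mul_mem h3 (inv_mem h2)
      rwa [mul_inv_cancel_right] at h4
    obtain ⟨z', u', o'⟩ := key z2 hz2P hz2D
    have hzu' : z' * u' = z * u := by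
      rcases o.all z' o'.hz with h1 | h1 <;> rcases o.all u' o'.hu with h2 | h2
      · exact absurd (h1.trans h2.symm) o'.ne
      · rw [h1, h2]
      · rw [h1, h2, hzu]
      · exact absurd (h1.trans h2.symm) o'.ne
    obtain ⟨K2, b, hK2, -, -, hb⟩ := o'.inn
    rw [hzu'] at hb
    exact hno K2 hK2 b hb
  exact CENT.DS_comm (hall x ⟨hx, hxS⟩) (hall y ⟨hy, hyS⟩)

end StarC

end Fin

end Cfsg.Agent.Cit.Nil.RTwoM
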