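import Cfsg.Agent.Cit.Nil.RTwoM.EZero
import Cfsg.Agent.Cit.Nil.RTwoM.UEnd

/-!
# S1309, `r = 2`, NIL, `LAMBDA0`: (Q) of THEOREM E from (R0), (R1a), (R1c)

* `EW.cen_ZS` : `x ∈ Z(t)`, `1 ≠ t ∈ T_S` centralises `E(C(z))`, `z ∈ C_S`; `EW.AA_le`;
* **`QC.of`** : `RZero Om`, `ROneA Om` imply `QC Om`;
* **`EW.bot`** : `E(C(z)) = 1` for `z ∈ Z`.
-/

set_option autoImplicit false
set_option linter.style.haveILetI false
set_option linter.unusedSectionVars false

namespace Cfsg.Agent.Cit.Nil.RTwoM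

open Subgroup Cfsg Cfsg.Agent.Cit

open RG (WR CP Ov InO)
open RI (CS)

variable {G : Type*} [Group G] {Om : Set (Subgroup G)} {K L M X : Subgroup G} {a c d e s t u v x y z g k n m : G}

namespace EW

variable [Finite G] (w : EW Om)

include w

/-- `x ∈ Z(t)` centralises `E(C(z))` -/
theorem cen_ZS (S : Sylow 2 G) (hz : z ∈ CS Om (S : Subgroup G)) (ht : t ∈ TT Om (S : Subgroup G)) (ht1 : t ≠ 1)
    (hx : x ∈ ZS Om t) : ∀ e ∈ EH (centralizer ({z} : Set G)), x * e = e * x := by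
  intro e he
  rw [← w.EH_tt S hz ht ht1] at he
  obtain ⟨N, h3, h4, h5, h6⟩ := (w.ant S t ht ht1).inO hx
  exact EH_comm h3 h4 h5 h6 he

theorem AA_le (S : Sylow 2 G) (hz : z ∈ CS Om (S : Subgroup G)) (hx : x ∈ AA Om (S : Subgroup G)) :
    ∀ e ∈ EH (centralizer ({z} : Set G)), x * e = e * x := by
  have h1 : AA Om (S : Subgroup G) ≤ centralizer (EH (centralizer ({z} : Set G)) : Set G) := by
    refine (closure_le _).2 ?_
    rintro y ⟨t, ht, ht1, hy⟩
    rw [SetLike.mem_coe, mem_centralizer_iff]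
    intro e he
    exact (w.cen_ZS S hz ht ht1 hy e he).symm
  exact fun e he => (mem_centralizer_iff.1 (h1 hx) e he).symm

/-- (Q) without the case (1c) -/
theorem q_or (r0 : RZero Om) (r1 : ROneA Om) (S : Sylow 2 G) (hz : z ∈ CS Om (S : Subgroup G))
    (hx : Psi Om (S : Subgroup G) x) :
    (∀ e ∈ EH (centralizer ({z} : Set G)), x * e = e * x) ∨ ∃ z' u', OneC Om (S : Subgroup G) x z' u' := by
  have h := w.h
  by_cases hf : Free Om (S : Subgroup G) x
  · rcases r0 S x hx hf with h1 | ⟨h4, ⟨z', u', o⟩ | ⟨z', u', o⟩⟩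
    · exact Or.inl (w.AA_le S hz h1)
    · left
      rcases r1 S x z' u' hx h4 o with h1 | ⟨y, hy, hc, hzy⟩
      · exact w.AA_le S hz h1
      · have hz' := CS.inZ o.hz
        obtain ⟨S', h5, h6⟩ := exists_sylow_of_cp h hz' hy hc
        have h7 : z' * y ∈ TT Om (S' : Subgroup G) := mul_mem (CS.mem_TT h5) (CS.mem_TT h6)
        have h8 : z' * y ≠ 1 := by
          intro h9
          have h10 := eq_inv_of_mul_eq_one_left h9
          rw [hy.inv h] at h10
          exact hc.1 h10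
        have h9 := w.cen_ZS S' h5 h7 h8 (x := x) ⟨hx.1, hzy⟩
        rwa [w.EH_cs S hz o.hz] at h9
    · exact Or.inr ⟨z', u', o⟩
  · left
    rw [Free] at hf
    push Not at hf
    obtain ⟨t, ht, htx, ht1⟩ := hf
    exact w.cen_ZS S hz ht ht1 ⟨hx.1, htx⟩

end EW

/-- **(Q)** -/
theorem QC.of [Finite G] (w : EW Om) (r0 : RZero Om) (r1 : ROneA Om) : QC Om := by
  intro S x hx hT z hz
  have h := w.h
  have hP : Psi Om (S : Subgroup G) x := Psi.of_comm hx fun v hv => (hT v (CS.mem_TT hv)).symm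
  rcases w.q_or r0 r1 S hz hP with h1 | ⟨z', u', o⟩
  · exact h1
  · obtain ⟨k1, k2, z2, h2, h3, h4, h5, h6⟩ := o.exists_two h S.isPGroup'
    have hs : z' * u' ∈ TT Om (S : Subgroup G) := mul_mem (CS.mem_TT o.hz) (CS.mem_TT o.hu)
    have hs1 : z' * u' ≠ 1 := by
      intro h9
      have h10 := eq_inv_of_mul_eq_one_left h9
      rw [(CS.inZ o.hu).inv h] at h10
      exact o.ne h10
    -- `z2` centralises `E`
    have hc2 : ∀ e ∈ EH (centralizer ({z} : Set G)), z2 * e = e * z2 := by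
      rcases w.q_or r0 r1 S hz h3 with h7 | ⟨z3, u3, o3⟩
      · exact h7
      · exfalso
        obtain ⟨K, k, hK, -, -, hAs⟩ := o3.inn
        have h7 : z3 * u3 = z' * u' := by
          rcases o.all z3 o3.hz with h8 | h8 <;> rcases o.all u3 o3.hu with h9 | h9
          · exact absurd (h8.trans h9.symm) o3.ne
          · rw [h8, h9]
          · rw [h8, h9]; exact CS.comm o.hu h S.isPGroup' o.hz
          · exact absurd (h8.trans h9.symm) o3.ne
        rw [h7] at hAs
        exact h6 K hK k hAs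
    have hc1 : ∀ e ∈ EH (centralizer ({z} : Set G)), z' * e = e * z' := by
      intro e he
      rw [← w.EH_cs S hz o.hz] at he
      exact (mem_centralizer_singleton_iff.1 (EH_le _ he)).symm
    have hk : ∀ e ∈ EH (centralizer ({z} : Set G)), k1⁻¹ * e * k1 ∈ EH (centralizer ({z} : Set G)) := by
      intro e he
      rw [← w.EH_tt S hz hs hs1] at he ⊢
      have h7 : k1 ∈ normalizer (EH (centralizer ({z' * u'} : Set G)) : Set G) :=
        le_norm_EH (mem_centralizer_singleton_iff.2 h4)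
      have := (mem_normalizer_iff.1 (inv_mem h7) e).1 he
      rwa [inv_inv] at this
    have h7 : ∀ e ∈ EH (centralizer ({z} : Set G)), (z' * z2) * e = e * (z' * z2) := by
      intro e he
      rw [mul_assoc, hc2 e he, ← mul_assoc, hc1 e he, mul_assoc]
    have h8 : x = k1 * (z' * z2) * k1⁻¹ * (z' * z2)⁻¹ := by rw [h5]; group
    have h9 : ∀ e ∈ EH (centralizer ({z} : Set G)), (k1 * (z' * z2) * k1⁻¹) * e = e * (k1 * (z' * z2) * k1⁻¹) := by
      intro e he
      calc (k1 * (z' * z2) * k1⁻¹) * e = k1 * ((z' * z2) * (k1⁻¹ * e * k1)) * k1⁻¹ := by group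
        _ = k1 * ((k1⁻¹ * e * k1) * (z' * z2)) * k1⁻¹ := by rw [h7 _ (hk e he)]
        _ = _ := by group
    intro e he
    have h10 : (z' * z2)⁻¹ * e = e * (z' * z2)⁻¹ := by
      rw [inv_mul_eq_iff_eq_mul, ← mul_assoc, h7 e he, mul_inv_cancel_right]
    rw [h8, mul_assoc, h10, ← mul_assoc, h9 e he, mul_assoc]

/-- **THEOREM E** -/
theorem EW.bot [Finite G] (w : EW Om) (r0 : RZero Om) (r1 : ROneA Om) {F : Subgroup G} (f : ROne.FSimp F)
    (h1173 : OneF.H1173 G) (hz : InZ Om z) : EH (centralizer ({z} : Set G)) = ⊥ :=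
  w.EH_eq_bot (QC.of w r0 r1) f h1173 hz

end Cfsg.Agent.Cit.Nil.RTwoM
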