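import Cfsg.Agent.Cit.Nil.RTwoM.ELay
import Cfsg.Agent.Cit.Nil.RTwoM.LZero
import Cfsg.Agent.Cit.Nil.CompFour.Count
import Cfsg.Agent.Cit.Nil.ROne.GraphB
import Cfsg.Agent.Cit.OneF.End

/-!
# S1309, `r = 2`, NIL, `LAMBDA0`: THEOREM E, `E(C(z)) = 1` for `z ∈ Z` (#20458)

* `EW Om` : the world: `WM`, one class, `ANT`, `L0`, C-partners, all cores of involutions trivial;
* `EW.EH_tt` : `t ∈ T_S`, `t ≠ 1`, `z ∈ C_S`: `E(C(t)) = E(C(z))`; `EW.EH_cp` : C-pairs;
* `EW.EH_comm_z` : `x, z ∈ Z` commute, `E(C(z)) ≤ C(x)`: `E(C(x)) = E(C(z))`;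
* `QC Om` (Q): `x ∈ Z ∩ C(T_S)` centralises `E(C(z))`, `z ∈ C_S`;
* `EW.sig` : `x ∈ Z ∩ N(E(C(z)))`: `E(C(x)) = E(C(z))`; `EW.fus` : `N(E(C(z)))` controls fusion in `S`;
* **`EW.EH_eq_bot`** : `E(C(z)) = 1`.
-/

set_option autoImplicit false
set_option linter.style.haveILetI false
set_option linter.unusedSectionVars false

namespace Cfsg.Agent.Cit.Nil.RTwoM

open Subgroup Cfsg Cfsg.Agent.Cit

open RG (WR CP Ov InO)
open RI (CS)
open ROne.Strong (exists_cj_le)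

variable {G : Type*} [Group G] {Om : Set (Subgroup G)} {K L M X : Subgroup G} {a c d e s t u v x y z g k n m : G}

/-- the world -/
structure EW [Finite G] (Om : Set (Subgroup G)) : Prop where
  h : WM Om
  oc : OneCl Om
  ant : ANT Om
  l0 : L0 Om
  cp : ∀ z, InZ Om z → ∃ u, InZ Om u ∧ CP Om z u
  core : ∀ v : G, v * v = 1 → v ≠ 1 → oddCore ↥(centralizer ({v} : Set G)) = ⊥

/-- (Q) -/
def QC (Om : Set (Subgroup G)) : Prop := ∀ (S : Sylow 2 G) (x : G), InZ Om x → (∀ t ∈ TT Om (S : Subgroup G), t * x = x * t) →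
  ∀ z ∈ CS Om (S : Subgroup G), ∀ e ∈ EH (centralizer ({z} : Set G)), x * e = e * x

namespace EW

variable [Finite G] (w : EW Om)

include w

theorem tt_le (S : Sylow 2 G) (hz : z ∈ CS Om (S : Subgroup G)) (ht : t ∈ TT Om (S : Subgroup G)) :
    ∀ e ∈ EH (centralizer ({z} : Set G)), t * e = e * t := by
  have h := w.h
  have h1 : TT Om (S : Subgroup G) ≤ centralizer (EH (centralizer ({z} : Set G)) : Set G) := by
    refine (closure_le _).2 fun u hu => ?_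
    rw [SetLike.mem_coe, mem_centralizer_iff]
    intro e he
    by_cases huz : z = u
    · rw [← huz]; exact mem_centralizer_singleton_iff.1 (EH_le _ he)
    · have h2 : InO (centralizer {z}) u := (w.ant S z (CS.mem_TT hz) ((CS.inZ hz).z1 h)).inO
        ⟨CS.inZ hu, cp_cx h (CS.inZ hz) (CS.cp hz h S.isPGroup' hu huz).symm⟩
      obtain ⟨N, h3, h4, h5, h6⟩ := h2
      exact (EH_comm h3 h4 h5 h6 he).symm
  exact fun e he => (mem_centralizer_iff.1 (h1 ht) e he).symm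

/-- `E(C(t)) = E(C(z))` -/
theorem EH_tt (S : Sylow 2 G) (hz : z ∈ CS Om (S : Subgroup G)) (ht : t ∈ TT Om (S : Subgroup G)) (ht1 : t ≠ 1) :
    EH (centralizer ({t} : Set G)) = EH (centralizer ({z} : Set G)) := by
  have h := w.h
  have hzz := (CS.inZ hz).z2 h
  have hz1 := (CS.inZ hz).z1 h
  have htt := TT_sq h S.isPGroup' ht
  have hzt : z * t = t * z := TT_comm h S.isPGroup' (CS.mem_TT hz) ht
  apply le_antisymm
  · refine EH_le_EH htt hzt (w.core z hzz hz1) (w.core t htt ht1) fun e he => ?_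
    rw [mem_centralizer_singleton_iff]
    obtain ⟨N, h3, h4, h5, h6⟩ := (w.ant S t ht ht1).inO (CS_subset_ZS h S.isPGroup' ht hz)
    exact (EH_comm h3 h4 h5 h6 he).symm
  · refine EH_le_EH hzz hzt.symm (w.core t htt ht1) (w.core z hzz hz1) fun e he => ?_
    rw [mem_centralizer_singleton_iff]
    exact (w.tt_le S hz ht e he).symm

theorem EH_cp (hz : InZ Om z) (hu : InZ Om u) (hc : CP Om z u) :
    EH (centralizer ({u} : Set G)) = EH (centralizer ({z} : Set G)) := by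
  obtain ⟨S, h1, h2⟩ := exists_sylow_of_cp w.h hz hu hc
  exact w.EH_tt S h1 (CS.mem_TT h2) (hu.z1 w.h)

theorem EH_cs (S : Sylow 2 G) (hz : z ∈ CS Om (S : Subgroup G)) (hu : u ∈ CS Om (S : Subgroup G)) :
    EH (centralizer ({u} : Set G)) = EH (centralizer ({z} : Set G)) :=
  w.EH_tt S hz (CS.mem_TT hu) ((CS.inZ hu).z1 w.h)

/-- `x` centralises `E(C(z))` -/
theorem EH_comm_z (hz : InZ Om z) (hx : InZ Om x) (hc : x * z = z * x)
    (he : ∀ e ∈ EH (centralizer ({z} : Set G)), x * e = e * x) :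
    EH (centralizer ({x} : Set G)) = EH (centralizer ({z} : Set G)) := by
  have h := w.h
  have h1 : EH (centralizer ({z} : Set G)) ≤ EH (centralizer ({x} : Set G)) :=
    EH_le_EH (hz.z2 h) hc (w.core x (hx.z2 h) (hx.z1 h)) (w.core z (hz.z2 h) (hz.z1 h)) fun e h2 =>
      mem_centralizer_singleton_iff.2 (he e h2).symm
  obtain ⟨g, hg⟩ := w.oc z x hz hx
  symm
  refine eq_of_le_of_card_ge h1 ?_
  rw [← hg, EH_cent_cj]
  exact (Nat.card_congr ((EH (centralizer ({z} : Set G))).equivMapOfInjective (MulAut.conj g).toMonoidHom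
    (MulAut.conj g).injective).toEquiv.symm).le

/-- a Sylow 2-subgroup normalises `E(C(z))`, `z ∈ C_S` -/
theorem le_norm (S : Sylow 2 G) (hz : z ∈ CS Om (S : Subgroup G)) :
    (S : Subgroup G) ≤ normalizer (EH (centralizer ({z} : Set G)) : Set G) := by
  intro s hs
  rw [mem_normalizer_iff_cj, ← EH_cent_cj]
  exact w.EH_cs S hz (CS.conj hz w.h hs)

/-- `x ∈ Z ∩ N(E(C(z)))` -/
theorem sig (hQ : QC Om) (S : Sylow 2 G) (hz : z ∈ CS Om (S : Subgroup G)) (hx : InZ Om x)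
    (hxM : x ∈ normalizer (EH (centralizer ({z} : Set G)) : Set G)) :
    EH (centralizer ({x} : Set G)) = EH (centralizer ({z} : Set G)) := by
  haveI : Fact (Nat.Prime 2) := ⟨Nat.prime_two⟩
  have h := w.h
  have h2 : IsPGroup 2 (zpowers x) := by
    refine IsPGroup.of_card (n := 1) ?_
    rw [Nat.card_zpowers, pow_one]
    exact hx.orderOf h
  obtain ⟨m, hm, hmS⟩ := exists_cj_le S (w.le_norm S hz) h2 (zpowers_le.2 hxM)
  have h3 := hmS (conj_mem_cj (g := m) (mem_zpowers x))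
  have hy := hx.conj h m
  have hn : NCS Om (S : Subgroup G) (m * x * m⁻¹) := NCS_of_mem h h3
  have h4 : EH (centralizer ({m * x * m⁻¹} : Set G)) = EH (centralizer ({z} : Set G)) := by
    refine w.EH_comm_z (CS.inZ hz) hy (comm_CS_of_NCS h w.l0 S.isPGroup' hy hn hz) ?_
    exact hQ S _ hy (fun t ht => (comm_TT_of_NCS h w.l0 S.isPGroup' hy hn ht).symm) z hz
  rw [EH_cent_cj] at h4
  have h5 := mem_normalizer_iff_cj.1 (inv_mem hm)
  rw [← h4, cj_inv_cj] at h5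
  rw [h5, h4]

theorem cnt (hQ : QC Om) (S : Sylow 2 G) (hz : z ∈ CS Om (S : Subgroup G)) :
    CompFour.CntD Om (normalizer (EH (centralizer ({z} : Set G)) : Set G))
      {x | InZ Om x ∧ EH (centralizer ({x} : Set G)) = EH (centralizer ({z} : Set G))} where
  h := w.h.wr
  sig x hx hxM := ⟨inZ_of_zz hx, w.sig hQ S hz (inZ_of_zz hx) hxM⟩
  p1 x hx g hg := by
    have h1 := hg.2
    rw [EH_cent_cj, hx.2] at h1
    exact mem_normalizer_iff_cj.2 h1
  lemC u hu v hv hc g hg := by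
    obtain ⟨S', h1, h2⟩ := exists_sylow_of_cp w.h hu.1 hv.1 hc
    have h3 : u * v ∈ TT Om (S' : Subgroup G) := mul_mem (CS.mem_TT h1) (CS.mem_TT h2)
    have h4 : u * v ≠ 1 := by
      intro h5
      have h6 := eq_inv_of_mul_eq_one_left h5
      rw [hv.1.inv w.h] at h6
      exact hc.1 h6
    rw [← hu.2, ← w.EH_tt S' h1 h3 h4]
    exact le_norm_EH (mem_centralizer_singleton_iff.2 hg)

/-- `t ∈ T_S`, `t ≠ 1`: `t^g ∈ M` implies `g ∈ M` -/
theorem mem_of (hQ : QC Om) (S : Sylow 2 G) (hz : z ∈ CS Om (S : Subgroup G)) (ht : t ∈ TT Om (S : Subgroup G))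
    (ht1 : t ≠ 1) (hg : g * t * g⁻¹ ∈ normalizer (EH (centralizer ({z} : Set G)) : Set G)) :
    g ∈ normalizer (EH (centralizer ({z} : Set G)) : Set G) := by
  obtain ⟨K, hK⟩ := CS.inZ hz
  refine (w.cnt hQ S hz).mem S (w.le_norm S hz) ⟨K, hK.1⟩ (TT_sq w.h S.isPGroup' ht) (fun x hx => ?_) hg
  rw [← w.EH_tt S hz ht ht1]
  exact le_norm_EH (mem_centralizer_singleton_iff.2 hx)

/-- `M` controls fusion in `S` -/
theorem fus (hQ : QC Om) (S : Sylow 2 G) (hz : z ∈ CS Om (S : Subgroup G)) (ht : t ∈ TT Om (S : Subgroup G))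
    (ht1 : t ≠ 1) (htS : ∀ s ∈ (S : Subgroup G), s * t = t * s) (hy : y ∈ (S : Subgroup G))
    (hg : g * y * g⁻¹ ∈ (S : Subgroup G)) :
    ∃ m ∈ normalizer (EH (centralizer ({z} : Set G)) : Set G), m * y * m⁻¹ = g * y * g⁻¹ := by
  haveI : Fact (Nat.Prime 2) := ⟨Nat.prime_two⟩
  have h := w.h
  obtain ⟨M, hM⟩ : ∃ M : Subgroup G, M = normalizer (EH (centralizer ({z} : Set G)) : Set G) := ⟨_, rfl⟩
  have hSM : (S : Subgroup G) ≤ M := by rw [hM]; exact w.le_norm S hz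
  have key : ∀ g, g * t * g⁻¹ ∈ M → g ∈ M := fun g hg => by rw [hM] at hg ⊢; exact w.mem_of hQ S hz ht ht1 hg
  rw [← hM]
  have htt := TT_sq h S.isPGroup' ht
  obtain ⟨y', hy'⟩ : ∃ y', y' = g * y * g⁻¹ := ⟨_, rfl⟩
  obtain ⟨D, hD⟩ : ∃ D : Subgroup G, D = centralizer {y'} := ⟨_, rfl⟩
  have h1 : t ∈ D := by rw [hD, mem_centralizer_singleton_iff, hy']; exact (htS _ hg).symm
  have h2 : g * t * g⁻¹ ∈ D := by
    rw [hD, mem_centralizer_singleton_iff, hy']
    calc g * t * g⁻¹ * (g * y * g⁻¹) = g * (t * y) * g⁻¹ := by group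
      _ = g * (y * t) * g⁻¹ := by rw [htS y hy]
      _ = _ := by group
  have p2 : ∀ x : G, x * x = 1 → IsPGroup 2 (zpowers x) := by
    intro x hx
    rintro ⟨_, n, rfl⟩
    refine ⟨1, ?_⟩
    apply Subtype.ext
    change (x ^ n) ^ (2 ^ 1) = 1
    rw [pow_one, ← zpow_natCast, ← zpow_mul, mul_comm, zpow_mul, zpow_natCast, pow_two, hx, one_zpow]
  -- a Sylow 2-subgroup of `D` containing `t`
  have h3 : IsPGroup 2 ((zpowers t).subgroupOf D) := (p2 t htt).comap_subtype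
  obtain ⟨R, hR⟩ := h3.exists_le_sylow
  have h4 : IsPGroup 2 ((zpowers (g * t * g⁻¹)).subgroupOf D) := (p2 _ (by
    calc g * t * g⁻¹ * (g * t * g⁻¹) = g * (t * t) * g⁻¹ := by group
      _ = 1 := by rw [htt, mul_one, mul_inv_cancel])).comap_subtype
  obtain ⟨R', hR'⟩ := h4.exists_le_sylow
  obtain ⟨c, hc⟩ := MulAction.exists_smul_eq D R' R
  obtain ⟨R0, hR0⟩ : ∃ R0 : Subgroup G, R0 = (R : Subgroup D).map D.subtype := ⟨_, rfl⟩
  have h5 : t ∈ R0 := by rw [hR0]; exact ⟨⟨t, h1⟩, hR (mem_subgroupOf.2 (mem_zpowers t)), rfl⟩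
  have h6 : (c : G) * (g * t * g⁻¹) * (c : G)⁻¹ ∈ R0 := by
    rw [hR0]
    refine ⟨c * ⟨g * t * g⁻¹, h2⟩ * c⁻¹, ?_, rfl⟩
    have h7 : (⟨g * t * g⁻¹, h2⟩ : D) ∈ (R' : Subgroup D) := hR' (mem_subgroupOf.2 (mem_zpowers _))
    have h8 : c * ⟨g * t * g⁻¹, h2⟩ * c⁻¹ ∈ ((c • R' : Sylow 2 D) : Subgroup D) :=
      ⟨⟨g * t * g⁻¹, h2⟩, h7, rfl⟩
    rw [hc] at h8
    exact h8
  have hR2 : IsPGroup 2 R0 := by rw [hR0]; exact R.isPGroup'.map _
  -- `R0 ≤ M`
  have h7 : R0 ≤ M := by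
    obtain ⟨Q, hQ'⟩ := hR2.exists_le_sylow
    obtain ⟨k, hk⟩ := MulAction.exists_smul_eq G S Q
    have h8 : (Q : Subgroup G) = cj k (S : Subgroup G) := by rw [← hk]; rfl
    have h9 : k⁻¹ * t * k⁻¹⁻¹ ∈ M := by
      have h10 := hQ' h5
      rw [h8, mem_cj] at h10
      rw [inv_inv]
      exact hSM h10
    have h10 := inv_mem (key _ h9)
    rw [inv_inv] at h10
    intro r hr
    have h11 := hQ' hr
    rw [h8, mem_cj] at h11
    have h12 := mul_mem (mul_mem h10 (hSM h11)) (inv_mem h10)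
    rwa [show k * (k⁻¹ * r * k) * k⁻¹ = r by group] at h12
  refine ⟨c * g, key _ ?_, ?_⟩
  · rw [show (c : G) * g * t * (c * g)⁻¹ = c * (g * t * g⁻¹) * (c : G)⁻¹ by group]
    exact h7 h6
  · have h8 : (c : G) * y' = y' * c := by
      have h9 : (c : G) ∈ centralizer ({y'} : Set G) := by rw [← hD]; exact c.2
      exact mem_centralizer_singleton_iff.1 h9
    calc (c : G) * g * y * (c * g)⁻¹ = c * (g * y * g⁻¹) * (c : G)⁻¹ := by group
      _ = c * y' * (c : G)⁻¹ := by rw [hy']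
      _ = g * y * g⁻¹ := by rw [h8, mul_inv_cancel_right, hy']

theorem exists_t (S : Sylow 2 G) (hz : z ∈ CS Om (S : Subgroup G)) :
    ∃ t ∈ TT Om (S : Subgroup G), t ≠ 1 ∧ ∀ x ∈ (S : Subgroup G), x * t = t * x := by
  haveI : Fact (Nat.Prime 2) := ⟨Nat.prime_two⟩
  have h := w.h
  let A : Subgroup G := TT Om (S : Subgroup G)
  have hn : ∀ g ∈ (S : Subgroup G), ∀ x ∈ A, g * x * g⁻¹ ∈ A := fun g hg x hx => TT_norm h hg hx
  let act : MulAction (S : Subgroup G) A :=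
    { smul := fun g x => ⟨g * x * (g : G)⁻¹, hn g g.2 x x.2⟩
      one_smul := fun x => Subtype.ext (by change (1 : G) * x * (1 : G)⁻¹ = x; group)
      mul_smul := fun g g' x => Subtype.ext (by
        change (g * g' : G) * x * (g * g' : G)⁻¹ = g * (g' * x * (g' : G)⁻¹) * (g : G)⁻¹; group) }
  letI := act
  have hA : A ≠ ⊥ := by
    intro h1
    have h2 : z ∈ A := CS.mem_TT hz
    rw [h1, mem_bot] at h2
    exact (CS.inZ hz).z1 h h2
  haveI : Nontrivial A := A.nontrivial_iff_ne_bot.2 hA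
  obtain ⟨n, hn1, hn2⟩ := (TT_two h S.isPGroup' : IsPGroup 2 A).nontrivial_iff_card.1 inferInstance
  have h3 : (1 : A) ∈ MulAction.fixedPoints (S : Subgroup G) A := fun g => Subtype.ext (by
    change (g : G) * (1 : G) * (g : G)⁻¹ = 1; group)
  obtain ⟨x, hx, hx1⟩ := S.isPGroup'.exists_fixed_point_of_prime_dvd_card_of_fixed_point A
    (by rw [hn2]; exact dvd_pow_self 2 (by omega)) h3
  refine ⟨x, x.2, fun e => hx1 (Subtype.ext e.symm), fun g hg => ?_⟩
  have h4 : (g : G) * x * g⁻¹ = x := congrArg Subtype.val (hx ⟨g, hg⟩)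
  rwa [mul_inv_eq_iff_eq_mul] at h4

/-- **THEOREM E** -/
theorem EH_eq_bot (hQ : QC Om) {F : Subgroup G} (f : ROne.FSimp F) (h1173 : OneF.H1173 G) (hz : InZ Om z) :
    EH (centralizer ({z} : Set G)) = ⊥ := by
  haveI : Fact (Nat.Prime 2) := ⟨Nat.prime_two⟩
  have h := w.h
  obtain ⟨u, hu, hc⟩ := w.cp z hz
  obtain ⟨S, h1, -⟩ := exists_sylow_of_cp h hz hu hc
  obtain ⟨t, ht, ht1, htS⟩ := w.exists_t S h1
  obtain ⟨E, hE⟩ : ∃ E : Subgroup G, E = EH (centralizer ({z} : Set G)) := ⟨_, rfl⟩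
  obtain ⟨S0, hS0⟩ : ∃ S0 : Subgroup G, S0 = (S : Subgroup G) ⊓ centralizer (E : Set G) := ⟨_, rfl⟩
  by_contra hne
  -- `S0` is strongly closed
  have h2 : IsStronglyClosed S0 (S : Subgroup G) := by
    refine ⟨by rw [hS0]; exact inf_le_left, fun x hx g hg => ?_⟩
    rw [hS0, mem_inf] at hx ⊢
    refine ⟨hg, ?_⟩
    obtain ⟨m, hm, hm2⟩ := w.fus hQ S h1 ht ht1 htS hx.1 hg
    rw [← hm2, mem_centralizer_iff]
    intro e he
    rw [← hE] at hm
    have h3 : m⁻¹ * e * m ∈ E := by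
      have := (mem_normalizer_iff.1 (inv_mem hm) e).1 he
      rwa [inv_inv] at this
    have h4 := mem_centralizer_iff.1 hx.2 _ h3
    calc e * (m * x * m⁻¹) = m * (m⁻¹ * e * m * x) * m⁻¹ := by group
      _ = m * (x * (m⁻¹ * e * m)) * m⁻¹ := by rw [h4]
      _ = m * x * m⁻¹ * e := by group
  have h3 := h1173 S S0 h2
  rw [← TwoFusion.PerfCore.perf_eq_iInf] at h3
  have h4 : E ≤ TwoFusion.PerfCore.perf (centralizer (S0 : Set G)) := by
    refine TwoFusion.PerfCore.le_perf (fun e he => ?_) (by rw [hE]; exact EH_perfect _)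
    rw [mem_centralizer_iff]
    intro x hx
    rw [SetLike.mem_coe, hS0, mem_inf] at hx
    exact (mem_centralizer_iff.1 hx.2 e he).symm
  have h5 : TwoFusion.PerfCore.perf (centralizer (S0 : Set G)) ≠ ⊥ := by
    intro h6
    rw [h6, le_bot_iff] at h4
    exact hne (hE ▸ h4)
  have h6 : F ≤ centralizer (S0 : Set G) :=
    (f.le (fun g _ n hn => h3.conj_mem n hn g) h5).trans (TwoFusion.PerfCore.perf_le _)
  have h7 : z ∈ S0 := by
    rw [hS0, mem_inf]
    refine ⟨TT_le h (CS.mem_TT h1), ?_⟩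
    rw [mem_centralizer_iff]
    intro e he
    rw [hE] at he
    exact mem_centralizer_singleton_iff.1 (EH_le _ he)
  have h8 : z ∈ centralizer (F : Set G) := by
    rw [mem_centralizer_iff]
    intro y hy
    exact (mem_centralizer_iff.1 (h6 hy) z h7).symm
  rw [f.cen, mem_bot] at h8
  exact hz.z1 h h8

end EW

end Cfsg.Agent.Cit.Nil.RTwoM
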