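import Cfsg.Agent.Cit.Nil.RTwoM.Act
import Cfsg.Agent.Cit.Nil.AbSyl

/-!
# S1309, (6b), (C3), `r = 2`, any `m`: the end in `X = F*(G)`, `K ∩ X = ⟨z⟩`

`TrX Om X` : `X` is normal, `K ∩ X = ⟨z⟩` for the members.

* `TrX.pm`, `TrX.not_ti` : `(z, g z g⁻¹)`, `g ∈ X`, is not of type I; `TrX.not_ff` : `t ∈ X` is not of type `f` at `z`;
* **`TrX.false_of_swap`** : `X` perfect, the 2-subgroups of `X` abelian: no `t ∈ X` swaps the members over `z ∈ X`.

Proof: `V ∋ z` a Sylow 2-subgroup of `X`; `R_z ∩ X ≤ V` contains the `qq t k`, so `z ∈ [V, k]` for all `k ∈ K` of order 4.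
An automorphism of `V` induced by `n ∈ N_X(V)` and commuting with that of `k` maps `z` into `[V, k] ≤ R_z`, so it fixes
`z` (`not_ti`). By coprime generation `N_X(V)` centralises `z`; `z = 1` by transfer.
-/

set_option autoImplicit false
set_option linter.style.haveILetI false
set_option linter.unusedSectionVars false

namespace Cfsg.Agent.Cit.Nil.RTwoM

open Subgroup Cfsg Cfsg.Agent.Cit OneBasic Nil.AbSyl

open RTwo (Q3)
open RG (WR CP Ov InO Tr)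
open RI (CS)

variable {G : Type*} [Group G] {Om : Set (Subgroup G)} {K L M X : Subgroup G}
  {a b c d e g k l n s t u v w x y z : G}

/-- `K ∩ X = ⟨z⟩` -/
structure TrX (Om : Set (Subgroup G)) (X : Subgroup G) : Prop where
  w : WM Om
  nor : X.Normal
  inf : ∀ z K, Mem Om z K → ∀ y ∈ K, y ∈ X → y = 1 ∨ y = z

namespace TrX

variable [Finite G] (r : TrX Om X)

include r

/-- elements of `X` normalising `K` are inner on `K` -/
theorem pm (hK : Mem Om z K) (hd : d ∈ X) (hdK : cj d K = K) : ∀ k ∈ K, d * k * d⁻¹ = k ∨ d * k * d⁻¹ = z * k := by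
  intro k hk
  have h0 : d * k * d⁻¹ ∈ K := by
    have := conj_mem_cj (g := d) hk
    rwa [hdK] at this
  have h2 : d * k * d⁻¹ * k⁻¹ ∈ X := by
    have h3 : d * k * d⁻¹ * k⁻¹ = d * (k * d⁻¹ * k⁻¹) := by group
    rw [h3]
    exact mul_mem hd (r.nor.conj_mem _ (inv_mem hd) k)
  rcases r.inf z K hK _ (mul_mem h0 (inv_mem hk)) h2 with h3 | h3
  · exact Or.inl (mul_inv_eq_one.1 h3)
  · right; rwa [mul_inv_eq_iff_eq_mul] at h3

theorem not_ti (hg : g ∈ X) : ¬ TI Om z (g * z * g⁻¹) := by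
  intro hti
  obtain ⟨K, hK⟩ := hti.inZ
  have hL : Mem Om (g * z * g⁻¹) (cj g K) := hK.cj r.w g
  obtain ⟨x, hx, hxx⟩ := (hti.symm r.w).exists_as r.w hL
  obtain ⟨y, hy, hyy⟩ := hti.exists_as r.w hK
  obtain ⟨h1, -, h2⟩ := (hti.symm r.w).rot r.w hL hK hx hy
  -- `x = g k g⁻¹`
  obtain ⟨k, hkdef⟩ : ∃ k, k = g⁻¹ * x * g := ⟨_, rfl⟩
  have hk : k ∈ K := by rw [hkdef]; exact mem_cj.1 hx.1
  have hd : x * k⁻¹ ∈ X := by
    have h4 : x * k⁻¹ = (x * g⁻¹ * x⁻¹) * g := by rw [hkdef]; group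
    rw [h4]
    exact mul_mem (r.nor.conj_mem _ (inv_mem hg) x) hg
  have hdK : cj (x * k⁻¹) K = K := by
    rw [cj_mul, mem_normalizer_iff_cj.1 (le_normalizer (inv_mem hk)), h1]
  obtain ⟨u, hu, huu, hyu⟩ := hK.exists_nc r.w hy.1 hyy
  have h3 := h2 u hu huu hyu
  have huk : k * u * k⁻¹ ∈ K := mul_mem (mul_mem hk hu) (inv_mem hk)
  have h4 := r.pm hK hd hdK _ huk
  have h5 : x * k⁻¹ * (k * u * k⁻¹) * (x * k⁻¹)⁻¹ = x * u * x⁻¹ := by group
  rw [h5] at h4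
  have hz2 := hK.inZ.z2 r.w
  have hz1 := hK.inZ.z1 r.w
  have e1 : ∀ g : G, z * (z * g) = g := fun g => by rw [← mul_assoc, hz2, one_mul]
  -- `x u x⁻¹ ∈ {u, z u}`
  have h6 : x * u * x⁻¹ = u ∨ x * u * x⁻¹ = z * u := by
    rcases hK.comm_or r.w hu hk with h7 | h7 <;> rw [h7] at h4
    · exact h4
    · rcases h4 with h4 | h4
      · exact Or.inr h4
      · left; rw [h4, e1]
  have hyne1 : y ≠ 1 := by
    rintro rfl
    rw [one_mul] at hyy
    exact hz1 hyy.symm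
  have hynez : y ≠ z := by
    rintro rfl
    rw [hz2] at hyy
    exact hz1 hyy.symm
  rcases h3 with h3 | h3 <;> rcases h6 with h6 | h6 <;> rw [h3] at h6
  · exact hyne1 (mul_eq_right.1 h6)
  · exact hynez (mul_right_cancel h6)
  · have h7 : z * y = 1 := by
      rw [← mul_assoc] at h6
      exact mul_eq_right.1 h6
    apply hynez
    calc y = z * (z * y) := (e1 y).symm
      _ = z := by rw [h7, mul_one]
  · exact hyne1 (mul_eq_right.1 (mul_left_cancel h6))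

theorem not_ff (ht : t ∈ X) (hz : InZ Om z) : ¬ Ff Om z t := by
  intro hf
  obtain ⟨K, hK⟩ := hz
  exact (hf.2 K hK).2 (r.pm hK ht (hf.2 K hK).1)

/-- `R_z ∩ X` lies in a Sylow 2-subgroup of `X` containing and centralising `z` -/
theorem RZ_le_syl {V : Subgroup G} (hV : Syl V X) (hVz : ∀ v ∈ V, v * z = z * v) (hz : InZ Om z) :
    RZ Om z ⊓ X ≤ V := by
  have hR2 : IsPGroup 2 (RZ Om z) := by rw [← RR_eq]; exact r.w.wr.RR_two hz.zz
  intro y hy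
  have key : zpowers y ≤ V := by
    have h1 : IsPGroup 2 (V ⊔ (RZ Om z ⊓ X) : Subgroup G) := by
      refine hV.2.1.to_sup_of_normal_right' (hR2.to_le inf_le_left) ?_
      intro v hv
      rw [mem_normalizer_iff]
      have h2 : ∀ v ∈ V, ∀ x ∈ RZ Om z ⊓ X, v * x * v⁻¹ ∈ RZ Om z ⊓ X := fun v hv x hx =>
        ⟨RZ_conj_comm r.w (hVz v hv) hx.1, r.nor.conj_mem x hx.2 v⟩
      intro x
      refine ⟨h2 v hv x, fun hx => ?_⟩
      have h3 := h2 v⁻¹ (inv_mem hv) _ hx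
      rwa [inv_inv, show v⁻¹ * (v * x * v⁻¹) * v = x by group] at h3
    have h2 : V ⊔ (RZ Om z ⊓ X) = V := (syl_eq_of_le hV h1 (sup_le hV.1 inf_le_right) le_sup_left).symm
    rw [zpowers_le, ← h2]
    exact mem_sup_right hy
  exact key (mem_zpowers y)

/-- **no swaps in `X`**, if the 2-subgroups of `X` are abelian -/
theorem false_of_swap (hX : ⁅X, X⁆ = X)
    (hab : ∀ P : Subgroup G, P ≤ X → IsPGroup 2 P → ∀ a ∈ P, ∀ b ∈ P, a * b = b * a) (hz : InZ Om z) (hzX : z ∈ X)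
    (ht : t ∈ X) (hs : Swp Om z t) : False := by
  have h := r.w
  obtain ⟨V, hV, hzV⟩ := exists_syl_ge (C := X) (P := zpowers z) (by
    refine IsPGroup.of_card (n := 1) ?_
    rw [Nat.card_zpowers, hz.orderOf h, pow_one]) (zpowers_le.2 hzX)
  have hzV' : z ∈ V := hzV (mem_zpowers z)
  have hVc := hab V hV.1 hV.2.1
  have hRV := r.RZ_le_syl hV (fun v hv => hVc v hv z hzV') hz
  obtain ⟨K, hK⟩ := hz
  have hVz : ∀ v ∈ V, v * z = z * v := fun v hv => hVc v hv z hzV'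
  -- `K ≤ N(V)`
  have hKc : ∀ k ∈ K, ∀ v ∈ V, k * v * k⁻¹ * v⁻¹ ∈ RZ Om z ⊓ X := by
    intro k hk v hv
    have e1 : k * v * k⁻¹ * v⁻¹ = k * (v * k⁻¹ * v⁻¹) := by group
    refine Subgroup.mem_inf.2 ⟨?_, ?_⟩
    · rw [e1]
      exact mul_mem (hK.le_RZ hk) (RZ_conj_comm h (hVz v hv) (inv_mem (hK.le_RZ hk)))
    · exact X.mul_mem (r.nor.conj_mem v (hV.1 hv) k) (X.inv_mem (hV.1 hv))
  have hKV : ∀ k ∈ K, ∀ v ∈ V, k * v * k⁻¹ ∈ V := by
    intro k hk v hv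
    have h1 := mul_mem (hRV (hKc k hk v hv)) hv
    rwa [inv_mul_cancel_right] at h1
  have hKN : ∀ k ∈ K, k ∈ normalizer (V : Set G) := by
    intro k hk
    rw [mem_normalizer_iff]
    intro v
    refine ⟨hKV k hk v, fun hv => ?_⟩
    have h3 := hKV k⁻¹ (inv_mem hk) _ hv
    rwa [inv_inv, show k⁻¹ * (k * v * k⁻¹) * k = v by group] at h3
  -- the elements `qq t k`
  have hq : ∀ k ∈ K, k * k = z → qq t k ∈ V := by
    intro k hk hkk
    refine hRV (Subgroup.mem_inf.2 ⟨qq_mem hs h hK hk, ?_⟩)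
    have e1 : qq t k = (k * k) * ((k⁻¹ * t * k⁻¹⁻¹) * t⁻¹) := by rw [qq]; group
    rw [e1, hkk]
    exact X.mul_mem hzX (X.mul_mem (r.nor.conj_mem t ht k⁻¹) (X.inv_mem ht))
  -- `z ∈ [V, k]`
  have hcom : ∀ k ∈ K, k * k = z → ∃ v ∈ V, k * v * k⁻¹ = z * v := by
    intro k hk hkk
    obtain ⟨l, hl, hll, hkl⟩ := hK.exists_nc h hk hkk
    refine ⟨qq t l, hq l hl hll, ?_⟩
    have h1 : k * l * k⁻¹ = z * l := hK.anti h hl hll hk hkk (fun h2 => hkl h2.symm)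
    have h2 := hs.cm h hK (inv_mem hk) hl
    calc k * (l * (t * l * t⁻¹)) * k⁻¹ = k * l * ((t * l * t⁻¹) * k⁻¹) := by group
      _ = k * l * (k⁻¹ * (t * l * t⁻¹)) := by rw [h2]
      _ = (k * l * k⁻¹) * (t * l * t⁻¹) := by group
      _ = z * qq t l := by rw [h1, qq, mul_assoc]
  -- the action on `V`
  obtain ⟨i, hi, hii⟩ : ∃ i ∈ K, i * i = z := by
    obtain ⟨q, hq⟩ := h.exists_q3 hK
    exact ⟨q 0, hq.mem 0, hq.sq 0⟩
  obtain ⟨j, hj, hjj, hij⟩ := hK.exists_nc h hi hii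
  let θ := V.normalizerMonoidHom
  have hθ : ∀ (g : G) (hg : g ∈ normalizer (V : Set G)) (v : V), ((θ ⟨g, hg⟩ v : V) : G) = g * v * g⁻¹ :=
    fun g hg v => rfl
  have hone : ∀ (g : G) (hg : g ∈ normalizer (V : Set G)), (∀ v ∈ V, g * v * g⁻¹ = v) → θ ⟨g, hg⟩ = 1 := by
    intro g hg h1
    ext v
    rw [hθ, h1 v v.2]; rfl
  have hzN : z ∈ normalizer (V : Set G) := le_normalizer hzV'
  have hθz : θ ⟨z, hzN⟩ = 1 := hone z hzN fun v hv => by rw [hVc z hzV' v hv, mul_inv_cancel_right]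
  let α := θ ⟨i, hKN i hi⟩
  let β := θ ⟨j, hKN j hj⟩
  have hαα : α * α = 1 := by
    have h1 : α * α = θ (⟨i, hKN i hi⟩ * ⟨i, hKN i hi⟩) := (map_mul θ _ _).symm
    rw [h1, ← hθz]
    exact congrArg θ (Subtype.ext hii)
  have hββ : β * β = 1 := by
    have h1 : β * β = θ (⟨j, hKN j hj⟩ * ⟨j, hKN j hj⟩) := (map_mul θ _ _).symm
    rw [h1, ← hθz]
    exact congrArg θ (Subtype.ext hjj)
  have hji : j * i = z * (i * j) := by
    have h1 : j * i * j⁻¹ = z * i := hK.anti h hi hii hj hjj hij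
    rw [mul_inv_eq_iff_eq_mul, mul_assoc] at h1
    exact h1
  have hαβ : α * β = β * α := by
    have h1 : α * β = θ (⟨i, hKN i hi⟩ * ⟨j, hKN j hj⟩) := (map_mul θ _ _).symm
    have h2 : β * α = θ (⟨j, hKN j hj⟩ * ⟨i, hKN i hi⟩) := (map_mul θ _ _).symm
    have h3 : (⟨j, hKN j hj⟩ * ⟨i, hKN i hi⟩ : normalizer (V : Set G)) =
        ⟨z, hzN⟩ * (⟨i, hKN i hi⟩ * ⟨j, hKN j hj⟩) := Subtype.ext hji
    rw [h1, h2, h3, map_mul θ ⟨z, hzN⟩, hθz, one_mul]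
  obtain ⟨B, hB⟩ : ∃ B, B = (X.subgroupOf (normalizer (V : Set G))).map V.normalizerMonoidHom := ⟨_, rfl⟩
  have hodd : Odd (Nat.card B) := by rw [hB]; exact odd_aut hV hVc
  -- `K` normalises `B`
  have hBn : ∀ (g : G) (hg : g ∈ normalizer (V : Set G)), ∀ γ ∈ B, θ ⟨g, hg⟩ * γ * (θ ⟨g, hg⟩)⁻¹ ∈ B := by
    intro g hg γ hγ
    rw [hB] at hγ ⊢
    obtain ⟨⟨n, hnN⟩, hnX, rfl⟩ := hγ
    refine ⟨⟨g, hg⟩ * ⟨n, hnN⟩ * ⟨g, hg⟩⁻¹, ?_, by simp only [map_mul, map_inv]; rfl⟩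
    exact r.nor.conj_mem n hnX g
  -- the stabiliser of `z`
  let w0 : V := ⟨z, hzV'⟩
  let St : Subgroup (MulAut V) :=
    { carrier := {γ | γ w0 = w0}
      mul_mem' := fun {a b} ha hb => by
        change (a * b) w0 = w0
        rw [MulAut.mul_apply, hb, ha]
      one_mem' := rfl
      inv_mem' := fun {a} ha => by
        change a⁻¹ w0 = w0
        have h1 : a⁻¹ (a w0) = w0 := by rw [← MulAut.mul_apply, inv_mul_cancel]; rfl
        rwa [ha] at h1 }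
  have hfix : ∀ k (hk : k ∈ K), k * k = z → B ⊓ centralizer {θ ⟨k, hKN k hk⟩} ≤ St := by
    intro k hk hkk γ hγ
    obtain ⟨v, hv, hkv⟩ := hcom k hk hkk
    have h1 := mem_centralizer_singleton_iff.1 hγ.2
    have h2 := hγ.1
    rw [hB] at h2
    obtain ⟨⟨n, hnN⟩, hnX, rfl⟩ := h2
    change n ∈ X at hnX
    -- `n z n⁻¹ = [k, n v n⁻¹]`
    have h3 : n * (k * v * k⁻¹) * n⁻¹ = k * (n * v * n⁻¹) * k⁻¹ := by
      have h4 := congrArg (fun f : MulAut V => ((f ⟨v, hv⟩ : V) : G)) h1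
      exact h4
    have h4 : n * z * n⁻¹ = k * (n * v * n⁻¹) * k⁻¹ * (n * v * n⁻¹)⁻¹ := by
      rw [← h3, hkv]; group
    have hnv : n * v * n⁻¹ ∈ V := (mem_normalizer_iff.1 hnN v).1 hv
    have h5 : n * z * n⁻¹ ∈ RZ Om z := by
      rw [h4]
      exact (hKc k hk _ hnv).1
    have h6 : n * z * n⁻¹ = z := by
      by_contra hne
      exact r.not_ti hnX (TI.of_mem_RZ h hK.inZ (hK.inZ.conj h n) (Ne.symm hne) h5)
    exact Subtype.ext h6
  have hij4 : (i * j) * (i * j) = z := by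
    calc (i * j) * (i * j) = i * (j * i) * j := by group
      _ = i * (z * (i * j)) * j := by rw [hji]
      _ = (i * z) * i * (j * j) := by group
      _ = (z * i) * i * z := by rw [hK.comm_z h hi, hjj]
      _ = z * (i * i) * z := by group
      _ = z := by rw [hii, mul_assoc, hK.inZ.z2 h, mul_one]
  have hfixij : B ⊓ centralizer {α * β} ≤ St := by
    have h1 : α * β = θ ⟨i * j, hKN _ (mul_mem hi hj)⟩ := by
      have h2 : α * β = θ (⟨i, hKN i hi⟩ * ⟨j, hKN j hj⟩) := (map_mul θ _ _).symm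
      rw [h2]
      exact congrArg θ (Subtype.ext rfl)
    rw [h1]
    exact hfix (i * j) (mul_mem hi hj) hij4
  have hBS := Lib.KleinGen.le_of_klein B St hodd α β hαα hββ hαβ (hBn i (hKN i hi)) (hBn j (hKN j hj))
    (hfix i hi hii) (hfix j hj hjj) hfixij
  -- `N_X(V)` centralises `z`
  refine hK.inZ.z1 h (eq_one_of_syl hV hVc hzV' ?_ ?_)
  · intro n hnX hnN
    have h1 : θ ⟨n, hnN⟩ ∈ B := by
      rw [hB]
      exact ⟨⟨n, hnN⟩, hnX, rfl⟩
    have h2 : θ ⟨n, hnN⟩ w0 = w0 := hBS h1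
    have h3 : n * z * n⁻¹ = z := congrArg Subtype.val h2
    rwa [mul_inv_eq_iff_eq_mul] at h3
  · rw [hX]
    exact hzX

end TrX

end Cfsg.Agent.Cit.Nil.RTwoM
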