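import Cfsg.Agent.Cit.Nil.RTwoM.JArg
import Cfsg.Agent.Cit.Nil.RTwoM.Star

/-!
# S1309, (6b), (C3), `r = 2`, any `m`, `LAMBDA0`: `CENT ⟹ StarC` for `|T| > 4`

* `CENT Om` : `x ∈ Z` normalising `C_S` commutes with `Z(s)`, all `s ∈ T_S#`;
* `CENT.comm_a0` : (H): `x ∈ Z ∩ C(z)` centralises `Z(z) = {z} ∪ a0(z)`;
* `FF Om z = Z ∩ C(z)`; `CENT.FF_eq` : constant on `Z(s)`, `s ∈ T_S#`;
* `DS Om z` : the `y ∈ Z` with `FF y = FF z`; `CENT.norm` : `C(s)` normalises `⟨DS z⟩`;
* **`StarC.of_cent`**.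
-/

set_option autoImplicit false
set_option linter.style.haveILetI false
set_option linter.unusedSectionVars false

namespace Cfsg.Agent.Cit.Nil.RTwoM

open Subgroup Cfsg Cfsg.Agent.Cit

open RG (WR CP Ov InO)
open RI (CS)

variable {G : Type*} [Group G] {Om : Set (Subgroup G)} {K L M : Subgroup G} {a c d s t u v x y z g k n : G}

/-- (CENT) -/
def CENT (Om : Set (Subgroup G)) : Prop := ∀ (S : Sylow 2 G), ∀ x, InZ Om x → NCS Om (S : Subgroup G) x →
  ∀ s ∈ TT Om (S : Subgroup G), s ≠ 1 → ∀ y ∈ ZS Om s, x * y = y * x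

/-- `Z ∩ C(z)` -/
def FF (Om : Set (Subgroup G)) (z : G) : Set G := {x | InZ Om x ∧ x * z = z * x}

/-- the `y` with the same `Z ∩ C(y)` -/
def DS (Om : Set (Subgroup G)) (z : G) : Set G := {y | InZ Om y ∧ FF Om y = FF Om z}

section Fin

variable [Finite G]

/-- the J-ARGUMENT for `|T| > 4` -/
theorem JH.of_four {A T : Subgroup G} (j : JH Om A T x) (h : WM Om) (hT : 4 < Nat.card T) : T ≤ CX Om x := by
  rcases j.dich h with h1 | h1
  · exact h1.1
  exfalso
  have h3 : ∃ s ∈ T, ∃ t ∈ T, s ≠ 1 ∧ t ≠ 1 ∧ s ≠ t := by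
    by_contra hcon
    push Not at hcon
    have hnt : Nontrivial T := Finite.one_lt_card_iff_nontrivial.1 (by omega)
    obtain ⟨s, hs⟩ := exists_ne (1 : T)
    have hs1 : (s : G) ≠ 1 := fun h2 => hs (Subtype.ext h2)
    have h5 : (T : Set G) ⊆ ({1, (s : G)} : Set G) := by
      intro t ht
      by_cases ht1 : t = 1
      · exact Or.inl ht1
      · exact Or.inr (hcon s s.2 t ht hs1 ht1).symm
    have h6 := Set.ncard_le_ncard h5 (Set.toFinite _)
    have e1 := Set.ncard_insert_le (1 : G) {(s : G)}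
    have e2 := Set.ncard_singleton (s : G)
    have h8 : Nat.card T = (T : Set G).ncard := rfl
    omega
  have jf : JF Om A T x := { j with ff := h1, three := h3 }
  obtain ⟨K, hK⟩ := j.inZ
  obtain ⟨p, hp, s, hs, a, -, -, -, -, -, -, -, hall, -⟩ := jf.main h hK
  have hcl : ∀ t : T, (t : G) ∈ ({1, s, p, p * s} : Set G) := by
    intro t
    rcases hall t t.2 with h4 | h4 | h4 | h4 <;> rw [h4] <;> simp
  have h5 : (T : Set G) ⊆ ({1, s, p, p * s} : Set G) := fun t ht => hcl ⟨t, ht⟩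
  have h6 := Set.ncard_le_ncard h5 (Set.toFinite _)
  have h7 : ({1, s, p, p * s} : Set G).ncard ≤ 4 := by
    have e1 := Set.ncard_insert_le (1 : G) {s, p, p * s}
    have e2 := Set.ncard_insert_le s {p, p * s}
    have e3 := Set.ncard_insert_le p {p * s}
    have e4 := Set.ncard_singleton (p * s)
    omega
  have h8 : Nat.card T = (T : Set G).ncard := rfl
  omega

theorem CS_subset_ZS' (h : WM Om) {S : Subgroup G} (hS : IsPGroup 2 S) (hz : z ∈ CS Om S) (hu : u ∈ CS Om S) :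
    u ∈ ZS Om z := CS_subset_ZS h hS (CS.mem_TT hz) hu

theorem FF_cj (h : WM Om) (g : G) : x ∈ FF Om z ↔ g * x * g⁻¹ ∈ FF Om (g * z * g⁻¹) := by
  have key : ∀ (g x z : G), x ∈ FF Om z → g * x * g⁻¹ ∈ FF Om (g * z * g⁻¹) := by
    rintro g x z ⟨hx, hc⟩
    refine ⟨hx.conj h g, ?_⟩
    calc g * x * g⁻¹ * (g * z * g⁻¹) = g * (x * z) * g⁻¹ := by group
      _ = g * (z * x) * g⁻¹ := by rw [hc]
      _ = _ := by group
  refine ⟨key g x z, fun h1 => ?_⟩
  have h2 := key g⁻¹ _ _ h1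
  rwa [inv_inv, show g⁻¹ * (g * x * g⁻¹) * g = x by group, show g⁻¹ * (g * z * g⁻¹) * g = z by group] at h2

theorem FF_image (h : WM Om) (g : G) : FF Om (g * z * g⁻¹) = (fun x => g * x * g⁻¹) '' FF Om z := by
  ext x
  constructor
  · intro hx
    refine ⟨g⁻¹ * x * g, ?_, by group⟩
    rw [FF_cj h g, show g * (g⁻¹ * x * g) * g⁻¹ = x by group]
    exact hx
  · rintro ⟨y, hy, rfl⟩
    exact (FF_cj h g).1 hy

theorem FF_ncard (h : WM Om) (cl : OneCl Om) (hz : InZ Om z) (hy : InZ Om y) : (FF Om y).ncard = (FF Om z).ncard := by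
  obtain ⟨g, rfl⟩ := cl z y hz hy
  rw [FF_image h, Set.ncard_image_of_injective _ (fun a b hab => mul_left_cancel (mul_right_cancel hab))]

namespace CENT

variable (ce : CENT Om)

include ce

/-- **(H)** -/
theorem comm_a0 (h : WM Om) (hz : InZ Om z) (hx : InZ Om x) (hc : x * z = z * x) (hy : y ∈ ZS Om z) : x * y = y * x := by
  obtain ⟨S, hS, hn⟩ := exists_NCS h hz hx hc.symm
  exact ce S x hx (NCS_of_mem h hn) z (CS.mem_TT hS) (hz.z1 h) y hy

theorem ncs (h : WM Om) {S : Sylow 2 G} (hz : z ∈ CS Om (S : Subgroup G)) (hx : InZ Om x) (hc : x * z = z * x) :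
    NCS Om (S : Subgroup G) x :=
  NCS_of_comm fun _ hu => ce.comm_a0 h (CS.inZ hz) hx hc (CS_subset_ZS' h S.isPGroup' hz hu)

/-- `Z ∩ C(y)` is constant on `Z(s)` -/
theorem FF_eq (h : WM Om) (cl : OneCl Om) {S : Sylow 2 G} (hz : z ∈ CS Om (S : Subgroup G))
    (hs : s ∈ TT Om (S : Subgroup G)) (hs1 : s ≠ 1) (hy : y ∈ ZS Om s) : FF Om y = FF Om z := by
  have h1 : FF Om z ⊆ FF Om y := fun x hx => ⟨hx.1, ce S x hx.1 (ce.ncs h hz hx.1 hx.2) s hs hs1 y hy⟩
  exact (Set.eq_of_subset_of_ncard_le h1 (le_of_eq (FF_ncard h cl (CS.inZ hz) hy.1)) (Set.toFinite _)).symm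

theorem mem_DS (h : WM Om) (cl : OneCl Om) {S : Sylow 2 G} (hz : z ∈ CS Om (S : Subgroup G))
    (hs : s ∈ TT Om (S : Subgroup G)) (hs1 : s ≠ 1) (hy : y ∈ ZS Om s) : y ∈ DS Om z :=
  ⟨hy.1, ce.FF_eq h cl hz hs hs1 hy⟩

theorem CS_sub (h : WM Om) (cl : OneCl Om) {S : Sylow 2 G} (hz : z ∈ CS Om (S : Subgroup G))
    (hu : u ∈ CS Om (S : Subgroup G)) : u ∈ DS Om z :=
  ce.mem_DS h cl hz (CS.mem_TT hz) ((CS.inZ hz).z1 h) (CS_subset_ZS' h S.isPGroup' hz hu)

omit ce in
theorem DS_comm (hx : x ∈ DS Om z) (hy : y ∈ DS Om z) : x * y = y * x := by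
  have h1 : x ∈ FF Om x := ⟨hx.1, rfl⟩
  rw [hx.2, ← hy.2] at h1
  exact h1.2

omit ce in
theorem cl_comm (hx : x ∈ closure (DS Om z)) (hy : y ∈ closure (DS Om z)) : x * y = y * x := by
  have h1 : closure (DS Om z) ≤ centralizer (closure (DS Om z) : Set G) := by
    rw [closure_le]
    intro a ha
    rw [SetLike.mem_coe, mem_centralizer_iff]
    have h2 : closure (DS Om z) ≤ centralizer {a} := by
      rw [closure_le]
      intro b hb
      rw [SetLike.mem_coe, mem_centralizer_singleton_iff]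
      exact DS_comm hb ha
    intro b hb
    exact mem_centralizer_singleton_iff.1 (h2 hb)
  exact ((mem_centralizer_iff.1 (h1 hx)) y hy).symm

omit ce in
theorem cl_sq (h : WM Om) (hx : x ∈ closure (DS Om z)) : x * x = 1 := by
  induction hx using closure_induction with
  | mem a ha => exact ha.1.z2 h
  | one => exact one_mul 1
  | mul a b ha hb iha ihb =>
    have h1 := cl_comm ha hb
    calc a * b * (a * b) = a * (b * a) * b := by group
      _ = a * (a * b) * b := by rw [h1]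
      _ = (a * a) * (b * b) := by group
      _ = 1 := by rw [iha, ihb, one_mul]
  | inv a ha iha => rw [← mul_inv_rev, iha, inv_one]

/-- `C(s)` normalises `⟨DS z⟩` -/
theorem norm (h : WM Om) (cl : OneCl Om) {S : Sylow 2 G} (hz : z ∈ CS Om (S : Subgroup G))
    (hs : s ∈ TT Om (S : Subgroup G)) (hs1 : s ≠ 1) (hc : g * s = s * g) (ha : a ∈ closure (DS Om z)) :
    g * a * g⁻¹ ∈ closure (DS Om z) := by
  have hzs := CS_subset_ZS h S.isPGroup' hs hz
  have key : ∀ y ∈ DS Om z, g * y * g⁻¹ ∈ DS Om z := by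
    rintro y ⟨hy, hyz⟩
    refine ⟨hy.conj h g, ?_⟩
    rw [FF_image h, hyz, ← FF_image h]
    exact ce.FF_eq h cl hz hs hs1 (ZS_conj h hzs hc)
  have h2 : closure (DS Om z) ≤ cj g⁻¹ (closure (DS Om z)) := by
    rw [closure_le]
    intro y hy
    rw [SetLike.mem_coe, mem_cj, inv_inv]
    exact subset_closure (key y hy)
  have h3 := h2 ha
  rwa [mem_cj, inv_inv] at h3

end CENT

/-- **`CENT ⟹ StarC`** if `|T| > 4` -/
theorem StarC.of_cent (ce : CENT Om) (h : WM Om) (cl : OneCl Om) (l0 : L0 Om)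
    (h8 : ∀ S : Sylow 2 G, 4 < Nat.card (TT Om (S : Subgroup G))) : StarC Om := by
  intro S x y hx hy hxS hyS
  by_cases hne : ∃ z, z ∈ CS Om (S : Subgroup G)
  swap
  · exfalso
    push Not at hne
    have h1 : TT Om (S : Subgroup G) = ⊥ := by
      rw [TT, closure_eq_bot_iff]
      exact fun z hz => absurd hz (hne z)
    have h2 := h8 S
    rw [h1, Subgroup.card_bot] at h2
    omega
  obtain ⟨z, hz⟩ := hne
  have key : ∀ x, InZ Om x → NCS Om (S : Subgroup G) x → x ∈ closure (DS Om z) := by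
    intro x hx hxS
    by_contra hxA
    have hle : TT Om (S : Subgroup G) ≤ closure (DS Om z) := by
      rw [TT, closure_le]
      exact fun u hu => subset_closure (ce.CS_sub h cl hz hu)
    have j : JH Om (closure (DS Om z)) (TT Om (S : Subgroup G)) x := {
      inZ := hx
      comm' := fun a ha b hb => CENT.cl_comm ha hb
      sq := fun a ha => CENT.cl_sq h ha
      nin := hxA
      le := hle
      tx := fun t ht => (comm_TT_of_NCS h l0 S.isPGroup' hx hxS ht).symm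
      nor := fun t ht ht1 r _ hc a ha => ce.norm h cl hz ht ht1 hc.symm ha }
    have h1 := j.of_four h (h8 S)
    have h2 : x ∈ CS Om (S : Subgroup G) := by
      refine mem_CS_of_clique h S hx fun u hu => ?_
      rcases (cen_iff h hx (CS.inZ hu)).1 (h1 (CS.mem_TT hu)) with h3 | h3
      · exact Or.inl h3.symm
      · exact Or.inr h3.symm
    exact hxA (hle (CS.mem_TT h2))
  exact CENT.cl_comm (key x hx hxS) (key y hy hyS)

end Fin

end Cfsg.Agent.Cit.Nil.RTwoM
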