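import Cfsg.Agent.Cit.Nil.RTwoM.LZero
import Cfsg.Agent.Cit.Nil.RTwoM.Act
import Cfsg.Agent.Cit.Nil.RTwoM.JArg

/-!
# S1309, (6b), (C3), `r = 2`, any `m`, `LAMBDA0`: the F-BOUND (helper599, bb #18147 (4), (5))

* `ANE Om` : (AN*) of helper545: `e` an involution, `(z, u)` a C-pair in `Z(e)`: `z ∈ O₂(C(e))`;
* `FB.mem_or`, `FB.comm` : (2.4), commutativity of `⟨y^{C(s)}⟩` with `y ∈ O₂(C(s))` as the only input;
* `FB.comm_of_mem` : (AN*) FOR MEMBERS: `(z, z')` a C-pair in `Z(e)`, `u ∈ Z(e)`, `e` centralises ONE member over `x`: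
  `x u = u x`;
* `FB.card_stab_le` : an elementary abelian group acting faithfully on a member has order `≤ 4`;
* **`FB.card_le`** : `F` elementary abelian, `F ≤ C(x)`, no `1 ≠ f ∈ F` centralises a member over `x`: `|F| ≤ 8`;
* `FB.card_le_pair`, `FB.card_le_TT` : the two applications;
* **`FB.not_two`** (5): `{z₁, z₂, z₃, z₄}` a clique, `u` C to `z₁` and `z₂`, `x` commutes with `z₁, z₂`: `x u = u x`.
-/

set_option autoImplicit false
set_option linter.style.haveILetI false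
set_option linter.unusedSectionVars false

namespace Cfsg.Agent.Cit.Nil.RTwoM

open Subgroup Cfsg Cfsg.Agent.Cit

open RTwo (Q3)
open RG (WR CP Ov InO Tr)
open RI (CS)
open ROne (NC self_mem_NC conj_mem_NC cj_NC mem_NC_conj NC_le)

variable {G : Type*} [Group G] {Om : Set (Subgroup G)} {K L M : Subgroup G}
  {a b c d e f r s t u v x y z z' z₁ z₂ z₃ z₄ g k n : G}

/-- (AN*) -/
def ANE (Om : Set (Subgroup G)) : Prop :=
  ∀ e : G, e * e = 1 → e ≠ 1 → ∀ z ∈ ZS Om e, ∀ u ∈ ZS Om e, CP Om z u → InO (centralizer {e}) z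

namespace FB

section

variable [Finite G]

theorem two_of_inO (hy : InO (centralizer {s}) y) : IsPGroup 2 (NC s y) := by
  obtain ⟨N, -, hN, h2, hyN⟩ := hy
  refine h2.to_le ((closure_le _).2 ?_)
  rintro _ ⟨g, hg, rfl⟩
  exact (mem_normalizer_iff.1 (hN (mem_centralizer_singleton_iff.2 hg)) y).1 hyN

/-- **(2.4)** for one member -/
theorem mem_or (h : WM Om) (h2 : IsPGroup 2 (NC s y)) (hK : Mem Om x K) (hc : ∀ k ∈ K, s * k = k * s) :
    x ∈ NC s y ∨ ∀ n ∈ NC s y, ∀ k ∈ K, k * n = n * k := by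
  by_cases hxN : x ∈ NC s y
  · exact Or.inl hxN
  right
  intro n hn k hk
  refine h.hyp.lemma_one hK.1 (h.isPGroup hK.1) h2 (le_trans ?_ NC_norm) (by rw [hK.2]; exact hxN) k hk n hn
  intro k hk
  rw [mem_centralizer_singleton_iff]
  exact (hc k hk).symm

theorem orb (h : WM Om) (h2 : IsPGroup 2 (NC s y)) (hy : y ∈ ZS Om s) (hK : Mem Om y K) :
    Cit.ROne.Orb Om (centralizer {s}) (NC s y) {L | ∃ g ∈ centralizer {s}, cj g K = L} := by
  have hS : (zz '' {L | ∃ g ∈ centralizer {s}, cj g K = L}) = {t | ∃ g, g * s = s * g ∧ t = g * y * g⁻¹} := by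
    ext t
    constructor
    · rintro ⟨_, ⟨g, hg, rfl⟩, rfl⟩
      exact ⟨g, mem_centralizer_singleton_iff.1 hg, (hK.cj h g).2⟩
    · rintro ⟨g, hg, rfl⟩
      exact ⟨_, ⟨g, mem_centralizer_singleton_iff.2 hg, rfl⟩, (hK.cj h g).2⟩
  have h3 : ∀ L ∈ Om, IsPGroup 2 L := fun L hL => h.isPGroup hL
  have := Cit.ROne.Orb.of_orbit h.hyp h3 hK.1 (H := centralizer {s}) (Mem.le_cent hK hy) (by
    rw [hS]; exact h2)
  rwa [hS] at this

theorem exists_move (h : WM Om) (h2 : IsPGroup 2 (NC s y)) (hy : y ∈ ZS Om s)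
    (hn : ¬ ∀ a ∈ NC s y, ∀ b ∈ NC s y, a * b = b * a) : ∃ x ∈ NC s y, InZ Om x ∧ x * y ≠ y * x := by
  by_contra hcon
  push Not at hcon
  obtain ⟨K, hK⟩ := hy.1
  have o := orb h h2 hy hK
  apply o.zz_not_central hn ⟨1, one_mem _, cj_one _⟩
  have h1 : NC s y ≤ centralizer {y} := by
    refine (closure_le _).2 ?_
    rintro _ ⟨g, hg, rfl⟩
    rw [SetLike.mem_coe, mem_centralizer_singleton_iff]
    exact hcon _ (conj_mem_NC hg) (hy.1.conj h g)
  intro x hx
  rw [hK.2]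
  exact (mem_centralizer_singleton_iff.1 (h1 hx)).symm

theorem cp (h : WM Om) (h2 : IsPGroup 2 (NC s y)) (hy : y ∈ ZS Om s) (hn : n ∈ NC s y) (hny : n * y ≠ y * n) :
    CP Om y (n * y * n⁻¹) := by
  obtain ⟨K, hK⟩ := hy.1
  have o := orb h h2 hy hK
  have hne : y ≠ n * y * n⁻¹ := fun h1 => hny (by rw [eq_mul_inv_iff_mul_eq] at h1; exact h1.symm)
  have hnc : ¬ ∀ a ∈ NC s y, ∀ b ∈ NC s y, a * b = b * a := fun h1 => hny (h1 n hn y self_mem_NC)
  have hKn := hK.cj h n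
  have hKne : K ≠ cj n K := by
    intro h1
    rw [← h1] at hKn
    exact hne (hK.2.symm.trans hKn.2)
  have h1 := o.comm_cj hnc ⟨1, one_mem _, cj_one _⟩ hn hKne
  exact cp_of_cen h hK (hy.1.conj h n) hne fun k hk => (h1 k hk _ (hKn.zmem h)).symm

theorem comm (h : WM Om) (l0 : L0 Om) (h2 : IsPGroup 2 (NC s y)) (hy : y ∈ ZS Om s) :
    ∀ a ∈ NC s y, ∀ b ∈ NC s y, a * b = b * a := by
  by_contra hn
  obtain ⟨x, hx, hxZ, hxy⟩ := exists_move h h2 hy hn
  exact l0 y x hy.1 hxZ (cp h h2 hy hx hxy)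

/-- `y ∈ O₂(C(s))`, `s` centralises one member over `x` : `x` and `y` commute -/
theorem comm_of_inO (h : WM Om) (l0 : L0 Om) (hO : InO (centralizer {s}) y) (hy : y ∈ ZS Om s) (hK : Mem Om x K)
    (hc : ∀ k ∈ K, s * k = k * s) : x * y = y * x := by
  have h2 := two_of_inO hO
  rcases mem_or h h2 hK hc with h1 | h1
  · exact comm h l0 h2 hy x h1 y self_mem_NC
  · exact h1 y self_mem_NC x (hK.zmem h)

/-- `(z, z')` a C-pair in `Z(e)`, `u ∈ Z(e)`: `u = z`, `u` C to `z`, or `u ∈ ⟨z^{C(e)}⟩` -/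
theorem cases (h : WM Om) (an : ANE Om) (he : e * e = 1) (he1 : e ≠ 1) (hz : z ∈ ZS Om e) (hz' : z' ∈ ZS Om e)
    (hcp : CP Om z z') (hu : u ∈ ZS Om e) : u = z ∨ CP Om u z ∨ u ∈ NC e z := by
  obtain ⟨K, hK⟩ := hu.1
  rcases mem_or h (two_of_inO (an e he he1 z hz z' hz' hcp)) hK (mem_CX.1 hu.2 K hK) with h1 | h1
  · exact Or.inr (Or.inr h1)
  · by_cases h2 : u = z
    · exact Or.inl h2
    · exact Or.inr (Or.inl (cp_of_cen h hK hz.1 h2 fun k hk => (h1 z self_mem_NC k hk).symm))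

/-- **(AN*) FOR MEMBERS** -/
theorem comm_of_mem (h : WM Om) (l0 : L0 Om) (an : ANE Om) (he : e * e = 1) (he1 : e ≠ 1) (hz : z ∈ ZS Om e)
    (hz' : z' ∈ ZS Om e) (hcp : CP Om z z') (hu : u ∈ ZS Om e) (hK : Mem Om x K) (hc : ∀ k ∈ K, e * k = k * e) :
    x * u = u * x := by
  have hO := an e he he1 z hz z' hz' hcp
  rcases cases h an he he1 hz hz' hcp hu with h1 | h1 | h1
  · rw [h1]; exact comm_of_inO h l0 hO hz hK hc
  · exact comm_of_inO h l0 (an e he he1 u hu z hz h1) hu hK hc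
  · have h2 := two_of_inO hO
    have h3 := comm h l0 h2 hz
    rcases mem_or h h2 hK hc with h4 | h4
    · exact h3 x h4 u h1
    · exact h4 u h1 x (hK.zmem h)

/-- F-BOUND, the kernel: `z ∈ a0(u)`, `x u ≠ u x`: no involution of `C(R_z) ⊓ C(R_u)` centralises a member over `x` -/
theorem not_cent (h : WM Om) (l0 : L0 Om) (an : ANE Om) (he : e * e = 1) (he1 : e ≠ 1) (hz : InZ Om z)
    (hu : InZ Om u) (hcp : CP Om z u) (hez : e ∈ CX Om z) (heu : e ∈ CX Om u) (hK : Mem Om x K)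
    (hxu : x * u ≠ u * x) : ¬ ∀ k ∈ K, e * k = k * e := fun hc =>
  hxu (comm_of_mem h l0 an he he1 ⟨hz, hez⟩ ⟨hu, heu⟩ hcp ⟨hu, heu⟩ hK hc)

/-! ### elementary abelian groups acting on a member -/

theorem stab_inn (h : WM Om) (hK : Mem Om x K) (F : Subgroup G) (hs : ∀ a ∈ F, a * a = 1)
    (hf : ∀ f ∈ F, (∀ k ∈ K, f * k = k * f) → f = 1)
    (hin : ∀ f ∈ F, ∀ k ∈ K, f * k * f⁻¹ = k ∨ f * k * f⁻¹ = x * k) : Nat.card F ≤ 4 := by
  obtain ⟨q, hq⟩ := h.exists_q3 hK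
  have h1 : ∀ f : F, ∃ o : Option (Fin 3), ∀ k ∈ K, (f : G) * k * (f : G)⁻¹ =
      (o.elim 1 q) * k * (o.elim 1 q)⁻¹ := by
    intro f
    rcases hq.inner_cases (hin f f.2) with h2 | ⟨j, h2⟩
    · refine ⟨none, fun k hk => ?_⟩
      rw [h2 k hk]; simp
    · exact ⟨some j, h2⟩
  choose o ho using h1
  have hinj : Function.Injective o := by
    intro f f' hff
    have h2 : (f : G) * (f' : G)⁻¹ = 1 := by
      refine hf _ (mul_mem f.2 (inv_mem f'.2)) fun k hk => ?_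
      have hff' : (f' : G)⁻¹ = f' := inv_eq_of_mul_eq_one_right (hs _ f'.2)
      have h3 := ho f k hk
      have h4 := ho f' k hk
      rw [← hff, ← h3] at h4
      have h5 : (f' : G) * k = f * k * (f : G)⁻¹ * f' := by rw [← h4]; group
      have h6 : (f : G)⁻¹ = f := inv_eq_of_mul_eq_one_right (hs _ f.2)
      have h7 : (f : G)⁻¹ * (f' : G) * k = k * ((f : G)⁻¹ * f') := by
        rw [mul_assoc, h5]; group
      rw [hff']
      rwa [h6] at h7
    exact Subtype.ext (mul_inv_eq_one.1 h2)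
  calc Nat.card F ≤ Nat.card (Option (Fin 3)) := Nat.card_le_card_of_injective o hinj
    _ = 4 := by simp

theorem card_stab_le (h : WM Om) (hK : Mem Om x K) (F : Subgroup G) (hc : ∀ a ∈ F, ∀ b ∈ F, a * b = b * a)
    (hs : ∀ a ∈ F, a * a = 1) (hFK : ∀ f ∈ F, cj f K = K)
    (hf : ∀ f ∈ F, (∀ k ∈ K, f * k = k * f) → f = 1) : Nat.card F ≤ 4 := by
  have hxx := hK.inZ.z2 h
  have hinv : ∀ f ∈ F, f⁻¹ = f := fun f hf' => inv_eq_of_mul_eq_one_right (hs f hf')
  -- inner action in `As` language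
  have has : ∀ f ∈ F, (∃ y, As K f y) ∨ ∃ a, Tr f K a := by
    intro f hfF
    rcases h.wr.inn_or_tr hK.1 (hFK f hfF) (hs f hfF) with ⟨y, hy, h1⟩ | h1
    · exact Or.inl ⟨y, hy, h1⟩
    · exact Or.inr h1
  have hasin : ∀ {f y : G}, As K f y → ∀ k ∈ K, f * k * f⁻¹ = k ∨ f * k * f⁻¹ = x * k := by
    intro f y hy k hk
    rw [hy.2 k hk]
    exact hK.comm_or h hk hy.1
  by_cases hall : ∀ f ∈ F, ∃ y, As K f y
  · exact stab_inn h hK F hs hf fun f hfF => by
      obtain ⟨y, hy⟩ := hall f hfF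
      exact hasin hy
  push Not at hall
  obtain ⟨t, ht, hnt⟩ := hall
  obtain ⟨a, ha⟩ : ∃ a, Tr t K a := by
    rcases has t ht with ⟨y, hy⟩ | h1
    · exact absurd hy (hnt y)
    · exact h1
  have haa := Tr.sq' ha hK
  -- an inner element acts as `1` or as `a`
  have hin : ∀ f ∈ F, ∀ y, As K f y → As K f 1 ∨ As K f a := by
    intro f hfF y hy
    have hft := hc f hfF t ht
    -- `t y t⁻¹ = y` or `x y`
    have h1 : As K f (t * y * t⁻¹) := by
      have h2 := hy.conj t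
      rw [hFK t ht, ← hft, mul_inv_cancel_right] at h2
      exact h2
    rcases hK.as_unique h hy h1 with h2 | h2
    · rcases Tr.cases ha hK h hy.1 (Or.inl h2) with h3 | h3 | h3 | h3
      · left; rw [h3] at hy; exact hy
      · left
        refine ⟨one_mem K, fun k hk => ?_⟩
        rw [hy.2 k hk, h3, ← hK.comm_z h hk]; group
      · right; rw [h3] at hy; exact hy
      · right
        refine ⟨ha.mem, fun k hk => ?_⟩
        rw [hy.2 k hk, h3]
        calc x * a * k * (x * a)⁻¹ = x * (a * k * a⁻¹) * x⁻¹ := by group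
          _ = a * k * a⁻¹ := by
            rw [← hK.comm_z h (mul_mem (mul_mem ha.mem hk) (inv_mem ha.mem)), mul_inv_cancel_right]
    · rcases Tr.cases ha hK h hy.1 (Or.inr h2) with h3 | h3 | h3 | h3
      · left; rw [h3] at hy; exact hy
      · left
        refine ⟨one_mem K, fun k hk => ?_⟩
        rw [hy.2 k hk, h3, ← hK.comm_z h hk]; group
      · right; rw [h3] at hy; exact hy
      · right
        refine ⟨ha.mem, fun k hk => ?_⟩
        rw [hy.2 k hk, h3]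
        calc x * a * k * (x * a)⁻¹ = x * (a * k * a⁻¹) * x⁻¹ := by group
          _ = a * k * a⁻¹ := by
            rw [← hK.comm_z h (mul_mem (mul_mem ha.mem hk) (inv_mem ha.mem)), mul_inv_cancel_right]
  -- for outer `f`, `f t` is inner
  have hout : ∀ f ∈ F, (¬ ∃ y, As K f y) → ∃ y, As K (f * t) y := by
    intro f hfF hn
    obtain ⟨b, hb⟩ : ∃ b, Tr f K b := by
      rcases has f hfF with h1 | h1
      · exact absurd h1 hn
      · exact h1
    have hb' : Tr f K a := Tr.same h hK (hFK t ht) (hc t ht f hfF) hb ha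
    rcases Tr.mul_cases h hK (hFK f hfF) (hFK t ht) hb' ha with h1 | h1
    · exact ⟨_, h1⟩
    · exact ⟨_, h1⟩
  -- equal action
  have heq : ∀ {f f' y : G}, f ∈ F → f' ∈ F → As K f y → As K f' y → f = f' := by
    intro f f' y hfF hfF' h1 h2
    have h3 : f * f'⁻¹ = 1 := by
      refine hf _ (mul_mem hfF (inv_mem hfF')) fun k hk => ?_
      have h4 := h1.mul h2.inv
      rw [mul_inv_cancel] at h4
      exact As.one_iff.1 h4 k hk
    exact mul_inv_eq_one.1 h3
  classical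
  let φ : F → Prop × Prop := fun f => ((∃ y, As K (f : G) y), (As K (f : G) 1 ∨ As K ((f : G) * t) 1))
  have hinj : Function.Injective φ := by
    intro f f' hff
    have h1 : (∃ y, As K (f : G) y) ↔ (∃ y, As K (f' : G) y) := (Prod.ext_iff.1 hff).1.to_iff
    have h2 : (As K (f : G) 1 ∨ As K ((f : G) * t) 1) ↔ (As K (f' : G) 1 ∨ As K ((f' : G) * t) 1) :=
      (Prod.ext_iff.1 hff).2.to_iff
    -- `f` inner: `f t` is not inner
    have hmix : ∀ {f : G}, f ∈ F → (∃ y, As K f y) → ¬ ∃ y, As K (f * t) y := by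
      rintro f hfF ⟨y, hy⟩ ⟨w, hw⟩
      have h3 := hy.inv.mul hw
      rw [inv_mul_cancel_left] at h3
      exact hnt _ h3
    apply Subtype.ext
    by_cases hi : ∃ y, As K (f : G) y
    · have hi' := h1.1 hi
      obtain ⟨y, hy⟩ := hi
      obtain ⟨y', hy'⟩ := hi'
      rcases hin f f.2 y hy with h3 | h3
      · rcases h2.1 (Or.inl h3) with h4 | h4
        · exact heq f.2 f'.2 h3 h4
        · exact absurd ⟨_, h4⟩ (hmix f'.2 ⟨y', hy'⟩)
      · rcases hin f' f'.2 y' hy' with h4 | h4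
        · rcases h2.2 (Or.inl h4) with h5 | h5
          · exact heq f.2 f'.2 h5 h4
          · exact absurd ⟨_, h5⟩ (hmix f.2 ⟨y, hy⟩)
        · exact heq f.2 f'.2 h3 h4
    · have hi' : ¬ ∃ y, As K (f' : G) y := fun h3 => hi (h1.2 h3)
      have hft := mul_mem f.2 ht
      have hft' := mul_mem f'.2 ht
      obtain ⟨y, hy⟩ := hout f f.2 hi
      obtain ⟨y', hy'⟩ := hout f' f'.2 hi'
      have hcan : (f : G) * t = (f' : G) * t → (f : G) = f' := mul_right_cancel
      rcases hin _ hft y hy with h3 | h3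
      · rcases h2.1 (Or.inr h3) with h4 | h4
        · exact absurd ⟨_, h4⟩ hi'
        · exact hcan (heq hft hft' h3 h4)
      · rcases hin _ hft' y' hy' with h4 | h4
        · rcases h2.2 (Or.inr h4) with h5 | h5
          · exact absurd ⟨_, h5⟩ hi
          · exact hcan (heq hft hft' h5 h4)
        · exact hcan (heq hft hft' h3 h4)
  calc Nat.card F ≤ Nat.card (Prop × Prop) := Nat.card_le_card_of_injective φ hinj
    _ = 4 := by
      rw [Nat.card_prod]
      simp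

/-- **F-BOUND** -/
theorem card_le (h : WM Om) (hx : InZ Om x) (F : Subgroup G) (hc : ∀ a ∈ F, ∀ b ∈ F, a * b = b * a)
    (hs : ∀ a ∈ F, a * a = 1) (hFx : ∀ f ∈ F, f * x = x * f)
    (hf : ∀ f ∈ F, ∀ K, Mem Om x K → (∀ k ∈ K, f * k = k * f) → f = 1) : Nat.card F ≤ 8 := by
  obtain ⟨K, hK⟩ := hx
  obtain ⟨L, hL, hne, -⟩ := hK.other h
  let F0 : Subgroup G := F ⊓ normalizer (K : Set G)
  have hF0 : Nat.card F0 ≤ 4 := card_stab_le h hK F0 (fun a ha b hb => hc a ha.1 b hb.1) (fun a ha => hs a ha.1)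
    (fun f hf' => mem_normalizer_iff_cj.1 hf'.2) (fun f hf' h1 => hf f hf'.1 K hK h1)
  by_cases hall : ∀ f ∈ F, cj f K = K
  · have : F ≤ F0 := fun f hf' => ⟨hf', mem_normalizer_iff_cj.2 (hall f hf')⟩
    have := Subgroup.card_le_of_le this
    omega
  push Not at hall
  obtain ⟨p, hp, hpK⟩ := hall
  have hp' : cj p K = L ∧ cj p L = K := by
    rcases cj_cases h hK hL hne (hFx p hp) with h1 | h1
    · exact absurd h1.1 hpK
    · exact h1
  classical
  have hmem : ∀ f : F, ¬ (f : G) ∈ F0 → (f : G) * p ∈ F0 := by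
    intro f hf'
    refine ⟨mul_mem f.2 hp, mem_normalizer_iff_cj.2 ?_⟩
    rcases cj_cases h hK hL hne (hFx f f.2) with h1 | h1
    · exact absurd ⟨f.2, mem_normalizer_iff_cj.2 h1.1⟩ hf'
    · rw [cj_mul, hp'.1, h1.2]
  let φ : F → F0 × Prop := fun f =>
    (if hf' : (f : G) ∈ F0 then ⟨f, hf'⟩ else ⟨f * p, hmem f hf'⟩, (f : G) ∈ F0)
  have hinj : Function.Injective φ := by
    intro f f' hff
    have h1 := (Prod.ext_iff.1 hff).1
    have h2 : (f : G) ∈ F0 ↔ (f' : G) ∈ F0 := (Prod.ext_iff.1 hff).2.to_iff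
    apply Subtype.ext
    by_cases h3 : (f : G) ∈ F0
    · have h4 := h2.1 h3
      simp only [φ, dif_pos h3, dif_pos h4] at h1
      exact congrArg (fun q : F0 => (q : G)) h1
    · have h4 : ¬ (f' : G) ∈ F0 := fun h5 => h3 (h2.2 h5)
      simp only [φ, dif_neg h3, dif_neg h4] at h1
      exact mul_right_cancel (congrArg (fun q : F0 => (q : G)) h1)
  calc Nat.card F ≤ Nat.card (F0 × Prop) := Nat.card_le_card_of_injective φ hinj
    _ = Nat.card F0 * 2 := by
      rw [Nat.card_prod]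
      simp
    _ ≤ 8 := by omega

/-- **F-BOUND** for a C-pair `(z, u)`, `x` moves `u` : every subgroup `F ≤ C(R_z) ⊓ C(R_u) ⊓ C(x)` which is elementary
abelian acts faithfully on both members over `x` and has order `≤ 8` -/
theorem card_le_pair (h : WM Om) (l0 : L0 Om) (an : ANE Om) (hz : InZ Om z) (hu : InZ Om u) (hx : InZ Om x)
    (hcp : CP Om z u) (hxu : x * u ≠ u * x) (F : Subgroup G) (hc : ∀ a ∈ F, ∀ b ∈ F, a * b = b * a)
    (hs : ∀ a ∈ F, a * a = 1) (hFx : ∀ f ∈ F, f * x = x * f) (hFz : F ≤ CX Om z) (hFu : F ≤ CX Om u) :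
    (∀ f ∈ F, ∀ K, Mem Om x K → (∀ k ∈ K, f * k = k * f) → f = 1) ∧ Nat.card F ≤ 8 := by
  have key : ∀ f ∈ F, ∀ K, Mem Om x K → (∀ k ∈ K, f * k = k * f) → f = 1 := by
    intro f hf K hK hfK
    by_contra hf1
    exact not_cent h l0 an (hs f hf) hf1 hz hu hcp (hFz hf) (hFu hf) hK hxu hfK
  exact ⟨key, card_le h hx F hc hs hFx key⟩

/-- `t ∈ T_S#` centralises `R_u` : it centralises no member over `x`, if `x u ≠ u x` -/
theorem TT_not_cent (h : WM Om) (l0 : L0 Om) (an : ANT Om) (S : Sylow 2 G) (ht : t ∈ TT Om (S : Subgroup G))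
    (ht1 : t ≠ 1) (hu : u ∈ ZS Om t) (hK : Mem Om x K) (hxu : x * u ≠ u * x) : ¬ ∀ k ∈ K, t * k = k * t :=
  fun hc => hxu (comm_of_inO h l0 ((an S t ht ht1).inO hu) hu hK hc)

/-- `x, u ∈ Z` not commuting, `x ∈ C(T_S)`: `|C_{T_S}(R_u)| ≤ 8` -/
theorem card_le_TT (h : WM Om) (l0 : L0 Om) (an : ANT Om) (S : Sylow 2 G) (hu : InZ Om u) (hx : InZ Om x)
    (hxT : ∀ t ∈ TT Om (S : Subgroup G), t * x = x * t) (hxu : x * u ≠ u * x) :
    Nat.card ↥(TT Om (S : Subgroup G) ⊓ CX Om u) ≤ 8 :=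
  card_le h hx _ (fun _ ha _ hb => TT_comm h S.2 ha.1 hb.1) (fun _ ha => TT_sq h S.2 ha.1) (fun _ hf => hxT _ hf.1)
    fun t ht K hK hc => by
      by_contra ht1
      exact TT_not_cent h l0 an S ht.1 ht1 ⟨hu, ht.2⟩ hK hxu hc

/-- the elementary abelian part of `C_{R_z}(x)`, `(z, x)` a pair of type `p` or `f` -/
theorem sq_of_out (h : WM Om) (hx : x * x = 1) (hz : InZ Om z) (ho : Out Om z x) (hr : r ∈ RZ Om z)
    (hxr : x * r = r * x) : r * r = 1 := by
  obtain ⟨K, hK⟩ := hz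
  obtain ⟨L, hL, hne, -⟩ := hK.other h
  rcases ho.cases with hs | hf
  · obtain ⟨k, hk, h1⟩ := hs.fix h hx hK hr hxr
    have h2 := qq_sq hs h hK hk
    have h3 := hK.inZ.z2 h
    rcases h1 with h1 | h1
    · rw [h1, h2]
    · have h4 : qq x k * z = z * qq x k := RZ_le_centralizer h (qq_mem hs h hK hk)
      rw [h1]
      calc z * qq x k * (z * qq x k) = z * (qq x k * z) * qq x k := by group
        _ = z * (z * qq x k) * qq x k := by rw [h4]
        _ = (z * z) * (qq x k * qq x k) := by group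
        _ = 1 := by rw [h2, h3, one_mul]
  · obtain ⟨a, ha⟩ := hf.exists_tr h hx hK
    obtain ⟨b, hb⟩ := hf.exists_tr h hx hL
    have h3 := hK.inZ.z2 h
    have h4 := hK.comm hL h hne ha.mem hb.mem
    have h5 : (a * b) * (a * b) = 1 := by
      calc (a * b) * (a * b) = a * (b * a) * b := by group
        _ = a * (a * b) * b := by rw [h4]
        _ = (a * a) * (b * b) := by group
        _ = 1 := by rw [Tr.sq' ha hK, Tr.sq' hb hL, h3]
    rcases hf.fix h hK hL hne ha hb hr hxr with h1 | h1 | h1 | h1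
    · rw [h1, one_mul]
    · rw [h1, h3]
    · rw [h1, h5]
    · have h6 : (a * b) * z = z * (a * b) := RZ_le_centralizer h (mul_mem (hK.le_RZ ha.mem) (hL.le_RZ hb.mem))
      rw [h1]
      calc z * (a * b) * (z * (a * b)) = z * ((a * b) * z) * (a * b) := by group
        _ = z * (z * (a * b)) * (a * b) := by rw [h6]
        _ = (z * z) * ((a * b) * (a * b)) := by group
        _ = 1 := by rw [h5, h3, one_mul]

/-- `(z, x)` of type `p` or `f` : `C_{R_z}(x)` contains an involution `w ≠ z` -/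
theorem exists_w (h : WM Om) (hx : x * x = 1) (hz : InZ Om z) (ho : Out Om z x) :
    ∃ w ∈ RZ Om z, x * w = w * x ∧ w * w = 1 ∧ w ≠ 1 ∧ w ≠ z := by
  obtain ⟨K, hK⟩ := hz
  obtain ⟨L, hL, hne, -⟩ := hK.other h
  have hz1 := hK.inZ.z1 h
  have hzz := hK.inZ.z2 h
  rcases ho.cases with hs | hf
  · obtain ⟨q, hq⟩ := h.exists_q3 hK
    have ha : q 0 ∈ K := hq.mem 0
    have haa : q 0 * q 0 = z := hq.sq 0
    have h1 : q 0 ≠ 1 := fun h2 => hz1 (by rw [← haa, h2, one_mul])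
    have h2 : q 0 ≠ z := fun h3 => hz1 (by rw [← haa, h3, hzz])
    refine ⟨qq x (q 0), qq_mem hs h hK ha, qq_comm hs h hx hK ha, qq_sq hs h hK ha, fun h3 => ?_, fun h3 => ?_⟩
    · rcases qq_eq_one hs h hK ha h3 with h4 | h4
      · exact h1 h4
      · exact h2 h4
    · have h4 := (hs.as_qq h hK ha).1
      rw [h3] at h4
      rcases hK.as_center h h4 (hK.as_z h) with h5 | h5
      · exact h1 h5
      · exact h2 h5
  · obtain ⟨a, ha⟩ := hf.exists_tr h hx hK
    obtain ⟨b, hb⟩ := hf.exists_tr h hx hL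
    have haa := Tr.sq' ha hK
    have hbb := Tr.sq' hb hL
    have h4 := hK.comm hL h hne ha.mem hb.mem
    have h5 : (a * b) * (a * b) = 1 := by
      calc (a * b) * (a * b) = a * (b * a) * b := by group
        _ = a * (a * b) * b := by rw [h4]
        _ = (a * a) * (b * b) := by group
        _ = 1 := by rw [haa, hbb, hzz]
    have h6 : x * (a * b) = (a * b) * x := by
      have h7 := Tr.inv' ha hK h
      have h8 := Tr.inv' hb hL h
      have h9 : a * z = z * a := hK.comm_z h ha.mem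
      have h10 : x * (a * b) * x⁻¹ = a * b := by
        calc x * (a * b) * x⁻¹ = (x * a * x⁻¹) * (x * b * x⁻¹) := by group
          _ = z * (a * z) * b := by rw [h7, h8]; group
          _ = (z * z) * (a * b) := by rw [h9]; group
          _ = a * b := by rw [hzz, one_mul]
      rw [mul_inv_eq_iff_eq_mul] at h10
      exact h10
    have h11 : ∀ c, c = 1 ∨ c = z → a ≠ c := by
      rintro c (rfl | rfl) h12
      · exact hz1 (by rw [← haa, h12, one_mul])
      · exact hz1 (by rw [← haa, h12, hzz])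
    refine ⟨a * b, mul_mem (hK.le_RZ ha.mem) (hL.le_RZ hb.mem), h6, h5, fun h7 => ?_, fun h7 => ?_⟩
    · have h8 : a ∈ L := by rw [eq_inv_of_mul_eq_one_left h7]; exact inv_mem hb.mem
      exact h11 a (hK.inf hL h hne ha.mem h8) rfl
    · have h8 : a ∈ L := by
        have : a = z * b⁻¹ := by rw [← h7]; group
        rw [this]; exact mul_mem (hL.zmem h) (inv_mem hb.mem)
      exact h11 a (hK.inf hL h hne ha.mem h8) rfl

theorem four_le (C : Subgroup G) (hz : z ∈ C) (hw : t ∈ C) (z1 : z ≠ 1) (w1 : t ≠ 1) (hzw : t ≠ z)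
    (hzz : z * z = 1) : 4 ≤ Nat.card C := by
  classical
  have h1 : ({1, z, t, z * t} : Finset G).card = 4 := by
    rw [Finset.card_insert_of_notMem, Finset.card_insert_of_notMem, Finset.card_insert_of_notMem,
      Finset.card_singleton]
    · rw [Finset.mem_singleton]
      intro h2
      exact z1 (mul_eq_right.1 h2.symm)
    · rw [Finset.mem_insert, Finset.mem_singleton]
      rintro (h2 | h2)
      · exact hzw h2.symm
      · exact w1 (mul_eq_left.1 h2.symm)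
    · rw [Finset.mem_insert, Finset.mem_insert, Finset.mem_singleton]
      rintro (h2 | h2 | h2)
      · exact z1 h2.symm
      · exact w1 h2.symm
      · apply hzw
        rw [eq_comm, mul_eq_one_iff_eq_inv] at h2
        rw [← inv_eq_of_mul_eq_one_right hzz, h2, inv_inv]
  have h2 : ((({1, z, t, z * t} : Finset G) : Set G)) ⊆ (C : Set G) := by
    intro k hk
    rw [Finset.mem_coe, Finset.mem_insert, Finset.mem_insert, Finset.mem_insert, Finset.mem_singleton] at hk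
    rcases hk with rfl | rfl | rfl | rfl
    · exact one_mem C
    · exact hz
    · exact hw
    · exact mul_mem hz hw
  calc 4 = (({1, z, t, z * t} : Finset G) : Set G).ncard := by rw [Set.ncard_coe_finset, h1]
    _ ≤ (C : Set G).ncard := Set.ncard_le_ncard h2 (Set.toFinite _)
    _ = Nat.card C := (Nat.card_coe_set_eq _).symm

/-- `C_{R_z}(x)` -/
def CRx (Om : Set (Subgroup G)) (z x : G) : Subgroup G := RZ Om z ⊓ centralizer {x}

theorem mem_CRx : r ∈ CRx Om z x ↔ r ∈ RZ Om z ∧ x * r = r * x :=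
  and_congr_right fun _ => mem_centralizer_singleton_iff.trans eq_comm

/-- **(5)** : `z₁, z₂, z₃, z₄` a clique, `u` C to `z₁` and `z₂`, `x` commutes with `z₁` and `z₂`: `x` commutes with `u` -/
theorem not_two (h : WM Om) (l0 : L0 Om) (an : ANE Om) (h1 : InZ Om z₁) (h2 : InZ Om z₂) (h3 : InZ Om z₃)
    (h4 : InZ Om z₄) (hu : InZ Om u) (hx : InZ Om x) (h12 : CP Om z₁ z₂) (h13 : CP Om z₁ z₃) (h14 : CP Om z₁ z₄)
    (h23 : CP Om z₂ z₃) (h24 : CP Om z₂ z₄) (h34 : CP Om z₃ z₄) (hu1 : CP Om z₁ u) (hu2 : CP Om z₂ u)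
    (hx1 : x * z₁ = z₁ * x) (hx2 : x * z₂ = z₂ * x) : x * u = u * x := by
  by_contra hxu
  have hxx := hx.z2 h
  -- no involution of `R_1 R_2` centralises a member over `x`
  have key : ∀ e, e * e = 1 → e ≠ 1 → (∀ k ∈ RZ Om z₃, e * k = k * e) → (∀ k ∈ RZ Om z₄, e * k = k * e) →
      (∀ k ∈ RZ Om u, e * k = k * e) → ∀ K, Mem Om x K → ¬ ∀ k ∈ K, e * k = k * e := by
    intro e he he1 he3 he4 heu K hK hc
    have hcx : ∀ {z : G}, (∀ k ∈ RZ Om z, e * k = k * e) → e ∈ CX Om z := by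
      intro z hz
      rw [mem_CX]
      exact fun K hK k hk => hz k (hK.le_RZ hk)
    exact hxu (comm_of_mem h l0 an he he1 ⟨h3, hcx he3⟩ ⟨h4, hcx he4⟩ h34 ⟨hu, hcx heu⟩ hK hc)
  -- `(z_i, x)` is of type `p` or `f`
  have hout : ∀ {z : G}, InZ Om z → CP Om z z₃ → CP Om z z₄ → CP Om z u → x * z = z * x → Out Om z x := by
    intro z hz hz3 hz4 hzu hxz
    have hR : ∀ r ∈ RZ Om z, (∀ k ∈ RZ Om z₃, r * k = k * r) ∧ (∀ k ∈ RZ Om z₄, r * k = k * r) ∧
        ∀ k ∈ RZ Om u, r * k = k * r := fun r hr =>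
      ⟨fun k hk => cp_RZ h hz3 hr hk, fun k hk => cp_RZ h hz4 hr hk, fun k hk => cp_RZ h hzu hr hk⟩
    have hne : z ≠ x := by
      rintro rfl
      exact hxu (cp_comm h hz hu hzu)
    have hxR : x ∉ RZ Om z := fun h5 => hxu ((hR x h5).2.2 u (z_mem_RZ hu h))
    rcases tri h hz hx hne hxz.symm with h5 | h5 | h5
    · exfalso
      obtain ⟨K, hK⟩ := hx
      obtain ⟨r1, r2, r3⟩ := hR z (z_mem_RZ hz h)
      refine key z (hz.z2 h) (hz.z1 h) r1 r2 r3 K hK ?_
      intro k hk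
      exact cp_RZ h h5 (z_mem_RZ hz h) (hK.le_RZ hk)
    · exfalso
      have h6 := h5.symm h
      rcases h6.dich h with h7 | ⟨q, hq, hqz, hqq, h8, -⟩
      · exact hxR h7
      · have hzq : z * q ∈ RZ Om z := mul_mem (z_mem_RZ hz h) hqz
        obtain ⟨r1, r2, r3⟩ := hR _ hzq
        have hcm : q * z = z * q := RZ_le_centralizer h hqz
        have hsq : (z * q) * (z * q) = 1 := by
          calc (z * q) * (z * q) = z * (q * z) * q := by group
            _ = (z * z) * (q * q) := by rw [hcm]; group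
            _ = 1 := by rw [hz.z2 h, hqq, one_mul]
        have hne1 : z * q ≠ 1 := by
          intro h9
          have h10 : z = q := by
            rw [← inv_eq_of_mul_eq_one_right hqq]; exact eq_inv_of_mul_eq_one_left h9
          rw [← h10] at hq
          exact hxR (h6.mem_symm h hq)
        obtain ⟨K, hK⟩ := hx
        exact key _ hsq hne1 r1 r2 r3 K hK (mem_CX.1 h8 K hK)
    · exact h5.1
  have o1 := hout h1 h13 h14 hu1 hx1
  have o2 := hout h2 h23 h24 hu2 hx2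
  -- the group `F`
  have hsq1 : ∀ r ∈ CRx Om z₁ x, r * r = 1 := fun r hr => sq_of_out h hxx h1 o1 (mem_CRx.1 hr).1 (mem_CRx.1 hr).2
  have hsq2 : ∀ r ∈ CRx Om z₂ x, r * r = 1 := fun r hr => sq_of_out h hxx h2 o2 (mem_CRx.1 hr).1 (mem_CRx.1 hr).2
  have hcom12 : ∀ a ∈ CRx Om z₁ x, ∀ b ∈ CRx Om z₂ x, a * b = b * a := fun a ha b hb =>
    cp_RZ h h12 (mem_CRx.1 ha).1 (mem_CRx.1 hb).1
  have habel : ∀ {C : Subgroup G}, (∀ r ∈ C, r * r = 1) → ∀ a ∈ C, ∀ b ∈ C, a * b = b * a := by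
    intro C hC a ha b hb
    have h5 := hC _ (mul_mem ha hb)
    have h6 : (a * b)⁻¹ = a * b := inv_eq_of_mul_eq_one_right h5
    rw [_root_.mul_inv_rev, inv_eq_of_mul_eq_one_right (hC a ha), inv_eq_of_mul_eq_one_right (hC b hb)] at h6
    exact h6.symm
  have hnorm : CRx Om z₂ x ≤ normalizer (CRx Om z₁ x : Set G) := by
    intro b hb
    rw [mem_normalizer_iff]
    intro a
    constructor
    · intro ha
      rw [← hcom12 a ha b hb, mul_inv_cancel_right]; exact ha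
    · intro ha
      have h5 := hcom12 _ ha b⁻¹ (inv_mem hb)
      have h6 : a = b⁻¹ * (b * a * b⁻¹) * b := by group
      rw [h6, ← h5, inv_mul_cancel_right]; exact ha
  obtain ⟨F, hF⟩ : ∃ F, F = CRx Om z₁ x ⊔ CRx Om z₂ x := ⟨_, rfl⟩
  have hFm : ∀ f, f ∈ F ↔ ∃ a ∈ CRx Om z₁ x, ∃ b ∈ CRx Om z₂ x, f = a * b := by
    intro f
    rw [hF]
    constructor
    · intro hf
      exact LB.exists_mul_of_mem_sup hnorm hf
    · rintro ⟨a, ha, b, hb, rfl⟩
      exact mul_mem (mem_sup_left ha) (mem_sup_right hb)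
  have hFs : ∀ f ∈ F, f * f = 1 := by
    intro f hf
    obtain ⟨a, ha, b, hb, rfl⟩ := (hFm f).1 hf
    calc a * b * (a * b) = a * (b * a) * b := by group
      _ = a * (a * b) * b := by rw [hcom12 a ha b hb]
      _ = (a * a) * (b * b) := by group
      _ = 1 := by rw [hsq1 a ha, hsq2 b hb, one_mul]
  have hFx : ∀ f ∈ F, f * x = x * f := by
    intro f hf
    obtain ⟨a, ha, b, hb, rfl⟩ := (hFm f).1 hf
    rw [mul_assoc, ← (mem_CRx.1 hb).2, ← mul_assoc, ← (mem_CRx.1 ha).2, mul_assoc]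
  have hFR : ∀ f ∈ F, ∀ {z : G}, CP Om z₁ z → CP Om z₂ z → ∀ k ∈ RZ Om z, f * k = k * f := by
    intro f hf z hz1 hz2 k hk
    obtain ⟨a, ha, b, hb, rfl⟩ := (hFm f).1 hf
    rw [mul_assoc, cp_RZ h hz2 (mem_CRx.1 hb).1 hk, ← mul_assoc, cp_RZ h hz1 (mem_CRx.1 ha).1 hk, mul_assoc]
  have hle := card_le h hx F (habel hFs) hFs hFx (by
    intro f hf K hK hc
    by_contra hf1
    exact key f (hFs f hf) hf1 (hFR f hf h13 h23) (hFR f hf h14 h24) (hFR f hf hu1 hu2) K hK hc)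
  -- `|F| ≥ 16`
  have hc1 : 4 ≤ Nat.card (CRx Om z₁ x) := by
    obtain ⟨w, hw, hxw, -, w1, wz⟩ := exists_w h hxx h1 o1
    exact four_le _ (mem_CRx.2 ⟨z_mem_RZ h1 h, hx1⟩) (mem_CRx.2 ⟨hw, hxw⟩) (h1.z1 h) w1 wz (h1.z2 h)
  have hc2 : 4 ≤ Nat.card (CRx Om z₂ x) := by
    obtain ⟨w, hw, hxw, -, w1, wz⟩ := exists_w h hxx h2 o2
    exact four_le _ (mem_CRx.2 ⟨z_mem_RZ h2 h, hx2⟩) (mem_CRx.2 ⟨hw, hxw⟩) (h2.z1 h) w1 wz (h2.z2 h)
  have hinf : ∀ a, a ∈ CRx Om z₁ x → a ∈ CRx Om z₂ x → a = 1 := by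
    intro a ha hb
    have ha1 := (mem_CRx.1 ha).1
    have hb1 := (mem_CRx.1 hb).1
    have h5 : a = 1 ∨ a = z₁ := RZ_CX h h1 ha1 (by
      rw [mem_CX]
      intro K hK k hk
      exact (cp_RZ h h12 (hK.le_RZ hk) hb1).symm)
    have h6 : a = 1 ∨ a = z₂ := RZ_CX h h2 hb1 (by
      rw [mem_CX]
      intro K hK k hk
      exact cp_RZ h h12 ha1 (hK.le_RZ hk))
    rcases h5 with h5 | h5
    · exact h5
    · rcases h6 with h6 | h6
      · exact h6
      · exact absurd (h5.symm.trans h6) h12.1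
  let φ : CRx Om z₁ x × CRx Om z₂ x → F := fun p => ⟨(p.1 : G) * (p.2 : G), (hFm _).2 ⟨_, p.1.2, _, p.2.2, rfl⟩⟩
  have hφ : Function.Injective φ := by
    rintro ⟨a, b⟩ ⟨a', b'⟩ hab
    have h5 : (a : G) * b = a' * b' := congrArg (fun q : F => (q : G)) hab
    have h6 : (a' : G)⁻¹ * a = b' * (b : G)⁻¹ := by
      calc (a' : G)⁻¹ * a = (a' : G)⁻¹ * (a * b) * (b : G)⁻¹ := by group
        _ = _ := by rw [h5]; group
    have h7 : (a' : G)⁻¹ * a = 1 := hinf _ (mul_mem (inv_mem a'.2) a.2) (by rw [h6]; exact mul_mem b'.2 (inv_mem b.2))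
    have h8 : (a : G) = a' := (inv_mul_eq_one.1 h7).symm
    have h9 : (b : G) = b' := by rw [h8] at h5; exact mul_left_cancel h5
    rw [Prod.ext_iff]
    exact ⟨Subtype.ext h8, Subtype.ext h9⟩
  have h5 := Nat.card_le_card_of_injective φ hφ
  rw [Nat.card_prod] at h5
  have h6 := Nat.mul_le_mul hc1 hc2
  omega

end

end FB

end Cfsg.Agent.Cit.Nil.RTwoM
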