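import Cfsg.Agent.Cit.Nil.RTwoM.ANBound

/-!
# The F-bound: see `ANBound.lean` (and `FBndM.lean` for a second version)
-/
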