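import Cfsg.Agent.Cit.Nil.RTwoM.TypeI
import Cfsg.Agent.Cit.Nil.RI.Closed
import Cfsg.Agent.Cit.Nil.RG.Delta

/-!
# S1309, (6b), (C3), `r = 2`, any `m`: pairs, cliques, `T_S`, AN

* `WM.wr`, `RR_eq` : bridge to `RG` (helper488), `CP := RG.CP`; `tri` : the trichotomy C / type I / `Out`;
* `cp_comm`, `cp_RZ`, `cp_conj`, `cp_of_cen`, `cen_iff`;
* `Swp Om z x` : `x` interchanges the members over `z`; `Ff Om z x` : `x` fixes both and is outer on both;
  `out_cases` : a commuting pair which is not C and not I;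
* `CS := RI.CS`, `RZ_le_of_CS`, `le_of_clique`, `mem_CS_of_clique`, `CS_cp'`, `exists_sylow_of_cp`;
* `TT Om S = ⟨CS⟩` : `TT_cen`, `TT_comm`, `TT_sq`, `mem_CS_of_mem_TT`;
* `ANt Om s`, `ANT Om`, `OneCl Om`.
-/

set_option autoImplicit false
set_option linter.style.haveILetI false
set_option linter.unusedSectionVars false

namespace Cfsg.Agent.Cit.Nil.RTwoM

open Subgroup Cfsg Cfsg.Agent.Cit

open RTwo (Q3 Act i11 i12 i21 i22 i_ne1 i_ne2 i_ne12 i_cases i_cases3)
open RG (WR CP Ov InO)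
open RI (CS)

variable {G : Type*} [Group G] {Om : Set (Subgroup G)} {K L M : Subgroup G} {a c d s t u v x y z g k : G}

/-- `x` interchanges the members over `z` -/
def Swp (Om : Set (Subgroup G)) (z x : G) : Prop := x * z = z * x ∧ ∀ K, Mem Om z K → cj x K ≠ K

/-- `x` fixes the members over `z` and acts on none of them as an inner automorphism -/
def Ff (Om : Set (Subgroup G)) (z x : G) : Prop :=
  x * z = z * x ∧ ∀ K, Mem Om z K → cj x K = K ∧ ¬ ∀ k ∈ K, x * k * x⁻¹ = k ∨ x * k * x⁻¹ = z * k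

/-- `x` commutes with `z` and is not inner on the members over `z` -/
def Out (Om : Set (Subgroup G)) (z x : G) : Prop := x * z = z * x ∧ (Swp Om z x ∨ ∀ K, Mem Om z K →
  cj x K = K ∧ ¬ ∀ k ∈ K, x * k * x⁻¹ = k ∨ x * k * x⁻¹ = z * k)

/-- `T_S` -/
def TT (Om : Set (Subgroup G)) (S : Subgroup G) : Subgroup G := closure (CS Om S)

/-- `AN(s)` -/
def ANt (Om : Set (Subgroup G)) (s : G) : Prop := ∀ K ∈ Om, (∀ k ∈ K, s * k = k * s) → InO (centralizer {s}) (zz K)

/-- `AN(s)` for `s ∈ T_S#` -/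
def ANT (Om : Set (Subgroup G)) : Prop :=
  ∀ (S : Sylow 2 G), ∀ s ∈ TT Om (S : Subgroup G), s ≠ 1 → ANt Om s

/-- `Z` is a class -/
def OneCl (Om : Set (Subgroup G)) : Prop := ∀ u v, InZ Om u → InZ Om v → ∃ g, g * u * g⁻¹ = v

section Fin

variable [Finite G]

/-! ### The bridge -/

theorem WM.wr (h : WM Om) : WR Om := WR.of_hyp h.hyp h.card

theorem RR_eq (z : G) : RG.RR Om z = RZ Om z := by
  refine le_antisymm (RG.SS_le fun K hK => Mem.le_RZ (z := z) hK) (RZ_le fun K hK => WR.le_RR (z := z) hK)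

theorem InZ.zz (hz : InZ Om z) : z ∈ RG.ZZ Om := hz

theorem inZ_of_zz (hz : z ∈ RG.ZZ Om) : InZ Om z := hz

/-- centralising a member over `z ≠ t` : C-pair -/
theorem cp_of_cen (h : WM Om) (hK : Mem Om z K) (_ : InZ Om t) (hne : z ≠ t) (hc : ∀ k ∈ K, t * k = k * t) :
    CP Om z t := h.wr.CP_of_cen hK hc hne

theorem cp_comm (h : WM Om) (hz : InZ Om z) (ht : InZ Om t) (hc : CP Om z t) : z * t = t * z :=
  h.wr.CP_comm hc hz ht

/-- the groups `R` of a C-pair commute -/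
theorem cp_RZ (h : WM Om) (hc : CP Om z t) (hx : x ∈ RZ Om z) (hy : y ∈ RZ Om t) : x * y = y * x := by
  rw [← RR_eq] at hx hy
  exact h.wr.CP_RR hc hx hy

theorem cp_conj (h : WM Om) (hc : CP Om z t) (g : G) : CP Om (g * z * g⁻¹) (g * t * g⁻¹) := h.wr.CP_cj hc g

theorem cp_cx (h : WM Om) (ht : InZ Om t) (hc : CP Om z t) : t ∈ CX Om z := by
  rw [mem_CX]
  exact fun K hK k hk => (cp_RZ h hc (hK.le_RZ hk) (z_mem_RZ ht h)).symm

/-- `t ∈ Z` centralises the members over `z` iff `t = z` or C-pair -/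
theorem cen_iff (h : WM Om) (hz : InZ Om z) (ht : InZ Om t) : t ∈ CX Om z ↔ z = t ∨ CP Om z t := by
  constructor
  · intro h1
    by_cases hne : z = t
    · exact Or.inl hne
    · obtain ⟨K, hK⟩ := hz
      exact Or.inr (cp_of_cen h hK ht hne (mem_CX.1 h1 K hK))
  · rintro (rfl | h1)
    · exact z_mem_CX h
    · exact cp_cx h ht h1

/-- if `t` centralises one member over `z ≠ t`: C-pair -/
theorem TI.not_cp (h : WM Om) (hti : TI Om z t) : ¬ CP Om z t := by
  intro hc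
  obtain ⟨K, hK⟩ := hti.inZ
  exact hti.nc hK fun k hk => (cp_RZ h hc (hK.le_RZ hk) (z_mem_RZ hti.inT h)).symm

/-- `x ∈ Z` inner on a member over `z` -/
theorem inn_cases (h : WM Om) (hK : Mem Om z K) (ht : InZ Om t)
    (hi : ∀ k ∈ K, t * k * t⁻¹ = k ∨ t * k * t⁻¹ = z * k) : z = t ∨ CP Om z t ∨ TI Om z t := by
  by_cases hne : z = t
  · exact Or.inl hne
  by_cases hn : ∀ k ∈ K, t * k = k * t
  · exact Or.inr (Or.inl (cp_of_cen h hK ht hne hn))
  · exact Or.inr (Or.inr (TI.of_one h hK ht hne hi hn))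

/-- `x ∈ Z` with `Inn Om z x` -/
theorem Inn.cases (hi : Inn Om z t) (h : WM Om) (hz : InZ Om z) (ht : InZ Om t) : z = t ∨ CP Om z t ∨ TI Om z t := by
  obtain ⟨K, hK⟩ := hz
  exact inn_cases h hK ht (hi K hK)

theorem inn_of_cp (h : WM Om) (ht : InZ Om t) (hc : CP Om z t) : Inn Om z t := Inn.of_CX (cp_cx h ht hc)

/-- **the trichotomy** for commuting elements of `Z` -/
theorem tri (h : WM Om) (hz : InZ Om z) (ht : InZ Om t) (hne : z ≠ t) (hc : z * t = t * z) :
    CP Om z t ∨ TI Om z t ∨ (Out Om z t ∧ Out Om t z) := by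
  by_cases h1 : CP Om z t
  · exact Or.inl h1
  by_cases h2 : TI Om z t
  · exact Or.inr (Or.inl h2)
  have key : ∀ {z t : G}, InZ Om z → InZ Om t → z ≠ t → z * t = t * z → ¬ CP Om z t → ¬ TI Om z t →
      Out Om z t := by
    intro z t hz ht hne hc h1 h2
    refine ⟨hc.symm, ?_⟩
    by_cases h3 : ∃ K, Mem Om z K ∧ cj t K = K
    · right
      obtain ⟨K, hK, hK'⟩ := h3
      obtain ⟨L, hL, hKL, hall⟩ := hK.other h
      have h4 : cj t L = L := by
        rcases hall _ (hL.cj_comm h hc.symm) with h5 | h5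
        · exfalso
          apply hKL
          rw [← hK'] at h5
          exact (cj_inj.1 h5).symm
        · exact h5
      intro M hM
      refine ⟨?_, fun h5 => ?_⟩
      · rcases hall M hM with rfl | rfl
        · exact hK'
        · exact h4
      · rcases inn_cases h hM ht h5 with h6 | h6 | h6
        · exact hne h6
        · exact h1 h6
        · exact h2 h6
    · left
      push Not at h3
      exact ⟨hc.symm, h3⟩
  exact Or.inr (Or.inr ⟨key hz ht hne hc h1 h2, key ht hz hne.symm hc.symm (fun h3 => h1 h3.symm)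
    (fun h3 => h2 (h3.symm h))⟩)

theorem Out.cases (ho : Out Om z x) : Swp Om z x ∨ Ff Om z x := ho.2.imp id fun h => ⟨ho.1, h⟩

theorem Swp.conj (hs : Swp Om z x) (h : WM Om) (g : G) : Swp Om (g * z * g⁻¹) (g * x * g⁻¹) := by
  refine ⟨?_, fun K hK h1 => ?_⟩
  · calc g * x * g⁻¹ * (g * z * g⁻¹) = g * (x * z) * g⁻¹ := by group
      _ = g * (z * x) * g⁻¹ := by rw [hs.1]
      _ = _ := by group
  · have h2 := hK.cj h g⁻¹
    rw [show g⁻¹ * (g * z * g⁻¹) * g⁻¹⁻¹ = z by group] at h2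
    apply hs.2 _ h2
    have h3 : cj x (cj g⁻¹ K) = cj g⁻¹ (cj (g * x * g⁻¹) K) := by
      rw [← cj_mul, ← cj_mul]
      congr 1
      group
    rw [h3, h1]

theorem Ff.conj (hs : Ff Om z x) (h : WM Om) (g : G) : Ff Om (g * z * g⁻¹) (g * x * g⁻¹) := by
  refine ⟨?_, fun K hK => ?_⟩
  · calc g * x * g⁻¹ * (g * z * g⁻¹) = g * (x * z) * g⁻¹ := by group
      _ = g * (z * x) * g⁻¹ := by rw [hs.1]
      _ = _ := by group
  · have h2 := hK.cj h g⁻¹
    rw [show g⁻¹ * (g * z * g⁻¹) * g⁻¹⁻¹ = z by group] at h2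
    obtain ⟨h3, h4⟩ := hs.2 _ h2
    constructor
    · have h5 : cj (g * x * g⁻¹) K = cj g (cj x (cj g⁻¹ K)) := by
        rw [← cj_mul, ← cj_mul]
      rw [h5, h3, ← cj_mul, mul_inv_cancel, cj_one]
    · intro h5
      apply h4
      intro k hk
      rw [mem_cj, inv_inv] at hk
      have h6 : x * k * x⁻¹ = g⁻¹ * (g * x * g⁻¹ * (g * k * g⁻¹) * (g * x * g⁻¹)⁻¹) * g := by group
      rcases h5 _ hk with h7 | h7
      · left; rw [h6, h7]; group
      · right; rw [h6, h7]; group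

theorem Out.conj (hs : Out Om z x) (h : WM Om) (g : G) : Out Om (g * z * g⁻¹) (g * x * g⁻¹) := by
  rcases hs.cases with h1 | h1
  · exact ⟨(h1.conj h g).1, Or.inl (h1.conj h g)⟩
  · exact ⟨(h1.conj h g).1, Or.inr (h1.conj h g).2⟩

theorem Out.not_inn (hs : Out Om z x) (h : WM Om) (hz : InZ Om z) : ¬ Inn Om z x := by
  intro hi
  obtain ⟨K, hK⟩ := hz
  rcases hs.cases with h1 | h1
  · exact h1.2 K hK (hi.cj_eq hK h)
  · exact (h1.2 K hK).2 (hi K hK)

theorem Out.not_cp (hs : Out Om z t) (h : WM Om) (hz : InZ Om z) (ht : InZ Om t) : ¬ CP Om z t := fun hc =>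
  hs.not_inn h hz (inn_of_cp h ht hc)

theorem Out.not_ti (hs : Out Om z t) (h : WM Om) : ¬ TI Om z t := fun hc => hs.not_inn h hc.inZ hc.inn

theorem Swp.not_ff (hs : Swp Om z x) (hz : InZ Om z) : ¬ Ff Om z x := by
  obtain ⟨K, hK⟩ := hz
  exact fun h1 => hs.2 K hK (h1.2 K hK).1

theorem Swp.of_one (h : WM Om) (hK : Mem Om z K) (hx : x * z = z * x) (hn : cj x K ≠ K) : Swp Om z x := by
  refine ⟨hx, fun M hM h1 => ?_⟩
  by_cases hMK : M = K
  · subst hMK; exact hn h1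
  · rcases hK.cases hM h (fun h2 => hMK h2.symm) (hK.cj_comm h hx) with h2 | h2
    · exact hn h2
    · rw [← h1] at h2
      exact hMK (cj_inj.1 h2).symm

/-! ### Cliques -/

/-- pairwise commuting members generate a 2-group -/
theorem isPGroup_clique (h : WM Om) (A : Finset (Subgroup G)) (hA : ∀ K ∈ A, K ∈ Om)
    (hc : ∀ K ∈ A, ∀ L ∈ A, K ≠ L → ∀ a ∈ K, ∀ b ∈ L, a * b = b * a) :
    IsPGroup 2 (⨆ K ∈ A, K : Subgroup G) := by
  classical
  induction A using Finset.induction_on with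
  | empty =>
    have h1 : (⨆ K ∈ (∅ : Finset (Subgroup G)), K : Subgroup G) = ⊥ := by simp
    rw [h1]
    exact IsPGroup.of_bot
  | insert a A ha ih =>
    rw [Finset.iSup_insert]
    have h1 := ih (fun z hz => hA z (Finset.mem_insert_of_mem hz)) fun z hz u hu =>
      hc z (Finset.mem_insert_of_mem hz) u (Finset.mem_insert_of_mem hu)
    refine IsPGroup.to_sup_of_normal_right' (h.isPGroup (hA a (Finset.mem_insert_self a A))) h1 ?_
    have h2 : (⨆ K ∈ A, K : Subgroup G) ≤ centralizer (a : Set G) := by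
      refine iSup₂_le fun z hz b hb => mem_centralizer_iff.2 fun c hcK => ?_
      exact hc a (Finset.mem_insert_self a A) z (Finset.mem_insert_of_mem hz) (by
        rintro rfl; exact ha hz) c hcK b hb
    intro c hcK
    rw [mem_normalizer_iff]
    intro x
    have h3 : ∀ x ∈ (⨆ K ∈ A, K : Subgroup G), c * x * c⁻¹ = x := fun x hx => by
      rw [mem_centralizer_iff.1 (h2 hx) c hcK, mul_inv_cancel_right]
    constructor
    · intro hx
      rw [h3 x hx]; exact hx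
    · intro hx
      have h4 : x = c⁻¹ * (c * x * c⁻¹) * c := by group
      have h5 : c⁻¹ * (c * x * c⁻¹) * c = c * x * c⁻¹ := by
        have h6 := mem_centralizer_iff.1 (h2 hx) c⁻¹ (inv_mem hcK)
        rw [h6, inv_mul_cancel_right]
      rw [h4, h5]; exact hx

/-- members in a 2-group commute -/
theorem com (h : WM Om) {S : Subgroup G} (hS : IsPGroup 2 S) (hK : K ∈ Om) (hL : L ∈ Om) (hKS : K ≤ S) (hLS : L ≤ S)
    (hne : K ≠ L) : ∀ a ∈ K, ∀ b ∈ L, a * b = b * a := h.wr.pg K hK L hL S hS hKS hLS hne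

theorem ncard_cj (h : WM Om) (g : G) (S : Subgroup G) :
    {K | K ∈ Om ∧ K ≤ cj g S}.ncard = {K | K ∈ Om ∧ K ≤ S}.ncard := by
  have h1 : {K | K ∈ Om ∧ K ≤ cj g S} = cj g '' {K | K ∈ Om ∧ K ≤ S} := by
    ext K
    constructor
    · rintro ⟨hK, hKS⟩
      refine ⟨cj g⁻¹ K, ⟨h.hyp.conj K hK g⁻¹, ?_⟩, cj_cj_inv g K⟩
      have h2 := cj_mono g⁻¹ hKS
      rwa [← cj_mul, inv_mul_cancel, cj_one] at h2
    · rintro ⟨L, ⟨hL, hLS⟩, rfl⟩
      exact ⟨h.hyp.conj L hL g, cj_mono g hLS⟩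
  rw [h1]
  exact Set.ncard_image_of_injective _ fun a b hab => cj_inj.1 hab

/-- **the members in `S` are a maximal set of commuting members** -/
theorem le_of_clique (h : WM Om) (S : Sylow 2 G) (hK : K ∈ Om)
    (hc : ∀ L ∈ Om, L ≤ (S : Subgroup G) → L ≠ K → ∀ a ∈ K, ∀ b ∈ L, a * b = b * a) : K ≤ S := by
  classical
  haveI : Fact (Nat.Prime 2) := ⟨Nat.prime_two⟩
  by_contra hn
  have hfin : {K | K ∈ Om ∧ K ≤ (S : Subgroup G)}.Finite := Set.toFinite _
  set A : Finset (Subgroup G) := insert K hfin.toFinset with hA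
  have hAO : ∀ L ∈ A, L ∈ Om := by
    intro z hz
    rw [hA, Finset.mem_insert, Set.Finite.mem_toFinset] at hz
    rcases hz with rfl | hz
    · exact hK
    · exact hz.1
  have hAc : ∀ L ∈ A, ∀ M ∈ A, L ≠ M → ∀ a ∈ L, ∀ b ∈ M, a * b = b * a := by
    intro z hz v hv hne
    rw [hA, Finset.mem_insert, Set.Finite.mem_toFinset] at hz hv
    rcases hz with rfl | hz <;> rcases hv with rfl | hv
    · exact absurd rfl hne
    · exact hc v hv.1 hv.2 hne.symm
    · exact fun a ha b hb => (hc z hz.1 hz.2 hne b hb a ha).symm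
    · exact com h S.isPGroup' hz.1 hv.1 hz.2 hv.2 hne
  obtain ⟨S', hS'⟩ := (isPGroup_clique h A hAO hAc).exists_le_sylow
  obtain ⟨g, hg⟩ := MulAction.exists_smul_eq G S S'
  have hgS : (S' : Subgroup G) = cj g S := by
    rw [← hg]
    rfl
  have h1 := ncard_cj h g (S : Subgroup G)
  rw [← hgS] at h1
  have h2 : (A : Set (Subgroup G)) ⊆ {K | K ∈ Om ∧ K ≤ (S' : Subgroup G)} := fun z hz =>
    ⟨hAO z hz, (le_iSup₂ (f := fun z (_ : z ∈ A) => z) z hz).trans hS'⟩
  have h3 := Set.ncard_le_ncard h2 (Set.toFinite _)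
  rw [Set.ncard_coe_finset, hA, Finset.card_insert_of_notMem (by
    rw [Set.Finite.mem_toFinset]; exact fun h4 => hn h4.2), h1, Set.ncard_eq_toFinset_card _ hfin] at h3
  omega

theorem CS.inZ {S : Subgroup G} (hz : z ∈ CS Om S) : InZ Om z := RI.CS_zz hz

/-- the elements of `CS` : C-pairs -/
theorem CS.cp {S : Subgroup G} (hz : z ∈ CS Om S) (h : WM Om) (hS : IsPGroup 2 S) (hu : u ∈ CS Om S) (hne : z ≠ u) :
    CP Om z u := RI.CS_cp h.wr hS hz hu hne

theorem CS.comm {S : Subgroup G} (hz : z ∈ CS Om S) (h : WM Om) (hS : IsPGroup 2 S) (hu : u ∈ CS Om S) :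
    z * u = u * z := RI.CS_comm h.wr hS hz hu

theorem CS.conj {S : Subgroup G} (hz : z ∈ CS Om S) (h : WM Om) (hs : s ∈ S) : s * z * s⁻¹ ∈ CS Om S :=
  RI.CS_conj h.wr hz hs

/-- a member commuting with the members in `S` over the other involutions is in `S` -/
theorem le_of_cp (h : WM Om) (S : Sylow 2 G) (hK : Mem Om z K) (hc : ∀ u ∈ CS Om (S : Subgroup G), u ≠ z → CP Om z u) :
    K ≤ S := by
  refine le_of_clique h S hK.1 fun L hL hLS hne a ha b hb => ?_
  by_cases hz : zz L = z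
  · exact hK.comm ⟨hL, hz⟩ h hne.symm ha hb
  · exact (hc (zz L) ⟨L, ⟨hL, rfl⟩, hLS⟩ hz).2 K hK L ⟨hL, rfl⟩ a ha b hb

/-- `z ∈ CS` : all members over `z` are in `S` -/
theorem CS.le {z : G} {S : Sylow 2 G} (hz : z ∈ CS Om (S : Subgroup G)) (h : WM Om) (hK : Mem Om z K) : K ≤ S :=
  le_of_cp h S hK fun _ hu hne => CS.cp hz h S.isPGroup' hu hne.symm

/-- `z ∈ CS` : `R_z ≤ S` -/
theorem CS.RZ_le {z : G} {S : Sylow 2 G} (hz : z ∈ CS Om (S : Subgroup G)) (h : WM Om) : RZ Om z ≤ S :=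
  RTwoM.RZ_le fun _ hK => CS.le hz h hK

/-- `C_S` is a maximal clique -/
theorem mem_CS_of_clique (h : WM Om) (S : Sylow 2 G) (hu : InZ Om u)
    (hc : ∀ z ∈ CS Om (S : Subgroup G), z = u ∨ CP Om z u) : u ∈ CS Om (S : Subgroup G) := by
  obtain ⟨K, hK⟩ := hu
  exact ⟨K, hK, le_of_cp h S hK fun z hz hne => ((hc z hz).resolve_left hne).symm⟩

/-- a C-pair lies in a Sylow subgroup -/
theorem exists_sylow_of_cp (h : WM Om) (hz : InZ Om z) (hu : InZ Om u) (hc : CP Om z u) :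
    ∃ S : Sylow 2 G, z ∈ CS Om (S : Subgroup G) ∧ u ∈ CS Om (S : Subgroup G) := by
  classical
  obtain ⟨K, hK⟩ := hz
  obtain ⟨L, hL⟩ := hu
  obtain ⟨S, hS⟩ := (isPGroup_clique h {K, L} (by
    intro x hx
    rw [Finset.mem_insert, Finset.mem_singleton] at hx
    rcases hx with rfl | rfl
    · exact hK.1
    · exact hL.1) (by
    intro x hx y hy hne
    rw [Finset.mem_insert, Finset.mem_singleton] at hx hy
    rcases hx with rfl | rfl <;> rcases hy with rfl | rfl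
    · exact absurd rfl hne
    · exact hc.2 _ hK _ hL
    · exact fun a ha b hb => (hc.2 _ hK _ hL b hb a ha).symm
    · exact absurd rfl hne)).exists_le_sylow
  exact ⟨S, ⟨K, hK, (le_iSup₂ (f := fun x (_ : x ∈ ({K, L} : Finset (Subgroup G))) => x) K (by simp)).trans hS⟩,
    ⟨L, hL, (le_iSup₂ (f := fun x (_ : x ∈ ({K, L} : Finset (Subgroup G))) => x) L (by simp)).trans hS⟩⟩

/-- `z` lies in some `C_S` -/
theorem exists_sylow (h : WM Om) (hz : InZ Om z) : ∃ S : Sylow 2 G, z ∈ CS Om (S : Subgroup G) := by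
  obtain ⟨K, hK⟩ := hz
  obtain ⟨S, hS⟩ := (h.isPGroup hK.1).exists_le_sylow
  exact ⟨S, K, hK, hS⟩

/-! ### `T_S` -/

theorem CS.mem_TT {S : Subgroup G} (hz : z ∈ CS Om S) : z ∈ TT Om S := subset_closure hz

/-- `T_S` centralises `R_z`, `z ∈ C_S` -/
theorem TT_cx {S : Subgroup G} (h : WM Om) (hS : IsPGroup 2 S) (hz : z ∈ CS Om S) (hx : x ∈ TT Om S) :
    x ∈ CX Om z := by
  have h1 : TT Om S ≤ CX Om z := by
    refine (closure_le _).2 fun u hu => ?_
    by_cases hne : z = u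
    · subst hne; exact z_mem_CX h
    · exact cp_cx h (CS.inZ hu) (CS.cp hz h hS hu hne)
  exact h1 hx

theorem TT_cen {S : Subgroup G} (h : WM Om) (hS : IsPGroup 2 S) (hz : z ∈ CS Om S) (hx : x ∈ TT Om S)
    (hy : y ∈ RZ Om z) : x * y = y * x := CX_comm hy (TT_cx h hS hz hx)

theorem TT_comm {S : Subgroup G} (h : WM Om) (hS : IsPGroup 2 S) (hx : x ∈ TT Om S) (hy : y ∈ TT Om S) :
    x * y = y * x := by
  have h1 : TT Om S ≤ centralizer ({x} : Set G) := by
    refine (closure_le _).2 fun u hu => mem_centralizer_singleton_iff.2 ?_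
    exact (TT_cen h hS hu hx (z_mem_RZ (CS.inZ hu) h)).symm
  exact (mem_centralizer_singleton_iff.1 (h1 hy)).symm

theorem TT_sq {S : Subgroup G} (h : WM Om) (hS : IsPGroup 2 S) (hx : x ∈ TT Om S) : x * x = 1 := by
  refine closure_induction (p := fun x _ => x * x = 1) ?_ ?_ ?_ ?_ hx
  · exact fun u hu => (CS.inZ hu).z2 h
  · rw [one_mul]
  · intro a b ha hb h1 h2
    calc a * b * (a * b) = a * (b * a) * b := by group
      _ = (a * a) * (b * b) := by rw [TT_comm h hS hb ha]; group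
      _ = 1 := by rw [h1, h2, one_mul]
  · intro a _ h1
    rw [← mul_inv_rev, h1, inv_one]

theorem TT_le {S : Subgroup G} (h : WM Om) : TT Om S ≤ S := by
  refine (closure_le _).2 fun u hu => ?_
  obtain ⟨K, hK, hKS⟩ := hu
  exact hKS (Mem.zmem hK h)

theorem TT_two {S : Subgroup G} (h : WM Om) (hS : IsPGroup 2 S) : IsPGroup 2 (TT Om S) := hS.to_le (TT_le h)

/-- `T_S ⊓ Z = C_S` -/
theorem mem_CS_of_mem_TT (h : WM Om) (S : Sylow 2 G) (hu : InZ Om u) (hT : u ∈ TT Om (S : Subgroup G)) :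
    u ∈ CS Om (S : Subgroup G) :=
  mem_CS_of_clique h S hu fun _ hz => (cen_iff h (CS.inZ hz) hu).1 (TT_cx h S.isPGroup' hz hT)

theorem cj_CS (h : WM Om) (g : G) {S : Subgroup G} (hz : z ∈ CS Om S) : g * z * g⁻¹ ∈ CS Om (cj g S) := by
  obtain ⟨K, hK, hKS⟩ := hz
  exact ⟨cj g K, Mem.cj hK h g, cj_mono g hKS⟩

theorem TT_cj (h : WM Om) (g : G) (S : Subgroup G) : TT Om (cj g S) = cj g (TT Om S) := by
  have key : ∀ (g : G) (S : Subgroup G), cj g (TT Om S) ≤ TT Om (cj g S) := by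
    intro g S
    rw [cj, map_le_iff_le_comap]
    exact (closure_le _).2 fun u hu => subset_closure (cj_CS h g hu)
  refine le_antisymm ?_ (key g S)
  have h1 := cj_mono g (key g⁻¹ (cj g S))
  rwa [← cj_mul g⁻¹ g, inv_mul_cancel, cj_one, cj_cj_inv] at h1

/-- `S ≤ N(T_S)` -/
theorem TT_norm {S : Subgroup G} (h : WM Om) (hs : s ∈ S) (hx : x ∈ TT Om S) : s * x * s⁻¹ ∈ TT Om S := by
  have h1 := conj_mem_cj (g := s) hx
  rwa [← TT_cj h, show cj s S = S from mem_normalizer_iff_cj.1 (le_normalizer hs)] at h1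

theorem ANt.conj (ha : ANt Om s) (h : WM Om) (g : G) : ANt Om (g * s * g⁻¹) := by
  intro K hK hc
  have h0 : Mem Om (zz K) K := ⟨hK, rfl⟩
  have h1 := h0.cj h g⁻¹
  obtain ⟨N, n1, n2, n3, n4⟩ := ha (cj g⁻¹ K) h1.1 (fun k hk => by
    rw [mem_cj, inv_inv] at hk
    have h3 := hc _ hk
    calc s * k = g⁻¹ * (g * s * g⁻¹ * (g * k * g⁻¹)) * g := by group
      _ = g⁻¹ * (g * k * g⁻¹ * (g * s * g⁻¹)) * g := by rw [h3]
      _ = k * s := by group)
  rw [h1.2, inv_inv] at n4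
  have hcj : cj g (centralizer {s}) = centralizer {g * s * g⁻¹} := by
    ext x
    rw [mem_cj, mem_centralizer_singleton_iff, mem_centralizer_singleton_iff]
    constructor
    · intro h3
      calc x * (g * s * g⁻¹) = g * (g⁻¹ * x * g * s) * g⁻¹ := by group
        _ = g * (s * (g⁻¹ * x * g)) * g⁻¹ := by rw [h3]
        _ = _ := by group
    · intro h3
      calc g⁻¹ * x * g * s = g⁻¹ * (x * (g * s * g⁻¹)) * g := by group
        _ = g⁻¹ * (g * s * g⁻¹ * x) * g := by rw [h3]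
        _ = _ := by group
  refine ⟨cj g N, ?_, ?_, n3.map _, ?_⟩
  · rw [← hcj]; exact cj_mono g n1
  · rw [← hcj]
    rintro _ ⟨x, hx, rfl⟩
    rw [mem_normalizer_iff_cj]
    have h3 := mem_normalizer_iff_cj.1 (n2 hx)
    change cj (g * x * g⁻¹) (cj g N) = cj g N
    rw [← cj_mul, show g * x * g⁻¹ * g = g * x by group, cj_mul, h3]
  · have h3 := conj_mem_cj (g := g) n4
    rwa [show g * (g⁻¹ * zz K * g) * g⁻¹ = zz K by group] at h3

end Fin

end Cfsg.Agent.Cit.Nil.RTwoM
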