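import Cfsg.Agent.Cit.Nil.RTwoM.Rot

/-!
# S1309, (6b), (C3), `r = 2`, any `m` : THE CANONICAL LINE (#20332 (4))

* `RotZ Om`, `C3R.rotZ` : every member has a rotation (in the form `k · k^c ≠ k^c · k`);
* **`exists_rot`** : the rotation may be chosen normalising `C_S`;
* **`line_eq`** : `x`, `y` swaps at `z`, `g` a rotation of a member over `z`, and every swap `v` of a `g`-closed set `P`
  containing `x`, `y` normalises `C_{R_z}(u)` for every other swap `u` of `P` : then `y` centralises `C_{R_z}(x)`;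
* `line_fix` : the same conclusion for `C_{R_z}(x)` as a set; `line_hyp` : how to get the hypothesis.
-/

set_option autoImplicit false
set_option linter.style.haveILetI false
set_option linter.unusedSectionVars false

namespace Cfsg.Agent.Cit.Nil.RTwoM

open Subgroup Cfsg Cfsg.Agent.Cit
open RG (WR CP Ov InO)
open RI (CS)
open RTwo (Q3 Act)

variable {G : Type*} [Group G] {Om : Set (Subgroup G)} {K L M : Subgroup G} {c r u v x y z g k n : G}

/-- every member has a rotation -/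
def RotZ (Om : Set (Subgroup G)) : Prop :=
  ∀ z K, Mem Om z K → ∃ c, c * z = z * c ∧ cj c K = K ∧ ∀ k ∈ K, k * k = z → k * (c * k * c⁻¹) ≠ (c * k * c⁻¹) * k

set_option maxRecDepth 100000 in
theorem line_permA : ∀ ρ τ : Equiv.Perm (Fin 3), (∀ i, ρ i ≠ i) → (τ * ρ⁻¹) * (τ * ρ⁻¹) = 1 →
    ((τ * τ) * (ρ * ρ)⁻¹) * ((τ * τ) * (ρ * ρ)⁻¹) = 1 → τ = ρ := by decide

set_option maxRecDepth 100000 in
theorem line_permB : ∀ ρ σ : Equiv.Perm (Fin 3), (∀ i, ρ i ≠ i) → σ * σ = 1 →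
    (σ⁻¹ * ρ * σ * ρ⁻¹) * (σ⁻¹ * ρ * σ * ρ⁻¹) = 1 → σ = 1 := by decide

section Fin

variable [Finite G]

/-- an element of order 4 is not moved to a commuting one by a rotation -/
theorem Rot.nc (hr : Rot z K c) (h : WM Om) (hK : Mem Om z K) (hk : k ∈ K) (hkk : k * k = z) :
    k * (c * k * c⁻¹) ≠ (c * k * c⁻¹) * k := by
  intro h5
  have hcz : c * z = z * c := hK.of_cj h hr.1
  have hcy : c * k * c⁻¹ ∈ K := by
    have := conj_mem_cj (g := c) hk
    rwa [hr.1] at this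
  have hcyy : c * k * c⁻¹ * (c * k * c⁻¹) = z := by
    calc c * k * c⁻¹ * (c * k * c⁻¹) = c * (k * k) * c⁻¹ := by group
      _ = z := by rw [hkk, hcz, mul_inv_cancel_right]
  obtain ⟨h1, h2⟩ := hr.2 k hk hkk
  rcases hK.of_comm h hk hkk hcy h5 with h6 | h6 | h6 | h6
  · rw [h6, one_mul] at hcyy; exact hK.inZ.z1 h hcyy.symm
  · rw [h6, hK.inZ.z2 h] at hcyy; exact hK.inZ.z1 h hcyy.symm
  · exact h1 h6
  · exact h2 h6

theorem Rot.of_nc (hcK : cj c K = K) (h : WM Om) (hK : Mem Om z K)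
    (hc : ∀ k ∈ K, k * k = z → k * (c * k * c⁻¹) ≠ (c * k * c⁻¹) * k) : Rot z K c := by
  refine ⟨hcK, fun y hy hyy => ⟨fun h1 => ?_, fun h1 => ?_⟩⟩
  · exact hc y hy hyy (by rw [h1])
  · apply hc y hy hyy
    rw [h1]
    have h2 := hK.comm_z h hy
    calc y * (z * y) = (y * z) * y := by group
      _ = z * y * y := by rw [h2]

theorem C3R.rotZ (c3 : C3R Om) (h : WM Om) : RotZ Om := by
  intro z K hK
  obtain ⟨c, hc⟩ := c3 z K hK
  exact ⟨c, hK.of_cj h hc.1, hc.1, fun k hk hkk => hc.nc h hK hk hkk⟩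

theorem RotZ.c3r (hr : RotZ Om) (h : WM Om) : C3R Om := by
  intro z K hK
  obtain ⟨c, -, h1, h2⟩ := hr z K hK
  exact ⟨c, Rot.of_nc h1 h hK h2⟩

/-- a rotation normalising `C_S` -/
theorem exists_rot (h : WM Om) (rot : RotZ Om) (S : Sylow 2 G) (hz : z ∈ CS Om (S : Subgroup G)) (hK : Mem Om z K) :
    ∃ g, g * z = z * g ∧ (∀ u ∈ CS Om (S : Subgroup G), g * u * g⁻¹ ∈ CS Om (S : Subgroup G)) ∧ cj g K = K ∧
      ∀ k ∈ K, k * k = z → k * (g * k * g⁻¹) ≠ (g * k * g⁻¹) * k := by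
  have hKS : K ≤ (S : Subgroup G) := hK.le_RZ.trans (CS.RZ_le hz h)
  obtain ⟨c, h1, h2⟩ := (rot.c3r h).exists_ncs h S hK hKS
  exact ⟨c, hK.of_cj h h1.1, h2, h1.1, fun k hk hkk => h1.nc h hK hk hkk⟩

/-! ### The action on the axes of `K` -/

variable {a : Fin 3 → G} {σ τ ρ : Equiv.Perm (Fin 3)}

theorem act_inv (q : Q3 K z a) (hnK : cj n K = K) (hnz : n * z = z * n) (hn : Act z a a n σ) :
    Act z a a n⁻¹ σ⁻¹ := by
  have hnz' : n⁻¹ * z = z * n⁻¹ := by
    rw [inv_mul_eq_iff_eq_mul, ← mul_assoc, hnz, mul_inv_cancel_right]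
  have hnK' : cj n⁻¹ K = K := by
    have h1 : cj n⁻¹ (cj n K) = K := cj_inv_cj n K
    rwa [hnK] at h1
  obtain ⟨π, hπ⟩ := q.exists_act q hnK' hnz'
  have h1 := hn.comp q.z2 hπ hnz'
  rw [inv_mul_cancel] at h1
  have h2 : π * σ = 1 := h1.unique q (Act.one a z)
  rw [eq_inv_of_mul_eq_one_left h2] at hπ
  exact hπ

/-- two swaps, `v` normalises `C_{R_z}(u)` : `u v` and `v u` act in the same way on the axes -/
theorem swp_inner (h : WM Om) (hK : Mem Om z K) (hu : Swp Om z u) (hv : Swp Om z v) (hk : k ∈ K)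
    (hc : u * (v * qq u k * v⁻¹) = (v * qq u k * v⁻¹) * u) :
    (u * v) * k * (u * v)⁻¹ = (v * u) * k * (v * u)⁻¹ ∨ (u * v) * k * (u * v)⁻¹ = z * ((v * u) * k * (v * u)⁻¹) := by
  have hL := hu.mem h hK
  have hne := hu.ne hK
  have hvL : cj v K = cj u K := by
    rcases hK.cases hL h hne (hv.mem h hK) with h1 | h1
    · exact absurd h1 (hv.2 K hK)
    · exact h1
  have hvK : cj v (cj u K) = K := by
    rcases cj_cases h hK hL hne hv.1 with h1 | h1
    · exact absurd h1.1 (hv.2 K hK)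
    · exact h1.2
  have huK : cj u (cj u K) = K := by
    rcases cj_cases h hK hL hne hu.1 with h1 | h1
    · exact absurd h1.1 (hu.2 K hK)
    · exact h1.2
  obtain ⟨A, hA⟩ : ∃ A, A = v * k * v⁻¹ := ⟨_, rfl⟩
  obtain ⟨B, hB⟩ : ∃ B, B = v * (u * k * u⁻¹) * v⁻¹ := ⟨_, rfl⟩
  have mA : A ∈ cj u K := by rw [hA, ← hvL]; exact conj_mem_cj hk
  have mB : B ∈ K := by rw [hB, ← hvK]; exact conj_mem_cj (conj_mem_cj hk)
  have mA' : u * A * u⁻¹ ∈ K := by
    have := conj_mem_cj (g := u) mA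
    rwa [huK] at this
  have mB' : u * B * u⁻¹ ∈ cj u K := conj_mem_cj mB
  have h1 : v * qq u k * v⁻¹ = A * B := by rw [hA, hB, qq]; group
  rw [h1] at hc
  -- `(u A u⁻¹) (u B u⁻¹) = A B = B A`
  have h2 : (u * A * u⁻¹) * (u * B * u⁻¹) = B * A := by
    rw [hK.comm hL h hne mB mA, ← mul_inv_eq_iff_eq_mul.2 hc]; group
  have h3 : B⁻¹ * (u * A * u⁻¹) = A * (u * B * u⁻¹)⁻¹ := by
    rw [inv_mul_eq_iff_eq_mul, ← mul_assoc, eq_mul_inv_iff_mul_eq, h2]
  have h4 : B⁻¹ * (u * A * u⁻¹) = 1 ∨ B⁻¹ * (u * A * u⁻¹) = z := by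
    refine hK.inf hL h hne (mul_mem (inv_mem mB) mA') ?_
    rw [h3]
    exact mul_mem mA (inv_mem mB')
  have e1 : (u * v) * k * (u * v)⁻¹ = u * A * u⁻¹ := by rw [hA]; group
  have e2 : (v * u) * k * (v * u)⁻¹ = B := by rw [hB]; group
  rw [e1, e2]
  rcases h4 with h4 | h4
  · left; rwa [inv_mul_eq_one, eq_comm] at h4
  · right
    rw [inv_mul_eq_iff_eq_mul] at h4
    rw [h4, hK.comm_z h mB]

/-- two swaps `u`, `v`, involutions, `v` normalises `C_{R_z}(u)` : `(u v)²` is trivial on the axes -/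
theorem swp_sq (h : WM Om) (hK : Mem Om z K) (q : Q3 K z a) (hu : Swp Om z u) (hv : Swp Om z v) (huu : u * u = 1)
    (hvv : v * v = 1) (hc : ∀ k ∈ K, u * (v * qq u k * v⁻¹) = (v * qq u k * v⁻¹) * u) (hσ : Act z a a (u * v) σ) :
    σ * σ = 1 := by
  have hL := hu.mem h hK
  have hne := hu.ne hK
  have huvz : (u * v) * z = z * (u * v) := by rw [mul_assoc, hv.1, ← mul_assoc, hu.1, mul_assoc]
  have hvK : cj v K = cj u K := by
    rcases hK.cases hL h hne (hv.mem h hK) with h1 | h1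
    · exact absurd h1 (hv.2 K hK)
    · exact h1
  have huK : cj u (cj u K) = K := by
    rcases cj_cases h hK hL hne hu.1 with h1 | h1
    · exact absurd h1.1 (hu.2 K hK)
    · exact h1.2
  have hK' : cj (u * v) K = K := by rw [cj_mul, hvK, huK]
  have h1 := act_inv q hK' huvz hσ
  have h2 : (u * v)⁻¹ = v * u := by
    rw [mul_inv_rev, inv_eq_of_mul_eq_one_right huu, inv_eq_of_mul_eq_one_right hvv]
  rw [h2] at h1
  have h3 : Act z a a (u * v) σ⁻¹ := by
    intro i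
    rcases swp_inner h hK hu hv (q.mem i) (hc _ (q.mem i)) with h4 | h4
    · rw [h4]; exact h1 i
    · rw [h4]
      rcases h1 i with h5 | h5
      · right; rw [h5]
      · left; rw [h5, q.zzx]
  have h4 := hσ.unique q h3
  nth_rewrite 2 [h4]
  exact mul_inv_cancel σ

/-- **the canonical line** -/
theorem line_eq (h : WM Om) (hK : Mem Om z K) (hx : Swp Om z x) (hy : Swp Om z y) (hxx : x * x = 1)
    (hyy : y * y = 1) (hgK : cj g K = K) (hg : ∀ k ∈ K, k * k = z → k * (g * k * g⁻¹) ≠ (g * k * g⁻¹) * k)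
    (P : G → Prop) (hPg : ∀ u, P u → P (g * u * g⁻¹))
    (hP : ∀ u v, P u → P v → Swp Om z u → Swp Om z v → ∀ k ∈ K, u * (v * qq u k * v⁻¹) = (v * qq u k * v⁻¹) * u)
    (px : P x) (py : P y) : ∀ k ∈ K, y * qq x k = qq x k * y := by
  have hgz : g * z = z * g := hK.of_cj h hgK
  have hrot := Rot.of_nc hgK h hK hg
  have hL := hx.mem h hK
  have hne := hx.ne hK
  obtain ⟨a, q⟩ := h.exists_q3 hK
  have hyK : cj y K = cj x K := by
    rcases hK.cases hL h hne (hy.mem h hK) with h1 | h1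
    · exact absurd h1 (hy.2 K hK)
    · exact h1
  have hxK : cj x (cj x K) = K := by
    rcases cj_cases h hK hL hne hx.1 with h1 | h1
    · exact absurd h1.1 (hx.2 K hK)
    · exact h1.2
  have hgL : cj g (cj x K) = cj x K := by
    rcases cj_cases h hK hL hne hgz with h1 | h1
    · exact h1.2
    · rw [hgK] at h1; exact absurd h1.1 hne
  have hx' : x⁻¹ = x := inv_eq_of_mul_eq_one_right hxx
  have hy' : y⁻¹ = y := inv_eq_of_mul_eq_one_right hyy
  -- the permutations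
  have hxyK : cj (x * y) K = K := by rw [cj_mul, hyK, hxK]
  have hxyz : (x * y) * z = z * (x * y) := by rw [mul_assoc, hy.1, ← mul_assoc, hx.1, mul_assoc]
  obtain ⟨σ, hσ⟩ := q.exists_act q hxyK hxyz
  obtain ⟨ρ, hρ⟩ := q.exists_act q hgK hgz
  have hnK : cj (x * g * x) K = K := by rw [cj_mul, cj_mul, hgL, hxK]
  have hnz : (x * g * x) * z = z * (x * g * x) := by
    calc (x * g * x) * z = x * g * (x * z) := by group
      _ = x * g * (z * x) := by rw [hx.1]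
      _ = x * (g * z) * x := by group
      _ = x * (z * g) * x := by rw [hgz]
      _ = (x * z) * g * x := by group
      _ = (z * x) * g * x := by rw [hx.1]
      _ = _ := by group
  obtain ⟨τ, hτ⟩ := q.exists_act q hnK hnz
  have hρ0 : ∀ i, ρ i ≠ i := by
    intro i hi
    have h1 := hρ i
    rw [hi] at h1
    obtain ⟨h2, h3⟩ := hrot.2 (a i) (q.mem i) (q.sq i)
    rcases h1 with h1 | h1
    · exact h2 h1
    · exact h3 h1
  have hgz' : g⁻¹ * z = z * g⁻¹ := by rw [inv_mul_eq_iff_eq_mul, ← mul_assoc, hgz, mul_inv_cancel_right]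
  have hgK' : cj g⁻¹ K = K := by
    have h1 : cj g⁻¹ (cj g K) = K := cj_inv_cj g K
    rwa [hgK] at h1
  have hρ' := act_inv q hgK hgz hρ
  -- `x^g`, `x^{g²}`, `y^g`
  have sg : ∀ u, Swp Om z u → Swp Om z (g * u * g⁻¹) := by
    intro u hu
    have h1 := hu.conj h g
    rwa [hgz, mul_inv_cancel_right] at h1
  have gg : ∀ u : G, u * u = 1 → g * u * g⁻¹ * (g * u * g⁻¹) = 1 := by
    intro u hu
    calc g * u * g⁻¹ * (g * u * g⁻¹) = g * (u * u) * g⁻¹ := by group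
      _ = 1 := by rw [hu]; group
  have hA1 : Act z a a (x * (g * x * g⁻¹)) (τ * ρ⁻¹) := by
    have h1 := hρ'.comp q.z2 hτ hnz
    rwa [show x * g * x * g⁻¹ = x * (g * x * g⁻¹) by group] at h1
  have hττ := hτ.comp q.z2 hτ hnz
  have hρρ := hρ'.comp q.z2 hρ' hgz'
  have hnnz : (x * g * x * (x * g * x)) * z = z * (x * g * x * (x * g * x)) := by
    rw [mul_assoc, hnz, ← mul_assoc, hnz, mul_assoc]
  have hA2 : Act z a a (x * (g * (g * x * g⁻¹) * g⁻¹)) ((τ * τ) * (ρ * ρ)⁻¹) := by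
    have h1 := hρρ.comp q.z2 hττ hnnz
    have e1 : x * g * x * (x * g * x) * (g⁻¹ * g⁻¹) = x * (g * (g * x * g⁻¹) * g⁻¹) := by
      calc x * g * x * (x * g * x) * (g⁻¹ * g⁻¹) = x * g * (x * x) * g * x * g⁻¹ * g⁻¹ := by group
        _ = _ := by rw [hxx]; group
    rw [e1] at h1
    rw [mul_inv_rev]
    exact h1
  have c1 := swp_sq h hK q hx (sg x hx) hxx (gg x hxx) (hP x _ px (hPg x px) hx (sg x hx)) hA1
  have c2 := swp_sq h hK q hx (sg _ (sg x hx)) hxx (gg _ (gg x hxx)) (hP x _ px (hPg _ (hPg x px)) hx (sg _ (sg x hx))) hA2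
  have hτρ := line_permA ρ τ hρ0 c1 c2
  subst hτρ
  have c3 := swp_sq h hK q hx hy hxx hyy (hP x y px py hx hy) hσ
  -- `y · y^g = (x y)⁻¹ (x g x) (x y) g⁻¹`
  have hσ' := act_inv q hxyK hxyz hσ
  have hxyz' : (x * y)⁻¹ * z = z * (x * y)⁻¹ := by
    rw [inv_mul_eq_iff_eq_mul, ← mul_assoc, hxyz, mul_inv_cancel_right]
  have hA3 : Act z a a (y * (g * y * g⁻¹)) (σ⁻¹ * τ * σ * τ⁻¹) := by
    have h1 := hρ'.comp q.z2 hσ hxyz
    have h2 := h1.comp q.z2 hτ hnz
    have h3 := h2.comp q.z2 hσ' hxyz'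
    have e1 : (x * y)⁻¹ * (x * g * x * (x * y * g⁻¹)) = y * (g * y * g⁻¹) := by
      rw [mul_inv_rev, hx', hy']
      calc y * x * (x * g * x * (x * y * g⁻¹)) = y * (x * x) * g * (x * x) * y * g⁻¹ := by group
        _ = _ := by rw [hxx]; group
    rw [e1] at h3
    rwa [show σ⁻¹ * τ * σ * τ⁻¹ = σ⁻¹ * (τ * (σ * τ⁻¹)) by group]
  have c4 := swp_sq h hK q hy (sg y hy) hyy (gg y hyy) (hP y _ py (hPg y py) hy (sg y hy)) hA3
  have hσ1 := line_permB τ σ hρ0 c3 c4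
  subst hσ1
  -- `x y` is inner on `K`
  have hin := Act.inner q hσ hxyz
  intro k hk
  have h1 : y * k * y⁻¹ = x * k * x⁻¹ ∨ y * k * y⁻¹ = z * (x * k * x⁻¹) := by
    have e1 : y * k * y⁻¹ = x * ((x * y) * k * (x * y)⁻¹) * x⁻¹ := by
      calc y * k * y⁻¹ = (x * x) * y * k * y⁻¹ * (x * x)⁻¹ := by rw [hxx]; group
        _ = _ := by group
    rcases hin k hk with h2 | h2
    · left; rw [e1, h2]
    · right
      rw [e1, h2]
      calc x * (z * k) * x⁻¹ = (x * z) * k * x⁻¹ := by group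
        _ = _ := by rw [hx.1]; group
  have e2 : y * qq x k * y⁻¹ = (y * k * y⁻¹) * (y * (x * k * x⁻¹) * y⁻¹) := by rw [qq]; group
  have e3 : y * (y * k * y⁻¹) * y⁻¹ = k := by
    calc y * (y * k * y⁻¹) * y⁻¹ = (y * y) * k * (y * y)⁻¹ := by group
      _ = k := by rw [hyy]; group
  have h4 := hx.cm h hK hk hk
  rw [← mul_inv_eq_iff_eq_mul, e2]
  rcases h1 with h1 | h1
  · rw [h1] at e3
    rw [h1, e3, ← h4, qq]
  · have e4 : y * (x * k * x⁻¹) * y⁻¹ = z * k := by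
      rw [h1] at e3
      have h5 : y * (z * (x * k * x⁻¹)) * y⁻¹ = z * (y * (x * k * x⁻¹) * y⁻¹) := by
        calc y * (z * (x * k * x⁻¹)) * y⁻¹ = (y * z) * (x * k * x⁻¹) * y⁻¹ := by group
          _ = _ := by rw [hy.1]; group
      rw [h5] at e3
      rw [← q.zzx (y * (x * k * x⁻¹) * y⁻¹), e3]
    have h6 : (x * k * x⁻¹) * z = z * (x * k * x⁻¹) := by
      have h7 := hL.comm_z h (conj_mem_cj (g := x) hk)
      exact h7
    rw [h1, e4]
    calc z * (x * k * x⁻¹) * (z * k) = z * ((x * k * x⁻¹) * z) * k := by group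
      _ = z * (z * (x * k * x⁻¹)) * k := by rw [h6]
      _ = (x * k * x⁻¹) * k := by rw [q.zzx]
      _ = qq x k := by rw [← h4, qq]

/-- **the canonical line**, as `C_{R_z}(x) ≤ C(y)` -/
theorem line_fix (h : WM Om) (hK : Mem Om z K) (hx : Swp Om z x) (hy : Swp Om z y) (hxx : x * x = 1)
    (hyy : y * y = 1) (hgK : cj g K = K) (hg : ∀ k ∈ K, k * k = z → k * (g * k * g⁻¹) ≠ (g * k * g⁻¹) * k)
    (P : G → Prop) (hPg : ∀ u, P u → P (g * u * g⁻¹))
    (hP : ∀ u v, P u → P v → Swp Om z u → Swp Om z v → ∀ k ∈ K, u * (v * qq u k * v⁻¹) = (v * qq u k * v⁻¹) * u)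
    (px : P x) (py : P y) (hr : r ∈ RZ Om z) (hxr : x * r = r * x) : y * r = r * y := by
  obtain ⟨k, hk, h1⟩ := hx.fix h hxx hK hr hxr
  have h2 := line_eq h hK hx hy hxx hyy hgK hg P hPg hP px py k hk
  rcases h1 with rfl | rfl
  · exact h2
  · rw [← mul_assoc, hy.1, mul_assoc, h2, ← mul_assoc]

/-- the hypothesis of `line_eq` from: `v` maps `C_{R_z}(u)` into itself -/
theorem line_hyp (h : WM Om) (hK : Mem Om z K) (hu : Swp Om z u) (huu : u * u = 1)
    (hv : ∀ r ∈ RZ Om z, u * r = r * u → u * (v * r * v⁻¹) = (v * r * v⁻¹) * u) :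
    ∀ k ∈ K, u * (v * qq u k * v⁻¹) = (v * qq u k * v⁻¹) * u :=
  fun _ hk => hv _ (qq_mem hu h hK hk) (qq_comm hu h huu hK hk)

end Fin

end Cfsg.Agent.Cit.Nil.RTwoM
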