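import Cfsg.Agent.Cit.Nil.RTwoM.RZero

/-!
# S1309, (6b), (C3), `r = 2`, any `m`: (R1a), (R1c) of helper762 (#19890)

* `RZ_cent_two` : the elements of `R_x` commuting with `a ∈ K`, `b ∈ L`; `NZ_le_CX`;
* `Form.exists_chi` : some `k` has `χ = 1`;
* **`r_one_a`** (R1a) : `(x, z)` type I, `u` a swap at `x`, `(z, u)` a C-pair, `|T| = 4`: `x ∈ N_z` or `x ∈ Z(z y)`,
  `y ∈ a0(z)`;
* **`r_one_c`** (R1c) : `z`, `u` swaps at `x`, `z u` inner at `x`: `x = e z₂ z₃`, `z u` not inner at `z_j`.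
-/

set_option autoImplicit false
set_option linter.style.haveILetI false
set_option linter.unusedSectionVars false

namespace Cfsg.Agent.Cit.Nil.RTwoM

open Subgroup Cfsg Cfsg.Agent.Cit

open RTwo (Q3)
open RG (WR CP Ov InO Tr)
open RI (CS)
open Blk (sm sg sm_zero sm_one)

variable {G : Type*} [Group G] {Om : Set (Subgroup G)} {K L M : Subgroup G} {D : Set G}
  {a b c d e g k l n q r s t u v w x y z : G}

section Fin

variable [Finite G]

/-- the elements of `R_x` of square `1` commuting with `a ∈ K` and `b ∈ L` -/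
theorem RZ_cent_two (h : WM Om) (hK : Mem Om x K) (hL : Mem Om x L) (hne : K ≠ L) (ha : a ∈ K) (haa : a * a = x)
    (hb : b ∈ L) (hbb : b * b = x) (hg : g ∈ RZ Om x) (hgg : g * g = 1) (hag : a * g = g * a)
    (hbg : b * g = g * b) : g = 1 ∨ g = x ∨ g = a * b ∨ g = x * (a * b) := by
  obtain ⟨k, hk, l, hl, rfl⟩ := (mem_RZ hK hL h hne).1 hg
  have hxx := hK.inZ.z2 h
  have c1 : a * k = k * a := by
    have h1 : l * a = a * l := (hK.comm hL h hne ha hl).symm
    have h2 : (a * k) * l = (k * a) * l := by rw [mul_assoc, hag, mul_assoc, h1, mul_assoc]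
    exact mul_right_cancel h2
  have c2 : b * l = l * b := by
    have h1 : k * b = b * k := hK.comm hL h hne hk hb
    have h2 : k * (b * l) = k * (l * b) := by rw [← mul_assoc, h1, mul_assoc, hbg, mul_assoc]
    exact mul_left_cancel h2
  have hklc : l * k = k * l := (hK.comm hL h hne hk hl).symm
  have hsq : (k * k) * (l * l) = 1 := by
    rw [← hgg]
    calc (k * k) * (l * l) = k * (k * l) * l := by group
      _ = k * (l * k) * l := by rw [hklc]
      _ = _ := by group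
  have hx1 := hK.inZ.z1 h
  have hkx : ∀ {u : G}, u ∈ K → u * x = x * u := fun hu => hK.comm_z h hu
  have hlx : ∀ {u : G}, u ∈ L → u * x = x * u := fun hu => hL.comm_z h hu
  have hzq : ∀ {u : G}, u * x = x * u → u * u = x → (x * u) * (x * u) = x := by
    intro u hu huu
    calc (x * u) * (x * u) = x * (u * x) * u := by group
      _ = x * (x * u) * u := by rw [hu]
      _ = (x * x) * (u * u) := by group
      _ = x := by rw [hxx, huu, one_mul]
  rcases hK.of_comm h ha haa hk c1 with h1 | h1 | h1 | h1 <;>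
    rcases hL.of_comm h hb hbb hl c2 with h2 | h2 | h2 | h2
  · left; rw [h1, h2, one_mul]
  · right; left; rw [h1, h2, one_mul]
  · exfalso; rw [h1, h2, hbb, one_mul, one_mul] at hsq; exact hx1 hsq
  · exfalso; rw [h1, h2, hzq (hlx hb) hbb, one_mul, one_mul] at hsq; exact hx1 hsq
  · right; left; rw [h1, h2, mul_one]
  · left; rw [h1, h2, hxx]
  · exfalso; rw [h1, h2, hbb, hxx, one_mul] at hsq; exact hx1 hsq
  · exfalso; rw [h1, h2, hzq (hlx hb) hbb, hxx, one_mul] at hsq; exact hx1 hsq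
  · exfalso; rw [h1, h2, haa, one_mul, mul_one] at hsq; exact hx1 hsq
  · exfalso; rw [h1, h2, haa, hxx, mul_one] at hsq; exact hx1 hsq
  · right; right; left; rw [h1, h2]
  · right; right; right; rw [h1, h2, ← mul_assoc, hkx ha, mul_assoc]
  · exfalso; rw [h1, h2, hzq (hkx ha) haa, one_mul, mul_one] at hsq; exact hx1 hsq
  · exfalso; rw [h1, h2, hzq (hkx ha) haa, hxx, mul_one] at hsq; exact hx1 hsq
  · right; right; right; rw [h1, h2, mul_assoc]
  · right; right; left
    rw [h1, h2]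
    calc x * a * (x * b) = x * (a * x) * b := by group
      _ = x * (x * a) * b := by rw [hkx ha]
      _ = (x * x) * (a * b) := by group
      _ = _ := by rw [hxx, one_mul]

theorem NZ_le_CX (h : WM Om) (hz : InZ Om z) : NZ Om z ≤ CX Om z := by
  refine (closure_le _).2 fun u hu => ?_
  rcases ZS_eq h hz hu with rfl | h1
  · exact z_mem_CX h
  · exact cp_cx h hu.1 h1.2

/-- the action of `[u, a]` -/
theorem swp_commutator (h : WM Om) (hK : Mem Om x K) (hs : Swp Om x u) (ha : a ∈ K) (haa : a * a = x) :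
    u * a * u⁻¹ * a⁻¹ = x * qq u a := by
  rw [hK.inv_eq h ha haa, qq, ← hs.cm h hK (mul_mem (hK.zmem h) ha) ha, mul_assoc]

/-- some `k` has `χ = 1` -/
theorem Form.exists_chi {N : Type*} [AddCommGroup N] {ι : N → G} {β : N → N → ZMod 2} (F : Form Om D ι β)
    (nil : NilS Om D) (h : WM Om) (E : Emb D ι) {b w : N} (hb : ι b ∈ D) (hw : β b w = 1) (hK : Mem Om (ι b) K) :
    ∃ k ∈ K, k * k = ι b ∧ ∃ a, ι a = ι b * qq (ι w) k ∧ ι (w + a) = k * ι w * k⁻¹ ∧ ι a ∈ RZ Om (ι b) ∧
      β w a = 1 := by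
  have hs := (F.swp hb).1 hw
  have hbb := hK.inZ.z2 h
  obtain ⟨x, hx⟩ := h.exists_q3 hK
  obtain ⟨a, a1, a2, a3⟩ := F.exists_ak nil h E hb hw hK (hx.mem 0) (hx.sq 0)
  obtain ⟨b', b1, b2, b3⟩ := F.exists_ak nil h E hb hw hK (hx.mem 1) (hx.sq 1)
  obtain ⟨c, c1, c2, c3⟩ := F.exists_ak nil h E hb hw hK (hx.mem 2) (hx.sq 2)
  have h6 : c = a + b' + b := by
    apply E.inj
    rw [E.add, E.add, c1, a1, b1]
    have h7 : x 2 = x 0 * x 1 := (hx.mul 0).symm
    rw [h7, qq_mul hs h hK (hx.mem 0) (hx.mem 1)]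
    have e1 : ι b * qq (ι w) (x 1) = qq (ι w) (x 1) * ι b := (RZ_le_centralizer h (qq_mem hs h hK (hx.mem 1))).symm
    calc ι b * (qq (ι w) (x 0) * qq (ι w) (x 1)) = (ι b * qq (ι w) (x 0)) * qq (ι w) (x 1) * (ι b * ι b) := by
          rw [hbb]; group
      _ = (ι b * qq (ι w) (x 0)) * (qq (ι w) (x 1) * ι b) * ι b := by group
      _ = _ := by rw [← e1]
  have hwb : β w b = 1 := by rw [F.symm, hw]
  have h7 : β w c = β w a + β w b' + 1 := by rw [h6, F.addr, F.addr, hwb]
  rcases Blk.z2 (β w a) with h8 | h8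
  · rcases Blk.z2 (β w b') with h9 | h9
    · refine ⟨_, hx.mem 2, hx.sq 2, c, c1, c2, c3, ?_⟩
      rw [h7, h8, h9]; decide
    · exact ⟨_, hx.mem 1, hx.sq 1, b', b1, b2, b3, h9⟩
  · exact ⟨_, hx.mem 0, hx.sq 0, a, a1, a2, a3, h8⟩

/-- **(R1a)** with the factor `b` -/
theorem r_one_a_b (h : WM Om) (l0 : L0 Om) (an : ANt Om z) (hu : InZ Om u) (hzu : CP Om z u) (hti : TI Om x z)
    (hs : Swp Om x u) (h4 : ∀ e, InZ Om e → CP Om z e → CP Om u e → e = z * u) :
    x ∈ NZ Om z ∨ ∃ y ∈ A0 Om z, ∃ a k, a ∈ RZ Om x ∧ a * z = z * a ∧ k ∈ RZ Om u ∧ k * z = z * k ∧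
      y = (k * a) * u * (k * a)⁻¹ ∧ x ∈ ZS Om (z * y) ∧ a * u * a⁻¹ ∈ ZS Om z ∧ Swp Om u (a * u * a⁻¹) ∧
      ∃ b ∈ NZ Om z, x * b ∈ RZ Om z := by
  by_cases hxN : x ∈ NZ Om z
  · exact Or.inl hxN
  right
  have hx := hti.inZ
  have hz := hti.inT
  have nil := nilS_ZS' h l0 an
  have hxx := hx.z2 h
  have huu := hu.z2 h
  obtain ⟨K, hK⟩ := hx
  obtain ⟨a, ha, haa⟩ := hti.exists_as h hK
  have haz : a * z = z * a := ha.comm.symm
  have hux : u * x = x * u := hs.1
  have huz : u * z = z * u := (cp_comm h hz hu hzu).symm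
  have hL := hs.mem h hK
  have hne := hs.ne hK
  have hza' : As (cj u K) z (u * a * u⁻¹) := ha.conj_comm huz
  have hua : u * a * u⁻¹ ∈ cj u K := conj_mem_cj ha.1
  have huaa : (u * a * u⁻¹) * (u * a * u⁻¹) = x := by
    calc (u * a * u⁻¹) * (u * a * u⁻¹) = u * (a * a) * u⁻¹ := by group
      _ = x := by rw [haa, hux, mul_inv_cancel_right]
  -- `b' = [u, a]`
  obtain ⟨b', hb'⟩ : ∃ b', b' = x * qq u a := ⟨_, rfl⟩
  have hb'c : u * a * u⁻¹ * a⁻¹ = b' := by rw [hb', swp_commutator h hK hs ha.1 haa]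
  have hqx : qq u a ∈ RZ Om x := qq_mem hs h hK ha.1
  have hb'x : b' ∈ RZ Om x := by rw [hb']; exact mul_mem (z_mem_RZ hK.inZ h) hqx
  have hu' : u⁻¹ = u := inv_eq_of_mul_eq_one_right huu
  have huD : u ∈ ZS Om z := A0_subset h hz ⟨hu, hzu⟩
  have hwD : a * u * a⁻¹ ∈ ZS Om z := ZS_conj h huD haz
  have hwA : a * u * a⁻¹ ∈ A0 Om z := A0_conj h haz ⟨hu, hzu⟩
  have hb'w : a * u * a⁻¹ = u * b' := by
    rw [← hb'c, hu']
    have h1 : a * u * a⁻¹ = u * (u * a * u * a⁻¹) := by
      calc a * u * a⁻¹ = (u * u) * a * u * a⁻¹ := by rw [huu, one_mul]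
        _ = _ := by group
    exact h1
  have hb'N : b' ∈ NZ Om z := by
    have h1 : b' = u⁻¹ * (a * u * a⁻¹) := by rw [hb'w, inv_mul_cancel_left]
    rw [h1]
    exact mul_mem (inv_mem (mem_NZ huD)) (mem_NZ hwD)
  have hb'z : b' ∈ CX Om z := NZ_le_CX h hz hb'N
  have hqas := hs.as_qq h hK ha.1
  -- `z b' ∈ X_x`
  have hzb : z * b' ∈ CX Om x := by
    rw [mem_CX]
    have key : ∀ {L : Subgroup G} {l : G}, Mem Om x L → As L z l → As L (qq u a) l → l * l = x → ∀ k ∈ L,
        z * b' * k = k * (z * b') := by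
      intro L l hL h1 h2 h3 k hk
      have h4 := h1.mul ((hL.as_z h).mul h2)
      rw [one_mul, h3, ← hb'] at h4
      have h5 := h4.2 k hk
      rw [← hL.comm_z h hk, mul_inv_cancel_right, mul_inv_eq_iff_eq_mul] at h5
      exact h5
    intro M hM k hk
    rcases hK.cases hL h hne hM with rfl | rfl
    · exact key hK ha hqas.1 haa k hk
    · exact key hL hza' hqas.2 huaa k hk
  -- `x b' ∈ R_z`
  have hzz := hz.z2 h
  have hxb : x * b' ∈ RZ Om z := by
    rcases hti.dich h with h1 | ⟨q, hqx', hqz, hqq, hzq, hxq⟩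
    · have h2 := (hti.symm h).mem_symm h (by exact hti.mem_symm h ((hti.symm h).mem_symm h h1))
      have h3 : z ∈ RZ Om x := (hti.symm h).mem_symm h h1
      have h4 : z * b' = 1 ∨ z * b' = x := RZ_CX h hK.inZ (mul_mem h3 hb'x) hzb
      rcases h4 with h4 | h4
      · have h5 : b' = z := by rw [← hz.inv h]; exact eq_inv_of_mul_eq_one_right h4
        rw [h5]
        exact mul_mem h1 (z_mem_RZ hz h)
      · exfalso
        apply hti.not_mem_CX h
        rw [← h4]
        exact mul_mem (z_mem_CX h) hb'z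
    · have h4 : q⁻¹ * b' ∈ CX Om x := by
        have := mul_mem (inv_mem hzq) hzb
        rwa [show (z * q)⁻¹ * (z * b') = q⁻¹ * b' by group] at this
      rcases RZ_CX h hK.inZ (mul_mem (inv_mem hqx') hb'x) h4 with h5 | h5
      · exfalso
        rw [inv_mul_eq_one] at h5
        rw [h5] at hxq
        apply hti.not_mem_CX h
        have := mul_mem hxq (inv_mem hb'z)
        rwa [mul_inv_cancel_right] at this
      · rw [inv_mul_eq_iff_eq_mul] at h5
        have h6 : x * b' = q := by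
          rw [h5, ← mul_assoc, ← RZ_le_centralizer h hqx', mul_assoc, hxx, mul_one]
        rw [h6]; exact hqz
  -- `x` centralises `N_z`
  have hb'b : b' * b' = 1 := NZ_sq h l0 an hb'N
  have hxN' : ∀ n ∈ NZ Om z, n * x = x * n := by
    intro n hn
    have h1 : n * (x * b') = (x * b') * n := CX_comm hxb (NZ_le_CX h hz hn)
    have h2 : n * b' = b' * n := NZ_comm h l0 an hn hb'N
    have h3 : x = (x * b') * b' := by rw [mul_assoc, hb'b, mul_one]
    calc n * x = n * ((x * b') * b') := by rw [← h3]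
      _ = (n * (x * b')) * b' := by group
      _ = (x * b') * (n * b') := by rw [h1]; group
      _ = (x * b') * b' * n := by rw [h2]; group
      _ = x * n := by rw [← h3]
  -- `N_z ⊓ R_x = {1, b'}`
  have hJ : ∀ g ∈ NZ Om z, g ∈ RZ Om x → g = 1 ∨ g = b' := by
    intro g hg hgx
    have com : ∀ r ∈ RZ Om x, r * z = z * r → r * g = g * r := by
      intro r hr hrz
      rcases RZ_commutator h hK.inZ hgx hr with h2 | h2
      · rw [← mul_inv_eq_iff_eq_mul, h2]
      · exfalso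
        have h1 := NZ_conj h hrz hg
        rw [h2] at h1
        apply hxN
        have := mul_mem h1 (inv_mem hg)
        rwa [mul_inv_cancel_right] at this
    have c1 := com a (hK.le_RZ ha.1) haz
    have c2 := com (u * a * u⁻¹) (hL.le_RZ hua) hza'.comm.symm
    rcases RZ_cent_two h hK hL hne ha.1 haa hua huaa hgx (NZ_sq h l0 an hg) c1 c2 with h1 | h1 | h1 | h1
    · exact Or.inl h1
    · rw [h1] at hg; exact absurd hg hxN
    · exfalso
      apply hxN
      have h2 : x = b' * g⁻¹ := by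
        have h3 : b' = x * g := by rw [hb', h1]; rfl
        rw [h3, mul_inv_cancel_right]
      rw [h2]
      exact mul_mem hb'N (inv_mem hg)
    · right
      rw [h1, hb']; rfl
  -- `a` acts on `N_z`
  have hact : ∀ n ∈ NZ Om z, a * n * a⁻¹ = n ∨ a * n * a⁻¹ = n * b' := by
    intro n hn
    obtain ⟨h1, h2⟩ := LJ h (inv_mem hn) (by
      have := hxN' _ (inv_mem hn); exact this) (hK.le_RZ ha.1) haz
    have h3 : a * n * a⁻¹ = n * (n⁻¹ * a * n⁻¹⁻¹ * a⁻¹) := by group
    rcases hJ _ h1 h2 with h4 | h4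
    · left; rw [h3, h4, mul_one]
    · right; rw [h3, h4]
  have hb1 : b' ≠ 1 := by
    intro h1
    rw [hb'] at h1
    have h2 : qq u a = x := by
      rw [← hK.inZ.inv h]; exact eq_inv_of_mul_eq_one_right h1
    have h3 := hqas.1
    rw [h2] at h3
    exact hK.not_as_one h h3 haa (hK.as_z h)
  -- additive notation
  obtain ⟨N, _, _, ι, E⟩ := nil.exists_emb
  obtain ⟨β, F⟩ := nil.exists_form h E
  obtain ⟨U, hU⟩ := E.ex (g := u) (mem_NZ huD)
  obtain ⟨B, hB⟩ := E.ex (g := b') hb'N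
  have two := E.two nil h
  have hUD : ι U ∈ ZS Om z := by rw [hU]; exact huD
  obtain ⟨σ, hσ⟩ := E.exists_conj (D := ZS Om z) (y := a) fun c hc => ZS_conj h hc haz
  have hσn : ∀ n, ∃ ε : ZMod 2, σ n = n + sm ε B := by
    intro n
    rcases hact (ι n) (E.cl n) with h1 | h1
    · exact ⟨0, by rw [sm_zero, add_zero]; apply E.inj; rw [hσ, h1]⟩
    · exact ⟨1, by rw [sm_one]; apply E.inj; rw [hσ, h1, E.add, hB]⟩
  have hσU : σ U = U + B := by
    apply E.inj
    rw [hσ, E.add, hU, hB, hb'w]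
  obtain ⟨W, hW⟩ : ∃ W, W = U + B := ⟨_, rfl⟩
  have hιW : ι W = a * u * a⁻¹ := by rw [hW, E.add, hU, hB, hb'w]
  have hWD : ι W ∈ ZS Om z := by rw [hιW]; exact hwD
  -- `b' ≠ z`
  have hbz : b' ≠ z := by
    intro h1
    rw [h1] at hb'x
    have h2 := (hti.cp_iff h hb'x hu).2 hzu
    exact hs.2 K hK ((inn_of_cp h hu h2).cj_eq hK h)
  -- `(u, w)` is a swap pair
  have hUW : β U W = 1 := by
    rw [F.swp hUD, hU, hιW]
    have hneq : u ≠ a * u * a⁻¹ := by
      rw [hb'w]
      intro h1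
      exact hb1 (left_eq_mul.1 h1)
    have hcm : u * (a * u * a⁻¹) = (a * u * a⁻¹) * u := nil.comm _ huD _ hwD
    rcases tri h hu hwD.1 hneq hcm with h1 | h1 | ⟨h1, -⟩
    · exfalso
      have h2 := h4 _ hwD.1 hwA.2 h1
      rw [hb'w, ← huz] at h2
      exact hbz (mul_left_cancel h2)
    · exfalso
      have h2 := h1.inZ_mul h
      rw [hb'w, ← mul_assoc, huu, one_mul] at h2
      have hxb' : x ≠ b' := by
        rintro h3
        rw [← h3] at hb'N
        exact hxN hb'N
      have h3 := TI.of_mem_RZ h hK.inZ h2 hxb' hb'x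
      rcases (cen_iff h hz h2).1 hb'z with h5 | h5
      · exact hbz h5.symm
      · exact hti.not_cp h ((h3.cp_iff h hb'x hz).2 h5.symm)
    · exact h1.cases.resolve_right (nil.not_ff h huD (mem_NZ hwD))
  have hUB : β U B = 1 := by rw [hW, F.addr, F.alt, zero_add] at hUW; exact hUW
  -- `λ = β(b', ·)`
  have hlam : ∀ n, σ n = n + sm (β n B) B := by
    intro n
    obtain ⟨ε, hε⟩ := hσn n
    have h1 := F.conj nil h E (fun c hc => ZS_conj h hc haz) hσ U n
    rw [hσU, hε, F.addl, F.addr, F.addr, F.smr, F.smr, hUB, F.alt] at h1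
    have key : ∀ ε s t : ZMod 2, s + ε * 1 + (t + ε * 0) = s → ε = t := by decide
    have h2 := key _ _ _ h1
    rw [hε, h2, F.symm n B]
  -- `k` with `χ = 1`
  obtain ⟨M, hM⟩ := nil.inZ _ hUD
  obtain ⟨k, hk, hkk, A, hA1, hA2, hA3, hA4⟩ := F.exists_chi nil h E hUD hUW hM
  have hAU : β U A = 0 := F.perp nil h hUD hA3
  have hBW : B = U + W := by rw [hW, ← add_assoc, two, zero_add]
  have hAB : β A B = 1 := by
    rw [hBW, F.addr, F.symm A U, hAU, F.symm A W, hA4, zero_add]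
  have hσA : σ A = A + B := by rw [hlam, hAB, sm_one]
  have hABw : ι (A + B) ∈ RZ Om (ι W) := by
    have h1 := RZ_conj h a hA3
    rwa [← hσ, ← hσ, hσU, hσA, ← hW] at h1
  have hkAB : k * ι (A + B) * k⁻¹ = b' := by
    have h1 := F.act nil h E hUD hUW hM hk hA2 hA3 (A + B)
    have e1 : β (A + B) U = 1 := by rw [F.addl, F.symm A U, hAU, F.symm B U, hUB, zero_add]
    have e2 : β (A + B) A = 1 := by rw [F.addl, F.alt, F.symm B A, hAB, zero_add]
    rw [h1, sg, hA4, e1, e2]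
    simp only [sm_one]
    rw [← hB]
    congr 1
    calc A + B + (A + U) + U = (A + A) + B + (U + U) := by abel
      _ = B := by rw [two, two, zero_add, add_zero]
  -- `y`
  obtain ⟨y, hy⟩ : ∃ y, y = k * ι W * k⁻¹ := ⟨_, rfl⟩
  have hkU : k ∈ RZ Om u := by rw [← hU]; exact hM.le_RZ hk
  have hkz : k * z = z * k := cp_RZ h hzu.symm hkU (z_mem_RZ hz h)
  have hyA : y ∈ A0 Om z := by
    rw [hy, hιW]; exact A0_conj h hkz hwA
  have hyι : y = ι (W + A) := by rw [hy, hA2]
  have hb'y : b' ∈ RZ Om y := by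
    have h1 := RZ_conj h k hABw
    rwa [hkAB, ← hy] at h1
  have hay : a * y = y * a := by
    have h1 : σ (W + A) = W + A := by
      rw [hlam, F.addl, hAB, hBW, F.addr, F.alt, F.symm W U, hUW]
      rw [show (1 : ZMod 2) + 0 + 1 = 0 by decide, sm_zero, add_zero]
    have h2 := hσ (W + A)
    rw [h1, ← hyι] at h2
    rw [eq_mul_inv_iff_mul_eq] at h2
    exact h2.symm
  have hyN : y ∈ NZ Om z := by rw [hyι]; exact E.cl _
  have hyx : x * y = y * x := (hxN' y hyN).symm
  have hxy : x ≠ y := by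
    rintro rfl
    exact hxN hyN
  have hyk : y = (k * a) * u * (k * a)⁻¹ := by rw [hy, hιW]; group
  have hsw : Swp Om u (a * u * a⁻¹) := by
    have h1 := (F.swp hUD).1 hUW
    rwa [hU, hιW] at h1
  refine ⟨y, hyA, a, k, hK.le_RZ ha.1, haz, hkU, hkz, hyk, ⟨hK.inZ, ?_⟩, hwD, hsw, b', hb'N, hxb⟩
  rcases tri h hK.inZ hyA.1 hxy hyx with h1 | h1 | ⟨h1, -⟩
  · exfalso
    have h2 : b' ∈ CX Om x := by
      rw [mem_CX]
      intro M hM k hk
      exact (cp_RZ h h1 (hM.le_RZ hk) hb'y).symm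
    rcases RZ_CX h hK.inZ hb'x h2 with h3 | h3
    · exact hb1 h3
    · rw [h3] at hb'N; exact hxN hb'N
  · exact tt_II_cx h hyA.2 hti h1
  · exfalso
    rcases h1.cases with h2 | h2
    · have h3 : a ∈ cj y K := by
        rw [mem_cj]
        have h4 : y⁻¹ * a * y = a := by rw [mul_assoc, hay]; group
        rw [h4]; exact ha.1
      rcases hK.inf (h2.mem h hK) h (h2.ne hK) ha.1 h3 with h4 | h4
      · rw [h4, one_mul] at haa; exact hK.inZ.z1 h haa.symm
      · rw [h4, hxx] at haa; exact hK.inZ.z1 h haa.symm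
    · exact tt_If h hyA.2 hti hyA.1 h2

/-- **(R1a)** -/
theorem r_one_a (h : WM Om) (l0 : L0 Om) (an : ANt Om z) (hu : InZ Om u) (hzu : CP Om z u) (hti : TI Om x z)
    (hs : Swp Om x u) (h4 : ∀ e, InZ Om e → CP Om z e → CP Om u e → e = z * u) :
    x ∈ NZ Om z ∨ ∃ y ∈ A0 Om z, ∃ a k, a ∈ RZ Om x ∧ a * z = z * a ∧ k ∈ RZ Om u ∧ k * z = z * k ∧
      y = (k * a) * u * (k * a)⁻¹ ∧ x ∈ ZS Om (z * y) ∧ a * u * a⁻¹ ∈ ZS Om z ∧ Swp Om u (a * u * a⁻¹) := by
  rcases r_one_a_b h l0 an hu hzu hti hs h4 with h1 | ⟨y, hy, a, k, h1, h2, h3, h5, h6, h7, h8, h9, -⟩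
  · exact Or.inl h1
  · exact Or.inr ⟨y, hy, a, k, h1, h2, h3, h5, h6, h7, h8, h9⟩

/-- **(R1c)** -/
theorem r_one_c (h : WM Om) (hz : InZ Om z) (hu : InZ Om u) (hx : InZ Om x) (hzu : CP Om z u) (hsz : Swp Om x z)
    (hK : Mem Om x K) (ha : As K (z * u) a) (haa : a * a = x) :
    ∃ l ∈ K, l * l = x ∧ a * l ≠ l * a ∧ x = (z * a * z⁻¹ * a⁻¹) * (l * z * l⁻¹) * ((a * l) * z * (a * l)⁻¹) ∧
      z * a * z⁻¹ * a⁻¹ ∈ NZ Om (z * u) ∧
      (∀ k ∈ K, a * k ≠ k * a → k * z * k⁻¹ * z = z * (k * z * k⁻¹) ∧ k * z * k⁻¹ * u = u * (k * z * k⁻¹) ∧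
        ¬ Inn Om (k * z * k⁻¹) (z * u)) := by
  have hzz := hz.z2 h
  have hxx := hx.z2 h
  have hzc : z * u = u * z := cp_comm h hz hu hzu
  have haz : a * (z * u) = (z * u) * a := ha.comm.symm
  have hz' : z⁻¹ = z := inv_eq_of_mul_eq_one_right hzz
  obtain ⟨l, hl, hll, hal⟩ := hK.exists_nc h ha.1 haa
  -- `k z k⁻¹ = z x qq z k`
  have kz : ∀ k ∈ K, k * k = x → k * z * k⁻¹ = z * (x * qq z k) := by
    intro k hk hkk
    rw [← swp_commutator h hK hsz hk hkk, hz']
    calc k * z * k⁻¹ = (z * z) * k * z * k⁻¹ := by rw [hzz, one_mul]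
      _ = _ := by group
  have hall : (a * l) * (a * l) = x := by
    have h5 := hK.anti h ha.1 haa hl hll hal
    rw [mul_inv_eq_iff_eq_mul] at h5
    calc (a * l) * (a * l) = a * (l * a) * l := by group
      _ = a * (x * a * l) * l := by rw [h5]
      _ = (a * x) * a * (l * l) := by group
      _ = (x * a) * a * (l * l) := by rw [hK.comm_z h ha.1]
      _ = x * (a * a) * (l * l) := by group
      _ = x := by rw [haa, hll, hxx, one_mul]
  refine ⟨l, hl, hll, hal, ?_, ?_, ?_⟩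
  · rw [swp_commutator h hK hsz ha.1 haa, kz l hl hll, kz (a * l) (mul_mem ha.1 hl) hall, qq_mul hsz h hK ha.1 hl]
    have q1 := qq_sq hsz h hK ha.1
    have q2 := qq_sq hsz h hK hl
    have z1 := qq_comm hsz h hzz hK ha.1
    have z2 := qq_comm hsz h hzz hK hl
    have x1 := RZ_le_centralizer h (qq_mem hsz h hK ha.1)
    have x2 := RZ_le_centralizer h (qq_mem hsz h hK hl)
    have hzx : z * x = x * z := hsz.1
    have q12 : qq z a * qq z l = qq z l * qq z a := by
      rw [← qq_mul hsz h hK ha.1 hl, ← qq_mul hsz h hK hl ha.1]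
      have h1 := hK.anti h ha.1 haa hl hll hal
      rw [mul_inv_eq_iff_eq_mul] at h1
      rw [h1, mul_assoc, qq_mul hsz h hK (hK.zmem h) (mul_mem ha.1 hl), qq_z hsz hx h, one_mul]
    generalize qq z a = p at *
    generalize qq z l = q at *
    symm
    calc x * p * (z * (x * q)) * (z * (x * (p * q)))
        = x * p * z * x * (q * z) * x * p * q := by group
      _ = x * p * z * x * (z * q) * x * p * q := by rw [z2]
      _ = x * p * (z * x) * z * (q * x) * p * q := by group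
      _ = x * p * (x * z) * z * (x * q) * p * q := by rw [hzx, x2]
      _ = x * p * x * (z * z) * x * (q * p) * q := by group
      _ = x * p * (x * x) * (p * q) * q := by rw [hzz, q12]; group
      _ = x * (p * p) * (q * q) := by rw [hxx]; group
      _ = x := by rw [q1, q2, mul_one, mul_one]
  · have h1 : z ∈ ZS Om (z * u) := ⟨hz, mul_mem (z_mem_CX h) (cp_cx h hu hzu)⟩
    have h2 : z * a * z⁻¹ * a⁻¹ = z * (a * z⁻¹ * a⁻¹) := by group
    rw [h2]
    exact mul_mem (mem_NZ h1) (NZ_conj h haz (inv_mem (mem_NZ h1)))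
  · intro k hk hak
    have hkk : k * k = x := by
      rcases hK.sq_cases h hk with h1 | h1 | h1
      · exact absurd (by rw [h1, mul_one, one_mul]) hak
      · exact absurd (by rw [h1]; exact hK.comm_z h ha.1) hak
      · exact h1
    have e1 : k * z * k⁻¹ * z = z * (k * z * k⁻¹) := by
      rw [kz k hk hkk]
      have c1 := qq_comm hsz h hzz hK hk
      calc z * (x * qq z k) * z = z * x * (qq z k * z) := by group
        _ = z * x * (z * qq z k) := by rw [c1]
        _ = z * (x * z) * qq z k := by group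
        _ = z * (z * x) * qq z k := by rw [hsz.1]
        _ = _ := by group
    -- `z u` moves `k` to `x k`
    have h1 : (z * u) * k * (z * u)⁻¹ = x * k := by
      rw [ha.2 k hk]
      exact hK.anti h hk hkk ha.1 haa (fun h2 => hak h2.symm)
    have hzuz : (z * u) * z = z * (z * u) := by rw [mul_assoc, ← hzc]
    have e2 : (z * u) * (k * z * k⁻¹) = (k * z * k⁻¹) * (z * u) := by
      rw [← mul_inv_eq_iff_eq_mul]
      calc (z * u) * (k * z * k⁻¹) * (z * u)⁻¹
          = ((z * u) * k * (z * u)⁻¹) * ((z * u) * z * (z * u)⁻¹) * ((z * u) * k * (z * u)⁻¹)⁻¹ := by group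
        _ = (x * k) * z * (x * k)⁻¹ := by rw [h1, hzuz, mul_inv_cancel_right]
        _ = x * (k * z * k⁻¹) * x⁻¹ := by group
        _ = k * z * k⁻¹ := by
          have h3 : x * (k * z * k⁻¹) = (k * z * k⁻¹) * x := by
            have hkx := hK.comm_z h hk
            have hki : k⁻¹ * x = x * k⁻¹ := by
              rw [inv_mul_eq_iff_eq_mul, ← mul_assoc, hkx, mul_inv_cancel_right]
            calc x * (k * z * k⁻¹) = (x * k) * z * k⁻¹ := by group
              _ = (k * x) * z * k⁻¹ := by rw [hkx]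
              _ = k * (x * z) * k⁻¹ := by group
              _ = k * (z * x) * k⁻¹ := by rw [hsz.1]
              _ = k * z * (x * k⁻¹) := by group
              _ = _ := by rw [← hki]; group
          rw [h3, mul_inv_cancel_right]
    have hu' : u = z * (z * u) := by rw [← mul_assoc, hzz, one_mul]
    refine ⟨e1, ?_, ?_⟩
    · rw [hu']
      calc k * z * k⁻¹ * (z * (z * u)) = (k * z * k⁻¹ * z) * (z * u) := by group
        _ = z * ((k * z * k⁻¹) * (z * u)) := by rw [e1]; group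
        _ = _ := by rw [← e2]; group
    · intro hi
      have h2 := hi.conj h k⁻¹
      rw [show k⁻¹ * (k * z * k⁻¹) * k⁻¹⁻¹ = z by group] at h2
      -- `k⁻¹ (z u) k = x (z u)` up to order
      have h3 : k⁻¹ * (z * u) * k⁻¹⁻¹ = x * (z * u) := by
        rw [inv_inv]
        have h4 : (z * u) * k = x * k * (z * u) := by rwa [mul_inv_eq_iff_eq_mul] at h1
        rw [mul_assoc, h4]
        have hkx := hK.comm_z h hk
        rw [← hkx]
        group
      rw [h3] at h2
      have h4 : Inn Om z (z * u) := Inn.of_CX (mul_mem (z_mem_CX h) (cp_cx h hu hzu))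
      have h5 : Inn Om z x := Inn.mul_right h4 h2 hz h
      have hxz : x ≠ z := by
        rintro rfl
        obtain ⟨K', hK'⟩ := hx
        exact hsz.2 K' hK' ((Inn.of_CX (z_mem_CX h)).cj_eq hK' h)
      rcases tri h hx hz hxz hsz.1.symm with h6 | h6 | ⟨-, h6⟩
      · exact hsz.2 K hK ((inn_of_cp h hz h6).cj_eq hK h)
      · exact hsz.2 K hK (h6.inn.cj_eq hK h)
      · exact h6.not_inn h hz h5

end Fin

end Cfsg.Agent.Cit.Nil.RTwoM
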