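import Cfsg.Agent.Cit.Nil.RTwoM.NilZ

/-!
# S1309, (6b), (C3), `r = 2`, any `m`: (R0) of helper762 (#19890): the J-ARGUMENT with `A(t)` depending on `t`

* `JG Om A T x` : `A t` elementary abelian, `T ≤ A t`, normalised by `C_{R_x}(t)`, `x ∉ A(s) A(t)` (`s, t ∈ T#`);
* `JG.comm_mem`, `JG.ne_x`, `JG.comm`, `JG.dich`; `JGF` : faithful, at least 3 elements; **`JGF.main`**, `JGF.card_le`;
* **`r_zero`** (R0) for `A t = NZ Om t`.
-/

set_option autoImplicit false
set_option linter.style.haveILetI false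
set_option linter.unusedSectionVars false

namespace Cfsg.Agent.Cit.Nil.RTwoM

open Subgroup Cfsg Cfsg.Agent.Cit

open RTwo (Q3)
open RG (WR CP Ov InO Tr)
open RI (CS)

variable {G : Type*} [Group G] {Om : Set (Subgroup G)} {K L M : Subgroup G}
  {a b c d e g k l n q r s t u v w x y z : G}

section Fin

variable [Finite G]

/-- the hypotheses of the J-ARGUMENT, `A` depending on `t` -/
structure JG (Om : Set (Subgroup G)) (A : G → Subgroup G) (T : Subgroup G) (x : G) : Prop where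
  inZ : InZ Om x
  comm' : ∀ t ∈ T, t ≠ 1 → ∀ a ∈ A t, ∀ b ∈ A t, a * b = b * a
  sq' : ∀ t ∈ T, t ≠ 1 → ∀ a ∈ A t, a * a = 1
  nin : ∀ s ∈ T, s ≠ 1 → ∀ t ∈ T, t ≠ 1 → ∀ a ∈ A s, ∀ b ∈ A t, x ≠ a * b
  le : ∀ t ∈ T, t ≠ 1 → T ≤ A t
  tx : ∀ t ∈ T, t * x = x * t
  nor : ∀ t ∈ T, t ≠ 1 → ∀ r ∈ RZ Om x, t * r = r * t → ∀ a ∈ A t, r * a * r⁻¹ ∈ A t

variable {A : G → Subgroup G} {T : Subgroup G}

theorem JG.nin' (j : JG Om A T x) (ht : t ∈ T) (ht1 : t ≠ 1) : x ∉ A t := fun h1 =>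
  j.nin t ht ht1 t ht ht1 x h1 1 (one_mem _) (mul_one x).symm

theorem JG.sq (j : JG Om A T x) (ht : t ∈ T) : t * t = 1 := by
  by_cases ht1 : t = 1
  · rw [ht1, one_mul]
  · exact j.sq' t ht ht1 t (j.le t ht ht1 ht)

theorem JG.inv (j : JG Om A T x) (ht : t ∈ T) : t⁻¹ = t := inv_eq_of_mul_eq_one_right (j.sq ht)

theorem JG.cm (j : JG Om A T x) (hs : s ∈ T) (ht : t ∈ T) : s * t = t * s := by
  by_cases ht1 : t = 1
  · rw [ht1, one_mul, mul_one]
  · exact j.comm' t ht ht1 s (j.le t ht ht1 hs) t (j.le t ht ht1 ht)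

/-- `[T, C_{R_x}(t)] ≤ A t ⊓ R_x` -/
theorem JG.comm_mem (j : JG Om A T x) (h : WM Om) (ht : t ∈ T) (ht1 : t ≠ 1) (hr : r ∈ RZ Om x) (hc : t * r = r * t)
    (hs : s ∈ T) : s * r * s⁻¹ * r⁻¹ ∈ A t ∧ s * r * s⁻¹ * r⁻¹ ∈ RZ Om x := by
  constructor
  · have h1 := j.nor t ht ht1 r hr hc s⁻¹ (j.le t ht ht1 (inv_mem hs))
    have h2 : s * r * s⁻¹ * r⁻¹ = s * (r * s⁻¹ * r⁻¹) := by group
    rw [h2]
    exact mul_mem (j.le t ht ht1 hs) h1
  · exact mul_mem (RZ_conj_comm h (j.tx s hs) hr) (inv_mem hr)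

/-- `t` moves no `r ∈ C_{R_x}(s)` to `x r` -/
theorem JG.ne_x (j : JG Om A T x) (h : WM Om) (ht : t ∈ T) (ht1 : t ≠ 1) (hr : r ∈ RZ Om x) (hc : t * r = r * t)
    (hs : s ∈ T) : s * r * s⁻¹ ≠ x * r := by
  intro h1
  have h2 := (j.comm_mem h ht ht1 hr hc hs).1
  rw [h1, mul_inv_cancel_right] at h2
  exact j.nin' ht ht1 h2

/-- `A t ⊓ R_x` centralises `C_{R_x}(t)` -/
theorem JG.comm (j : JG Om A T x) (h : WM Om) (ht : t ∈ T) (ht1 : t ≠ 1) (hr : r ∈ RZ Om x) (hc : t * r = r * t)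
    (hg : g ∈ A t) (hgx : g ∈ RZ Om x) : r * g = g * r := by
  have h1 := j.nor t ht ht1 r hr hc g hg
  rcases RZ_commutator h j.inZ hgx hr with h2 | h2
  · rw [← mul_inv_eq_iff_eq_mul, h2]
  · exfalso
    rw [h2] at h1
    apply j.nin' ht ht1
    have := mul_mem h1 (inv_mem hg)
    rwa [mul_inv_cancel_right] at this

/-- an element of `A t ⊓ K` is `1` -/
theorem JG.eq_one (j : JG Om A T x) (h : WM Om) (ht : t ∈ T) (ht1 : t ≠ 1) (hK : Mem Om x K) (hg : g ∈ A t)
    (hgK : g ∈ K) : g = 1 := by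
  rcases hK.sq_cases h hgK with h1 | h1 | h1
  · exact h1
  · rw [h1] at hg; exact absurd hg (j.nin' ht ht1)
  · rw [j.sq' t ht ht1 g hg] at h1
    exact absurd h1.symm (j.inZ.z1 h)

/-- **the dichotomy** : `T` centralises `R_x`, or `T` acts faithfully on `R_x` -/
theorem JG.dich (j : JG Om A T x) (h : WM Om) :
    (T ≤ CX Om x ∧ ∀ t ∈ T, t ≠ 1 → ∀ g ∈ A t, g ∈ RZ Om x → g = 1) ∨ ∀ t ∈ T, t ∈ CX Om x → t = 1 := by
  by_cases h0 : ∀ t ∈ T, t ∈ CX Om x → t = 1
  · exact Or.inr h0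
  left
  push Not at h0
  obtain ⟨t, ht, htx, ht1⟩ := h0
  have hJ : ∀ t ∈ T, t ≠ 1 → t ∈ CX Om x → ∀ g ∈ A t, g ∈ RZ Om x → g = 1 := by
    intro t ht ht1 htx g hg hgx
    have h1 : g ∈ CX Om x := by
      rw [mem_CX]
      intro K hK k hk
      exact (j.comm h ht ht1 (hK.le_RZ hk) (CX_comm (hK.le_RZ hk) htx) hg hgx).symm
    rcases RZ_CX h j.inZ hgx h1 with h2 | h2
    · exact h2
    · rw [h2] at hg; exact absurd hg (j.nin' ht ht1)
  have hle : T ≤ CX Om x := by
    intro s hs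
    rw [mem_CX]
    intro K hK k hk
    obtain ⟨h1, h2⟩ := j.comm_mem h ht ht1 (hK.le_RZ hk) (CX_comm (hK.le_RZ hk) htx) hs
    have h3 := hJ t ht ht1 htx _ h1 h2
    rw [mul_inv_eq_one, mul_inv_eq_iff_eq_mul] at h3
    exact h3
  exact ⟨hle, fun t ht ht1 g hg hgx => hJ t ht ht1 (hle ht) g hg hgx⟩

/-- `T` acts faithfully on `R_x` and has at least three elements -/
structure JGF (Om : Set (Subgroup G)) (A : G → Subgroup G) (T : Subgroup G) (x : G) : Prop extends
    JG Om A T x where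
  ff : ∀ t ∈ T, t ∈ CX Om x → t = 1
  three : ∃ s ∈ T, ∃ t ∈ T, s ≠ 1 ∧ t ≠ 1 ∧ s ≠ t

/-- a transposition on `K` inverts its axis, so do the other `s ∈ T#` fixing `K` -/
theorem JG.axis (j : JG Om A T x) (h : WM Om) (hK : Mem Om x K) (ht : t ∈ T) (ha : Tr t K a) (hs : s ∈ T) (hs1 : s ≠ 1)
    (hsK : cj s K = K) : s * a * s⁻¹ = x * a := by
  have hst := j.cm hs ht
  have hsx := j.tx s hs
  have haa := Tr.sq' ha hK
  have hm : s * a * s⁻¹ ∈ K := by
    have := conj_mem_cj (g := s) ha.mem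
    rwa [hsK] at this
  have h1 : t * (s * a * s⁻¹) * t⁻¹ = x * (s * a * s⁻¹) := by
    calc t * (s * a * s⁻¹) * t⁻¹ = (t * s) * a * (t * s)⁻¹ := by group
      _ = (s * t) * a * (s * t)⁻¹ := by rw [hst]
      _ = s * (t * a * t⁻¹) * s⁻¹ := by group
      _ = s * (x * a) * s⁻¹ := by rw [Tr.inv' ha hK h]
      _ = (s * x) * a * s⁻¹ := by group
      _ = _ := by rw [hsx]; group
  have h2 : (s * a * s⁻¹) * (s * a * s⁻¹) = x := by
    calc (s * a * s⁻¹) * (s * a * s⁻¹) = s * (a * a) * s⁻¹ := by group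
      _ = x := by rw [haa, hsx, mul_inv_cancel_right]
  rcases Tr.cases ha hK h hm (Or.inr h1) with h4 | h4 | h4 | h4
  · rw [h4, one_mul] at h2; exact absurd h2.symm (hK.inZ.z1 h)
  · rw [h4, hK.inZ.z2 h] at h2; exact absurd h2.symm (hK.inZ.z1 h)
  · exfalso
    have h5 : s * a = a * s := by rw [← mul_inv_eq_iff_eq_mul, h4]
    exact j.ne_x h hs hs1 (hK.le_RZ ha.mem) h5 ht (Tr.inv' ha hK h)
  · exact h4

/-- if `t ∈ T` is a transposition on `K`, the elements of `T` fixing `K` are `1` and `t` -/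
theorem JG.fix_of_tr (j : JG Om A T x) (h : WM Om) (hK : Mem Om x K) (ht : t ∈ T) (ht1 : t ≠ 1) (htK : cj t K = K)
    (ha : Tr t K a) (hs : s ∈ T) (hsK : cj s K = K) : s = 1 ∨ s = t := by
  by_contra hcon
  push Not at hcon
  have haa := Tr.sq' ha hK
  have h1 := j.axis h hK ht ha hs hcon.1 hsK
  have h2 : s * t ≠ 1 := by
    intro h3
    apply hcon.2
    rw [eq_inv_of_mul_eq_one_left h3, j.inv ht]
  have h3 : (s * t) * a * (s * t)⁻¹ = a := by
    calc (s * t) * a * (s * t)⁻¹ = s * (t * a * t⁻¹) * s⁻¹ := by group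
      _ = s * (x * a) * s⁻¹ := by rw [Tr.inv' ha hK h]
      _ = (s * x) * a * s⁻¹ := by group
      _ = (x * s) * a * s⁻¹ := by rw [j.tx s hs]
      _ = x * (s * a * s⁻¹) := by group
      _ = x * (x * a) := by rw [h1]
      _ = a := by rw [← mul_assoc, hK.inZ.z2 h, one_mul]
  rw [mul_inv_eq_iff_eq_mul] at h3
  exact j.ne_x h (mul_mem hs ht) h2 (hK.le_RZ ha.mem) h3 ht (Tr.inv' ha hK h)

/-- **no element of `T` is outer on a member it fixes** -/
theorem JGF.no_tr (j : JGF Om A T x) (h : WM Om) (hK : Mem Om x K) (ht : t ∈ T) (htK : cj t K = K)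
    (ha : Tr t K a) : False := by
  have jh := j.toJG
  have ht1 : t ≠ 1 := by
    rintro rfl
    have h1 := Tr.inv' ha hK h
    rw [one_mul, inv_one, mul_one] at h1
    exact hK.inZ.z1 h (mul_eq_right.1 h1.symm)
  obtain ⟨p, hp, hp1, hpt⟩ : ∃ p ∈ T, p ≠ 1 ∧ p ≠ t := by
    obtain ⟨s, hs, s', hs', h1, h2, h3⟩ := j.three
    by_cases h4 : s = t
    · exact ⟨s', hs', h2, fun h5 => h3 (h4.trans h5.symm)⟩
    · exact ⟨s, hs, h1, h4⟩
  have hpK : cj p K ≠ K := fun h1 => by
    rcases jh.fix_of_tr h hK ht ht1 htK ha hp h1 with h2 | h2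
    · exact hp1 h2
    · exact hpt h2
  have hsw : Swp Om x p := Swp.of_one h hK (j.tx p hp) hpK
  have hpp := j.sq hp
  have htt := j.sq ht
  have htp := j.cm ht hp
  have haa := Tr.sq' ha hK
  have hsw' : Swp Om x (p * t) := by
    refine Swp.of_one h hK (j.tx _ (mul_mem hp ht)) ?_
    rw [cj_mul, htK]; exact hpK
  obtain ⟨b, hb, hbb, hba, hba'⟩ := hK.exists_off h ha.mem haa
  have hcom := ha.com b hb (by rw [hbb, hK.2]) hba hba'
  have htb : t * b * t⁻¹ ∈ K := by
    have := conj_mem_cj (g := t) hb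
    rwa [htK] at this
  -- `q_p(a) ∈ A p` for every swap `p` commuting with `t`
  have key : ∀ p, p ∈ T → Swp Om x p → p ≠ 1 ∧ qq p a ∈ A p := by
    intro p hp hsw
    have hpp := j.sq hp
    have htp := j.cm ht hp
    have hp1 : p ≠ 1 := by
      rintro rfl
      exact hsw.2 K hK (cj_one K)
    refine ⟨hp1, ?_⟩
    have h1 := (jh.comm_mem h hp hp1 (qq_mem hsw h hK hb) (qq_comm hsw h hpp hK hb) ht).1
    have h2 : t * qq p b * t⁻¹ = qq p (t * b * t⁻¹) := by
      rw [qq, qq]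
      calc t * (b * (p * b * p⁻¹)) * t⁻¹ = (t * b * t⁻¹) * ((t * p) * b * (t * p)⁻¹) := by group
        _ = (t * b * t⁻¹) * ((p * t) * b * (p * t)⁻¹) := by rw [htp]
        _ = _ := by group
    have h3 : t * qq p b * t⁻¹ * (qq p b)⁻¹ = qq p (t * b * t⁻¹ * b⁻¹) := by
      rw [h2, mul_inv_eq_iff_eq_mul, ← qq_mul hsw h hK (mul_mem htb (inv_mem hb)) hb, inv_mul_cancel_right]
    rw [h3] at h1
    rcases hcom with h4 | h4
    · rwa [h4] at h1
    · have h5 : qq p a⁻¹ = qq p a := by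
        rw [hK.inv_eq h ha.mem haa, qq_mul hsw h hK (hK.zmem h) ha.mem, qq_z hsw hK.inZ h, one_mul]
      rwa [h4, h5] at h1
  obtain ⟨g1, h1⟩ := key p hp hsw
  obtain ⟨g2, h2⟩ := key (p * t) (mul_mem hp ht) hsw'
  have h3 : qq (p * t) a = x * qq p a := by
    rw [qq, qq]
    calc a * (p * t * a * (p * t)⁻¹) = a * (p * (t * a * t⁻¹) * p⁻¹) := by group
      _ = a * (p * (x * a) * p⁻¹) := by rw [Tr.inv' ha hK h]
      _ = a * ((p * x) * a * p⁻¹) := by group
      _ = a * x * (p * a * p⁻¹) := by rw [hsw.1]; group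
      _ = _ := by rw [hK.comm_z h ha.mem]; group
  rw [h3] at h2
  exact j.nin (p * t) (mul_mem hp ht) g2 p hp g1 (x * qq p a) h2 (qq p a)⁻¹ (inv_mem h1)
    (mul_inv_cancel_right _ _).symm

/-- the elements of `T` fixing a member act on it as inner automorphisms -/
theorem JGF.exists_as (j : JGF Om A T x) (h : WM Om) (hK : Mem Om x K) (ht : t ∈ T) (htK : cj t K = K) :
    ∃ a, As K t a := by
  rcases h.wr.inn_or_tr hK.1 htK (j.sq ht) with ⟨y, hy, h1⟩ | ⟨a, ha⟩
  · exact ⟨y, hy, h1⟩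
  · exact (j.no_tr h hK ht htK ha).elim

/-- the elements of `T#` fixing the members act on both as elements of order 4 -/
theorem JGF.sq_of_as (j : JGF Om A T x) (h : WM Om) (hK : Mem Om x K) (ht : t ∈ T) (ht1 : t ≠ 1)
    (ha : As K t a) : a * a = x := by
  have jh := j.toJG
  obtain ⟨L, hL, hne, -⟩ := hK.other h
  by_contra hcon
  -- `t` is trivial on `K`
  have htK : ∀ k ∈ K, t * k = k * t := by
    rcases hK.sq_cases h ha.1 with h1 | h1 | h1
    · rw [h1] at ha; exact As.one_iff.1 ha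
    · rw [h1] at ha
      intro k hk
      have h2 := ha.2 k hk
      rw [← hK.comm_z h hk, mul_inv_cancel_right, mul_inv_eq_iff_eq_mul] at h2
      exact h2
    · exact absurd h1 hcon
  have htL : cj t L = L := by
    rcases cj_cases h hK hL hne (j.tx t ht) with h1 | h1
    · exact h1.2
    · exfalso
      apply hne
      rw [← h1.1]
      exact ha.cj_eq.symm
  obtain ⟨b, hb⟩ := j.exists_as h hL ht htL
  -- `b` of order 4
  have hbb : b * b = x := by
    rcases hL.sq_cases h hb.1 with h1 | h1 | h1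
    · exfalso
      apply ht1
      apply j.ff t ht
      rw [mem_CX]
      intro M hM k hk
      rcases hK.cases hL h hne hM with rfl | rfl
      · exact htK k hk
      · rw [h1] at hb; exact As.one_iff.1 hb k hk
    · exfalso
      apply ht1
      apply j.ff t ht
      rw [mem_CX]
      intro M hM k hk
      rcases hK.cases hL h hne hM with rfl | rfl
      · exact htK k hk
      · have h2 := hb.2 k hk
        rw [h1, ← hM.comm_z h hk, mul_inv_cancel_right, mul_inv_eq_iff_eq_mul] at h2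
        exact h2
    · exact h1
  -- `J = 1`
  have hJ : ∀ g ∈ A t, g ∈ RZ Om x → g = 1 := by
    intro g hg hgx
    refine jh.eq_one h ht ht1 hL hg (RZ_cent_mem h hL hK hne.symm hgx fun k hk => ?_)
    exact (jh.comm h ht ht1 (hK.le_RZ hk) (htK k hk) hg hgx).symm
  have hT : ∀ s ∈ T, ∀ r ∈ RZ Om x, t * r = r * t → s * r = r * s := by
    intro s hs r hr hc
    obtain ⟨h1, h2⟩ := jh.comm_mem h ht ht1 hr hc hs
    have h3 := hJ _ h1 h2
    rw [mul_inv_eq_one, mul_inv_eq_iff_eq_mul] at h3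
    exact h3
  -- `T = {1, t}`
  have hone : ∀ s ∈ T, s = 1 ∨ s = t := by
    intro s hs
    have h1 : ∀ k ∈ K, s * k = k * s := fun k hk => hT s hs k (hK.le_RZ hk) (htK k hk)
    have hsL : cj s L = L := by
      rcases cj_cases h hK hL hne (j.tx s hs) with h2 | h2
      · exact h2.2
      · exfalso
        apply hne
        rw [← h2.1]
        exact ((As.one_iff.2 h1).cj_eq).symm
    obtain ⟨c, hc⟩ := j.exists_as h hL hs hsL
    have h2 : s * b = b * s := hT s hs b (hL.le_RZ hb.1) hb.comm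
    have h3 : b * c = c * b := by
      have h4 := hc.2 b hb.1
      rw [h2, mul_inv_cancel_right, eq_mul_inv_iff_mul_eq] at h4
      exact h4
    have h5 : ∀ {u d : G}, u ∈ T → (∀ k ∈ K, u * k = k * u) → As L u d → (d = 1 ∨ d = x) → u = 1 := by
      intro u d hu hu1 hd hd1
      apply j.ff u hu
      rw [mem_CX]
      intro M hM k hk
      rcases hK.cases hL h hne hM with rfl | rfl
      · exact hu1 k hk
      · rcases hd1 with hd1 | hd1
        · rw [hd1] at hd; exact As.one_iff.1 hd k hk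
        · have h2 := hd.2 k hk
          rw [hd1, ← hM.comm_z h hk, mul_inv_cancel_right, mul_inv_eq_iff_eq_mul] at h2
          exact h2
    have h6 : ∀ k ∈ K, (s * t) * k = k * (s * t) := fun k hk => by
      rw [mul_assoc, htK k hk, ← mul_assoc, h1 k hk, mul_assoc]
    have h7 : s * t = 1 → s = t := fun h8 => by
      rw [eq_inv_of_mul_eq_one_left h8, jh.inv ht]
    rcases hL.of_comm h hb.1 hbb hc.1 h3 with h4 | h4 | h4 | h4
    · exact Or.inl (h5 hs h1 hc (Or.inl h4))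
    · exact Or.inl (h5 hs h1 hc (Or.inr h4))
    · right
      refine h7 (h5 (mul_mem hs ht) h6 (hc.mul hb) (Or.inr ?_))
      rw [h4, hbb]
    · right
      refine h7 (h5 (mul_mem hs ht) h6 (hc.mul hb) (Or.inl ?_))
      rw [h4, mul_assoc, hbb, hK.inZ.z2 h]
  obtain ⟨s, hs, s', hs', h1, h2, h3⟩ := j.three
  apply h3
  rw [(hone s hs).resolve_left h1, (hone s' hs').resolve_left h2]

/-- at most one element of `T#` fixes the members -/
theorem JGF.unique (j : JGF Om A T x) (h : WM Om) (hK : Mem Om x K) (hs : s ∈ T) (hs1 : s ≠ 1) (hsK : cj s K = K)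
    (ht : t ∈ T) (ht1 : t ≠ 1) (htK : cj t K = K) : s = t := by
  have jh := j.toJG
  obtain ⟨L, hL, hne, -⟩ := hK.other h
  have key : ∀ {K : Subgroup G}, Mem Om x K → cj s K = K → cj t K = K → ∀ k ∈ K, (s * t) * k = k * (s * t) := by
    intro K hK hsK htK k hk
    obtain ⟨a, ha⟩ := j.exists_as h hK hs hsK
    obtain ⟨b, hb⟩ := j.exists_as h hK ht htK
    have haa := j.sq_of_as h hK hs hs1 ha
    have hbb := j.sq_of_as h hK ht ht1 hb
    have hab : a * b = b * a := by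
      by_contra hcon
      refine jh.ne_x h ht ht1 (hK.le_RZ hb.1) hb.comm hs ?_
      rw [ha.2 b hb.1]
      exact hK.anti h hb.1 hbb ha.1 haa (fun h1 => hcon h1.symm)
    have h1 := ha.mul hb
    have h2 : a * b = 1 ∨ a * b = x := by
      rcases hK.of_comm h ha.1 haa hb.1 hab with h3 | h3 | h3 | h3
      · rw [h3, one_mul] at hbb; exact absurd hbb.symm (hK.inZ.z1 h)
      · rw [h3, hK.inZ.z2 h] at hbb; exact absurd hbb.symm (hK.inZ.z1 h)
      · right; rw [h3, haa]
      · left; rw [h3, ← mul_assoc, hK.comm_z h ha.1, mul_assoc, haa, hK.inZ.z2 h]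
    rcases h2 with h2 | h2
    · rw [h2] at h1; exact As.one_iff.1 h1 k hk
    · have h3 := h1.2 k hk
      rw [h2, ← hK.comm_z h hk, mul_inv_cancel_right, mul_inv_eq_iff_eq_mul] at h3
      exact h3
  have hsL : cj s L = L := by
    rcases cj_cases h hK hL hne (j.tx s hs) with h1 | h1
    · exact h1.2
    · exact absurd (hsK.symm.trans h1.1) hne
  have htL : cj t L = L := by
    rcases cj_cases h hK hL hne (j.tx t ht) with h1 | h1
    · exact h1.2
    · exact absurd (htK.symm.trans h1.1) hne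
  have h1 : s * t = 1 := by
    apply j.ff _ (mul_mem hs ht)
    rw [mem_CX]
    intro M hM k hk
    rcases hK.cases hL h hne hM with rfl | rfl
    · exact key hM hsK htK k hk
    · exact key hM hsL htL k hk
  rw [eq_inv_of_mul_eq_one_left h1, jh.inv ht]

/-- **the J-ARGUMENT** : `T = {1, s, p, p s}`, `p` a swap, `s` acts on `K` as `a` and on `K^p` as `p a p⁻¹`, and
`x a (p a p⁻¹) ∈ A s` -/
theorem JGF.main (j : JGF Om A T x) (h : WM Om) (hK : Mem Om x K) :
    ∃ p ∈ T, ∃ s ∈ T, ∃ a ∈ K, Swp Om x p ∧ s ≠ 1 ∧ s ≠ p ∧ a * a = x ∧ As K s a ∧ As (cj p K) s (p * a * p⁻¹) ∧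
      (∀ t ∈ T, t = 1 ∨ t = s ∨ t = p ∨ t = p * s) ∧ x * qq p a ∈ A s ∧
      (∀ g ∈ A s, g ∈ RZ Om x → g = 1 ∨ g = x * qq p a) := by
  have jh := j.toJG
  -- a swap
  obtain ⟨p, hp, hpK⟩ : ∃ p ∈ T, cj p K ≠ K := by
    by_contra hcon
    push Not at hcon
    obtain ⟨s, hs, s', hs', h1, h2, h3⟩ := j.three
    exact h3 (j.unique h hK hs h1 (hcon s hs) hs' h2 (hcon s' hs'))
  have hsw : Swp Om x p := Swp.of_one h hK (j.tx p hp) hpK
  have hpp := j.sq hp
  have hL := hsw.mem h hK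
  have hne := hsw.ne hK
  -- an element fixing `K`
  obtain ⟨s, hs, hs1, hsK⟩ : ∃ s ∈ T, s ≠ 1 ∧ cj s K = K := by
    obtain ⟨s, hs, s', hs', h1, h2, h3⟩ := j.three
    by_cases h4 : cj s K = K
    · exact ⟨s, hs, h1, h4⟩
    by_cases h5 : cj s' K = K
    · exact ⟨s', hs', h2, h5⟩
    refine ⟨s * s', mul_mem hs hs', fun h6 => h3 ?_, ?_⟩
    · rw [eq_inv_of_mul_eq_one_left h6, jh.inv hs']
    · rcases cj_cases h hK hL hne (j.tx s hs) with h6 | h6
      · exact absurd h6.1 h4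
      rcases cj_cases h hK hL hne (j.tx s' hs') with h7 | h7
      · exact absurd h7.1 h5
      rw [cj_mul, h7.1, h6.2]
  have hsp : s ≠ p := by
    rintro rfl
    exact hpK hsK
  obtain ⟨a, ha⟩ := j.exists_as h hK hs hsK
  have haa := j.sq_of_as h hK hs hs1 ha
  have hb : As (cj p K) s (p * a * p⁻¹) := ha.conj_comm (j.cm hp hs)
  -- `x q_p(a) ∈ A s`
  have hpa : p * a * p⁻¹ ∈ cj p K := conj_mem_cj ha.1
  have hJ : x * qq p a ∈ A s := by
    have h1 := (jh.comm_mem h hs hs1 (hK.le_RZ ha.1) ha.comm hp).1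
    have h2 : p * a * p⁻¹ * a⁻¹ = x * qq p a := by
      rw [hK.inv_eq h ha.1 haa, qq, ← hsw.cm h hK (mul_mem (hK.zmem h) ha.1) ha.1, mul_assoc]
    rwa [h2] at h1
  refine ⟨p, hp, s, hs, a, ha.1, hsw, hs1, hsp, haa, ha, hb, fun t ht => ?_, hJ, fun g hg hgx => ?_⟩
  · by_cases h1 : cj t K = K
    · by_cases h2 : t = 1
      · exact Or.inl h2
      · exact Or.inr (Or.inl (j.unique h hK ht h2 h1 hs hs1 hsK))
    · right; right
      have h2 : cj (p * t) K = K := by
        rcases cj_cases h hK hL hne (j.tx t ht) with h6 | h6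
        · exact absurd h6.1 h1
        rw [cj_mul, h6.1, ← cj_mul, hpp, cj_one]
      have h3 : ∀ g : G, p * (p * g) = g := fun g => by rw [← mul_assoc, hpp, one_mul]
      by_cases h4 : p * t = 1
      · left
        rw [← h3 t, h4, mul_one]
      · right
        rw [← j.unique h hK (mul_mem hp ht) h4 h2 hs hs1 hsK, h3]
  · -- `g` commutes with `C_{R_x}(s)`
    obtain ⟨k, hk, l, hl, rfl⟩ := (mem_RZ hK hL h hne).1 hgx
    have c1 : a * (k * l) = (k * l) * a := jh.comm h hs hs1 (hK.le_RZ ha.1) ha.comm hg hgx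
    have c2 : a * k = k * a := by
      have h1 : l * a = a * l := (hK.comm hL h hne ha.1 hl).symm
      have h2 : (a * k) * l = (k * a) * l := by
        rw [mul_assoc, c1, mul_assoc, h1, mul_assoc]
      exact mul_right_cancel h2
    have c3 : (p * a * p⁻¹) * (k * l) = (k * l) * (p * a * p⁻¹) :=
      jh.comm h hs hs1 (hL.le_RZ hpa) hb.comm hg hgx
    have c4 : (p * a * p⁻¹) * l = l * (p * a * p⁻¹) := by
      have h1 : k * (p * a * p⁻¹) = (p * a * p⁻¹) * k := hK.comm hL h hne hk hpa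
      have h2 : k * ((p * a * p⁻¹) * l) = k * (l * (p * a * p⁻¹)) := by
        rw [← mul_assoc, h1, mul_assoc, c3, mul_assoc]
      exact mul_left_cancel h2
    have hpapa : (p * a * p⁻¹) * (p * a * p⁻¹) = x := by
      calc (p * a * p⁻¹) * (p * a * p⁻¹) = p * (a * a) * p⁻¹ := by group
        _ = x := by rw [haa, hsw.1, mul_inv_cancel_right]
    have hxx := hK.inZ.z2 h
    have hg2 := j.sq' s hs hs1 _ hg
    have hklc : l * k = k * l := (hK.comm hL h hne hk hl).symm
    have hsq : (k * k) * (l * l) = 1 := by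
      rw [← hg2]
      calc (k * k) * (l * l) = k * (k * l) * l := by group
        _ = k * (l * k) * l := by rw [hklc]
        _ = _ := by group
    have hkx : ∀ {u : G}, u ∈ K → u * x = x * u := fun hu => hK.comm_z h hu
    have hlx : ∀ {u : G}, u ∈ cj p K → u * x = x * u := fun hu => hL.comm_z h hu
    -- `g ∈ {1, x, a a^p, x a a^p}`
    have hfin : k * l = 1 ∨ k * l = x ∨ k * l = qq p a ∨ k * l = x * qq p a := by
      rcases hK.of_comm h ha.1 haa hk c2 with h1 | h1 | h1 | h1 <;>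
        rcases hL.of_comm h hpa hpapa hl c4 with h2 | h2 | h2 | h2
      · left; rw [h1, h2, one_mul]
      · right; left; rw [h1, h2, one_mul]
      · exfalso
        rw [h1, h2, hpapa, one_mul, one_mul] at hsq
        exact hK.inZ.z1 h hsq
      · exfalso
        have h3 : x * (p * a * p⁻¹) * (x * (p * a * p⁻¹)) = x := by
          calc x * (p * a * p⁻¹) * (x * (p * a * p⁻¹)) = x * ((p * a * p⁻¹) * x) * (p * a * p⁻¹) := by group
            _ = x * (x * (p * a * p⁻¹)) * (p * a * p⁻¹) := by rw [hlx hpa]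
            _ = (x * x) * ((p * a * p⁻¹) * (p * a * p⁻¹)) := by group
            _ = x := by rw [hxx, hpapa, one_mul]
        rw [h1, h2, h3, one_mul, one_mul] at hsq
        exact hK.inZ.z1 h hsq
      · right; left; rw [h1, h2, mul_one]
      · left; rw [h1, h2, hxx]
      · exfalso
        rw [h1, h2, hpapa, hxx, one_mul] at hsq
        exact hK.inZ.z1 h hsq
      · exfalso
        have h3 : x * (p * a * p⁻¹) * (x * (p * a * p⁻¹)) = x := by
          calc x * (p * a * p⁻¹) * (x * (p * a * p⁻¹)) = x * ((p * a * p⁻¹) * x) * (p * a * p⁻¹) := by group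
            _ = x * (x * (p * a * p⁻¹)) * (p * a * p⁻¹) := by rw [hlx hpa]
            _ = (x * x) * ((p * a * p⁻¹) * (p * a * p⁻¹)) := by group
            _ = x := by rw [hxx, hpapa, one_mul]
        rw [h1, h2, h3, hxx, one_mul] at hsq
        exact hK.inZ.z1 h hsq
      · exfalso
        rw [h1, h2, haa, one_mul, mul_one] at hsq
        exact hK.inZ.z1 h hsq
      · exfalso
        rw [h1, h2, haa, hxx, mul_one] at hsq
        exact hK.inZ.z1 h hsq
      · right; right; left; rw [h1, h2]; rfl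
      · right; right; right
        rw [h1, h2, ← mul_assoc, hkx ha.1, mul_assoc]; rfl
      · exfalso
        have h3 : x * a * (x * a) = x := by
          calc x * a * (x * a) = x * (a * x) * a := by group
            _ = x * (x * a) * a := by rw [hkx ha.1]
            _ = (x * x) * (a * a) := by group
            _ = x := by rw [hxx, haa, one_mul]
        rw [h1, h2, h3, one_mul, mul_one] at hsq
        exact hK.inZ.z1 h hsq
      · exfalso
        have h3 : x * a * (x * a) = x := by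
          calc x * a * (x * a) = x * (a * x) * a := by group
            _ = x * (x * a) * a := by rw [hkx ha.1]
            _ = (x * x) * (a * a) := by group
            _ = x := by rw [hxx, haa, one_mul]
        rw [h1, h2, h3, hxx, mul_one] at hsq
        exact hK.inZ.z1 h hsq
      · right; right; right
        rw [h1, h2, mul_assoc]; rfl
      · right; right; left
        rw [h1, h2]
        calc x * a * (x * (p * a * p⁻¹)) = x * (a * x) * (p * a * p⁻¹) := by group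
          _ = x * (x * a) * (p * a * p⁻¹) := by rw [hkx ha.1]
          _ = (x * x) * (a * (p * a * p⁻¹)) := by group
          _ = _ := by rw [hxx, one_mul]; rfl
    rcases hfin with h1 | h1 | h1 | h1
    · exact Or.inl h1
    · rw [h1] at hg; exact absurd hg (j.nin' hs hs1)
    · exfalso
      rw [h1] at hg
      apply j.nin' hs hs1
      have := mul_mem hJ (inv_mem hg)
      rwa [mul_inv_cancel_right] at this
    · exact Or.inr h1

theorem JGF.card_le (j : JGF Om A T x) (h : WM Om) : Nat.card T ≤ 4 := by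
  classical
  obtain ⟨K, hK⟩ := j.inZ
  obtain ⟨p, -, s, -, a, -, -, -, -, -, -, -, h1, -⟩ := j.main h hK
  have h2 : (T : Set G) ⊆ (({1, s, p, p * s} : Finset G) : Set G) := by
    intro t ht
    rcases h1 t ht with h2 | h2 | h2 | h2 <;> simp [h2]
  have h3 := Set.ncard_le_ncard h2 (Finset.finite_toSet _)
  rw [Set.ncard_coe_finset] at h3
  exact h3.trans Finset.card_le_four

/-- `T` with more than four elements -/
theorem JG.of_card (j : JG Om A T x) (h : WM Om) (hT : 4 < Nat.card T) :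
    T ≤ CX Om x ∧ ∀ t ∈ T, t ≠ 1 → ∀ g ∈ A t, g ∈ RZ Om x → g = 1 := by
  rcases j.dich h with h1 | h1
  · exact h1
  exfalso
  have h2 : ∃ s ∈ T, ∃ t ∈ T, s ≠ 1 ∧ t ≠ 1 ∧ s ≠ t := three_of_card (by omega)
  have h3 := (JGF.mk j h1 h2).card_le h
  omega

/-- **(R0)** -/
theorem r_zero (h : WM Om) (l0 : L0 Om) (hx : InZ Om x) (an : ∀ t ∈ T, t ≠ 1 → ANt Om t)
    (hT : ∀ t ∈ T, t ≠ 1 → T ≤ NZ Om t) (hTx : ∀ t ∈ T, t * x = x * t) (h3 : 2 < Nat.card T) :
    (∃ s ∈ T, s ≠ 1 ∧ ∃ t ∈ T, t ≠ 1 ∧ ∃ a ∈ NZ Om s, ∃ b ∈ NZ Om t, x = a * b) ∨ T ≤ CX Om x ∨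
      JGF Om (NZ Om) T x := by
  by_cases hn : ∀ s ∈ T, s ≠ 1 → ∀ t ∈ T, t ≠ 1 → ∀ a ∈ NZ Om s, ∀ b ∈ NZ Om t, x ≠ a * b
  · right
    have j : JG Om (NZ Om) T x :=
      { inZ := hx
        comm' := fun t ht ht1 a ha b hb => NZ_comm h l0 (an t ht ht1) ha hb
        sq' := fun t ht ht1 a ha => NZ_sq h l0 (an t ht ht1) ha
        nin := hn
        le := hT
        tx := hTx
        nor := fun t _ _ r _ hc a ha => NZ_conj h hc.symm ha }
    rcases j.dich h with h1 | h1
    · exact Or.inl h1.1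
    · exact Or.inr ⟨j, h1, three_of_card h3⟩
  · left
    push Not at hn
    obtain ⟨s, hs, hs1, t, ht, ht1, a, ha, b, hb, hx⟩ := hn
    exact ⟨s, hs, hs1, t, ht, ht1, a, ha, b, hb, hx⟩

end Fin

end Cfsg.Agent.Cit.Nil.RTwoM
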