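import Cfsg.Agent.Cit.Nil.RTwoM.EndX

/-!
# S1309, (6b), (C3), `r = 2`, any `m`: rotations

* `Rot z K c` : `c` normalises `K` and moves the axes of `K`;
* `C3R Om` : every member has a rotation; `C3R.of_c3` : from `Nil.C3`; `C3R.c3e`;
* `C3R.exists_ncs` : the rotation may be chosen normalising `C_S`;
* **`C3R.exists_cent`** : `|C_S| ≤ 3`: the rotation may be chosen in `C(T_S)`.
-/

set_option autoImplicit false
set_option linter.style.haveILetI false
set_option linter.unusedSectionVars false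

namespace Cfsg.Agent.Cit.Nil.RTwoM

open Subgroup Cfsg Cfsg.Agent.Cit
open RG (WR CP Ov InO)
open RI (CS)
open RTwo (Q3 Act)

variable {G : Type*} [Group G] {Om : Set (Subgroup G)} {K L M X A : Subgroup G} {a c d s t u v x y z g k n : G}

/-- `c` normalises `K` and moves the axes -/
def Rot (z : G) (K : Subgroup G) (c : G) : Prop :=
  cj c K = K ∧ ∀ y ∈ K, y * y = z → c * y * c⁻¹ ≠ y ∧ c * y * c⁻¹ ≠ z * y

/-- (C3) : every member has a rotation -/
def C3R (Om : Set (Subgroup G)) : Prop := ∀ z K, Mem Om z K → ∃ c, Rot z K c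

set_option maxRecDepth 100000 in
theorem perm_six (σ : Equiv.Perm (Fin 3)) : σ ^ 6 = 1 := by
  have h5 : ∀ σ : Equiv.Perm (Fin 3), ∀ i, (σ ^ 3) ((σ ^ 3) i) = i := by decide
  have h6 : σ ^ 6 = σ ^ 3 * σ ^ 3 := by rw [← pow_add]
  rw [h6]
  exact Equiv.ext fun i => h5 σ i

theorem act_pow' {x : Fin 3 → G} {σ : Equiv.Perm (Fin 3)} (hz : z * z = 1) (hg : g * z = z * g)
    (ha : Act z x x g σ) (n : ℕ) : g ^ n * z = z * g ^ n ∧ Act z x x (g ^ n) (σ ^ n) := by
  induction n with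
  | zero => simp only [pow_zero, one_mul, mul_one, true_and]; exact Act.one x z
  | succ n ih =>
    obtain ⟨h1, h2⟩ := ih
    rw [pow_succ, pow_succ]
    refine ⟨?_, ha.comp hz h2 h1⟩
    rw [mul_assoc, hg, ← mul_assoc, h1, mul_assoc]

section Fin

variable [Finite G]

/-- a 3-element acting nontrivially on a member is a rotation -/
theorem Rot.of_three (h : WM Om) (hK : Mem Om z K) {c : G} (hcK : cj c K = K) (hc3 : IsPGroup 3 (zpowers c)) {q : G}
    (hq : q ∈ K) (hcq : c * q ≠ q * c) : Rot z K c := by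
  refine ⟨hcK, fun y hy hyy => ?_⟩
  have hcz : c * z = z * c := hK.of_cj h hcK
  obtain ⟨x, qx⟩ := h.exists_q3 hK
  obtain ⟨σ, hσ⟩ := qx.exists_act qx hcK hcz
  obtain ⟨k, hk⟩ := hc3 ⟨c, mem_zpowers c⟩
  have hk' : c ^ 3 ^ k = 1 := congrArg Subtype.val hk
  have h1 := (act_pow' qx.z2 hcz hσ (3 ^ k)).2
  rw [hk'] at h1
  have h2 : σ ^ 3 ^ k = 1 := h1.unique qx (Act.one x z)
  have h3 : σ ^ 3 = 1 := by
    have h4 : ∀ σ : Equiv.Perm (Fin 3), σ ^ 6 = 1 := perm_six
    have h5 : ∀ n, σ ^ 3 ^ (n + 1) = σ ^ 3 := by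
      intro n
      induction n with
      | zero => simp
      | succ n ih =>
        rw [pow_succ, pow_mul, ih, ← pow_mul, show 3 * 3 = 6 + 3 by norm_num, pow_add, h4, one_mul]
    rcases k with _ | k
    · rw [pow_zero, pow_one] at h2
      rw [h2, one_pow]
    · rw [← h5 k]; exact h2
  have h4 : σ = 1 ∨ ∀ i, σ i ≠ i := by
    have h5 : ∀ σ : Equiv.Perm (Fin 3), σ * σ * σ = 1 → σ = 1 ∨ ∀ i, σ i ≠ i := by decide
    exact h5 σ (by rw [← h3]; simp only [pow_succ, pow_zero, one_mul])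
  rcases h4 with h4 | h4
  · -- inner: `c² ∈ C(K)`
    exfalso
    subst h4
    have h5 := hσ.inner qx hcz
    have h6 : ∀ n : ℕ, ∀ k ∈ K, c ^ (2 * n) * k = k * c ^ (2 * n) := by
      have h7 : ∀ k ∈ K, c ^ 2 * k = k * c ^ 2 := by
        intro k hk
        have h8 : c * (c * k * c⁻¹) * c⁻¹ = k := by
          rcases qx.inner_cases h5 with h9 | ⟨j, h9⟩
          · rw [h9 k hk, h9 k hk]
          · have hk' : x j * k * (x j)⁻¹ ∈ K := mul_mem (mul_mem (qx.mem j) hk) (inv_mem (qx.mem j))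
            rw [h9 k hk, h9 _ hk']
            calc x j * (x j * k * (x j)⁻¹) * (x j)⁻¹ = (x j * x j) * k * (x j * x j)⁻¹ := by group
              _ = k := by rw [qx.sq, ← hK.comm_z h hk, mul_inv_cancel_right]
        rw [← mul_inv_eq_iff_eq_mul]
        calc c ^ 2 * k * (c ^ 2)⁻¹ = c * (c * k * c⁻¹) * c⁻¹ := by rw [pow_two]; group
          _ = k := h8
      intro n k hk
      rw [pow_mul]
      exact (show Commute (c ^ 2) k from h7 k hk).pow_left n
    -- `c = c^{odd}`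
    obtain ⟨m, hm⟩ : Odd (3 ^ k) := Odd.pow (by decide)
    have h7 : c ^ (2 * m) * c = 1 := by rw [← pow_succ, ← hm, hk']
    have h8 := h6 m q hq
    apply hcq
    have h9 : c = (c ^ (2 * m))⁻¹ := by rw [eq_inv_iff_mul_eq_one, ← pow_succ', ← hm, hk']
    rw [h9, inv_mul_eq_iff_eq_mul, ← mul_assoc, h8, mul_inv_cancel_right]
  · obtain ⟨i, hi⟩ := qx.of_sq hy hyy
    have key : ∀ w, (w = x i ∨ w = z * x i) → c * y * c⁻¹ = w → False := by
      intro w hw hcy
      have e : c * (z * x i) * c⁻¹ = z * (c * x i * c⁻¹) := by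
        calc c * (z * x i) * c⁻¹ = (c * z) * x i * c⁻¹ := by group
          _ = (z * c) * x i * c⁻¹ := by rw [hcz]
          _ = _ := by group
      have h5 : c * y * c⁻¹ = x (σ i) ∨ c * y * c⁻¹ = z * x (σ i) := by
        rcases hi with rfl | rfl
        · exact hσ i
        · rw [e]
          rcases hσ i with h6 | h6
          · right; rw [h6]
          · left; rw [h6, qx.zzx]
      rw [hcy] at h5
      apply h4 i
      rcases hw with rfl | rfl <;> rcases h5 with h5 | h5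
      · exact (qx.inj (Or.inl h5)).symm
      · exact (qx.inj (Or.inr h5)).symm
      · exact qx.inj (Or.inr h5.symm)
      · exact (qx.inj (Or.inl (mul_left_cancel h5))).symm
    constructor
    · intro h5; exact key y hi h5
    · intro h5
      refine key (z * y) ?_ h5
      rcases hi with rfl | rfl
      · exact Or.inr rfl
      · left; exact qx.zzx _

/-- `Nil.C3 K` gives (C3) for the class of `K` -/
theorem C3R.of_c3 {K : Subgroup G} (h : WM (cls K)) (h3 : Nil.C3 K) : C3R (cls K) := by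
  obtain ⟨Q, hQ, hQ8, c, hcK, hcQ, hc3, q, hq, hcq⟩ := h3
  have hQK : Q = K := eq_of_le_of_card_ge hQ.1 (by rw [hQ8, h.card K (self_mem_cls K)])
  subst hQK
  intro z L hL
  obtain ⟨g, hg⟩ := hL.1
  have hL0 : Mem (cls Q) (g⁻¹ * z * g) Q := by
    have h1 := hL.cj h g⁻¹
    rw [hg, cj_inv_cj, inv_inv] at h1
    exact h1
  obtain ⟨-, h2⟩ := Rot.of_three h hL0 (mem_normalizer_iff_cj.1 hcK) hc3 hq hcq
  have hcc : cj (g * c * g⁻¹) L = L := by
    rw [hg, cj_mul, cj_mul, cj_inv_cj, mem_normalizer_iff_cj.1 hcK]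
  refine ⟨g * c * g⁻¹, hcc, fun y hy hyy => ?_⟩
  obtain ⟨h5, h6⟩ := h2 (g⁻¹ * y * g) (by rw [hg, mem_cj] at hy; exact hy) (by rw [← hyy]; group)
  have h4 : c * (g⁻¹ * y * g) * c⁻¹ = g⁻¹ * (g * c * g⁻¹ * y * (g * c * g⁻¹)⁻¹) * g := by group
  constructor
  · intro h3
    apply h5
    rw [h4, h3]
  · intro h3
    apply h6
    rw [h4, h3]
    group

theorem C3R.c3e (c3 : C3R Om) (h : WM Om) : C3E Om := by
  intro z K hK y hy hyy
  obtain ⟨c, hc, h1⟩ := c3 z K hK
  exact ⟨c, hK.of_cj h hc, hc, h1 y hy hyy⟩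

/-- the square of a rotation is a rotation -/
theorem Rot.sq (h : WM Om) (hK : Mem Om z K) (hc : Rot z K c) : Rot z K (c * c) := by
  have hcz : c * z = z * c := hK.of_cj h hc.1
  refine ⟨by rw [cj_mul, hc.1, hc.1], fun y hy hyy => ?_⟩
  have hcy : c * y * c⁻¹ ∈ K := by
    have := conj_mem_cj (g := c) hy
    rwa [hc.1] at this
  have hcyy : c * y * c⁻¹ * (c * y * c⁻¹) = z := by
    calc c * y * c⁻¹ * (c * y * c⁻¹) = c * (y * y) * c⁻¹ := by group
      _ = z := by rw [hyy, hcz, mul_inv_cancel_right]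
  obtain ⟨h1, h2⟩ := hc.2 y hy hyy
  obtain ⟨h3, h4⟩ := hc.2 _ hcy hcyy
  -- the third axis
  obtain ⟨w, hw⟩ : ∃ w, w = y * (c * y * c⁻¹) := ⟨_, rfl⟩
  have hne : y * (c * y * c⁻¹) ≠ (c * y * c⁻¹) * y := by
    intro h5
    rcases hK.of_comm h hy hyy hcy h5 with h6 | h6 | h6 | h6
    · rw [h6, one_mul] at hcyy; exact hK.inZ.z1 h hcyy.symm
    · rw [h6, hK.inZ.z2 h] at hcyy; exact hK.inZ.z1 h hcyy.symm
    · exact h1 h6
    · exact h2 h6
  obtain ⟨b, qb, hb0, hb1⟩ := hK.exists_q2 h hy hyy hcy hcyy hne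
  have hb2 : b 2 = y * (c * y * c⁻¹) := by
    have h5 := qb.mul 0
    simp only [zero_add] at h5
    rw [hb0, hb1] at h5
    exact h5.symm
  have key : ∀ w, (w = y ∨ w = z * y) → c * c * y * (c * c)⁻¹ = w → False := by
    intro w hw hcw
    have e1 : c * (c * y * c⁻¹) * c⁻¹ = w := by rw [← hcw]; group
    -- `c b₂ c⁻¹ = (c y c⁻¹) w`
    have e2 : c * b 2 * c⁻¹ = (c * y * c⁻¹) * w := by
      rw [hb2, ← e1]; group
    obtain ⟨h5, h6⟩ := hc.2 (b 2) (qb.mem 2) (qb.sq 2)
    have e3 : (c * y * c⁻¹) * y = z * b 2 := by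
      have h7 := qb.sw (i := 1) (j := 0) (by decide)
      rw [hb0, hb1] at h7
      rw [h7, hb2]
    rcases hw with rfl | rfl
    · rw [e2, e3] at h6
      exact h6 rfl
    · rw [e2, ← mul_assoc, hK.comm_z h hcy, mul_assoc, e3, qb.zzx] at h5
      exact h5 rfl
  exact ⟨fun h5 => key y (Or.inl rfl) h5, fun h5 => key (z * y) (Or.inr rfl) h5⟩

/-- a rotation normalising `C_S` -/
theorem C3R.exists_ncs (c3 : C3R Om) (h : WM Om) (S : Sylow 2 G) (hK : Mem Om z K) (hKS : K ≤ (S : Subgroup G)) :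
    ∃ c, Rot z K c ∧ NCS Om (S : Subgroup G) c := by
  haveI : Fact (Nat.Prime 2) := ⟨Nat.prime_two⟩
  obtain ⟨c, hc⟩ := c3 z K hK
  -- `H = C(K)`, `P1` a Sylow subgroup of `H` containing `S ∩ H`
  obtain ⟨H, hH⟩ : ∃ H, H = centralizer (K : Set G) := ⟨_, rfl⟩
  obtain ⟨P1, hP1, hSP⟩ := exists_syl_ge (C := H) (P := (S : Subgroup G) ⊓ H) (S.isPGroup'.to_le inf_le_left) inf_le_right
  have hHK : ∀ x ∈ H, ∀ k ∈ K, x * k = k * x := by
    intro x hx k hk
    rw [hH, mem_centralizer_iff] at hx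
    exact (hx k hk).symm
  have hcH : cj c H = H := by
    have key : ∀ c, cj c K = K → ∀ x ∈ H, c * x * c⁻¹ ∈ H := by
      intro c hcK x hx
      rw [hH, mem_centralizer_iff]
      intro k hk
      have hk' : c⁻¹ * k * c ∈ K := by
        rw [← mem_cj, hcK]; exact hk
      have h1 := hHK x hx _ hk'
      calc k * (c * x * c⁻¹) = c * ((c⁻¹ * k * c) * x) * c⁻¹ := by group
        _ = c * (x * (c⁻¹ * k * c)) * c⁻¹ := by rw [h1]
        _ = _ := by group
    ext x
    rw [mem_cj]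
    constructor
    · intro hx
      have h1 := key c hc.1 _ hx
      rwa [show c * (c⁻¹ * x * c) * c⁻¹ = x by group] at h1
    · intro hx
      have hcK' : cj c⁻¹ K = K := by
        have h1 : cj c⁻¹ (cj c K) = K := cj_inv_cj c K
        rwa [hc.1] at h1
      have h1 := key c⁻¹ hcK' _ hx
      rwa [inv_inv] at h1
  obtain ⟨e, he, heP⟩ := (show Syl (cj c P1) H by
    have h1 := hP1.cj c
    rwa [hcH] at h1).exists_conj hP1
  -- `c' = e c`
  have hcP : cj (e * c) P1 = P1 := by rw [cj_mul]; exact heP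
  have hact : ∀ y ∈ K, (e * c) * y * (e * c)⁻¹ = c * y * c⁻¹ := by
    intro y hy
    have h1 : c * y * c⁻¹ ∈ K := by
      have := conj_mem_cj (g := c) hy
      rwa [hc.1] at this
    calc (e * c) * y * (e * c)⁻¹ = e * (c * y * c⁻¹) * e⁻¹ := by group
      _ = c * y * c⁻¹ := by rw [hHK e he _ h1, mul_inv_cancel_right]
  have hK' : cj (e * c) K = K := by
    ext x
    rw [cj_mul, hc.1, mem_cj]
    constructor
    · intro hx
      have h1 := hHK e he _ hx
      have h2 : x = e⁻¹ * x * e := by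
        calc x = (e * (e⁻¹ * x * e)) * e⁻¹ := by group
          _ = ((e⁻¹ * x * e) * e) * e⁻¹ := by rw [h1]
          _ = _ := by group
      rw [h2]; exact hx
    · intro hx
      have h1 := hHK e he _ hx
      have h2 : e⁻¹ * x * e = x := by rw [mul_assoc, ← h1]; group
      rw [h2]; exact hx
  refine ⟨e * c, ⟨hK', fun y hy hyy => ?_⟩, ?_⟩
  · rw [hact y hy]; exact hc.2 y hy hyy
  -- the members in `S`
  have hKP : IsPGroup 2 (K ⊔ P1 : Subgroup G) := by
    refine (h.isPGroup hK.1).to_sup_of_normal_right' hP1.2.1 ?_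
    intro k hk
    rw [mem_normalizer_iff]
    intro x
    have key : ∀ k ∈ K, ∀ x ∈ P1, k * x * k⁻¹ ∈ P1 := by
      intro k hk x hx
      rw [← hHK x (hP1.1 hx) k hk, mul_inv_cancel_right]; exact hx
    refine ⟨key k hk x, fun hx => ?_⟩
    have h1 := key k⁻¹ (inv_mem hk) _ hx
    rwa [inv_inv, show k⁻¹ * (k * x * k⁻¹) * k = x by group] at h1
  obtain ⟨S1, hS1⟩ := hKP.exists_le_sylow
  obtain ⟨g, hg⟩ := MulAction.exists_smul_eq G S S1
  have hgS : (S1 : Subgroup G) = cj g S := by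
    rw [← hg]
    rfl
  have h1 := ncard_cj h g (S : Subgroup G)
  rw [← hgS] at h1
  have hD : ∀ L ∈ Om, L ≤ (S : Subgroup G) → L = K ∨ L ≤ P1 := by
    intro L hL hLS
    by_cases hLK : L = K
    · exact Or.inl hLK
    · right
      refine le_trans (le_inf hLS ?_) hSP
      intro l hl
      rw [hH, mem_centralizer_iff]
      exact fun k hk => com h S.isPGroup' hK.1 hL hKS hLS (Ne.symm hLK) k hk l hl
  have h2 : {L | L ∈ Om ∧ L ≤ (S : Subgroup G)} ⊆ {L | L ∈ Om ∧ L ≤ (S1 : Subgroup G)} := by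
    rintro L ⟨hL, hLS⟩
    refine ⟨hL, ?_⟩
    rcases hD L hL hLS with rfl | h3
    · exact le_sup_left.trans hS1
    · exact (h3.trans le_sup_right).trans hS1
  have h3 : {L | L ∈ Om ∧ L ≤ (S : Subgroup G)} = {L | L ∈ Om ∧ L ≤ (S1 : Subgroup G)} :=
    Set.eq_of_subset_of_ncard_le h2 (le_of_eq h1) (Set.toFinite _)
  rintro v ⟨L, hL, hLS⟩
  have hL' := h.wr.Ov_cj hL (e * c)
  refine ⟨cj (e * c) L, hL', ?_⟩
  have h4 : cj (e * c) L ≤ (S1 : Subgroup G) := by
    rcases hD L hL.1 hLS with rfl | h5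
    · rw [hK']; exact le_sup_left.trans hS1
    · have h6 := cj_mono (e * c) h5
      rw [hcP] at h6
      exact (h6.trans le_sup_right).trans hS1
  have h5 : cj (e * c) L ∈ {L | L ∈ Om ∧ L ≤ (S : Subgroup G)} := by rw [h3]; exact ⟨hL'.1, h4⟩
  exact h5.2

/-- **a rotation in `C(T_S)`** if `|C_S| ≤ 3` -/
theorem C3R.exists_cent (c3 : C3R Om) (h : WM Om) (S : Sylow 2 G) (hm : (CS Om (S : Subgroup G)).ncard ≤ 3)
    (hK : Mem Om z K) (hKS : K ≤ (S : Subgroup G)) :
    ∃ c, Rot z K c ∧ ∀ t ∈ TT Om (S : Subgroup G), c * t = t * c := by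
  obtain ⟨c, hc, hn⟩ := c3.exists_ncs h S hK hKS
  have hcz : c * z = z * c := hK.of_cj h hc.1
  have hzS : z ∈ CS Om (S : Subgroup G) := ⟨K, hK, hKS⟩
  refine ⟨c * c, hc.sq h hK, ?_⟩
  have key : ∀ v ∈ CS Om (S : Subgroup G), (c * c) * v = v * (c * c) := by
    intro v hv
    by_contra hne
    obtain ⟨v1, hv1⟩ : ∃ v1, v1 = c * v * c⁻¹ := ⟨_, rfl⟩
    obtain ⟨v2, hv2⟩ : ∃ v2, v2 = c * v1 * c⁻¹ := ⟨_, rfl⟩
    have m1 := hn v hv
    rw [← hv1] at m1
    have m2 := hn v1 m1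
    rw [← hv2] at m2
    have n1 : v2 ≠ v := by
      intro h1
      apply hne
      rw [← mul_inv_eq_iff_eq_mul]
      calc c * c * v * (c * c)⁻¹ = c * (c * v * c⁻¹) * c⁻¹ := by group
        _ = v := by rw [← hv1, ← hv2, h1]
    have n2 : v1 ≠ v := by
      intro h1
      apply n1
      rw [hv2, h1, ← hv1, h1]
    have n3 : v2 ≠ v1 := by
      intro h1
      apply n2
      have h2 : c * v1 * c⁻¹ = c * v * c⁻¹ := by rw [← hv2, h1, hv1]
      exact mul_left_cancel (mul_right_cancel h2)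
    have inj : ∀ w w' : G, c * w * c⁻¹ = c * w' * c⁻¹ → w = w' := fun w w' h1 => mul_left_cancel (mul_right_cancel h1)
    have hczz : c * z * c⁻¹ = z := by rw [hcz, mul_inv_cancel_right]
    have n4 : v ≠ z := by
      intro h1
      apply n2
      rw [hv1, h1, hczz]
    have n5 : v1 ≠ z := by
      intro h1
      apply n4
      refine inj v z ?_
      rw [← hv1, h1, hczz]
    have n6 : v2 ≠ z := by
      intro h1
      apply n5
      refine inj v1 z ?_
      rw [← hv2, h1, hczz]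
    have h1 : ({z, v, v1, v2} : Set G) ⊆ CS Om (S : Subgroup G) := by
      rintro w (rfl | rfl | rfl | hw)
      · exact hzS
      · exact hv
      · exact m1
      · rw [Set.mem_singleton_iff] at hw
        rw [hw]; exact m2
    have h2 := Set.ncard_le_ncard h1 (Set.toFinite _)
    have h3 : ({z, v, v1, v2} : Set G).ncard = 4 := by
      rw [Set.ncard_insert_of_notMem, Set.ncard_insert_of_notMem, Set.ncard_pair n3.symm]
      · rintro (h4 | h4)
        · exact n2 h4.symm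
        · exact n1 h4.symm
      · rintro (h4 | h4 | h4)
        · exact n4 h4.symm
        · exact n5 h4.symm
        · exact n6 h4.symm
    omega
  intro t ht
  have h1 : TT Om (S : Subgroup G) ≤ centralizer ({c * c} : Set G) := by
    refine (closure_le _).2 fun u hu => mem_centralizer_singleton_iff.2 ?_
    exact (key u hu).symm
  exact (mem_centralizer_singleton_iff.1 (h1 ht)).symm

end Fin

end Cfsg.Agent.Cit.Nil.RTwoM
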