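import Cfsg.Agent.Cit.Nil.RTwoM.Base

/-!
# `r = 2`, any `m`: the language `As K t y`; type I pairs (from `RI/TypeI.lean`)

* `As K t y` : `y ∈ K` and `t` acts on `K` as `y`;
* `TI.exists_as` : a type I neighbour `t` of `z` acts on `K` (over `z`) as some `y` with `y² = z`;
* `TI.rot` : the quarter turn: `y ∈ K` acts on `L` (over `t`) as an automorphism of order 4 about `x`;
* `TI.conj_z`, `TI.conj_y`, `TI.mul_right`, `TI.mul_left`;
* `RZ_center`, `eq_or_of_as`, `exists_as_of_mem`, `TI.of_mem_RZ`.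
-/

set_option autoImplicit false
set_option linter.style.haveILetI false
set_option linter.unusedSectionVars false

namespace Cfsg.Agent.Cit.Nil.RTwoM

open Subgroup Cfsg Cfsg.Agent.Cit

open RTwo (Q3 Act i11 i12 i21 i22 i_ne1 i_ne2 i_ne12 i_cases i_cases3)

variable {G : Type*} [Group G]

/-- `t` acts on `K` as `y ∈ K` -/
def As (K : Subgroup G) (t y : G) : Prop := y ∈ K ∧ ∀ k ∈ K, t * k * t⁻¹ = y * k * y⁻¹

namespace As

variable {K L : Subgroup G} {s t y x g : G}

theorem self (hy : y ∈ K) : As K y y := ⟨hy, fun _ _ => rfl⟩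

theorem one_iff : As K t 1 ↔ ∀ k ∈ K, t * k = k * t := by
  constructor
  · intro h k hk
    have := h.2 k hk
    rw [one_mul, inv_one, mul_one, mul_inv_eq_iff_eq_mul] at this
    exact this
  · intro h
    refine ⟨one_mem _, fun k hk => ?_⟩
    rw [h k hk, mul_inv_cancel_right, one_mul, inv_one, mul_one]

theorem mul (h : As K s x) (h' : As K t y) : As K (s * t) (x * y) := by
  refine ⟨mul_mem h.1 h'.1, fun k hk => ?_⟩
  have h1 : t * k * t⁻¹ ∈ K := by
    rw [h'.2 k hk]; exact mul_mem (mul_mem h'.1 hk) (inv_mem h'.1)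
  calc s * t * k * (s * t)⁻¹ = s * (t * k * t⁻¹) * s⁻¹ := by group
    _ = x * (t * k * t⁻¹) * x⁻¹ := h.2 _ h1
    _ = x * (y * k * y⁻¹) * x⁻¹ := by rw [h'.2 k hk]
    _ = _ := by group

theorem inv (h : As K t y) : As K t⁻¹ y⁻¹ := by
  refine ⟨inv_mem h.1, fun k hk => ?_⟩
  have h1 : y⁻¹ * k * y ∈ K := mul_mem (mul_mem (inv_mem h.1) hk) h.1
  have h2 := h.2 _ h1
  have h3 : y * (y⁻¹ * k * y) * y⁻¹ = k := by group
  rw [h3] at h2
  calc t⁻¹ * k * t⁻¹⁻¹ = t⁻¹ * (t * (y⁻¹ * k * y) * t⁻¹) * t⁻¹⁻¹ := by rw [h2]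
    _ = _ := by group

theorem conj (h : As K t y) (g : G) : As (cj g K) (g * t * g⁻¹) (g * y * g⁻¹) := by
  refine ⟨conj_mem_cj h.1, fun k hk => ?_⟩
  rw [mem_cj] at hk
  have h1 := h.2 _ hk
  calc g * t * g⁻¹ * k * (g * t * g⁻¹)⁻¹ = g * (t * (g⁻¹ * k * g) * t⁻¹) * g⁻¹ := by group
    _ = g * (y * (g⁻¹ * k * g) * y⁻¹) * g⁻¹ := by rw [h1]
    _ = _ := by group

theorem conj_comm (h : As K t y) (hg : g * t = t * g) : As (cj g K) t (g * y * g⁻¹) := by
  have := h.conj g
  rwa [hg, mul_inv_cancel_right] at this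

/-- `t` acts as `y`, so it commutes with `y` -/
theorem comm (h : As K t y) : t * y = y * t := by
  have h1 := h.2 y h.1
  rw [mul_inv_cancel_right, mul_inv_eq_iff_eq_mul] at h1
  exact h1

theorem cj_eq (h : As K t y) : Cit.cj t K = K := by
  refine le_antisymm ?_ ?_
  · rintro _ ⟨k, hk, rfl⟩
    change t * k * t⁻¹ ∈ K
    rw [h.2 k hk]
    exact mul_mem (mul_mem h.1 hk) (inv_mem h.1)
  · intro k hk
    rw [mem_cj]
    have h1 := h.inv.2 k hk
    rw [inv_inv] at h1
    rw [h1]
    exact mul_mem (mul_mem (inv_mem h.1) hk) (inv_mem (inv_mem h.1))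

end As

section

variable [Finite G] {Om : Set (Subgroup G)} {K K' L L' M : Subgroup G} {z t g n x x' y y' u s : G} {a b c d : Fin 3 → G}

theorem Mem.as_z (hK : Mem Om z K) (h : WM Om) : As K z 1 :=
  As.one_iff.2 fun _ hk => (hK.comm_z h hk).symm

theorem Mem.as_one (hK : Mem Om z K) (hL : Mem Om z L) (h : WM Om) (hne : K ≠ L) (hx : x ∈ L) : As K x 1 :=
  As.one_iff.2 fun _ hk => (hK.comm hL h hne hk hx).symm

theorem Mem.as_center (hK : Mem Om z K) (h : WM Om) (h1 : As K t y) (h2 : As K t 1) : y = 1 ∨ y = z := by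
  obtain ⟨a, qa⟩ := h.exists_q3 hK
  have h3 : ∀ k ∈ K, y * k = k * y := by
    intro k hk
    have := h1.2 k hk
    rw [As.one_iff.1 h2 k hk, mul_inv_cancel_right, eq_mul_inv_iff_mul_eq] at this
    exact this.symm
  exact qa.center h1.1 (h3 _ (qa.mem 0)) (h3 _ (qa.mem 1))

theorem Mem.as_unique (hK : Mem Om z K) (h : WM Om) (h1 : As K t y) (h2 : As K t y') : y' = y ∨ y' = z * y := by
  have h3 := h2.mul h1.inv
  rw [mul_inv_cancel] at h3
  have h4 : As K (1 : G) 1 := As.self (one_mem _)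
  rcases hK.as_center h h3 h4 with h5 | h5
  · left; exact mul_inv_eq_one.1 h5
  · right; rw [mul_inv_eq_iff_eq_mul] at h5; exact h5

/-- `y² = z` excludes the trivial action -/
theorem Mem.not_as_one (hK : Mem Om z K) (h : WM Om) (h1 : As K t y) (hy : y * y = z) : ¬ As K t 1 := by
  intro h2
  have hz1 := hK.inZ.z1 h
  rcases hK.as_center h h1 h2 with h3 | h3
  · rw [h3, one_mul] at hy; exact hz1 hy.symm
  · rw [h3, hK.inZ.z2 h] at hy; exact hz1 hy.symm

theorem Mem.sq_cases (hK : Mem Om z K) (h : WM Om) (hx : x ∈ K) : x = 1 ∨ x = z ∨ x * x = z := by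
  obtain ⟨a, qa⟩ := h.exists_q3 hK
  rcases qa.cov x hx with h1 | h1 | ⟨i, h1⟩
  · exact Or.inl h1
  · exact Or.inr (Or.inl h1)
  · right; right
    rcases h1 with rfl | rfl
    · exact qa.sq i
    · calc z * a i * (z * a i) = z * (a i * z) * a i := by group
        _ = z * (z * a i) * a i := by rw [qa.zc]
        _ = z := by rw [qa.zzx, qa.sq]

theorem Mem.inv_eq (hK : Mem Om z K) (h : WM Om) (hx : x ∈ K) (hxx : x * x = z) : x⁻¹ = z * x := by
  apply inv_eq_of_mul_eq_one_right
  rw [← mul_assoc, hK.comm_z h hx, mul_assoc, hxx, hK.inZ.z2 h]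

theorem TI.exists_as (hti : TI Om z t) (h : WM Om) (hK : Mem Om z K) : ∃ y, As K t y ∧ y * y = z := by
  obtain ⟨a, qa⟩ := h.exists_q3 hK
  rcases qa.inner_cases (hti.inn K hK) with h1 | ⟨j, h1⟩
  · exfalso
    exact hti.nc hK fun k hk => by
      have := h1 k hk
      rwa [mul_inv_eq_iff_eq_mul] at this
  · exact ⟨a j, ⟨qa.mem j, h1⟩, qa.sq j⟩

/-- the action of a type I neighbour is nontrivial -/
theorem TI.sq_of_as (hti : TI Om z t) (h : WM Om) (hK : Mem Om z K) (hy : As K t y) : y * y = z := by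
  obtain ⟨y', h1, h2⟩ := hti.exists_as h hK
  rcases hK.as_unique h h1 hy with rfl | rfl
  · exact h2
  · calc z * y' * (z * y') = z * (y' * z) * y' := by group
      _ = z * (z * y') * y' := by rw [hK.comm_z h h1.1]
      _ = (z * z) * (y' * y') := by group
      _ = z := by rw [hK.inZ.z2 h, h2, one_mul]

/-- coordinates of `K` starting with a given element -/
theorem Mem.exists_q (hK : Mem Om z K) (h : WM Om) (hy : y ∈ K) (hyy : y * y = z) :
    ∃ a, Q3 K z a ∧ a 0 = y := by
  obtain ⟨a, qa⟩ := h.exists_q3 hK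
  obtain ⟨i, hi⟩ := qa.of_sq hy hyy
  have h1 := qa.rot i
  have h2 : a (0 + i) = a i := by rw [zero_add]
  rcases hi with hi | hi
  · exact ⟨_, h1, by rw [hi]; exact h2⟩
  · refine ⟨_, h1.flip, ?_⟩
    simp only [Fin.isValue, zero_ne_one, if_false]
    rw [hi, h2]

/-- coordinates starting with two given elements -/
theorem Mem.exists_q2 (hK : Mem Om z K) (h : WM Om) (hy : y ∈ K) (hyy : y * y = z) (hu : u ∈ K) (huu : u * u = z)
    (hne : y * u ≠ u * y) : ∃ a, Q3 K z a ∧ a 0 = y ∧ a 1 = u := by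
  obtain ⟨a, qa⟩ := h.exists_q3 hK
  exact ⟨_, qa.of_pair hy hu hyy huu hne, rfl, rfl⟩

/-- an element of `K` commuting with `y` -/
theorem Mem.of_comm (hK : Mem Om z K) (h : WM Om) (hy : y ∈ K) (hyy : y * y = z) (hu : u ∈ K)
    (hc : y * u = u * y) : u = 1 ∨ u = z ∨ u = y ∨ u = z * y := by
  obtain ⟨a, qa, rfl⟩ := hK.exists_q h hy hyy
  rcases qa.cov u hu with h1 | h1 | ⟨i, h1⟩
  · exact Or.inl h1
  · exact Or.inr (Or.inl h1)
  by_cases hi : i = 0
  · subst hi; exact Or.inr (Or.inr h1)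
  exfalso
  have h2 := qa.anti (Ne.symm hi)
  rcases h1 with rfl | rfl
  · rw [hc, mul_assoc] at h2
    exact qa.zne _ h2.symm
  · have h3 : a 0 * (z * a i) = z * (a 0 * a i) := by
      rw [← mul_assoc, ← qa.zc, mul_assoc]
    rw [h3, mul_assoc z (a i)] at hc
    have h4 := mul_left_cancel hc
    rw [h4, mul_assoc] at h2
    exact qa.zne _ h2.symm

/-- an element of order 4 not commuting with `y` inverts it -/
theorem Mem.anti (hK : Mem Om z K) (h : WM Om) (hy : y ∈ K) (hyy : y * y = z) (hu : u ∈ K) (huu : u * u = z)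
    (hne : y * u ≠ u * y) : u * y * u⁻¹ = z * y := by
  obtain ⟨a, qa, rfl, rfl⟩ := hK.exists_q2 h hy hyy hu huu hne
  exact qa.conj_ne (by decide)

theorem Mem.comm_or (hK : Mem Om z K) (h : WM Om) (hy : y ∈ K) (hu : u ∈ K) : u * y * u⁻¹ = y ∨ u * y * u⁻¹ = z * y := by
  rcases hK.sq_cases h hy with h1 | h1 | h1
  · left; rw [h1]; group
  · left; rw [h1, hK.comm_z h hu, mul_inv_cancel_right]
  rcases hK.sq_cases h hu with h2 | h2 | h2
  · left; rw [h2]; group
  · left; rw [h2, ← hK.comm_z h hy, mul_inv_cancel_right]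
  by_cases hc : y * u = u * y
  · left; rw [← hc, mul_inv_cancel_right]
  · right; exact hK.anti h hy h1 hu h2 hc

/-! ### The quarter turn -/

/-- `y ∈ K` (the action of `t`) acts on `L` as a quarter turn about `x` (the action of `z`) -/
theorem TI.rot (hti : TI Om z t) (h : WM Om) (hK : Mem Om z K) (hL : Mem Om t L) (hy : As K t y) (hx : As L z x) :
    cj y L = L ∧ y * x = x * y ∧ ∀ u ∈ L, u * u = t → x * u ≠ u * x →
      y * u * y⁻¹ = x * u ∨ y * u * y⁻¹ = t * (x * u) := by
  have hyy := hti.sq_of_as h hK hy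
  have hxx := (hti.symm h).sq_of_as h hL hx
  have h1 := h.h3 hK hL hy.1 hyy hy.comm.symm
  obtain ⟨c, qc, hc0⟩ := hL.exists_q h hx.1 hxx
  have key : ∀ c : Fin 3 → G, Q3 L t c → c 0 = x → y * c 0 * y⁻¹ = c 0 ∧ (y * c 1 * y⁻¹ = c 2 ∨ y * c 1 * y⁻¹ = t * c 2) := by
    intro c qc hc0
    refine qc.quarter (fun k hk => ?_) fun k hk => ?_
    · have := conj_mem_cj (g := y) hk
      rwa [h1] at this
    · rw [hc0, ← hx.2 k hk]
      have : y * (y * k * y⁻¹) * y⁻¹ = (y * y) * k * (y * y)⁻¹ := by group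
      rw [this, hyy]
  refine ⟨h1, ?_, fun u hu huu hxu => ?_⟩
  · have h2 := (key c qc hc0).1
    rw [hc0, mul_inv_eq_iff_eq_mul] at h2
    exact h2
  · obtain ⟨c, qc, hc0, hc1⟩ := hL.exists_q2 h hx.1 hxx hu huu hxu
    have h2 := (key c qc hc0).2
    have h3 : c 2 = x * u := by
      have := qc.mul 0
      rw [hc0] at this
      simp only [zero_add] at this
      rw [hc1] at this
      exact this.symm
    rw [hc1, h3] at h2
    exact h2

theorem TI.yx (hti : TI Om z t) (h : WM Om) (hK : Mem Om z K) (hL : Mem Om t L) (hy : As K t y) (hx : As L z x) :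
    y * x = x * y := (hti.rot h hK hL hy hx).2.1

/-- an element of `L` not commuting with `x` -/
theorem Mem.exists_nc (hL : Mem Om t L) (h : WM Om) (hx : x ∈ L) (hxx : x * x = t) :
    ∃ u ∈ L, u * u = t ∧ x * u ≠ u * x := by
  obtain ⟨c, qc, rfl⟩ := hL.exists_q h hx hxx
  refine ⟨c 1, qc.mem 1, qc.sq 1, fun h1 => ?_⟩
  have h2 := qc.anti (i_ne1 0)
  simp only [zero_add] at h2
  rw [h1, mul_assoc] at h2
  exact qc.zne _ h2.symm

/-- `u z u⁻¹ = z t` -/
theorem As.conj_z (hL : Mem Om t L) (h : WM Om) (hx : As L z x) (hxx : x * x = t) (hu : u ∈ L)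
    (huu : u * u = t) (hxu : x * u ≠ u * x) : u * z * u⁻¹ = z * t := by
  have h1 := hx.2 u hu
  have h2 : x * u * x⁻¹ = t * u := hL.anti h hu huu hx.1 hxx (fun h3 => hxu h3.symm)
  rw [h2, mul_inv_eq_iff_eq_mul] at h1
  -- `z u = t u z`
  have h3 : t * u = u * t := (hL.comm_z h hu).symm
  have htt := hL.inZ.z2 h
  have h4 : u * z = z * t * u := by
    calc u * z = (t * t) * u * z := by rw [htt, one_mul]
      _ = t * (t * u * z) := by group
      _ = t * (z * u) := by rw [h1]
      _ = t * (z * u) := rfl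
      _ = (t * z) * u := by group
      _ = z * t * u := by
        have h5 : t * z = z * t := by
          -- `z` commutes with `t = u²`
          have h6 : z * (u * u) = (u * u) * z := by
            calc z * (u * u) = (z * u) * u := by group
              _ = t * u * z * u := by rw [h1]
              _ = t * u * (z * u) := by group
              _ = t * u * (t * u * z) := by rw [h1]
              _ = t * (u * t) * u * z := by group
              _ = t * (t * u) * u * z := by rw [h3]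
              _ = (t * t) * (u * u) * z := by group
              _ = (u * u) * z := by rw [htt, one_mul]
          rw [huu] at h6
          exact h6.symm
        rw [h5]
  rw [h4, mul_inv_cancel_right]

theorem TI.conj_z (hti : TI Om z t) (h : WM Om) (hL : Mem Om t L) (hx : As L z x) (hu : u ∈ L)
    (huu : u * u = t) (hxu : x * u ≠ u * x) : u * z * u⁻¹ = z * t :=
  As.conj_z hL h hx ((hti.symm h).sq_of_as h hL hx) hu huu hxu

/-- `u y u⁻¹ = x^{±1} y` -/
theorem TI.conj_y (hti : TI Om z t) (h : WM Om) (hK : Mem Om z K) (hL : Mem Om t L) (hy : As K t y) (hx : As L z x)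
    (hu : u ∈ L) (huu : u * u = t) (hxu : x * u ≠ u * x) :
    u * y * u⁻¹ = x * y ∨ u * y * u⁻¹ = t * (x * y) := by
  obtain ⟨-, h1, h2⟩ := hti.rot h hK hL hy hx
  have hxx := (hti.symm h).sq_of_as h hL hx
  have ht : t * u = u * t := (hL.comm_z h hu).symm
  have htx : t * x = x * t := (hL.comm_z h hx.1).symm
  have htt := hL.inZ.z2 h
  have h3 : x * u * x⁻¹ = t * u := hL.anti h hu huu hx.1 hxx (fun h3 => hxu h3.symm)
  have h4 : x * u = t * u * x := by rwa [mul_inv_eq_iff_eq_mul] at h3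
  have h5 : t * (t * (x * y)) = x * y := by rw [← mul_assoc, htt, one_mul]
  have hxu' : u * x = t * (x * u) := by
    rw [h4]
    calc u * x = (t * t) * u * x := by rw [htt, one_mul]
      _ = _ := by group
  rcases h2 u hu huu hxu with h6 | h6
  · -- `y u = x u y`
    right
    rw [mul_inv_eq_iff_eq_mul] at h6 ⊢
    calc u * y = (t * t) * (u * y) := by rw [htt, one_mul]
      _ = t * (t * (x * x)⁻¹) * (x * x) * (u * y) := by group
      _ = t * (t * t⁻¹) * (x * x) * (u * y) := by rw [hxx]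
      _ = t * x * (x * u * y) := by group
      _ = t * x * (y * u) := by rw [h6]
      _ = t * (x * y) * u := by group
  · left
    rw [mul_inv_eq_iff_eq_mul] at h6 ⊢
    calc u * y = (t * t) * (u * y) := by rw [htt, one_mul]
      _ = (x * x) * t * (u * y) := by rw [hxx]
      _ = x * (x * t) * (u * y) := by group
      _ = x * (t * x) * (u * y) := by rw [htx]
      _ = x * (t * (x * u) * y) := by group
      _ = x * (y * u) := by rw [h6]
      _ = x * y * u := by group

/-! ### The third involution -/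

theorem TI.mul_right (hti : TI Om z t) (h : WM Om) : TI Om z (z * t) := by
  obtain ⟨K, hK⟩ := hti.inZ
  obtain ⟨y, hy, hyy⟩ := hti.exists_as h hK
  obtain ⟨v, hv, hvv, hyv⟩ := hK.exists_nc h hy.1 hyy
  have h1 := (hti.symm h).conj_z h hK hy hv hvv hyv
  have h2 := hti.conj h v
  rw [h1, hK.comm_z h hv, mul_inv_cancel_right, ← hti.comm] at h2
  exact h2

theorem TI.mul_left (hti : TI Om z t) (h : WM Om) : TI Om t (z * t) := by
  have := (hti.symm h).mul_right h
  rwa [← hti.comm] at this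

theorem TI.inZ_mul (hti : TI Om z t) (h : WM Om) : InZ Om (z * t) := (hti.mul_right h).inT

/-! ### (H) -/

/-- `V = {1, z, t, zt}` -/
def VV (z t v : G) : Prop := v = 1 ∨ v = z ∨ v = t ∨ v = z * t

theorem VV.one : VV z t 1 := Or.inl rfl

/-- elements of `V` are trivial on all members over `z`, or act as `t` on all members -/
theorem VV.act {v : G} (hv : VV z t v) (hti : TI Om z t) (h : WM Om) :
    (∀ K, Mem Om z K → As K v 1) ∨ (∀ K, Mem Om z K → ∀ y, As K t y → As K v y) := by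
  rcases hv with rfl | rfl | rfl | rfl
  · exact Or.inl fun K _ => As.self (one_mem _)
  · exact Or.inl fun K hK => hK.as_z h
  · exact Or.inr fun K _ y hy => hy
  · refine Or.inr fun K hK y hy => ?_
    have := (hK.as_z h).mul hy
    rwa [one_mul] at this

/-! ### `R_z` -/

/-- an element of `R_z` which centralises both members is `1` or `z` -/
theorem RZ_center (h : WM Om) (hz : InZ Om z) (hr : g ∈ RZ Om z) (hc : ∀ K, Mem Om z K → As K g 1) :
    g = 1 ∨ g = z := by
  obtain ⟨K, hK⟩ := hz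
  obtain ⟨L, hL, hne, -⟩ := hK.other h
  obtain ⟨k, hk, l, hl, rfl⟩ := (mem_RZ hK hL h hne).1 hr
  have h1 : As K (k * l) k := by
    have := (As.self hk).mul (hK.as_one hL h hne hl)
    rwa [mul_one] at this
  have h2 : As L (k * l) l := by
    have := (hL.as_one hK h hne.symm hk).mul (As.self hl)
    rwa [one_mul] at this
  have hzz := hK.inZ.z2 h
  rcases hK.as_center h h1 (hc K hK) with h3 | h3 <;> rcases hL.as_center h h2 (hc L hL) with h4 | h4 <;>
    rw [h3, h4] <;> simp [hzz]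

/-- two elements of `R_z` with the same action on all members -/
theorem eq_or_of_as (h : WM Om) (hz : InZ Om z) (hg : g ∈ RZ Om z) (hn : n ∈ RZ Om z)
    (hc : ∀ K, Mem Om z K → ∃ y, As K g y ∧ As K n y) : n = g ∨ n = z * g := by
  have h1 : n * g⁻¹ ∈ RZ Om z := mul_mem hn (inv_mem hg)
  rcases RZ_center h hz h1 fun K hK => by
    obtain ⟨y, h2, h3⟩ := hc K hK
    have := h3.mul h2.inv
    rwa [mul_inv_cancel] at this with h2 | h2
  · left; exact mul_inv_eq_one.1 h2
  · right; rw [mul_inv_eq_iff_eq_mul] at h2; exact h2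

/-- `t ∈ Z ∩ R_z`, `t ≠ z` is of type I -/
theorem TI.of_mem_RZ (h : WM Om) (hz : InZ Om z) (ht : InZ Om t) (hne : z ≠ t) (hr : t ∈ RZ Om z) : TI Om z t := by
  refine ⟨hz, ht, hne, (RZ_le_centralizer h hr).symm, Inn.of_RZ hz h hr, fun K hK hc => ?_⟩
  rcases RZ_center h hz hr (fun M hM => As.one_iff.2 (InZ.cent_all hK ht h hne hc hM)) with h1 | h1
  · exact ht.z1 h h1
  · exact hne h1.symm

theorem exists_as_of_inn (h : WM Om) (hK : Mem Om z K) (hi : Inn Om z g) : ∃ y, As K g y := by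
  obtain ⟨a, qa⟩ := h.exists_q3 hK
  rcases qa.inner_cases (hi K hK) with h1 | ⟨j, h1⟩
  · exact ⟨1, one_mem _, fun k hk => by rw [h1 k hk]; group⟩
  · exact ⟨a j, qa.mem j, h1⟩

theorem exists_as_of_mem (h : WM Om) (hK : Mem Om z K) (hg : g ∈ RZ Om z) : ∃ y, As K g y :=
  exists_as_of_inn h hK (Inn.of_RZ hK.inZ h hg)

theorem VV.mem_of {v : G} (hv : VV z t v) (hz : InZ Om z) (h : WM Om) (ht : t ∈ RZ Om z) : v ∈ RZ Om z := by
  rcases hv with rfl | rfl | rfl | rfl
  · exact one_mem _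
  · exact z_mem_RZ hz h
  · exact ht
  · exact mul_mem (z_mem_RZ hz h) ht

theorem VV.mul {v w : G} (hzz : z * z = 1) (htt : t * t = 1) (hzt : z * t = t * z) (hv : VV z t v) (hw : VV z t w) :
    VV z t (v * w) := by
  have e1 : ∀ g : G, z * (z * g) = g := fun g => by rw [← mul_assoc, hzz, one_mul]
  have e2 : ∀ g : G, t * (t * g) = g := fun g => by rw [← mul_assoc, htt, one_mul]
  have e3 : ∀ g : G, t * (z * g) = z * (t * g) := fun g => by rw [← mul_assoc, ← hzt, mul_assoc]
  rcases hv with rfl | rfl | rfl | rfl <;> rcases hw with rfl | rfl | rfl | rfl <;>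
    simp only [VV, one_mul, mul_one, mul_assoc, hzz, htt, e1, e3, ← hzt, true_or, or_true]

end

end Cfsg.Agent.Cit.Nil.RTwoM
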