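import Cfsg.Agent.Cit.Nil.RTwoM.URed

/-!
# S1309, (6b), (C3), `r = 2`, `m ≥ 4`, `LAMBDA0` : `(*_C)`

* `exists_conj_CS_ZS` : `x ∈ Z(s)`, `s ∈ T_S` : some `C(s)`-conjugate of `x` is in `C_S`;
* `exists_B` : `B = {k · k^n : k ∈ K}`, `n` a swap at `z`;
* `UC` : `x ∈ Z(s)`, `x' ∈ Z(s')` do not commute, `s, s' ∈ T_S#`, `|C_S| ≥ 4`; `UC.false`;
* **`starC_of_four`** : (AN), (AN*), `LAMBDA0`, (C3), `m ≥ 4` give `(*_C)`.
-/

set_option autoImplicit false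
set_option linter.style.haveILetI false
set_option linter.unusedSectionVars false

namespace Cfsg.Agent.Cit.Nil.RTwoM

open Subgroup Cfsg Cfsg.Agent.Cit

open RG (WR CP Ov InO Tr)
open RI (CS)

variable {G : Type*} [Group G] {Om : Set (Subgroup G)} {K L M : Subgroup G}
  {a b c d e g k l n n' r s s' t u v w x x' y z z₁ z₂ z₃ : G}

section Fin

variable [Finite G]

/-- `x ∈ Z(s)` : some `C(s)`-conjugate of `x` is in `C_S` -/
theorem exists_conj_CS_ZS (h : WM Om) (S : Sylow 2 G) (hs : s ∈ TT Om (S : Subgroup G)) (hx : x ∈ ZS Om s) :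
    ∃ g, g * s = s * g ∧ g * x * g⁻¹ ∈ CS Om (S : Subgroup G) := by
  haveI : Fact (Nat.Prime 2) := ⟨Nat.prime_two⟩
  have hS := S.isPGroup'
  have hP0 : IsPGroup 2 ((S : Subgroup G) ⊓ centralizer {s} : Subgroup G) := hS.to_le inf_le_left
  obtain ⟨Q, hQ, hPQ⟩ := LB.exists_syl_ge hP0 (inf_le_right : _ ≤ centralizer {s})
  obtain ⟨S₁, hS₁⟩ := exists_sylow h hx.1
  have hR : IsPGroup 2 (RZ Om x) := S₁.isPGroup'.to_le (CS.RZ_le hS₁ h)
  have hRs : RZ Om x ≤ centralizer {s} := RTwoM.RZ_le fun M hM => Mem.le_cent hM hx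
  obtain ⟨Q', hQ', hRQ'⟩ := LB.exists_syl_ge hR hRs
  obtain ⟨g, hg, hgQ⟩ := hQ'.exists_conj hQ
  have hgs := mem_centralizer_singleton_iff.1 hg
  obtain ⟨S', hS'⟩ := hQ.2.1.exists_le_sylow
  refine ⟨g, hgs, ?_⟩
  obtain ⟨M, hM⟩ := hx.1
  have hy : g * x * g⁻¹ ∈ CS Om (S' : Subgroup G) := by
    refine ⟨cj g M, hM.cj h g, le_trans ?_ hS'⟩
    rw [← hgQ]
    exact cj_mono g (hM.le_RZ.trans hRQ')
  have hsub : ∀ z ∈ CS Om (S : Subgroup G), z ∈ CS Om (S' : Subgroup G) := by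
    intro z hz
    obtain ⟨K, hK⟩ := CS.inZ hz
    refine ⟨K, hK, ((le_inf (CS.le hz h hK) ?_).trans hPQ).trans hS'⟩
    exact Mem.le_cent hK (CS_subset_ZS h hS hs hz)
  refine mem_CS_of_clique h S (hx.1.conj h g) fun z hz => ?_
  by_cases hne : z = g * x * g⁻¹
  · exact Or.inl hne
  · exact Or.inr (CS.cp (hsub z hz) h S'.isPGroup' hy hne)

/-- `B = {k · k^n : k ∈ K}` -/
theorem exists_B (h : WM Om) (hK : Mem Om z K) (hs : Swp Om z n) :
    ∃ B : Subgroup G, (∀ g ∈ B, ∃ k ∈ K, g = qq n k) ∧ 4 ≤ Nat.card B ∧ B ≤ RZ Om z ∧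
      ∀ g ∈ B, g ∈ CX Om z → g = 1 := by
  let f : K →* G := MonoidHom.mk' (fun k : K => qq n (k : G)) fun a b => qq_mul hs h hK a.2 b.2
  have hmem : ∀ g, g ∈ f.range → ∃ k ∈ K, g = qq n k := by
    rintro _ ⟨k, rfl⟩
    exact ⟨k, k.2, rfl⟩
  have hmem' : ∀ k ∈ K, qq n k ∈ f.range := fun k hk => ⟨⟨k, hk⟩, rfl⟩
  have hinj : ∀ k ∈ K, qq n k ∈ CX Om z → qq n k = 1 := by
    intro k hk hc
    rcases hK.as_center h (hs.as_qq h hK hk).1 (As.one_iff.2 (mem_CX.1 hc K hK)) with h1 | h1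
    · rw [h1, qq_one]
    · rw [h1, qq_z hs hK.inZ h]
  refine ⟨f.range, hmem, ?_, ?_, ?_⟩
  · obtain ⟨q, hq⟩ := h.exists_q3 hK
    have ha := hq.mem 0
    have haa := hq.sq 0
    obtain ⟨b, hb, hbb, hab⟩ := hK.exists_nc h ha haa
    have h1 : ∀ {k : G}, k ∈ K → k * k = z → qq n k ≠ 1 := by
      intro k hk hkk h1
      have h2 := (hs.as_qq h hK hk).1
      rw [h1] at h2
      exact hK.not_as_one h h2 hkk (As.self (one_mem _))
    refine four_le (hmem' _ ha) (hmem' _ hb) (h1 ha haa) (h1 hb hbb) ?_ (qq_sq hs h hK hb)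
    intro h2
    have h3 := (hs.as_qq h hK hb).1
    rw [h2] at h3
    rcases hK.as_unique h (hs.as_qq h hK ha).1 h3 with h4 | h4
    · exact hab (by rw [h4])
    · exact hab (by rw [h4, ← mul_assoc, ← hK.comm_z h ha, mul_assoc])
  · intro g hg
    obtain ⟨k, hk, rfl⟩ := hmem g hg
    exact qq_mem hs h hK hk
  · intro g hg hc
    obtain ⟨k, hk, rfl⟩ := hmem g hg
    exact hinj k hk hc

/-- **Case II** : `x ∈ Z(s)`, `x' ∈ Z(s')` do not commute, `s, s' ∈ T_S#` -/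
structure UC (Om : Set (Subgroup G)) (S : Sylow 2 G) (s s' x x' : G) : Prop where
  w : WM Om
  l0 : L0 Om
  ant : ANT Om
  ans : ANS Om
  c3 : C3E Om
  hs : s ∈ TT Om (S : Subgroup G)
  hs1 : s ≠ 1
  hs' : s' ∈ TT Om (S : Subgroup G)
  hs1' : s' ≠ 1
  hx : x ∈ ZS Om s
  hx' : x' ∈ ZS Om s'
  nc : x * x' ≠ x' * x
  four : 4 ≤ (CS Om (S : Subgroup G)).ncard

namespace UC

variable {S : Sylow 2 G}

theorem symm (c : UC Om S s s' x x') : UC Om S s' s x' x :=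
  ⟨c.w, c.l0, c.ant, c.ans, c.c3, c.hs', c.hs1', c.hs, c.hs1, c.hx', c.hx, c.nc.symm, c.four⟩

theorem an (c : UC Om S s s' x x') : ANt Om s := c.ant S s c.hs c.hs1

theorem pg (_ : UC Om S s s' x x') : IsPGroup 2 (S : Subgroup G) := S.isPGroup'

theorem cmN (c : UC Om S s s' x x') (hg : g ∈ NZ Om s) (hl : l ∈ NZ Om s) : g * l = l * g := NZ_comm c.w c.l0 c.an hg hl

theorem cmT (c : UC Om S s s' x x') (ht : t ∈ TT Om (S : Subgroup G)) : t * x = x * t :=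
  c.cmN (TT_le_NZ_of c.w S c.hs ht) (mem_NZ c.hx)

theorem nmem (c : UC Om S s s' x x') : x ∉ CS Om (S : Subgroup G) := fun h1 => c.nc (c.symm.cmT (CS.mem_TT h1))

theorem ne (c : UC Om S s s' x x') (hz : z ∈ CS Om (S : Subgroup G)) : z ≠ x := fun h1 => c.nmem (h1 ▸ hz)

/-- an element of `C_S` outside a set with at most 3 elements -/
theorem pick (c : UC Om S s s' x x') (A : Finset G) (hA : A.card ≤ 3) : ∃ z ∈ CS Om (S : Subgroup G), z ∉ A := by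
  have h1 : (A : Set G).ncard < (CS Om (S : Subgroup G)).ncard := by
    rw [Set.ncard_coe_finset]; exact lt_of_le_of_lt hA c.four
  obtain ⟨z, hz, hzA⟩ := Set.exists_mem_notMem_of_ncard_lt_ncard h1 (Set.toFinite _)
  exact ⟨z, hz, hzA⟩

/-- the types at `z` and at `x` -/
theorem types (c : UC Om S s s' x x') (hz : z ∈ CS Om (S : Subgroup G)) :
    CP Om z x ∨ TI Om z x ∨ (Swp Om z x ∧ Swp Om x z) := by
  have hzs := CS_subset_ZS c.w c.pg c.hs hz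
  have nil := nilS_ZS' c.w c.l0 c.an
  rcases tri c.w hzs.1 c.hx.1 (c.ne hz) (c.cmT (CS.mem_TT hz)) with h1 | h1 | h1
  · exact Or.inl h1
  · exact Or.inr (Or.inl h1)
  · refine Or.inr (Or.inr ⟨?_, ?_⟩)
    · exact h1.1.cases.resolve_right (nil.not_ff c.w hzs (subset_closure c.hx))
    · exact h1.2.cases.resolve_right (nil.not_ff c.w c.hx (subset_closure hzs))

/-- at most one element of `C_S` is C to `x` -/
theorem cp_unique (c : UC Om S s s' x x') (h1 : z₁ ∈ CS Om (S : Subgroup G)) (h2 : z₂ ∈ CS Om (S : Subgroup G))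
    (n12 : z₁ ≠ z₂) (c1 : CP Om z₁ x) (c2 : CP Om z₂ x) : False := by
  classical
  obtain ⟨z₃, h3, n3⟩ := c.pick {z₁, z₂} (Finset.card_le_two.trans (by norm_num))
  obtain ⟨z₄, h4, n4⟩ := c.pick {z₁, z₂, z₃} Finset.card_le_three
  simp only [Finset.mem_insert, Finset.mem_singleton, not_or] at n3 n4
  exact c.ans.at_most_one c.w c.l0 c.pg h1 h2 h3 h4 n12 (Ne.symm n3.1) (Ne.symm n4.1) (Ne.symm n3.2) (Ne.symm n4.2.1)
    (Ne.symm n4.2.2) c.hx'.1 c.hx.1 c.nc.symm (c.symm.cmT (CS.mem_TT h1)).symm (c.symm.cmT (CS.mem_TT h2)).symm c1 c2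

/-- some element of `C_S` is a swap at `x` -/
theorem exists_swp_x (c : UC Om S s s' x x') : ∃ z ∈ CS Om (S : Subgroup G), Swp Om x z := by
  classical
  by_contra hcon
  push Not at hcon
  have key : ∀ z ∈ CS Om (S : Subgroup G), CP Om z x ∨ TI Om x z := by
    intro z hz
    rcases c.types hz with h1 | h1 | h1
    · exact Or.inl h1
    · exact Or.inr (h1.symm c.w)
    · exact absurd h1.2 (hcon z hz)
  have hC : ∃ z₀ : G, ∀ z ∈ CS Om (S : Subgroup G), z ≠ z₀ → TI Om x z := by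
    by_cases h1 : ∃ z₀ ∈ CS Om (S : Subgroup G), CP Om z₀ x
    · obtain ⟨z₀, hz₀, h1⟩ := h1
      exact ⟨z₀, fun z hz hne => (key z hz).resolve_left fun h2 => c.cp_unique hz hz₀ hne h2 h1⟩
    · push Not at h1
      exact ⟨1, fun z hz _ => (key z hz).resolve_left (h1 z hz)⟩
  obtain ⟨z₀, hz₀⟩ := hC
  obtain ⟨z₁, h1, n1⟩ := c.pick {z₀} (by simp)
  obtain ⟨z₂, h2, n2⟩ := c.pick {z₀, z₁} (Finset.card_le_two.trans (by norm_num))
  obtain ⟨z₃, h3, n3⟩ := c.pick {z₀, z₁, z₂} Finset.card_le_three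
  simp only [Finset.mem_insert, Finset.mem_singleton, not_or] at n1 n2 n3
  rcases link_three c.w c.pg h1 h2 h3 (Ne.symm n2.2) (hz₀ _ h1 n1) (hz₀ _ h2 n2.1) (hz₀ _ h3 n3.1) with h4 | h4
  · exact n3.2.1 h4
  · exact n3.2.2 h4

/-- `z ∈ C_S` not C to `x` : `Z(s)` contains a swap at `z` -/
theorem exists_n (c : UC Om S s s' x x') (hz : z ∈ CS Om (S : Subgroup G)) (hnc : ¬ CP Om z x) :
    ∃ n ∈ ZS Om s, Swp Om z n := by
  have h := c.w
  rcases c.types hz with h1 | h1 | h1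
  · exact absurd h1 hnc
  swap
  · exact ⟨x, c.hx, h1.1⟩
  obtain ⟨p, hp, hsw⟩ := c.exists_swp_x
  have hzs := CS_subset_ZS h c.pg c.hs hz
  obtain ⟨M, hM⟩ := c.hx.1
  obtain ⟨K, hK⟩ := hzs.1
  obtain ⟨u, hu, -, hux, huz⟩ := h1.exists_mv h hM
  obtain ⟨v, hv, -, hvz, hvx⟩ := (h1.symm h).exists_mv h hK
  -- `u z u⁻¹ = z x`, `v x v⁻¹ = x z`
  have hus : u * s = s * u := ZS_RZ c.hx (hM.le_RZ hu)
  have hvs : v * s = s * v := ZS_RZ hzs (hK.le_RZ hv)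
  have hgs : (u⁻¹ * v) * s = s * (u⁻¹ * v) := by
    have h2 : u⁻¹ * s = s * u⁻¹ := by
      rw [inv_mul_eq_iff_eq_mul, ← mul_assoc, hus, mul_inv_cancel_right]
    rw [mul_assoc, hvs, ← mul_assoc, h2, mul_assoc]
  have hxx := c.hx.1.z2 h
  have h3 : (u⁻¹ * v) * x * (u⁻¹ * v)⁻¹ = z := by
    have h4 : (u⁻¹ * v) * x * (u⁻¹ * v)⁻¹ = u⁻¹ * (v * x * v⁻¹) * u := by group
    have h5 : u⁻¹ * (x * z) * u = z := by
      have h6 : x * z = u * z * u⁻¹ := by rw [huz, h1.comm]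
      rw [h6]; group
    rw [h4, hvx, h5]
  refine ⟨(u⁻¹ * v) * p * (u⁻¹ * v)⁻¹, ZS_conj h (CS_subset_ZS h c.pg c.hs hp) hgs, ?_⟩
  have h4 := hsw.conj h (u⁻¹ * v)
  rwa [h3] at h4

/-- `k · k^n ∈ N_s` -/
theorem qq_NZ (c : UC Om S s s' x x') (hz : z ∈ CS Om (S : Subgroup G)) (hK : Mem Om z K) (hn : n ∈ ZS Om s)
    (hsw : Swp Om z n) (hk : k ∈ K) : qq n k ∈ NZ Om s := by
  have h := c.w
  have hzs := CS_subset_ZS h c.pg c.hs hz
  have h1 := (LJ h (mem_NZ hn) hsw.1 (hK.le_RZ hk) (ZS_RZ hzs (hK.le_RZ hk))).1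
  have h2 : qq n k = (n * k * n⁻¹ * k⁻¹) * (k * k) := by
    rw [qq, hsw.cm h hK hk hk]; group
  rw [h2]
  refine mul_mem h1 ?_
  rcases hK.sq_cases h hk with h3 | h3 | h3
  · rw [h3, mul_one]; exact one_mem _
  · rw [h3, hK.inZ.z2 h]; exact one_mem _
  · rw [h3]; exact mem_NZ hzs

/-- `x'` centralises `k · k^n` -/
theorem qq_comm' (c : UC Om S s s' x x') (hz : z ∈ CS Om (S : Subgroup G)) (hK : Mem Om z K) (hn : n ∈ ZS Om s)
    (hsw : Swp Om z n) (hk : k ∈ K) : qq n k * x' = x' * qq n k := by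
  have h := c.w
  have c' := c.symm
  by_cases hcp : CP Om z x'
  · exact cp_RZ h hcp (qq_mem hsw h hK hk) (z_mem_RZ c'.hx.1 h)
  · obtain ⟨n', hn', hsw'⟩ := c'.exists_n hz hcp
    refine c'.cmN ?_ (mem_NZ c'.hx)
    have h1 := c'.qq_NZ hz hK hn' hsw' hk
    have hzs' := CS_subset_ZS h c.pg c.hs' hz
    rcases line h c.c3 S hz hK (NZ_le_oP h c.l0 c.ant S c.hs c.hs1 (mem_NZ hn)) hsw
      (NZ_le_oP h c.l0 c.ant S c.hs' c.hs1' (mem_NZ hn')) hsw' hk with h2 | h2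
    · rw [qq, h2]; exact h1
    · have h3 : qq n k = z * qq n' k := by
        rw [qq, qq, h2, ← mul_assoc, hK.comm_z h hk, mul_assoc]
      rw [h3]
      exact mul_mem (mem_NZ hzs') h1

/-- the induction step -/
theorem grow (c : UC Om S s s' x x') (hz : z ∈ CS Om (S : Subgroup G)) (hnc : ¬ CP Om z x) {E : Subgroup G}
    (hE : E ≤ NZ Om s) (hx' : ∀ g ∈ E, g * x' = x' * g) (hEz : E ≤ CX Om z) :
    ∃ F, E ≤ F ∧ F ≤ NZ Om s ∧ (∀ g ∈ F, g * x' = x' * g) ∧ 4 * Nat.card E ≤ Nat.card F ∧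
      ∀ w ∈ CS Om (S : Subgroup G), w ≠ z → E ≤ CX Om w → F ≤ CX Om w := by
  have h := c.w
  obtain ⟨n, hn, hsw⟩ := c.exists_n hz hnc
  obtain ⟨K, hK⟩ := CS.inZ hz
  obtain ⟨B, hB, hB4, hBR, hB1⟩ := exists_B h hK hsw
  refine ⟨E ⊔ B, le_sup_left, sup_le hE ?_, ?_, ?_, ?_⟩
  · intro g hg
    obtain ⟨k, hk, rfl⟩ := hB g hg
    exact c.qq_NZ hz hK hn hsw hk
  · have h1 : E ⊔ B ≤ centralizer {x'} := by
      refine sup_le (fun g hg => mem_centralizer_singleton_iff.2 (hx' g hg)) fun g hg => ?_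
      obtain ⟨k, hk, rfl⟩ := hB g hg
      exact mem_centralizer_singleton_iff.2 (c.qq_comm' hz hK hn hsw hk)
    exact fun g hg => mem_centralizer_singleton_iff.1 (h1 hg)
  · have h1 : E ⊓ B = ⊥ := by
      rw [eq_bot_iff]
      intro g hg
      rw [mem_bot]
      exact hB1 g hg.2 (hEz hg.1)
    have h2 := mul_card_le h1 (le_sup_left : E ≤ E ⊔ B) le_sup_right
    calc 4 * Nat.card E = Nat.card E * 4 := Nat.mul_comm _ _
      _ ≤ Nat.card E * Nat.card B := Nat.mul_le_mul_left _ hB4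
      _ ≤ _ := h2
  · intro w hw hne hEw
    exact sup_le hEw (hBR.trans (RZ_le_CX h (CS.cp hz h c.pg hw hne.symm)))

theorem T8 (c : UC Om S s s' x x') : 8 ≤ Nat.card (TT Om (S : Subgroup G)) := by
  refine eight_of_five (fun a ha => TT_sq c.w c.pg ha) ?_
  have h1 : insert (1 : G) (CS Om (S : Subgroup G)) ⊆ (TT Om (S : Subgroup G) : Set G) := by
    rintro t (rfl | ht)
    · exact one_mem _
    · exact CS.mem_TT ht
  have h2 := Set.ncard_le_ncard h1 (Set.toFinite _)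
  rw [Set.ncard_insert_of_notMem (fun h3 => (CS.inZ h3).z1 c.w rfl) (Set.toFinite _)] at h2
  have h3 : (TT Om (S : Subgroup G) : Set G).ncard = Nat.card (TT Om (S : Subgroup G)) := rfl
  have := c.four
  omega

/-- **Case II is impossible for `m ≥ 4`** -/
theorem false (c : UC Om S s s' x x') : False := by
  classical
  have h := c.w
  have hT8 := c.T8
  have hTN := TT_le_NZ_of h S c.hs
  have hTx : ∀ g ∈ TT Om (S : Subgroup G), g * x' = x' * g := fun g hg => c.symm.cmT hg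
  have hTz : ∀ z ∈ CS Om (S : Subgroup G), TT Om (S : Subgroup G) ≤ CX Om z := fun z hz t ht => TT_cx h c.pg hz ht
  have hsq : ∀ {E : Subgroup G}, E ≤ NZ Om s → ∀ a ∈ E, a * a = 1 := fun hE a ha => NZ_sq h c.l0 c.an (hE ha)
  have hcx : ∀ {E : Subgroup G}, E ≤ NZ Om s → ∀ u ∈ ZS Om s, ∀ g ∈ E, g * u = u * g := fun hE u hu g hg =>
    c.cmN (hE hg) (mem_NZ hu)
  by_cases hC : ∃ z ∈ CS Om (S : Subgroup G), CP Om z x
  · obtain ⟨z₁, h1, c1⟩ := hC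
    have hn : ∀ z ∈ CS Om (S : Subgroup G), z ≠ z₁ → ¬ CP Om z x := fun z hz hne h2 => c.cp_unique hz h1 hne h2 c1
    obtain ⟨z₂, h2, n2⟩ := c.pick {z₁} (by simp)
    obtain ⟨z₃, h3, n3⟩ := c.pick {z₁, z₂} (Finset.card_le_two.trans (by norm_num))
    obtain ⟨z₄, h4, n4⟩ := c.pick {z₁, z₂, z₃} Finset.card_le_three
    simp only [Finset.mem_insert, Finset.mem_singleton, not_or] at n2 n3 n4
    obtain ⟨F₂, -, N2, X2, C2, W2⟩ := c.grow h2 (hn _ h2 n2) hTN hTx (hTz _ h2)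
    obtain ⟨F₃, -, N3, X3, C3, W3⟩ := c.grow h3 (hn _ h3 n3.1) N2 X2 (W2 _ h3 n3.2 (hTz _ h3))
    obtain ⟨F₄, -, N4, X4, C4, W4⟩ := c.grow h4 (hn _ h4 n4.1) N3 X3
      (W3 _ h4 n4.2.2 (W2 _ h4 n4.2.1 (hTz _ h4)))
    have hz1 : F₄ ≤ CX Om z₁ := W4 _ h1 (Ne.symm n4.1) (W3 _ h1 (Ne.symm n3.1) (W2 _ h1 (Ne.symm n2) (hTz _ h1)))
    have i16 := idx16 h c.hx.1 (hsq N4) (hcx N4 x c.hx)
    have i8 := c.ans.fb h c.l0 (CS.inZ h1) c.hx.1 c1 c.hx'.1 c.nc.symm (F := F₄ ⊓ CX Om x)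
      (fun a ha b hb => c.cmN (N4 ha.1) (N4 hb.1)) (fun a ha => hsq N4 a ha.1) (fun g hg => X4 g hg.1)
      (inf_le_left.trans hz1) inf_le_right
    omega
  · push Not at hC
    obtain ⟨z₁, h1, -⟩ := c.pick ∅ (by simp)
    obtain ⟨z₂, h2, n2⟩ := c.pick {z₁} (by simp)
    obtain ⟨z₃, h3, n3⟩ := c.pick {z₁, z₂} (Finset.card_le_two.trans (by norm_num))
    obtain ⟨z₄, h4, n4⟩ := c.pick {z₁, z₂, z₃} Finset.card_le_three
    simp only [Finset.mem_insert, Finset.mem_singleton, not_or] at n2 n3 n4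
    obtain ⟨F₁, L1, N1, X1, C1, W1⟩ := c.grow h1 (hC _ h1) hTN hTx (hTz _ h1)
    obtain ⟨F₂, L2, N2, X2, C2, W2⟩ := c.grow h2 (hC _ h2) N1 X1 (W1 _ h2 n2 (hTz _ h2))
    obtain ⟨F₃, L3, N3, X3, C3, W3⟩ := c.grow h3 (hC _ h3) N2 X2 (W2 _ h3 n3.2 (W1 _ h3 n3.1 (hTz _ h3)))
    obtain ⟨F₄, L4, N4, X4, C4, W4⟩ := c.grow h4 (hC _ h4) N3 X3
      (W3 _ h4 n4.2.2 (W2 _ h4 n4.2.1 (W1 _ h4 n4.1 (hTz _ h4))))
    -- `v ∈ Z(s)` C to `x`
    obtain ⟨g, hg, hgx⟩ := exists_conj_CS_ZS h S c.hs c.hx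
    obtain ⟨y', hy', ny⟩ := c.pick {g * x * g⁻¹} (by simp)
    rw [Finset.mem_singleton] at ny
    have hginv : g⁻¹ * s = s * g⁻¹ := by
      rw [inv_mul_eq_iff_eq_mul, ← mul_assoc, hg, mul_inv_cancel_right]
    have hv : g⁻¹ * y' * g⁻¹⁻¹ ∈ ZS Om s := ZS_conj h (CS_subset_ZS h c.pg c.hs hy') hginv
    have hvx : CP Om (g⁻¹ * y' * g⁻¹⁻¹) x := by
      have h5 := cp_conj h (CS.cp hy' h c.pg hgx ny) g⁻¹
      rwa [show g⁻¹ * (g * x * g⁻¹) * g⁻¹⁻¹ = x by group] at h5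
    obtain ⟨p, hp, hsw⟩ := c.exists_swp_x
    have hpF : p ∈ F₄ := L4 (L3 (L2 (L1 (CS.mem_TT hp))))
    have i8 := idx8 h c.hx.1 (hsq N4) (hcx N4 x c.hx) hpF hsw
    have N5 : F₄ ⊓ CX Om x ≤ NZ Om s := inf_le_left.trans N4
    have i16 := idx16 h hv.1 (hsq N5) (hcx N5 _ hv)
    have j8 := c.ans.fb h c.l0 hv.1 c.hx.1 hvx c.hx'.1 c.nc.symm
      (F := F₄ ⊓ CX Om x ⊓ CX Om (g⁻¹ * y' * g⁻¹⁻¹))
      (fun a ha b hb => c.cmN (N4 ha.1.1) (N4 hb.1.1)) (fun a ha => hsq N4 a ha.1.1) (fun g hg => X4 g hg.1.1)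
      inf_le_right (inf_le_left.trans inf_le_right)
    omega

end UC

/-- **`(*_C)` for `m ≥ 4`** -/
theorem starC_of_four (h : WM Om) (l0 : L0 Om) (ant : ANT Om) (ans : ANS Om) (c3 : C3E Om) (S : Sylow 2 G)
    (h4 : 4 ≤ (CS Om (S : Subgroup G)).ncard) : ∀ x y, InZ Om x → InZ Om y → NCS Om (S : Subgroup G) x →
    NCS Om (S : Subgroup G) y → x * y = y * x := by
  classical
  intro x y hx hy hxn hyn
  by_contra hxy
  have hS := S.isPGroup'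
  have pick : ∀ A : Finset G, A.card ≤ 3 → ∃ z ∈ CS Om (S : Subgroup G), z ∉ A := by
    intro A hA
    have h1 : (A : Set G).ncard < (CS Om (S : Subgroup G)).ncard := by
      rw [Set.ncard_coe_finset]; exact lt_of_le_of_lt hA h4
    obtain ⟨z, hz, hzA⟩ := Set.exists_mem_notMem_of_ncard_lt_ncard h1 (Set.toFinite _)
    exact ⟨z, hz, hzA⟩
  obtain ⟨z₁, h1, -⟩ := pick ∅ (by simp)
  obtain ⟨z₂, h2, n2⟩ := pick {z₁} (by simp)
  obtain ⟨z₃, h3, n3⟩ := pick {z₁, z₂} (Finset.card_le_two.trans (by norm_num))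
  simp only [Finset.mem_insert, Finset.mem_singleton, not_or] at n2 n3
  have hT8 : 8 ≤ Nat.card (TT Om (S : Subgroup G)) := by
    refine eight_of_five (fun a ha => TT_sq h hS ha) ?_
    have h1 : insert (1 : G) (CS Om (S : Subgroup G)) ⊆ (TT Om (S : Subgroup G) : Set G) := by
      rintro t (rfl | ht)
      · exact one_mem _
      · exact CS.mem_TT ht
    have h2 := Set.ncard_le_ncard h1 (Set.toFinite _)
    rw [Set.ncard_insert_of_notMem (fun h3 => (CS.inZ h3).z1 h rfl) (Set.toFinite _)] at h2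
    have h3 : (TT Om (S : Subgroup G) : Set G).ncard = Nat.card (TT Om (S : Subgroup G)) := rfl
    omega
  have cx : ∀ z ∈ CS Om (S : Subgroup G), x * z = z * x := fun z hz => comm_CS_of_NCS h l0 hS hx hxn hz
  have cy : ∀ z ∈ CS Om (S : Subgroup G), y * z = z * y := fun z hz => comm_CS_of_NCS h l0 hS hy hyn hz
  obtain ⟨s, hs, hs1, w, hw, hwy⟩ := red h l0 ant S hx cx h1 h2 h3 (Ne.symm n2) (Ne.symm n3.1) (Ne.symm n3.2) hT8 hxy
  obtain ⟨s', hs', hs1', w', hw', hww⟩ := red h l0 ant S hy cy h1 h2 h3 (Ne.symm n2) (Ne.symm n3.1) (Ne.symm n3.2) hT8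
    (Ne.symm hwy)
  exact UC.false (S := S) (s := s) (s' := s') (x := w) (x' := w')
    ⟨h, l0, ant, ans, c3, hs, hs1, hs', hs1', hw, hw', Ne.symm hww, h4⟩

/-- `(*_C)` for `m ≥ 4` -/
theorem StarC.of_four (h : WM Om) (l0 : L0 Om) (ant : ANT Om) (ans : ANS Om) (c3 : C3E Om)
    (h4 : ∀ S : Sylow 2 G, 4 ≤ (CS Om (S : Subgroup G)).ncard) : StarC Om := fun S =>
  starC_of_four h l0 ant ans c3 S (h4 S)

end Fin

end Cfsg.Agent.Cit.Nil.RTwoM
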