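import Cfsg.Agent.Cit.Nil.RTwoM.UReg
import Cfsg.Agent.Cit.Nil.RTwoM.U.Bridge

/-!
# S1309, (6b), (C3), `r = 2`, any `m`, `LAMBDA0` (helper762's uniform proof): 4.1 from `h, l0, an, oc, rot, sw`

* `exists_mul_NZ` : `(x, z)` type I, `u` a swap at `x`, `(z, u)` a C-pair: `x ∈ R_z N_z`;
* **`ROneAR.of`** : (R1a), the form for REG;
* **`regSW_of`** : `RegSW Om`.
-/

set_option autoImplicit false
set_option linter.style.haveILetI false
set_option linter.unusedSectionVars false
set_option linter.unusedVariables false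

namespace Cfsg.Agent.Cit.Nil.RTwoM

open Subgroup Cfsg Cfsg.Agent.Cit

open RTwo (Q3)
open RG (WR CP Ov InO Tr)
open RI (CS)

variable {G : Type*} [Group G] {Om : Set (Subgroup G)} {K L M : Subgroup G}
  {a b c d e g k l n q r s t u v w x y z : G}

section Fin

variable [Finite G]

/-- `x ∈ R_z N_z` -/
theorem exists_mul_NZ (h : WM Om) (hu : InZ Om u) (hzu : CP Om z u) (hti : TI Om x z)
    (hs : Swp Om x u) : ∃ c ∈ RZ Om z, c * x ∈ NZ Om z := by
  have hx := hti.inZ
  have hz := hti.inT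
  have hxx := hx.z2 h
  have huu := hu.z2 h
  obtain ⟨K, hK⟩ := hx
  obtain ⟨a, ha, haa⟩ := hti.exists_as h hK
  have haz : a * z = z * a := ha.comm.symm
  have hux : u * x = x * u := hs.1
  have huz : u * z = z * u := (cp_comm h hz hu hzu).symm
  have hL := hs.mem h hK
  have hne := hs.ne hK
  have hza' : As (cj u K) z (u * a * u⁻¹) := ha.conj_comm huz
  have hua : u * a * u⁻¹ ∈ cj u K := conj_mem_cj ha.1
  have huaa : (u * a * u⁻¹) * (u * a * u⁻¹) = x := by
    calc (u * a * u⁻¹) * (u * a * u⁻¹) = u * (a * a) * u⁻¹ := by group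
      _ = x := by rw [haa, hux, mul_inv_cancel_right]
  obtain ⟨b', hb'⟩ : ∃ b', b' = x * qq u a := ⟨_, rfl⟩
  have hb'c : u * a * u⁻¹ * a⁻¹ = b' := by rw [hb', swp_commutator h hK hs ha.1 haa]
  have hqx : qq u a ∈ RZ Om x := qq_mem hs h hK ha.1
  have hb'x : b' ∈ RZ Om x := by rw [hb']; exact mul_mem (z_mem_RZ hK.inZ h) hqx
  have hu' : u⁻¹ = u := inv_eq_of_mul_eq_one_right huu
  have huD : u ∈ ZS Om z := A0_subset h hz ⟨hu, hzu⟩
  have hwD : a * u * a⁻¹ ∈ ZS Om z := ZS_conj h huD haz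
  have hb'w : a * u * a⁻¹ = u * b' := by
    rw [← hb'c, hu']
    have h1 : a * u * a⁻¹ = u * (u * a * u * a⁻¹) := by
      calc a * u * a⁻¹ = (u * u) * a * u * a⁻¹ := by rw [huu, one_mul]
        _ = _ := by group
    exact h1
  have hb'N : b' ∈ NZ Om z := by
    have h1 : b' = u⁻¹ * (a * u * a⁻¹) := by rw [hb'w, inv_mul_cancel_left]
    rw [h1]
    exact mul_mem (inv_mem (mem_NZ huD)) (mem_NZ hwD)
  have hb'z : b' ∈ CX Om z := NZ_le_CX h hz hb'N
  have hqas := hs.as_qq h hK ha.1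
  -- `z b' ∈ X_x`
  have hzb : z * b' ∈ CX Om x := by
    rw [mem_CX]
    have key : ∀ {L : Subgroup G} {l : G}, Mem Om x L → As L z l → As L (qq u a) l → l * l = x → ∀ k ∈ L,
        z * b' * k = k * (z * b') := by
      intro L l hL h1 h2 h3 k hk
      have h4 := h1.mul ((hL.as_z h).mul h2)
      rw [one_mul, h3, ← hb'] at h4
      have h5 := h4.2 k hk
      rw [← hL.comm_z h hk, mul_inv_cancel_right, mul_inv_eq_iff_eq_mul] at h5
      exact h5
    intro M hM k hk
    rcases hK.cases hL h hne hM with rfl | rfl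
    · exact key hK ha hqas.1 haa k hk
    · exact key hL hza' hqas.2 huaa k hk
  -- `x b' ∈ R_z`
  have hzz := hz.z2 h
  have hxb : x * b' ∈ RZ Om z := by
    rcases hti.dich h with h1 | ⟨q, hqx', hqz, hqq, hzq, hxq⟩
    · have h2 := (hti.symm h).mem_symm h (by exact hti.mem_symm h ((hti.symm h).mem_symm h h1))
      have h3 : z ∈ RZ Om x := (hti.symm h).mem_symm h h1
      have h4 : z * b' = 1 ∨ z * b' = x := RZ_CX h hK.inZ (mul_mem h3 hb'x) hzb
      rcases h4 with h4 | h4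
      · have h5 : b' = z := by rw [← hz.inv h]; exact eq_inv_of_mul_eq_one_right h4
        rw [h5]
        exact mul_mem h1 (z_mem_RZ hz h)
      · exfalso
        apply hti.not_mem_CX h
        rw [← h4]
        exact mul_mem (z_mem_CX h) hb'z
    · have h4 : q⁻¹ * b' ∈ CX Om x := by
        have := mul_mem (inv_mem hzq) hzb
        rwa [show (z * q)⁻¹ * (z * b') = q⁻¹ * b' by group] at this
      rcases RZ_CX h hK.inZ (mul_mem (inv_mem hqx') hb'x) h4 with h5 | h5
      · exfalso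
        rw [inv_mul_eq_one] at h5
        rw [h5] at hxq
        apply hti.not_mem_CX h
        have := mul_mem hxq (inv_mem hb'z)
        rwa [mul_inv_cancel_right] at this
      · rw [inv_mul_eq_iff_eq_mul] at h5
        have h6 : x * b' = q := by
          rw [h5, ← mul_assoc, ← RZ_le_centralizer h hqx', mul_assoc, hxx, mul_one]
        rw [h6]; exact hqz
  refine ⟨x * b', hxb, ?_⟩
  have h1 : x * b' * x = b' := by
    rw [mul_assoc, RZ_le_centralizer h hb'x, ← mul_assoc, hxx, one_mul]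
  rw [h1]
  exact hb'N

/-- **(R1a)**, the form for REG -/
theorem ROneAR.of (h : WM Om) (l0 : L0 Om) (an : ANT Om) : ROneAR Om := by
  intro S x z u hx h4 o
  have hS := S.isPGroup'
  have hzZ := CS.inZ o.hz
  have huZ := CS.inZ o.hu
  have hzu : z ≠ u := by
    rintro rfl
    exact o.sw.not_cases h hx.1 hzZ (Or.inr (Or.inr (o.ti.symm h)))
  have hcp : CP Om z u := CS.cp o.hz h hS o.hu hzu
  have hz1 : z ≠ 1 := hzZ.z1 h
  have hzT := CS.mem_TT o.hz
  have hfo : ∀ e, InZ Om e → CP Om z e → CP Om u e → e = z * u := by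
    intro e he hze hue
    obtain ⟨P, hzP, huP, heP⟩ := exists_sylow_of_three h hzZ huZ he hcp hze hue
    have h4' : Nat.card (TT Om (P : Subgroup G)) = 4 := by rw [card_TT_eq h S P, h4]
    rcases TT_eq_of_four h P h4' hzP huP hzu (CS.mem_TT heP) with h2 | h2 | h2 | h2
    · exact absurd h2 (he.z1 h)
    · exact absurd h2.symm hze.1
    · exact absurd h2.symm hue.1
    · exact h2
  rcases r_one_a h l0 (an S z hzT hz1) huZ hcp o.ti o.sw hfo with
    h1 | ⟨y, hy, a, k, ha, haz, hk, -, hyk, h1, -⟩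
  · left
    exact NZ_le_AAS hzT hz1 h1
  · right
    refine ⟨exists_mul_NZ h huZ hcp o.ti o.sw, a, k, ha, haz, hk, ?_⟩
    rw [← hyk]
    exact h1.2

/-- **4.1** -/
theorem regSW_of (h : WM Om) (l0 : L0 Om) (an : ANT Om) (oc : OneCl Om)
    (two : ∀ S : Sylow 2 G, ∃ z u, z ∈ CS Om (S : Subgroup G) ∧ u ∈ CS Om (S : Subgroup G) ∧ z ≠ u)
    (rot : ∀ S : Sylow 2 G, RotS Om (S : Subgroup G)) (sw : SW Om) : RegSW Om :=
  regSW h l0 an oc rot sw (RZero.of h l0 an two) (ROneAR.of h l0 an)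

end Fin

end Cfsg.Agent.Cit.Nil.RTwoM
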