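import Cfsg.Agent.Cit.Nil.RTwoM.NilZ
import Cfsg.Agent.Cit.Nil.RTwoM.EndX
import Cfsg.Agent.Cit.Nil.RTwoM.ANBound
import Cfsg.Agent.OddOrderLocal.NilParts

/-!
# S1309, (6b), (C3), `r = 2`, any `m`, `LAMBDA0` : the swaps in `O₂(C(T_S))` at a point of `C_S` have one line

* `exists_fixed_axis` : a 2-group normalising a member fixes an axis;
* `exists_ncs` : Frattini: `g ∈ C(z)`, `z ∈ C_S` : some `c ∈ C(R_z)`, `c g` normalises `C_S`;
* `fix_axes` : an element of `O₂(C(T_S))` which normalises the member `K` over `z ∈ C_S` fixes all axes of `K`;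
* `NZ_le_oP` : `N_s ≤ O₂(C(T_S))`, `s ∈ T_S#`;
* `line` : two swaps `n`, `n'` at `z ∈ C_S`, `n ∈ Z(s)`, `n' ∈ Z(s')`, `s, s' ∈ T_S#`, have the same centraliser in `R_z`.
-/

set_option autoImplicit false
set_option linter.style.haveILetI false
set_option linter.unusedSectionVars false

namespace Cfsg.Agent.Cit.Nil.RTwoM

open Subgroup Cfsg Cfsg.Agent.Cit

open RTwo (Q3 Act)
open RG (WR CP Ov InO Tr)
open RI (CS)
open Cfsg.Agent.OddOrderLocal.NilParts

variable {G : Type*} [Group G] {Om : Set (Subgroup G)} {K L M : Subgroup G}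
  {a b c d e g k l n n' r s s' t u v w x y z : G}

section Fin

variable [Finite G]

/-- **a 2-group normalising `K` fixes an axis** -/
theorem exists_fixed_axis (h : WM Om) (hK : Mem Om z K) {x : Fin 3 → G} (q : Q3 K z x) {H : Subgroup G}
    (hH : IsPGroup 2 H) (hn : ∀ g ∈ H, cj g K = K) :
    ∃ i, ∀ g ∈ H, g * x i * g⁻¹ = x i ∨ g * x i * g⁻¹ = z * x i := by
  haveI : Fact (Nat.Prime 2) := ⟨Nat.prime_two⟩
  have hz : ∀ g ∈ H, g * z = z * g := fun g hg => hK.of_cj h (hn g hg)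
  have hex : ∀ g : H, ∃ σ : Equiv.Perm (Fin 3), Act z x x (g : G) σ := fun g =>
    q.exists_act q (hn g g.2) (hz g g.2)
  choose σ hσ using hex
  have hmul : ∀ g g' : H, σ (g * g') = σ g * σ g' := fun g g' =>
    (hσ (g * g')).unique q ((hσ g').comp q.z2 (hσ g) (hz g g.2))
  have hone : σ 1 = 1 := (hσ 1).unique q (Act.one x z)
  let φ : H →* Equiv.Perm (Fin 3) := ⟨⟨σ, hone⟩, hmul⟩
  letI : MulAction H (Fin 3) := MulAction.compHom (Fin 3) φ
  obtain ⟨i, hi⟩ := hH.nonempty_fixed_point_of_prime_not_dvd_card (Fin 3) (by simp)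
  refine ⟨i, fun g hg => ?_⟩
  have h1 : σ ⟨g, hg⟩ i = i := hi ⟨g, hg⟩
  have h2 := hσ ⟨g, hg⟩ i
  rwa [h1] at h2

/-- the image of an axis under an element of `C(z)` normalising `K` -/
theorem exists_axis (hK : Mem Om z K) {x : Fin 3 → G} (q : Q3 K z x) (hg : g * z = z * g) (hgK : cj g K = K)
    (i : Fin 3) : ∃ j, g * x i * g⁻¹ = x j ∨ g * x i * g⁻¹ = z * x j := by
  obtain ⟨σ, hσ⟩ := q.exists_act q hgK hg
  exact ⟨σ i, hσ i⟩

/-- two fixed axes: all axes are fixed -/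
theorem fix_of_two (h : WM Om) (hK : Mem Om z K) {x : Fin 3 → G} (q : Q3 K z x) (hgK : cj g K = K) {i j : Fin 3}
    (hij : i ≠ j) (hi : g * x i * g⁻¹ = x i ∨ g * x i * g⁻¹ = z * x i)
    (hj : g * x j * g⁻¹ = x j ∨ g * x j * g⁻¹ = z * x j) (hk : k ∈ K) :
    g * k * g⁻¹ = k ∨ g * k * g⁻¹ = z * k := by
  have hgz : g * z = z * g := hK.of_cj h hgK
  obtain ⟨σ, hσ⟩ := q.exists_act q hgK hgz
  have key : ∀ l, (g * x l * g⁻¹ = x l ∨ g * x l * g⁻¹ = z * x l) → σ l = l := by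
    intro l hl
    rcases hσ l with h1 | h1 <;> rcases hl with h2 | h2
    · exact q.inj (Or.inl (h1.symm.trans h2))
    · exact q.inj (Or.inr (h1.symm.trans h2))
    · exact (q.inj (Or.inr (h2.symm.trans h1))).symm
    · exact q.inj (Or.inl (mul_left_cancel (h1.symm.trans h2)))
  have h1 : ∀ (τ : Equiv.Perm (Fin 3)) (i j : Fin 3), i ≠ j → τ i = i → τ j = j → ∀ l, τ l = l := by decide
  have h2 := h1 σ i j hij (key i hi) (key j hj)
  rcases q.cov k hk with rfl | rfl | ⟨l, rfl | rfl⟩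
  · left; group
  · left; rw [hgz, mul_inv_cancel_right]
  · have h3 := hσ l
    rwa [h2 l] at h3
  · have h3 := hσ l
    rw [h2 l] at h3
    have h4 : g * (z * x l) * g⁻¹ = z * (g * x l * g⁻¹) := by
      calc g * (z * x l) * g⁻¹ = (g * z) * x l * g⁻¹ := by group
        _ = _ := by rw [hgz]; group
    rw [h4]
    rcases h3 with h3 | h3
    · left; rw [h3]
    · right; rw [h3]

/-! ### Frattini -/

/-- **Frattini** -/
theorem exists_ncs (h : WM Om) (S : Sylow 2 G) (hz : z ∈ CS Om (S : Subgroup G)) (hg : g * z = z * g) :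
    ∃ c ∈ CX Om z, ∀ u ∈ CS Om (S : Subgroup G), c * g * u * (c * g)⁻¹ ∈ CS Om (S : Subgroup G) := by
  haveI : Fact (Nat.Prime 2) := ⟨Nat.prime_two⟩
  have hzi := CS.inZ hz
  have hP0 : IsPGroup 2 ((S : Subgroup G) ⊓ CX Om z : Subgroup G) := S.isPGroup'.to_le inf_le_left
  obtain ⟨Q, hQ, hPQ⟩ := LB.exists_syl_ge hP0 (inf_le_right : _ ≤ CX Om z)
  -- `Q R_z` is a 2-group
  have hR : IsPGroup 2 (RZ Om z) := S.isPGroup'.to_le (CS.RZ_le hz h)
  have hPP : IsPGroup 2 (Q ⊔ RZ Om z : Subgroup G) := by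
    refine IsPGroup.to_sup_of_normal_right' hQ.2.1 hR ?_
    intro a ha
    rw [mem_normalizer_iff]
    intro b
    constructor
    · intro hb
      rw [CX_comm hb (hQ.1 ha), mul_inv_cancel_right]
      exact hb
    · intro hb
      have h1 := CX_comm hb (inv_mem (hQ.1 ha))
      have h2 : b = a⁻¹ * (a * b * a⁻¹) * a := by group
      rw [h2, h1, inv_mul_cancel_right]
      exact hb
  obtain ⟨P, hP⟩ := hPP.exists_le_sylow
  -- the members of `Q`
  have hsub : ∀ u ∈ CS Om (S : Subgroup G), u ≠ z → ∀ L, Mem Om u L → L ≤ Q := by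
    intro u hu hne L hL
    refine (le_inf (CS.le hu h hL) ?_).trans hPQ
    exact hL.le_RZ.trans (RZ_le_CX h (CS.cp hz h S.isPGroup' hu hne.symm).symm)
  have hsub2 : ∀ u ∈ CS Om (S : Subgroup G), u ∈ CS Om (P : Subgroup G) := by
    intro u hu
    obtain ⟨L, hL⟩ := CS.inZ hu
    refine ⟨L, hL, ?_⟩
    by_cases hne : u = z
    · subst hne
      exact hL.le_RZ.trans (le_sup_right.trans hP)
    · exact (hsub u hu hne L hL).trans (le_sup_left.trans hP)
  have hCS : ∀ w ∈ CS Om (P : Subgroup G), w ∈ CS Om (S : Subgroup G) := by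
    intro w hw
    refine mem_CS_of_clique h S (CS.inZ hw) fun u hu => ?_
    by_cases hne : u = w
    · exact Or.inl hne
    · exact Or.inr (CS.cp (hsub2 u hu) h P.isPGroup' hw hne)
  have hQz : ∀ L, Mem Om z L → ¬ L ≤ Q := by
    intro L hL hLQ
    obtain ⟨a, ha, b, hb, hab⟩ := RZ_ncomm h hL
    exact hab (mem_CX.1 (hQ.1 (hLQ ha)) L hL b hb)
  -- conjugation
  have hcj : cj g (CX Om z) = CX Om z := by
    ext t
    rw [mem_cj]
    have h1 := CX_conj h g (x := g⁻¹ * t * g) (z := z)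
    rw [hg, mul_inv_cancel_right] at h1
    rw [← h1]
    have h2 : g * (g⁻¹ * t * g) * g⁻¹ = t := by group
    rw [h2]
  have hQg : Syl (cj g Q) (CX Om z) := by
    have h1 := hQ.cj g
    rwa [hcj] at h1
  obtain ⟨c, hc, hcQ⟩ := hQg.exists_conj hQ
  refine ⟨c, hc, fun u hu => ?_⟩
  have hcg : cj (c * g) Q = Q := by rw [cj_mul]; exact hcQ
  by_cases hne : u = z
  · subst hne
    have h1 : c * g * u * (c * g)⁻¹ = u := by
      calc c * g * u * (c * g)⁻¹ = c * (g * u * g⁻¹) * c⁻¹ := by group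
        _ = u := by rw [hg, mul_inv_cancel_right, CX_le hzi h hc, mul_inv_cancel_right]
    rw [h1]
    exact hz
  · obtain ⟨L, hL⟩ := CS.inZ hu
    have hL' := hL.cj h (c * g)
    refine hCS _ ⟨_, hL', ?_⟩
    have h1 : cj (c * g) L ≤ Q := by
      rw [← hcg]
      exact cj_mono _ (hsub u hu hne L hL)
    exact h1.trans (le_sup_left.trans hP)

/-- an element normalising `C_S` normalises `T_S` -/
theorem norm_TT {S : Subgroup G} (hg : NCS Om S g) : g ∈ normalizer (TT Om S : Set G) := by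
  refine mem_normalizer_fintype fun n hn => ?_
  have h1 : TT Om S ≤ (TT Om S).comap (MulAut.conj g).toMonoidHom :=
    (closure_le _).2 fun u hu => subset_closure (hg u hu)
  exact h1 hn

/-- **an element of `O₂(C(T_S))` normalising the member `K` over `z ∈ C_S` fixes every axis of `K`** -/
theorem fix_axes (h : WM Om) (c3 : C3E Om) (S : Sylow 2 G) (hz : z ∈ CS Om (S : Subgroup G)) (hK : Mem Om z K)
    (hn : n ∈ oP 2 (centralizer (TT Om (S : Subgroup G) : Set G))) (hnK : cj n K = K) (hk : k ∈ K) :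
    n * k * n⁻¹ = k ∨ n * k * n⁻¹ = z * k := by
  obtain ⟨x, q⟩ := h.exists_q3 hK
  obtain ⟨H, hH⟩ : ∃ H, H = oP 2 (centralizer (TT Om (S : Subgroup G) : Set G)) ⊓ normalizer (K : Set G) := ⟨_, rfl⟩
  have hHp : IsPGroup 2 H := by
    rw [hH]; exact (isPGroup_oP 2 _).to_le inf_le_left
  have hHK : ∀ g ∈ H, cj g K = K := fun g hg => by
    rw [hH] at hg
    exact mem_normalizer_iff_cj.1 hg.2
  obtain ⟨i, hi⟩ := exists_fixed_axis h hK q hHp hHK
  obtain ⟨g, hgz, hgK, hg1, hg2⟩ := c3 z K hK (x i) (q.mem i) (q.sq i)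
  obtain ⟨c, hc, hcg⟩ := exists_ncs h S hz hgz
  have hcK : cj c K = K := (Inn.of_CX hc).cj_eq hK h
  have hmK : cj (c * g) K = K := by rw [cj_mul, hgK, hcK]
  have hmz : (c * g) * z = z * (c * g) := hK.of_cj h hmK
  have hax : (c * g) * x i * (c * g)⁻¹ = g * x i * g⁻¹ := by
    have h1 : g * x i * g⁻¹ ∈ K := by
      rw [← hgK]; exact conj_mem_cj (q.mem i)
    calc (c * g) * x i * (c * g)⁻¹ = c * (g * x i * g⁻¹) * c⁻¹ := by group
      _ = _ := by rw [mem_CX.1 hc K hK _ h1, mul_inv_cancel_right]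
  obtain ⟨j, hj⟩ := exists_axis hK q hmz hmK i
  have hji : j ≠ i := by
    rintro rfl
    rw [hax] at hj
    rcases hj with hj | hj
    · exact hg1 hj
    · exact hg2 hj
  -- `c g` normalises `H`
  have hmT : c * g ∈ normalizer (oP 2 (centralizer (TT Om (S : Subgroup G) : Set G)) : Set G) :=
    normalizer_le_oP 2 _ (normalizer_le_normalizer_centralizer _ (norm_TT hcg))
  have hmH : ∀ m ∈ H, (c * g)⁻¹ * m * (c * g) ∈ H := by
    intro m hm
    rw [hH] at hm ⊢
    refine mem_inf.2 ⟨?_, ?_⟩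
    · have := (mem_normalizer_iff.1 (inv_mem hmT) m).1 hm.1
      rwa [inv_inv] at this
    · exact mul_mem (mul_mem (inv_mem (mem_normalizer_iff_cj.2 hmK)) hm.2) (mem_normalizer_iff_cj.2 hmK)
  have hnH : n ∈ H := by
    rw [hH]; exact ⟨hn, mem_normalizer_iff_cj.2 hnK⟩
  have hnz : n * z = z * n := hK.of_cj h hnK
  refine fix_of_two h hK q hnK hji ?_ (hi n hnH) hk
  have h2 := hi _ (hmH n hnH)
  have h3 : n * ((c * g) * x i * (c * g)⁻¹) * n⁻¹ =
      (c * g) * (((c * g)⁻¹ * n * (c * g)) * x i * ((c * g)⁻¹ * n * (c * g))⁻¹) * (c * g)⁻¹ := by group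
  have h4 : n * ((c * g) * x i * (c * g)⁻¹) * n⁻¹ = (c * g) * x i * (c * g)⁻¹ ∨
      n * ((c * g) * x i * (c * g)⁻¹) * n⁻¹ = z * ((c * g) * x i * (c * g)⁻¹) := by
    rw [h3]
    rcases h2 with h2 | h2
    · left; rw [h2]
    · right
      rw [h2]
      calc (c * g) * (z * x i) * (c * g)⁻¹ = ((c * g) * z) * x i * (c * g)⁻¹ := by group
        _ = _ := by rw [hmz]; group
  rcases hj with hj | hj
  · rwa [hj] at h4
  · rw [hj] at h4
    have h5 : n * (z * x j) * n⁻¹ = z * (n * x j * n⁻¹) := by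
      calc n * (z * x j) * n⁻¹ = (n * z) * x j * n⁻¹ := by group
        _ = _ := by rw [hnz]; group
    rw [h5] at h4
    rcases h4 with h4 | h4
    · exact Or.inl (mul_left_cancel h4)
    · exact Or.inr (mul_left_cancel h4)

/-- `T_S ≤ N_s`, `s ∈ T_S#` -/
theorem TT_le_NZ_of (h : WM Om) (S : Sylow 2 G) (hs : s ∈ TT Om (S : Subgroup G)) : TT Om (S : Subgroup G) ≤ NZ Om s :=
  (closure_le _).2 fun _ hu => mem_NZ (CS_subset_ZS h S.isPGroup' hs hu)

/-- `N_s ≤ O₂(C(T_S))`, `s ∈ T_S#` -/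
theorem NZ_le_oP (h : WM Om) (l0 : L0 Om) (ant : ANT Om) (S : Sylow 2 G) (hs : s ∈ TT Om (S : Subgroup G))
    (hs1 : s ≠ 1) : NZ Om s ≤ oP 2 (centralizer (TT Om (S : Subgroup G) : Set G)) := by
  have an := ant S s hs hs1
  refine le_oP ?_ ?_ ?_
  · intro y hy
    rw [mem_centralizer_iff]
    exact fun t ht => NZ_comm h l0 an (TT_le_NZ_of h S hs ht) hy
  · intro g
    refine ⟨1, ?_⟩
    have h1 := NZ_sq h l0 an g.2
    rw [pow_one, pow_two]
    exact Subtype.ext h1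
  · intro g hg
    refine mem_normalizer_fintype fun m hm => ?_
    exact NZ_conj h ((mem_centralizer_iff.1 hg s hs).symm) hm

/-- **two swaps of `O₂(C(T_S))` at `z ∈ C_S` agree up to `z`** -/
theorem line (h : WM Om) (c3 : C3E Om) (S : Sylow 2 G) (hz : z ∈ CS Om (S : Subgroup G)) (hK : Mem Om z K)
    (hn : n ∈ oP 2 (centralizer (TT Om (S : Subgroup G) : Set G))) (sn : Swp Om z n)
    (hn' : n' ∈ oP 2 (centralizer (TT Om (S : Subgroup G) : Set G))) (sn' : Swp Om z n') (hk : k ∈ K) :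
    n * k * n⁻¹ = n' * k * n'⁻¹ ∨ n * k * n⁻¹ = z * (n' * k * n'⁻¹) := by
  have hKK : cj (n'⁻¹ * n) K = K := by
    have h1 := hK.cases (sn'.mem h hK) h (sn'.ne hK) (sn.mem h hK)
    rcases h1 with h1 | h1
    · exact absurd h1.symm (sn.ne hK)
    · rw [cj_mul, h1, ← cj_mul, inv_mul_cancel, cj_one]
  have h2 := fix_axes h c3 S hz hK (mul_mem (inv_mem hn') hn) hKK hk
  have h3 : n * k * n⁻¹ = n' * (n'⁻¹ * n * k * (n'⁻¹ * n)⁻¹) * n'⁻¹ := by group
  rw [h3]
  rcases h2 with h2 | h2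
  · left; rw [h2]
  · right
    rw [h2]
    calc n' * (z * k) * n'⁻¹ = (n' * z) * k * n'⁻¹ := by group
      _ = _ := by rw [sn'.1]; group

end Fin

end Cfsg.Agent.Cit.Nil.RTwoM
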