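import Cfsg.Agent.Cit.Nil.RTwoM.UPsi
import Cfsg.Agent.Cit.Nil.RTwoM.NilZ

/-!
# S1309, (6b), (C3), `r = 2`, any `m`, `LAMBDA0`: the canonical `B_w` (helper762's uniform proof, 4.1 (a), (d))

* `Co Om w q K x y` : coordinates of the two members over `w` with respect to a swap `q`;
* `BW Om w q = C_{R_w}(q)`; `BW_NZ` : `= N_s ⊓ R_w` for `q ∈ Z(s)`; `BW_cent` : self-centralising in `R_w`;
* **`swp_line`** : two swaps, a rotation normalising both `C_{R_w}`: the same line.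
-/

set_option autoImplicit false
set_option linter.style.haveILetI false
set_option linter.unusedSectionVars false

namespace Cfsg.Agent.Cit.Nil.RTwoM

open Subgroup Cfsg Cfsg.Agent.Cit

open RTwo (Q3 Act i_ne1 i_ne2 i_ne12)
open RG (WR CP Ov InO Tr)
open RI (CS)

variable {G : Type*} [Group G] {Om : Set (Subgroup G)} {K L M : Subgroup G}
  {b c d g g' k l m n p q r s t u v w z : G} {x y : Fin 3 → G} {i j : Fin 3}

/-- coordinates of the members over `w`, `q` a swap -/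
structure Co (Om : Set (Subgroup G)) (w q : G) (K : Subgroup G) (x y : Fin 3 → G) : Prop where
  hK : Mem Om w K
  sw : Swp Om w q
  q2 : q * q = 1
  qx : Q3 K w x
  qy : Q3 (cj q K) w y
  yx : ∀ i, q * x i * q⁻¹ = y i
  xy : ∀ i, q * y i * q⁻¹ = x i

/-- `C_{R_w}(q)` -/
def BW (Om : Set (Subgroup G)) (w q : G) : Subgroup G := RZ Om w ⊓ centralizer {q}

theorem mem_BW : r ∈ BW Om w q ↔ r ∈ RZ Om w ∧ r * q = q * r := by
  rw [BW, mem_inf, mem_centralizer_singleton_iff]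

section Fin

variable [Finite G]

theorem exists_co (h : WM Om) (hK : Mem Om w K) (hs : Swp Om w q) (hq : q * q = 1) :
    ∃ x y, Co Om w q K x y := by
  obtain ⟨x, hx⟩ := h.exists_q3 hK
  refine ⟨x, fun i => q * x i * q⁻¹, hK, hs, hq, hx, hx.conj_comm hs.1, fun i => rfl, fun i => ?_⟩
  have hq' : q⁻¹ = q := inv_eq_of_mul_eq_one_right hq
  show q * (q * x i * q⁻¹) * q⁻¹ = x i
  calc q * (q * x i * q⁻¹) * q⁻¹ = (q * q) * x i * (q * q)⁻¹ := by group
    _ = x i := by rw [hq, one_mul, inv_one, mul_one]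

namespace Co

variable (o : Co Om w q K x y)

include o

theorem hL (h : WM Om) : Mem Om w (cj q K) := o.sw.mem h o.hK

theorem ne : K ≠ cj q K := o.sw.ne o.hK

theorem cm (h : WM Om) (i j : Fin 3) : x i * y j = y j * x i := o.hK.comm (o.hL h) h o.ne (o.qx.mem i) (o.qy.mem j)

theorem mem (h : WM Om) (i j : Fin 3) : x i * y j ∈ RZ Om w :=
  mul_mem (o.hK.le_RZ (o.qx.mem i)) ((o.hL h).le_RZ (o.qy.mem j))

theorem comm (h : WM Om) (i : Fin 3) : x i * y i * q = q * (x i * y i) := by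
  rw [← mul_inv_eq_iff_eq_mul.1 (show q * (x i * y i) * q⁻¹ = x i * y i by
    calc q * (x i * y i) * q⁻¹ = (q * x i * q⁻¹) * (q * y i * q⁻¹) := by group
      _ = y i * x i := by rw [o.yx, o.xy]
      _ = x i * y i := (o.cm h i i).symm)]

theorem mem_BW (h : WM Om) (i : Fin 3) : x i * y i ∈ BW Om w q := RTwoM.mem_BW.2 ⟨o.mem h i i, o.comm h i⟩

theorem w_mem (h : WM Om) : w ∈ BW Om w q := RTwoM.mem_BW.2 ⟨z_mem_RZ o.hK.inZ h, o.sw.1.symm⟩

theorem eq_of_comm (h : WM Om) (hc : x i * y j * q = q * (x i * y j)) : i = j := by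
  have h1 : q * (x i * y j) * q⁻¹ = x i * y j := by rw [← hc, mul_inv_cancel_right]
  have h2 : y i * x j = x i * y j := by
    rw [← h1]
    calc y i * x j = (q * x i * q⁻¹) * (q * y j * q⁻¹) := by rw [o.yx, o.xy]
      _ = _ := by group
  rw [← o.cm h j i] at h2
  have h3 : (x i)⁻¹ * x j = y j * (y i)⁻¹ := by
    rw [eq_mul_inv_iff_mul_eq, mul_assoc, h2, inv_mul_cancel_left]
  rcases o.hK.inf (o.hL h) h o.ne (mul_mem (inv_mem (o.qx.mem i)) (o.qx.mem j))
    (by rw [h3]; exact mul_mem (o.qy.mem j) (inv_mem (o.qy.mem i))) with h4 | h4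
  · exact o.qx.inj (Or.inl (inv_mul_eq_one.1 h4))
  · rw [inv_mul_eq_iff_eq_mul, ← o.qx.zc] at h4
    exact (o.qx.inj (Or.inr h4)).symm

/-- elements of `C_{R_w}(q)` -/
theorem cases (h : WM Om) (hr : r ∈ BW Om w q) : r = 1 ∨ r = w ∨ ∃ i, r = x i * y i ∨ r = w * (x i * y i) := by
  obtain ⟨hr, hrq⟩ := RTwoM.mem_BW.1 hr
  obtain ⟨k, hk, h1⟩ := o.sw.fix h o.q2 o.hK hr hrq.symm
  have hz := o.hK.inZ
  have hxi : ∀ i, qq q (x i) = x i * y i := fun i => by rw [RTwoM.qq, o.yx]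
  rcases o.qx.cov k hk with h2 | h2 | ⟨i, h2⟩
  · rw [h2, qq_one, mul_one] at h1
    rcases h1 with h1 | h1
    · exact Or.inl h1
    · exact Or.inr (Or.inl h1)
  · rw [h2, qq_z o.sw hz h, mul_one] at h1
    rcases h1 with h1 | h1
    · exact Or.inl h1
    · exact Or.inr (Or.inl h1)
  · right; right
    refine ⟨i, ?_⟩
    rcases h2 with h2 | h2
    · rwa [h2, hxi] at h1
    · rwa [h2, qq_mul o.sw h o.hK (o.hK.zmem h) (o.qx.mem i), qq_z o.sw hz h, one_mul, hxi] at h1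

theorem zxy (h : WM Om) (i j : Fin 3) : w * (x i * y j) = (x i * y j) * w := by
  rw [← mul_assoc, o.qx.zc, mul_assoc, o.qy.zc, mul_assoc]

theorem sq (h : WM Om) (i j : Fin 3) : x i * y j * (x i * y j) = 1 := by
  calc x i * y j * (x i * y j) = x i * (y j * x i) * y j := by group
    _ = (x i * x i) * (y j * y j) := by rw [← o.cm h]; group
    _ = 1 := by rw [o.qx.sq, o.qy.sq, o.qx.z2]

theorem comm_ii (h : WM Om) (i j : Fin 3) : x i * y i * (x j * y j) = x j * y j * (x i * y i) := by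
  by_cases hij : i = j
  · rw [hij]
  calc x i * y i * (x j * y j) = x i * (y i * x j) * y j := by group
    _ = (x i * x j) * (y i * y j) := by rw [← o.cm h]; group
    _ = (w * (x j * x i)) * (w * (y j * y i)) := by rw [o.qx.anti hij, o.qy.anti hij]; group
    _ = w * ((x j * x i) * w) * (y j * y i) := by group
    _ = w * (w * (x j * x i)) * (y j * y i) := by
      rw [show x j * x i * w = w * (x j * x i) by rw [mul_assoc, ← o.qx.zc, ← mul_assoc, ← o.qx.zc, mul_assoc]]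
    _ = (x j * x i) * (y j * y i) := by rw [o.qx.zzx]
    _ = x j * (x i * y j) * y i := by group
    _ = x j * (y j * x i) * y i := by rw [o.cm h]
    _ = _ := by group

theorem BW_comm (h : WM Om) (hr : r ∈ BW Om w q) (hs : s ∈ BW Om w q) : r * s = s * r := by
  have key : ∀ {s}, s ∈ BW Om w q → ∀ i, s * (x i * y i) = (x i * y i) * s := by
    intro s hs i
    rcases o.cases h hs with h1 | h1 | ⟨j, h1 | h1⟩
    · rw [h1, one_mul, mul_one]
    · rw [h1]; exact o.zxy h i i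
    · rw [h1]; exact o.comm_ii h j i
    · rw [h1, mul_assoc, o.comm_ii h j i, ← mul_assoc, o.zxy h i i, mul_assoc]
  have hw : ∀ {s}, s ∈ BW Om w q → s * w = w * s := fun hs =>
    RZ_le_centralizer h (RTwoM.mem_BW.1 hs).1
  rcases o.cases h hr with h1 | h1 | ⟨j, h1 | h1⟩
  · rw [h1, one_mul, mul_one]
  · rw [h1]; exact (hw hs).symm
  · rw [h1]; exact (key hs j).symm
  · rw [h1, mul_assoc, ← key hs j, ← mul_assoc, ← hw hs, mul_assoc]

theorem BW_sq (h : WM Om) (hr : r ∈ BW Om w q) : r * r = 1 := by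
  rcases o.cases h hr with h1 | h1 | ⟨j, h1 | h1⟩
  · rw [h1, one_mul]
  · rw [h1, o.qx.z2]
  · rw [h1]; exact o.sq h j j
  · rw [h1]
    calc w * (x j * y j) * (w * (x j * y j)) = w * ((x j * y j) * w) * (x j * y j) := by group
      _ = w * (w * (x j * y j)) * (x j * y j) := by rw [o.zxy h]
      _ = (x j * y j) * (x j * y j) := by rw [o.qx.zzx]
      _ = 1 := o.sq h j j

/-- `C_{R_w}(q)` is self-centralising -/
theorem BW_cent (h : WM Om) (hr : r ∈ RZ Om w) (hc : ∀ i, r * (x i * y i) = (x i * y i) * r) : r ∈ BW Om w q := by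
  obtain ⟨k, hk, l, hl, rfl⟩ := (mem_RZ o.hK (o.hL h) h o.ne).1 hr
  have kw := o.qx.zcomm hk
  have lw := o.qy.zcomm hl
  -- `[k, x i] = [l, y i]⁻¹`
  have hkl : ∀ i, (k * x i = x i * k ∧ l * y i = y i * l) ∨ (k * x i ≠ x i * k ∧ l * y i ≠ y i * l) := by
    intro i
    have ly : l * x i = x i * l := (o.hK.comm (o.hL h) h o.ne (o.qx.mem i) hl).symm
    have ky : k * y i = y i * k := o.hK.comm (o.hL h) h o.ne hk (o.qy.mem i)
    have h1 := hc i
    have h2 : (k * x i) * (l * y i) = (x i * k) * (y i * l) := by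
      calc (k * x i) * (l * y i) = k * (x i * l) * y i := by group
        _ = k * l * (x i * y i) := by rw [← ly]; group
        _ = x i * y i * (k * l) := h1
        _ = x i * (y i * k) * l := by group
        _ = _ := by rw [← ky]; group
    by_cases h3 : k * x i = x i * k
    · left
      refine ⟨h3, ?_⟩
      rw [h3] at h2
      exact mul_left_cancel h2
    · right
      refine ⟨h3, fun h4 => h3 ?_⟩
      rw [h4] at h2
      exact mul_right_cancel h2
  have xc : ∀ i j, x i * x j = x j * x i → i = j := by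
    intro i j hij
    by_contra hne
    have h1 := o.qx.sw hne
    rw [hij] at h1
    exact o.qx.zne _ h1.symm
  have yc : ∀ i j, y i * y j = y j * y i → i = j := by
    intro i j hij
    by_contra hne
    have h1 := o.qy.sw hne
    rw [hij] at h1
    exact o.qy.zne _ h1.symm
  have hkz : ∀ {k}, (k = 1 ∨ k = w) → ∀ i, k * x i = x i * k ∧ k * y i = y i * k := by
    rintro k (rfl | rfl) i
    · simp
    · exact ⟨o.qx.zc i, o.qy.zc i⟩
  have wB := o.w_mem h
  -- `k`, `l` in the centre, or not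
  rcases o.qx.cov k hk with hk1 | hk1 | ⟨a, hk1⟩
  · have hl1 : l = 1 ∨ l = w := by
      refine o.qy.center hl ?_ ?_
      · exact ((hkl 0).resolve_right fun h1 => h1.1 (hkz (Or.inl hk1) 0).1).2
      · exact ((hkl 1).resolve_right fun h1 => h1.1 (hkz (Or.inl hk1) 1).1).2
    rcases hl1 with hl1 | hl1
    · rw [hk1, hl1, one_mul]; exact one_mem _
    · rw [hk1, hl1, one_mul]; exact wB
  · have hl1 : l = 1 ∨ l = w := by
      refine o.qy.center hl ?_ ?_
      · exact ((hkl 0).resolve_right fun h1 => h1.1 (hkz (Or.inr hk1) 0).1).2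
      · exact ((hkl 1).resolve_right fun h1 => h1.1 (hkz (Or.inr hk1) 1).1).2
    rcases hl1 with hl1 | hl1
    · rw [hk1, hl1, mul_one]; exact wB
    · rw [hk1, hl1]; exact mul_mem wB wB
  · rcases o.qy.cov l hl with hl1 | hl1 | ⟨b, hl1⟩
    · exfalso
      have h1 : ∀ i, k * x i = x i * k := fun i =>
        ((hkl i).resolve_right fun h1 => h1.2 (hkz (Or.inl hl1) i).2).1
      have h2 : ∀ i, a = i := by
        intro i
        rcases hk1 with hk1 | hk1
        · exact xc a i (by rw [← hk1]; exact h1 i)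
        · have h3 := h1 i
          rw [hk1] at h3
          refine xc a i ?_
          have h4 : w * (x a * x i) = w * (x i * x a) := by
            calc w * (x a * x i) = w * x a * x i := by group
              _ = x i * (w * x a) := h3
              _ = (x i * w) * x a := by group
              _ = _ := by rw [← o.qx.zc]; group
          exact mul_left_cancel h4
      exact absurd ((h2 0).symm.trans (h2 1)) (by decide)
    · exfalso
      have h1 : ∀ i, k * x i = x i * k := fun i =>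
        ((hkl i).resolve_right fun h1 => h1.2 (hkz (Or.inr hl1) i).2).1
      have h2 : ∀ i, a = i := by
        intro i
        rcases hk1 with hk1 | hk1
        · exact xc a i (by rw [← hk1]; exact h1 i)
        · have h3 := h1 i
          rw [hk1] at h3
          refine xc a i ?_
          have h4 : w * (x a * x i) = w * (x i * x a) := by
            calc w * (x a * x i) = w * x a * x i := by group
              _ = x i * (w * x a) := h3
              _ = (x i * w) * x a := by group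
              _ = _ := by rw [← o.qx.zc]; group
          exact mul_left_cancel h4
      exact absurd ((h2 0).symm.trans (h2 1)) (by decide)
    · have h1 : k * x a = x a * k := by
        rcases hk1 with hk1 | hk1
        · rw [hk1]
        · rw [hk1, mul_assoc, ← mul_assoc (x a), ← o.qx.zc, mul_assoc]
      have h2 : l * y a = y a * l := ((hkl a).resolve_right fun h2 => h2.1 h1).2
      have h3 : b = a := by
        rcases hl1 with hl1 | hl1
        · exact yc b a (by rw [← hl1]; exact h2)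
        · rw [hl1] at h2
          refine yc b a ?_
          have h4 : w * (y b * y a) = w * (y a * y b) := by
            calc w * (y b * y a) = w * y b * y a := by group
              _ = y a * (w * y b) := h2
              _ = (y a * w) * y b := by group
              _ = _ := by rw [← o.qy.zc]; group
          exact mul_left_cancel h4
      subst h3
      have hxy := o.mem_BW h b
      rcases hk1 with hk1 | hk1 <;> rcases hl1 with hl1 | hl1
      · rw [hk1, hl1]; exact hxy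
      · rw [hk1, hl1, ← mul_assoc, ← o.qx.zc, mul_assoc]; exact mul_mem wB hxy
      · rw [hk1, hl1, mul_assoc]; exact mul_mem wB hxy
      · rw [hk1, hl1]
        have h4 : w * x b * (w * y b) = x b * y b := by
          calc w * x b * (w * y b) = w * (x b * w) * y b := by group
            _ = w * (w * x b) * y b := by rw [← o.qx.zc]
            _ = _ := by rw [o.qx.zzx]
        rw [h4]; exact hxy

/-- modulo `w` -/
theorem mod_mem (h : WM Om) {S : Subgroup G} (hw : w ∈ S) (ha : u = x i ∨ u = w * x i) (hb : v = y j ∨ v = w * y j) :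
    u * v ∈ S ↔ x i * y j ∈ S := by
  have e1 : w * x i * y j = w * (x i * y j) := mul_assoc _ _ _
  have e2 : x i * (w * y j) = w * (x i * y j) := by rw [← mul_assoc, ← o.qx.zc, mul_assoc]
  have e3 : w * x i * (w * y j) = x i * y j := by
    calc w * x i * (w * y j) = w * (x i * w) * y j := by group
      _ = w * (w * x i) * y j := by rw [← o.qx.zc]
      _ = _ := by rw [o.qx.zzx]
  rcases ha with rfl | rfl <;> rcases hb with rfl | rfl
  · exact Iff.rfl
  · rw [e2, S.mul_mem_cancel_left hw]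
  · rw [e1, S.mul_mem_cancel_left hw]
  · rw [e3]

theorem mod_mem' (h : WM Om) {S : Subgroup G} (hw : w ∈ S) (ha : u = x i ∨ u = w * x i) (hb : v = y j ∨ v = w * y j) :
    v * u ∈ S ↔ x i * y j ∈ S := by
  have h1 : v * u = u * v := by
    rcases ha with rfl | rfl <;> rcases hb with rfl | rfl
    · exact (o.cm h i j).symm
    · rw [mul_assoc, ← o.cm h, ← mul_assoc, ← mul_assoc, o.qx.zc]
    · rw [mul_assoc, o.cm h, ← mul_assoc, ← mul_assoc, o.qy.zc]
    · rw [o.qx.zc, o.qy.zc]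
      calc y j * w * (x i * w) = y j * (w * x i) * w := by group
        _ = y j * x i * (w * w) := by rw [o.qx.zc]; group
        _ = x i * y j * (w * w) := by rw [o.cm h]
        _ = x i * (y j * w) * w := by group
        _ = x i * (w * y j) * w := by rw [o.qy.zc]
        _ = _ := by group
  rw [h1]
  exact o.mod_mem h hw ha hb

theorem eq_of_mem (h : WM Om) (hc : x i * y j ∈ BW Om w q) : i = j := o.eq_of_comm h (RTwoM.mem_BW.1 hc).2

end Co


theorem w_mem_BW (h : WM Om) (hz : InZ Om w) (hs : Swp Om w q) : w ∈ BW Om w q :=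
  mem_BW.2 ⟨z_mem_RZ hz h, hs.1.symm⟩

/-- **two swaps have the same line** -/
theorem swp_line (h : WM Om) (o : Co Om w q K x y) (hp : Swp Om w p) (hpp : p * p = 1) (hd : Rot w K d)
    (d1 : ∀ r ∈ BW Om w q, d * r * d⁻¹ ∈ BW Om w q) (d2 : ∀ r ∈ BW Om w p, d * r * d⁻¹ ∈ BW Om w p)
    (d3 : ∀ r ∈ BW Om w q, p * r * p⁻¹ ∈ BW Om w q) : ∀ r ∈ BW Om w q, r ∈ BW Om w p := by
  have hL := o.hL h
  have hK := o.hK
  have hdw := hK.of_cj h hd.1
  have wq := o.w_mem h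
  have wp : w ∈ BW Om w p := w_mem_BW h hK.inZ hp
  have hdL : cj d (cj q K) = cj q K := by
    rcases cj_cases h hK hL o.ne hdw with h1 | h1
    · exact h1.2
    · exact absurd (hd.1.symm.trans h1.1) o.ne
  obtain ⟨hpK, hpL⟩ : cj p K = cj q K ∧ cj p (cj q K) = K := by
    rcases cj_cases h hK hL o.ne hp.1 with h1 | h1
    · exact absurd h1.1 (hp.2 K hK)
    · exact h1
  obtain ⟨δ, hδ⟩ := o.qx.exists_act o.qx hd.1 hdw
  obtain ⟨δ', hδ'⟩ := o.qy.exists_act o.qy hdL hdw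
  obtain ⟨σ, hσ⟩ := o.qx.exists_act o.qy hpK hp.1
  obtain ⟨τ, hτ⟩ := o.qy.exists_act o.qx hpL hp.1
  have hτσ : τ * σ = 1 := by
    have h1 := hσ.comp o.qx.z2 hτ hp.1
    rw [hpp] at h1
    exact h1.unique o.qx (Act.one x w)
  have e1 : δ = δ' := by
    ext i
    congr 1
    have h1 := d1 _ (o.mem_BW h i)
    have h2 : d * (x i * y i) * d⁻¹ = (d * x i * d⁻¹) * (d * y i * d⁻¹) := by group
    rw [h2, o.mod_mem h wq (hδ i) (hδ' i)] at h1
    exact o.eq_of_mem h h1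
  subst e1
  have e2 : σ = τ := by
    ext i
    congr 1
    have h1 := d3 _ (o.mem_BW h i)
    have h2 : p * (x i * y i) * p⁻¹ = (p * x i * p⁻¹) * (p * y i * p⁻¹) := by group
    rw [h2, o.mod_mem' h wq (hτ i) (hσ i)] at h1
    exact (o.eq_of_mem h h1).symm
  subst e2
  -- `x a y b ∈ BW p` iff `b = σ a`
  have key : ∀ a b, x a * y b ∈ BW Om w p → b = σ a := by
    intro a b hab
    have h1 : p * (x a * y b) * p⁻¹ = x a * y b := by rw [← (mem_BW.1 hab).2, mul_inv_cancel_right]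
    have h2 : p * (x a * y b) * p⁻¹ = (p * x a * p⁻¹) * (p * y b * p⁻¹) := by group
    have h3 : x a * y b = x (σ b) * y (σ a) ∨ x a * y b = w * (x (σ b) * y (σ a)) := by
      rw [h2] at h1
      rcases hσ a with h4 | h4 <;> rcases hτ b with h5 | h5 <;> rw [h4, h5] at h1
      · left; rw [← h1, o.cm h]
      · right
        rw [← h1]
        calc y (σ a) * (w * x (σ b)) = (y (σ a) * w) * x (σ b) := by group
          _ = w * (y (σ a) * x (σ b)) := by rw [← o.qy.zc]; group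
          _ = _ := by rw [o.cm h]
      · right
        rw [← h1]
        calc w * y (σ a) * x (σ b) = w * (y (σ a) * x (σ b)) := by group
          _ = _ := by rw [o.cm h]
      · left
        rw [← h1]
        calc w * y (σ a) * (w * x (σ b)) = w * (y (σ a) * w) * x (σ b) := by group
          _ = w * (w * y (σ a)) * x (σ b) := by rw [← o.qy.zc]
          _ = y (σ a) * x (σ b) := by rw [o.qx.zzx]
          _ = _ := by rw [o.cm h]
    have h6 : ∃ ε, (ε = 1 ∨ ε = w) ∧ x a * y b = ε * (x (σ b) * y (σ a)) := by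
      rcases h3 with h3 | h3
      · exact ⟨1, Or.inl rfl, by rw [one_mul]; exact h3⟩
      · exact ⟨w, Or.inr rfl, h3⟩
    obtain ⟨ε, hε, h7⟩ := h6
    have hεL : ε ∈ cj q K := by
      rcases hε with rfl | rfl
      · exact one_mem _
      · exact hL.zmem h
    have hεx : ε * x (σ b) = x (σ b) * ε := by
      rcases hε with rfl | rfl
      · rw [one_mul, mul_one]
      · exact o.qx.zc _
    have h8 : (x (σ b))⁻¹ * x a = ε * (y (σ a) * (y b)⁻¹) := by
      rw [inv_mul_eq_iff_eq_mul, ← mul_assoc, ← mul_assoc, ← hεx, eq_mul_inv_iff_mul_eq, h7]; group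
    rcases hK.inf hL h o.ne (mul_mem (inv_mem (o.qx.mem _)) (o.qx.mem a))
      (by rw [h8]; exact mul_mem hεL (mul_mem (o.qy.mem _) (inv_mem (o.qy.mem _)))) with h9 | h9
    · have h10 := o.qx.inj (Or.inl (inv_mul_eq_one.1 h9))
      rw [← h10]
      exact (Equiv.ext_iff.1 hτσ b).symm
    · rw [inv_mul_eq_iff_eq_mul, ← o.qx.zc] at h9
      have h10 := (o.qx.inj (Or.inr h9)).symm
      rw [← h10]
      exact (Equiv.ext_iff.1 hτσ b).symm
  have memp : ∀ a, x a * y (σ a) ∈ BW Om w p := by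
    intro a
    have h1 : qq p (x a) ∈ BW Om w p := mem_BW.2 ⟨qq_mem hp h hK (o.qx.mem a), (qq_comm hp h hpp hK (o.qx.mem a)).symm⟩
    rw [qq] at h1
    rwa [o.mod_mem h wp (Or.inl rfl) (hσ a)] at h1
  have e3 : δ * σ = σ * δ := by
    ext i
    congr 1
    have h1 := d2 _ (memp i)
    have h2 : d * (x i * y (σ i)) * d⁻¹ = (d * x i * d⁻¹) * (d * y (σ i) * d⁻¹) := by group
    rw [h2, o.mod_mem h wp (hδ i) (hδ' (σ i))] at h1
    exact key _ _ h1
  have e4 : ∀ i, δ i ≠ i := by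
    intro i h1
    obtain ⟨h2, h3⟩ := hd.2 (x i) (o.qx.mem i) (o.qx.sq i)
    rcases hδ i with h4 | h4 <;> rw [h1] at h4
    · exact h2 h4
    · exact h3 h4
  have e5 : ∀ σ δ : Equiv.Perm (Fin 3), σ * σ = 1 → δ * σ = σ * δ → (∀ i, δ i ≠ i) → σ = 1 := by decide
  have e6 := e5 σ δ hτσ e3 e4
  subst e6
  intro r hr
  rcases o.cases h hr with h1 | h1 | ⟨i, h1 | h1⟩
  · rw [h1]; exact one_mem _
  · rw [h1]; exact wp
  · rw [h1]; exact memp i
  · rw [h1]; exact mul_mem wp (memp i)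

/-- `C_{R_w}(q) ≤ N_s` for `q ∈ N_s` -/
theorem BW_le_NZ (h : WM Om) (hw : w ∈ ZS Om s) (hq : q ∈ NZ Om s) (hs : Swp Om w q) (hqq : q * q = 1) :
    BW Om w q ≤ NZ Om s := by
  obtain ⟨K, hK⟩ := hw.1
  intro r hr
  obtain ⟨hr, hrq⟩ := mem_BW.1 hr
  obtain ⟨k, hk, h1⟩ := hs.fix h hqq hK hr hrq.symm
  have hwN : w ∈ NZ Om s := mem_NZ hw
  have h2 : qq q k ∈ NZ Om s := by
    have h3 := NZ_conj h (g := k⁻¹) (ZS_RZ hw (hK.le_RZ (inv_mem hk))) hq
    have h4 : k * k ∈ NZ Om s := by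
      rcases hK.sq_cases h hk with h3 | h3 | h3
      · rw [h3, one_mul]; exact one_mem _
      · rw [h3, hK.inZ.z2 h]; exact one_mem _
      · rw [h3]; exact hwN
    have h5 : qq q k = (k * k) * (k⁻¹ * q * k⁻¹⁻¹) * q⁻¹ := by rw [qq]; group
    rw [h5]
    exact mul_mem (mul_mem h4 h3) (inv_mem hq)
  rcases h1 with h1 | h1
  · rw [h1]; exact h2
  · rw [h1]; exact mul_mem hwN h2

/-- `N_s ⊓ R_w = C_{R_w}(q)` -/
theorem mem_BW_iff (h : WM Om) (l0 : L0 Om) (an : ANt Om s) (hw : w ∈ ZS Om s) (hq : q ∈ NZ Om s) (hs : Swp Om w q)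
    (hr : r ∈ RZ Om w) : r ∈ BW Om w q ↔ r ∈ NZ Om s :=
  ⟨fun h1 => BW_le_NZ h hw hq hs (NZ_sq h l0 an hq) h1, fun h1 => mem_BW.2 ⟨hr, NZ_comm h l0 an h1 hq⟩⟩

theorem BW_norm (h : WM Om) (l0 : L0 Om) (an : ANt Om s) (hw : w ∈ ZS Om s) (hq : q ∈ NZ Om s) (hs : Swp Om w q)
    (hgs : g * s = s * g) (hgw : g * w = w * g) (hr : r ∈ BW Om w q) : g * r * g⁻¹ ∈ BW Om w q := by
  have hr1 := (mem_BW.1 hr).1
  rw [mem_BW_iff h l0 an hw hq hs hr1] at hr
  rw [mem_BW_iff h l0 an hw hq hs (RZ_conj_comm h hgw hr1)]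
  exact NZ_conj h hgs hr

theorem As.z_mul (h : WM Om) (hK : Mem Om w K) (ha : As K n (w * u)) : As K n u := by
  have hu : u ∈ K := by
    have h1 := mul_mem (hK.zmem h) ha.1
    rwa [← mul_assoc, hK.inZ.z2 h, one_mul] at h1
  refine ⟨hu, fun k hk => ?_⟩
  rw [ha.2 k hk]
  have h1 : u * k * u⁻¹ ∈ K := mul_mem (mul_mem hu hk) (inv_mem hu)
  have h2 := hK.comm_z h h1
  calc w * u * k * (w * u)⁻¹ = w * (u * k * u⁻¹) * w⁻¹ := by group
    _ = u * k * u⁻¹ := by rw [← h2, mul_inv_cancel_right]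

theorem As.of_mod (h : WM Om) (hK : Mem Om w K) (ha : As K n v) (hv : v = u ∨ v = w * u) : As K n u := by
  rcases hv with rfl | rfl
  · exact ha
  · exact ha.z_mul h hK

/-- `n` acts as `x a` and `y b` -/
def Dr (K L : Subgroup G) (x y : Fin 3 → G) (n : G) (a b : Fin 3) : Prop := As K n (x a) ∧ As L n (y b)

theorem Co.exists_dr (o : Co Om w q K x y) (h : WM Om) (hti : TI Om w n) : ∃ a b, Dr K (cj q K) x y n a b := by
  obtain ⟨u, hu, huu⟩ := hti.exists_as h o.hK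
  obtain ⟨v, hv, hvv⟩ := hti.exists_as h (o.hL h)
  obtain ⟨a, ha⟩ := o.qx.of_sq hu.1 huu
  obtain ⟨b, hb⟩ := o.qy.of_sq hv.1 hvv
  exact ⟨a, b, hu.of_mod h o.hK ha, hv.of_mod h (o.hL h) hb⟩

theorem Co.dr_act (o : Co Om w q K x y) (h : WM Om) {a b : Fin 3} (hd : Dr K (cj q K) x y n a b) (hr : r ∈ RZ Om w) :
    n * r * n⁻¹ = (x a * y b) * r * (x a * y b)⁻¹ := by
  obtain ⟨k, hk, l, hl, rfl⟩ := (mem_RZ o.hK (o.hL h) h o.ne).1 hr
  have h1 := hd.1.2 k hk
  have h2 := hd.2.2 l hl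
  have h3 : y b * k = k * y b := (o.hK.comm (o.hL h) h o.ne hk (o.qy.mem b)).symm
  have h4 : x a * l = l * x a := o.hK.comm (o.hL h) h o.ne (o.qx.mem a) hl
  have h5 := o.cm h a b
  have h6 : (x a)⁻¹ * y b = y b * (x a)⁻¹ := by
    rw [inv_mul_eq_iff_eq_mul, ← mul_assoc, h5, mul_inv_cancel_right]
  have h7 : (x a)⁻¹ * l = l * (x a)⁻¹ := by
    rw [inv_mul_eq_iff_eq_mul, ← mul_assoc, h4, mul_inv_cancel_right]
  calc n * (k * l) * n⁻¹ = (n * k * n⁻¹) * (n * l * n⁻¹) := by group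
    _ = (x a * k * (x a)⁻¹) * (y b * l * (y b)⁻¹) := by rw [h1, h2]
    _ = x a * k * ((x a)⁻¹ * y b) * l * (y b)⁻¹ := by group
    _ = x a * (k * y b) * ((x a)⁻¹ * l) * (y b)⁻¹ := by rw [h6]; group
    _ = x a * (y b * k) * (l * (x a)⁻¹) * (y b)⁻¹ := by rw [h3, h7]
    _ = x a * y b * (k * l) * ((x a)⁻¹ * (y b)⁻¹) := by group
    _ = x a * y b * (k * l) * ((y b)⁻¹ * (x a)⁻¹) := by rw [← mul_inv_rev, ← h5, mul_inv_rev]
    _ = _ := by group

theorem dr_unique_l (h : WM Om) (hK : Mem Om w K) (qx : Q3 K w x) {a b : Fin 3} (h1 : As K n (x a))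
    (h2 : As K n (x b)) : a = b := (qx.inj (hK.as_unique h h1 h2)).symm

theorem Q3.mul_third (qx : Q3 K w x) {a b : Fin 3} (hab : a ≠ b) :
    ∃ c, c ≠ a ∧ c ≠ b ∧ (x a * x b = x c ∨ x a * x b = w * x c) ∧ (x b * x a = x c ∨ x b * x a = w * x c) := by
  rcases RTwo.i_cases hab with rfl | rfl
  · exact ⟨a + 2, (i_ne2 a).symm, (i_ne12 a).symm, Or.inl (qx.mul a), Or.inr (qx.mul' a)⟩
  · exact ⟨a + 1, (i_ne1 a).symm, i_ne12 a, Or.inr (qx.mul2' a), Or.inl (qx.mul2 a)⟩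

theorem third_eq {a b c c' : Fin 3} (hab : a ≠ b) (h1 : c ≠ a) (h2 : c ≠ b) (h3 : c' ≠ a) (h4 : c' ≠ b) : c' = c := by
  revert a b c c'; decide

/-- `n ∈ Z` acting as `x a` is of type I -/
theorem TI.of_as (h : WM Om) (hK : Mem Om w K) (hn : InZ Om n) (ha : As K n u) (huu : u * u = w) : TI Om w n := by
  have hne : w ≠ n := by
    rintro rfl
    exact hK.not_as_one h ha huu (hK.as_z h)
  refine TI.of_one h hK hn hne (fun k hk => ?_) fun hc => hK.not_as_one h ha huu (As.one_iff.2 hc)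
  rw [ha.2 k hk]
  exact hK.comm_or h hk ha.1

/-- `m, w ∈ Z(s)` of type I: conjugate in `C(s)` -/
theorem TI.exists_conj_s (hti : TI Om w m) (h : WM Om) (hw : w ∈ ZS Om s) (hm : m ∈ ZS Om s) :
    ∃ g, g * s = s * g ∧ g * m * g⁻¹ = w := by
  obtain ⟨K, hK⟩ := hw.1
  obtain ⟨L, hL⟩ := hm.1
  obtain ⟨v, hv, -, -, h1⟩ := hti.exists_mv h hL
  obtain ⟨v', hv', -, -, h2⟩ := (hti.symm h).exists_mv h hK
  -- `v w v⁻¹ = w m`, `v' m v'⁻¹ = m w`
  have hvs : v * s = s * v := ZS_RZ hm (hL.le_RZ hv)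
  have hvs' : v' * s = s * v' := ZS_RZ hw (hK.le_RZ hv')
  refine ⟨v⁻¹ * v', ?_, ?_⟩
  · have h3 : v⁻¹ * s = s * v⁻¹ := by rw [inv_mul_eq_iff_eq_mul, ← mul_assoc, hvs, mul_inv_cancel_right]
    rw [mul_assoc, hvs', ← mul_assoc, h3, mul_assoc]
  · calc v⁻¹ * v' * m * (v⁻¹ * v')⁻¹ = v⁻¹ * (v' * m * v'⁻¹) * v := by group
      _ = v⁻¹ * (v * w * v⁻¹) * v := by rw [h2, h1, hti.comm]
      _ = w := by group

/-- the product of a type I pair in `Z(s)` -/
theorem TI.mul_ZS (hti : TI Om m n) (h : WM Om) (hm : m ∈ ZS Om s) (hn : n ∈ ZS Om s) : m * n ∈ ZS Om s := by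
  obtain ⟨L, hL⟩ := hn.1
  obtain ⟨v, hv, -, -, h1⟩ := hti.exists_mv h hL
  rw [← h1]
  exact ZS_conj h hm (ZS_RZ hn (hL.le_RZ hv))

/-- `s' ∈ T_S#`, `q ∈ Z(s')` a swap at `w ∈ C_S` -/
structure HB (Om : Set (Subgroup G)) (S : Subgroup G) (w q : G) : Prop where
  wS : w ∈ CS Om S
  q' : ∃ s' ∈ TT Om S, s' ≠ 1 ∧ q ∈ ZS Om s'
  sw : Swp Om w q

theorem TT_le_NZ' (h : WM Om) {S : Subgroup G} (hS : IsPGroup 2 S) (ht : t ∈ TT Om S) : TT Om S ≤ NZ Om t :=
  closure_mono fun _ hz => CS_subset_ZS h hS ht hz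

/-- `Z(s)`, `s ∈ T_S#`, centralises `T_S` -/
theorem ZS_TT (h : WM Om) (l0 : L0 Om) (an : ANT Om) (S : Sylow 2 G) (hs : s ∈ TT Om (S : Subgroup G)) (hs1 : s ≠ 1)
    (hn : n ∈ NZ Om s) (ht : t ∈ TT Om (S : Subgroup G)) : n * t = t * n :=
  NZ_comm h l0 (an S s hs hs1) hn (TT_le_NZ' h S.isPGroup' hs ht)

/-- `C_{R_w}(q)` is normalised by `C(T_S)` -/
theorem HB.norm {S : Sylow 2 G} (hb : HB Om (S : Subgroup G) w q) (h : WM Om) (l0 : L0 Om) (an : ANT Om) (hg : ∀ t ∈ TT Om (S : Subgroup G), g * t = t * g) (hr : r ∈ BW Om w q) :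
    g * r * g⁻¹ ∈ BW Om w q := by
  obtain ⟨s', hs', hs1, hq⟩ := hb.q'
  exact BW_norm h l0 (an S s' hs' hs1) (CS_subset_ZS h S.isPGroup' hs' hb.wS) (mem_NZ hq) hb.sw (hg s' hs')
    (hg w (CS.mem_TT hb.wS)) hr

theorem HB.exists_rot {S : Sylow 2 G} (hb : HB Om (S : Subgroup G) w q) (h : WM Om) (l0 : L0 Om) (an : ANT Om)
    (rot : RotS Om (S : Subgroup G)) (o : Co Om w q K x y) :
    ∃ d, Rot w K d ∧ (∀ t ∈ TT Om (S : Subgroup G), d * t = t * d) ∧
      ∃ δ, Act w x x d δ ∧ Act w y y d δ ∧ ∀ i, δ i ≠ i := by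
  have hK := o.hK
  have hL := o.hL h
  obtain ⟨d, hd, hdT⟩ := rot w K hK (CS.le hb.wS h hK)
  have hdw := hK.of_cj h hd.1
  have hdL : cj d (cj q K) = cj q K := by
    rcases cj_cases h hK hL o.ne hdw with h1 | h1
    · exact h1.2
    · exact absurd (hd.1.symm.trans h1.1) o.ne
  obtain ⟨δ, hδ⟩ := o.qx.exists_act o.qx hd.1 hdw
  obtain ⟨δ', hδ'⟩ := o.qy.exists_act o.qy hdL hdw
  have e1 : δ = δ' := by
    ext i
    congr 1
    have h1 := hb.norm h l0 an hdT (o.mem_BW h i)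
    have h2 : d * (x i * y i) * d⁻¹ = (d * x i * d⁻¹) * (d * y i * d⁻¹) := by group
    rw [h2, o.mod_mem h (o.w_mem h) (hδ i) (hδ' i)] at h1
    exact o.eq_of_mem h h1
  subst e1
  refine ⟨d, hd, hdT, δ, hδ, hδ', fun i h1 => ?_⟩
  obtain ⟨h2, h3⟩ := hd.2 (x i) (o.qx.mem i) (o.qx.sq i)
  rcases hδ i with h4 | h4 <;> rw [h1] at h4
  · exact h2 h4
  · exact h3 h4

/-- **4.1 (a)** -/
theorem HB.cent {S : Sylow 2 G} (hb : HB Om (S : Subgroup G) w q) (h : WM Om) (l0 : L0 Om) (an : ANT Om)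
    (rot : RotS Om (S : Subgroup G)) (hs : s ∈ TT Om (S : Subgroup G)) (hs1 : s ≠ 1) (hn : n ∈ ZS Om s)
    (hr : r ∈ BW Om w q) : n * r = r * n := by
  obtain ⟨K, hK⟩ := CS.inZ hb.wS
  obtain ⟨s', hs', hs1', hq⟩ := hb.q'
  have ans' := an S s' hs' hs1'
  have ans := an S s hs hs1
  have hq2 : q * q = 1 := hq.1.z2 h
  obtain ⟨x, y, o⟩ := exists_co h hK hb.sw hq2
  have hL := o.hL h
  have hwT := CS.mem_TT hb.wS
  have hwz := CS.inZ hb.wS
  have hws : w ∈ ZS Om s := CS_subset_ZS h S.isPGroup' hs hb.wS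
  have hqT : ∀ t ∈ TT Om (S : Subgroup G), q * t = t * q := fun t ht => ZS_TT h l0 an S hs' hs1' (mem_NZ hq) ht
  have nT : ∀ {n}, n ∈ ZS Om s → ∀ t ∈ TT Om (S : Subgroup G), n * t = t * n := fun hn t ht =>
    ZS_TT h l0 an S hs hs1 (mem_NZ hn) ht
  obtain ⟨d, hd, hdT, δ, hδ, hδ', hδ1⟩ := hb.exists_rot h l0 an rot o
  have hdw := hdT w hwT
  by_cases hcase : ∃ p ∈ ZS Om s, Swp Om w p
  · obtain ⟨p, hp, hps⟩ := hcase
    have h1 := swp_line h o hps (hp.1.z2 h) hd (fun r hr => hb.norm h l0 an hdT hr)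
      (fun r hr => BW_norm h l0 ans hws (mem_NZ hp) hps (hdT s hs) hdw hr)
      (fun r hr => hb.norm h l0 an (nT hp) hr) r hr
    exact NZ_comm h l0 ans (mem_NZ hn) (BW_le_NZ h hws (mem_NZ hp) hps (hp.1.z2 h) h1)
  push Not at hcase
  have nil := nilS_ZS' h l0 ans
  -- every element of `Z(s)` is `w`, a C-partner or of type I
  have typ : ∀ m ∈ ZS Om s, w = m ∨ CP Om w m ∨ TI Om w m := by
    intro m hm
    by_cases hne : w = m
    · exact Or.inl hne
    rcases tri h hwz hm.1 hne (nT hm w hwT).symm with h1 | h1 | h1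
    · exact Or.inr (Or.inl h1)
    · exact Or.inr (Or.inr h1)
    · exfalso
      rcases h1.1.cases with h2 | h2
      · exact hcase m hm h2
      · exact nil.not_ff h hws (subset_closure hm) h2
  have hrR := (mem_BW.1 hr).1
  rcases typ n hn with h1 | h1 | hti
  · rw [← h1]; exact (RZ_le_centralizer h hrR).symm
  · exact CX_comm hrR (cp_cx h hn.1 h1)
  obtain ⟨a, b, dr⟩ := o.exists_dr h hti
  by_cases hab : a = b
  · subst hab
    rw [← mul_inv_eq_iff_eq_mul, o.dr_act h dr hrR, mul_inv_eq_iff_eq_mul]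
    exact o.BW_comm h (o.mem_BW h a) hr
  exfalso
  -- no element of type I has a swap partner in `Z(s)`
  have nosw : ∀ m ∈ ZS Om s, TI Om w m → ∀ v ∈ ZS Om s, ¬ Swp Om m v := by
    intro m hm htm v hv hsw
    obtain ⟨g, hgs, hgm⟩ := htm.exists_conj_s h hws hm
    have h1 := hsw.conj h g
    rw [hgm] at h1
    exact hcase _ (ZS_conj h hv hgs) h1
  -- products
  have prod : ∀ m ∈ ZS Om s, ∀ m' ∈ ZS Om s, TI Om w m → m ≠ m' → ¬ CP Om m m' → m * m' ∈ ZS Om s := by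
    intro m hm m' hm' htm hne hnc
    rcases tri h hm.1 hm'.1 hne (ZS_comm h l0 ans hm hm') with h1 | h1 | h1
    · exact absurd h1 hnc
    · exact h1.mul_ZS h hm hm'
    · exfalso
      rcases h1.1.cases with h2 | h2
      · exact nosw m hm htm m' hm' h2
      · exact nil.not_ff h hm (subset_closure hm') h2
  -- `n' = q n q⁻¹`
  have hqw : q * w = w * q := hqT w hwT
  have hn' : q * n * q⁻¹ ∈ ZS Om s := ZS_conj h hn (hqT s hs)
  have dr' : Dr K (cj q K) x y (q * n * q⁻¹) b a := by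
    constructor
    · have h1 := dr.2.conj q
      rw [o.xy] at h1
      have h2 : cj q (cj q K) = K := by rw [← cj_mul, hq2, cj_one]
      rwa [h2] at h1
    · have h1 := dr.1.conj q
      rwa [o.yx] at h1
  have hti' : TI Om w (q * n * q⁻¹) := TI.of_as h hK hn'.1 dr'.1 (o.qx.sq b)
  obtain ⟨c, hca, hcb, hab1, -⟩ := Q3.mul_third o.qx hab
  obtain ⟨c', hca', hcb', -, hba1⟩ := Q3.mul_third o.qy hab
  have hcc : c' = c := third_eq hab hca hcb hca' hcb'
  subst hcc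
  have hne : n ≠ q * n * q⁻¹ := by
    intro h1
    rw [← h1] at dr'
    exact hab (dr_unique_l h hK o.qx dr.1 dr'.1)
  have hnc : ¬ CP Om n (q * n * q⁻¹) := by
    intro h1
    exact hab (o.qx.inj (tt_II h h1 hti hti' hK dr.1 dr'.1)).symm
  obtain ⟨m, hm⟩ : ∃ m, m = n * (q * n * q⁻¹) := ⟨_, rfl⟩
  have hmZ : m ∈ ZS Om s := by rw [hm]; exact prod n hn _ hn' hti hne hnc
  have drm : Dr K (cj q K) x y m c' c' := by
    rw [hm]
    exact ⟨(dr.1.mul dr'.1).of_mod h hK hab1, (dr.2.mul dr'.2).of_mod h hL hba1⟩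
  -- rotate
  have rotd : ∀ m ∈ ZS Om s, ∀ c, Dr K (cj q K) x y m c c → ∃ m' ∈ ZS Om s, Dr K (cj q K) x y m' (δ c) (δ c) := by
    intro m hm c hdr
    refine ⟨d * m * d⁻¹, ZS_conj h hm (hdT s hs), ?_, ?_⟩
    · have h1 := hdr.1.conj d
      rw [hd.1] at h1
      exact h1.of_mod h hK (hδ c)
    · have h1 := hdr.2.conj d
      have hdL : cj d (cj q K) = cj q K := by
        rcases cj_cases h hK hL o.ne hdw with h1 | h1
        · exact h1.2
        · exact absurd (hd.1.symm.trans h1.1) o.ne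
      rw [hdL] at h1
      exact h1.of_mod h hL (hδ' c)
  obtain ⟨n₁, hn₁, dr₁⟩ : ∃ n₁ ∈ ZS Om s, Dr K (cj q K) x y n₁ a a := by
    obtain ⟨m₁, hm₁, e₁⟩ := rotd m hmZ c' drm
    obtain ⟨m₂, hm₂, e₂⟩ := rotd m₁ hm₁ (δ c') e₁
    have key : ∀ (δ : Equiv.Perm (Fin 3)) (a c : Fin 3), (∀ i, δ i ≠ i) → c ≠ a → δ c = a ∨ δ (δ c) = a := by decide
    rcases key δ a c' hδ1 hca with h1 | h1
    · exact ⟨m₁, hm₁, by rw [h1] at e₁; exact e₁⟩
    · exact ⟨m₂, hm₂, by rw [h1] at e₂; exact e₂⟩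
  have hti₁ : TI Om w n₁ := TI.of_as h hK hn₁.1 dr₁.1 (o.qx.sq a)
  have hne₁ : n ≠ n₁ := by
    intro h1
    rw [← h1] at dr₁
    exact hab (dr_unique_l h hL o.qy dr₁.2 dr.2)
  have hnc₁ : ¬ CP Om n n₁ := by
    intro h1
    exact hab (o.qy.inj (tt_II h h1 hti hti₁ hL dr.2 dr₁.2))
  have hM := prod n hn n₁ hn₁ hti hne₁ hnc₁
  have e1 : As K (n * n₁) 1 := by
    have h1 := dr.1.mul dr₁.1
    rw [o.qx.sq] at h1
    exact h1.of_mod h hK (Or.inr (by rw [mul_one]))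
  have e2 : As (cj q K) (n * n₁) (y c') := (dr.2.mul dr₁.2).of_mod h hL hba1
  have hMw : w ≠ n * n₁ := by
    intro h1
    rw [← h1] at e2
    exact hL.not_as_one h e2 (o.qy.sq c') (hL.as_z h)
  exact hL.not_as_one h e2 (o.qy.sq c') (As.one_iff.2 (InZ.cent_all hK hM.1 h hMw (As.one_iff.1 e1) hL))

/-- the world SW -/
def SW (Om : Set (Subgroup G)) : Prop :=
  ∃ S : Sylow 2 G, ∃ s ∈ TT Om (S : Subgroup G), s ≠ 1 ∧ ∃ a ∈ ZS Om s, ∃ b ∈ ZS Om s, Swp Om a b

/-- `w ∈ C_P ∩ C_{P'}` : an element of `C(w)` maps `C_{P'}` into `C_P` -/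
theorem exists_conj_CS (h : WM Om) (P P' : Sylow 2 G) (hw : w ∈ CS Om (P : Subgroup G))
    (hw' : w ∈ CS Om (P' : Subgroup G)) :
    ∃ c, c * w = w * c ∧ ∀ z ∈ CS Om (P' : Subgroup G), c * z * c⁻¹ ∈ CS Om (P : Subgroup G) := by
  haveI : Fact (Nat.Prime 2) := ⟨Nat.prime_two⟩
  have key : ∀ P : Sylow 2 G, w ∈ CS Om (P : Subgroup G) →
      ∃ Q, Syl Q (centralizer {w}) ∧ ∀ K ∈ Om, K ≤ (P : Subgroup G) → K ≤ Q := by
    intro P hw
    obtain ⟨D, hD⟩ : ∃ D : Subgroup G, D = sSup {K | K ∈ Om ∧ K ≤ (P : Subgroup G)} := ⟨_, rfl⟩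
    have hDP : D ≤ (P : Subgroup G) := by rw [hD]; exact sSup_le fun K hK => hK.2
    have hDs : D ≤ centralizer {w} := by
      rw [hD]
      refine sSup_le fun K hK => ?_
      have h3 : zz K ∈ CS Om (P : Subgroup G) := ⟨K, ⟨hK.1, rfl⟩, hK.2⟩
      exact Mem.le_cent (z := zz K) ⟨hK.1, rfl⟩ (CS_subset_ZS h P.isPGroup' (CS.mem_TT hw) h3)
    obtain ⟨Q, hQ, hle⟩ := exists_syl_ge (P.isPGroup'.to_le hDP) hDs
    refine ⟨Q, hQ, fun K hK hKP => ?_⟩
    refine le_trans ?_ hle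
    rw [hD]
    exact le_sSup ⟨hK, hKP⟩
  obtain ⟨Q, hQ, hQm⟩ := key P hw
  obtain ⟨Q', hQ', hQm'⟩ := key P' hw'
  obtain ⟨c, hc, hcQ⟩ := hQ'.exists_conj hQ
  obtain ⟨S1, hS1⟩ := hQ.2.1.exists_le_sylow
  have hmem := CS_eq_of_le h P S1 fun K hK hKP => (hQm K hK hKP).trans hS1
  refine ⟨c, mem_centralizer_singleton_iff.1 hc, ?_⟩
  rintro z ⟨K, hK, hKP⟩
  have hK' := Mem.cj (show Mem Om z K from hK) h c
  refine ⟨cj c K, hK', (hmem _ hK'.1).1 ?_⟩
  have h1 := cj_mono c (hQm' K hK.1 hKP)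
  rw [hcQ] at h1
  exact h1.trans hS1

/-- every `w ∈ C_S` has a swap partner in some `Z(s')`, `s' ∈ T_S#` -/
theorem SW.exists_hb (sw : SW Om) (h : WM Om) (oc : OneCl Om) (S : Sylow 2 G) (hw : w ∈ CS Om (S : Subgroup G)) :
    ∃ q, HB Om (S : Subgroup G) w q := by
  obtain ⟨S0, s0, hs0, hs1, a, ha, b, hb, hab⟩ := sw
  obtain ⟨P, hsP, haP, -, -⟩ := exists_psi h S0 hs0 ha ha.1 (ZS_comm_s h ha).symm rfl
  obtain ⟨g, hg⟩ := oc a w ha.1 (CS.inZ hw)
  have h1 : w ∈ CS Om ((g • P : Sylow 2 G) : Subgroup G) := by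
    rw [← hg]; exact cj_CS h g haP
  obtain ⟨c, hcw, hc⟩ := exists_conj_CS h S (g • P) hw h1
  have hcw' : c * w * c⁻¹ = w := by rw [hcw, mul_inv_cancel_right]
  have h2 : g * s0 * g⁻¹ ∈ TT Om ((g • P : Sylow 2 G) : Subgroup G) := by
    change g * s0 * g⁻¹ ∈ TT Om (cj g (P : Subgroup G))
    rw [TT_cj h]; exact conj_mem_cj hsP
  have h3 : ∀ t ∈ TT Om ((g • P : Sylow 2 G) : Subgroup G), c * t * c⁻¹ ∈ TT Om (S : Subgroup G) := by
    intro t ht
    have h4 : TT Om ((g • P : Sylow 2 G) : Subgroup G) ≤ (TT Om (S : Subgroup G)).comap (MulAut.conj c).toMonoidHom :=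
      (closure_le _).2 fun z hz => CS.mem_TT (hc z hz)
    exact h4 ht
  refine ⟨c * (g * b * g⁻¹) * c⁻¹, hw, ⟨c * (g * s0 * g⁻¹) * c⁻¹, h3 _ h2, ?_, ZS_cj h c (ZS_cj h g hb)⟩, ?_⟩
  · intro h4
    apply hs1
    have h5 : s0 = g⁻¹ * (c⁻¹ * (c * (g * s0 * g⁻¹) * c⁻¹) * c) * g := by group
    rw [h5, h4]; group
  · have h4 := (hab.conj h g).conj h c
    rwa [hg, hcw'] at h4

/-- elements of `R_w` centralising `C_{R_w}(q)` -/
theorem BW_cent' (h : WM Om) (hK : Mem Om w K) (hs : Swp Om w q) (hq : q * q = 1) (hr : r ∈ RZ Om w)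
    (hc : ∀ b ∈ BW Om w q, r * b = b * r) : r ∈ BW Om w q := by
  obtain ⟨x, y, o⟩ := exists_co h hK hs hq
  exact o.BW_cent h hr fun i => hc _ (o.mem_BW h i)

theorem BW_comm' (h : WM Om) (hK : Mem Om w K) (hs : Swp Om w q) (hq : q * q = 1) (hr : r ∈ BW Om w q)
    (hr' : s ∈ BW Om w q) : r * s = s * r := by
  obtain ⟨x, y, o⟩ := exists_co h hK hs hq
  exact o.BW_comm h hr hr'

/-- **4.1 (d)** : the `w`-element of a type I pair -/
theorem BW_dich (h : WM Om) (hs : Swp Om w q) (hq : q * q = 1) (hti : TI Om w v)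
    (hv : ∀ b ∈ BW Om w q, v * b = b * v) :
    (w ∈ RZ Om v ∧ v ∈ BW Om w q) ∨
      ∃ e ∈ BW Om w q, e ∈ RZ Om v ∧ e * e = 1 ∧ v * e ∈ CX Om w ∧ w * e ∈ CX Om v := by
  obtain ⟨K, hK⟩ := hti.inZ
  rcases hti.dich h with h1 | ⟨e, he, hev, hee, h1, h2⟩
  · left
    exact ⟨h1, BW_cent' h hK hs hq ((hti.symm h).mem_symm h h1) hv⟩
  · right
    refine ⟨e, BW_cent' h hK hs hq he fun b hb => ?_, hev, hee, h1, h2⟩
    have h3 := CX_comm (mem_BW.1 hb).1 h1
    have h4 := hv b hb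
    have h5 : v * (e * b) = v * (b * e) := by
      calc v * (e * b) = v * e * b := by group
        _ = b * (v * e) := h3
        _ = (b * v) * e := by group
        _ = _ := by rw [← h4]; group
    exact mul_left_cancel h5

end Fin

end Cfsg.Agent.Cit.Nil.RTwoM
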