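import Cfsg.Agent.Cit.Nil.RTwoM.UAxes

/-!
# S1309, (6b), (C3), `r = 2`, any `m`, `LAMBDA0` : indices of centralisers in elementary groups

* `exists_compl` : a complement in an elementary abelian 2-group;
* `idx8` : `E` elementary, `E ≤ C(x)`, `E` contains a swap at `x` : `|E| ≤ 8 |E ⊓ C(R_x)|`;
* `idx16` : `|E| ≤ 16 |E ⊓ C(R_x)|`;
* `mul_card_le` : `D ⊓ D' = 1`, `D, D' ≤ F` : `|D| |D'| ≤ |F|`;
* `eight_of_five` : an elementary group of order `≥ 5` has order `≥ 8`.
-/

set_option autoImplicit false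
set_option linter.style.haveILetI false
set_option linter.unusedSectionVars false

namespace Cfsg.Agent.Cit.Nil.RTwoM

open Subgroup Cfsg Cfsg.Agent.Cit

variable {G : Type*} [Group G] {Om : Set (Subgroup G)} {K L M : Subgroup G}
  {a b c d e g k l n n' r s s' t u v w x y z : G}

section Fin

variable [Finite G]

/-- a complement in an elementary abelian 2-group -/
theorem exists_compl {E : Subgroup G} (hs : ∀ a ∈ E, a * a = 1) (C : Subgroup G) :
    ∃ F ≤ E, F ⊓ C = ⊥ ∧ Nat.card E ≤ Nat.card F * Nat.card (E ⊓ C : Subgroup G) := by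
  classical
  have hc : ∀ a ∈ E, ∀ b ∈ E, a * b = b * a := by
    intro a ha b hb
    have h1 := hs (a * b) (mul_mem ha hb)
    have h2 := hs a ha
    have h3 := hs b hb
    calc a * b = a * (a * b * (a * b)) * b := by rw [h1, mul_one]
      _ = (a * a) * (b * a) * (b * b) := by group
      _ = b * a := by rw [h2, h3, one_mul, mul_one]
  have hne : {F : Subgroup G | F ≤ E ∧ F ⊓ C = ⊥}.Nonempty := ⟨⊥, bot_le, bot_inf_eq _⟩
  obtain ⟨F, hF⟩ := (Set.toFinite {F : Subgroup G | F ≤ E ∧ F ⊓ C = ⊥}).exists_maximal hne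
  refine ⟨F, hF.prop.1, hF.prop.2, ?_⟩
  have hsurj : ∀ e ∈ E, ∃ f ∈ F, ∃ c ∈ E ⊓ C, f * c = e := by
    intro e he
    by_cases heF : e ∈ F
    · exact ⟨e, heF, 1, one_mem _, mul_one e⟩
    have hE : ∀ a, e * a ∈ F → a ∈ E := fun a ha => by
      have h1 := mul_mem (inv_mem he) (hF.prop.1 ha)
      rwa [inv_mul_cancel_left] at h1
    let F' : Subgroup G :=
      { carrier := {g | g ∈ F ∨ e * g ∈ F}
        one_mem' := Or.inl (one_mem _)
        mul_mem' := by
          rintro a b (ha | ha) (hb | hb)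
          · exact Or.inl (mul_mem ha hb)
          · right
            have h1 : e * (a * b) = a * (e * b) := by
              rw [← mul_assoc, hc e he a (hF.prop.1 ha), mul_assoc]
            rw [h1]; exact mul_mem ha hb
          · right
            rw [← mul_assoc]; exact mul_mem ha hb
          · left
            have h1 : a * b = (e * a) * (e * b) := by
              have h2 := hc e he a (hE a ha)
              calc a * b = a * (e * e) * b := by rw [hs e he, mul_one]
                _ = (a * e) * (e * b) := by group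
                _ = _ := by rw [← h2]
            rw [h1]; exact mul_mem ha hb
        inv_mem' := by
          rintro a (ha | ha)
          · exact Or.inl (inv_mem ha)
          · right
            rwa [inv_eq_of_mul_eq_one_right (hs a (hE a ha))] }
    have hFF' : F ≤ F' := fun a ha => Or.inl ha
    have heF' : e ∈ F' := Or.inr (by rw [hs e he]; exact one_mem _)
    have hF'E : F' ≤ E := by
      rintro a (ha | ha)
      · exact hF.prop.1 ha
      · exact hE a ha
    have hn : F' ⊓ C ≠ ⊥ := fun h1 => heF (hF.le_of_ge ⟨hF'E, h1⟩ hFF' heF')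
    obtain ⟨c, ⟨hcF', hcC⟩, hc1⟩ := (F' ⊓ C).bot_or_exists_ne_one.resolve_left hn
    rcases hcF' with hcF | hcF
    · exfalso
      apply hc1
      have h1 : c ∈ F ⊓ C := ⟨hcF, hcC⟩
      rw [hF.prop.2, mem_bot] at h1
      exact h1
    · refine ⟨e * c, hcF, c, ⟨hE c hcF, hcC⟩, ?_⟩
      rw [mul_assoc, hs c (hE c hcF), mul_one]
  have h1 : Function.Surjective (fun p : F × (E ⊓ C : Subgroup G) =>
      (⟨p.1 * p.2, mul_mem (hF.prop.1 p.1.2) p.2.2.1⟩ : E)) := by
    rintro ⟨e, he⟩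
    obtain ⟨f, hf, c, hc, rfl⟩ := hsurj e he
    exact ⟨(⟨f, hf⟩, ⟨c, hc⟩), rfl⟩
  have h2 := Nat.card_le_card_of_surjective _ h1
  rwa [Nat.card_prod] at h2

theorem comm_of_sq {E : Subgroup G} (hs : ∀ a ∈ E, a * a = 1) : ∀ a ∈ E, ∀ b ∈ E, a * b = b * a := by
  intro a ha b hb
  have h1 := hs (a * b) (mul_mem ha hb)
  have h2 := hs a ha
  have h3 := hs b hb
  calc a * b = a * (a * b * (a * b)) * b := by rw [h1, mul_one]
    _ = (a * a) * (b * a) * (b * b) := by group
    _ = b * a := by rw [h2, h3, one_mul, mul_one]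

/-- `E` elementary, `E ≤ C(x)` with a swap at `x` : `|E : C_E(R_x)| ≤ 8` -/
theorem idx8 (h : WM Om) (hx : InZ Om x) {E : Subgroup G} (hs : ∀ a ∈ E, a * a = 1) (hn : ∀ g ∈ E, g * x = x * g)
    (hw : w ∈ E) (hsw : Swp Om x w) : Nat.card E ≤ 8 * Nat.card (E ⊓ CX Om x : Subgroup G) := by
  have hc := comm_of_sq hs
  obtain ⟨F, hFE, hF, hcard⟩ := exists_compl hs (CX Om x)
  refine hcard.trans (Nat.mul_le_mul_right _ ?_)
  refine card_le_eight h hx (fun a ha b hb => hc a (hFE ha) b (hFE hb)) (fun a ha => hs a (hFE ha))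
    (fun g hg => hn g (hFE hg)) fun g hg K hK hk => ?_
  have h1 : g ∈ F ⊓ CX Om x := by
    refine mem_inf.2 ⟨hg, ?_⟩
    rw [mem_CX]
    intro M hM m hm
    rcases hK.cases (hsw.mem h hK) h (hsw.ne hK) hM with rfl | rfl
    · exact hk m hm
    · obtain ⟨k, hk', rfl⟩ := hm
      have h2 := hk k hk'
      have h3 := hc g (hFE hg) w hw
      show g * (w * k * w⁻¹) = w * k * w⁻¹ * g
      have h4 : w⁻¹ * g = g * w⁻¹ := by
        have h5 : w⁻¹ = w := inv_eq_of_mul_eq_one_right (hs w hw)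
        rw [h5, h3]
      calc g * (w * k * w⁻¹) = (g * w) * k * w⁻¹ := by group
        _ = (w * g) * k * w⁻¹ := by rw [h3]
        _ = w * (g * k) * w⁻¹ := by group
        _ = w * (k * g) * w⁻¹ := by rw [h2]
        _ = w * k * (g * w⁻¹) := by group
        _ = w * k * (w⁻¹ * g) := by rw [h4]
        _ = _ := by group
  rw [hF, mem_bot] at h1
  exact h1

/-- `E` elementary, normalising the member `K` : `|E : C_E(K)| ≤ 4` -/
theorem idx4 (h : WM Om) (hK : Mem Om x K) {E : Subgroup G} (hs : ∀ a ∈ E, a * a = 1) (hn : ∀ g ∈ E, cj g K = K) :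
    Nat.card E ≤ 4 * Nat.card (E ⊓ centralizer (K : Set G) : Subgroup G) := by
  have hc := comm_of_sq hs
  obtain ⟨F, hFE, hF, hcard⟩ := exists_compl hs (centralizer (K : Set G))
  refine hcard.trans (Nat.mul_le_mul_right _ ?_)
  refine card_le_four h hK (fun a ha b hb => hc a (hFE ha) b (hFE hb)) (fun a ha => hs a (hFE ha))
    (fun g hg => hn g (hFE hg)) fun g hg hk => ?_
  have h1 : g ∈ F ⊓ centralizer (K : Set G) := by
    refine mem_inf.2 ⟨hg, ?_⟩
    rw [mem_centralizer_iff]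
    exact fun k hk' => (hk k hk').symm
  rw [hF, mem_bot] at h1
  exact h1

/-- `E` elementary, `E ≤ C(x)` : `|E : C_E(R_x)| ≤ 16` -/
theorem idx16 (h : WM Om) (hx : InZ Om x) {E : Subgroup G} (hs : ∀ a ∈ E, a * a = 1)
    (hn : ∀ g ∈ E, g * x = x * g) : Nat.card E ≤ 16 * Nat.card (E ⊓ CX Om x : Subgroup G) := by
  by_cases hsw : ∃ w ∈ E, Swp Om x w
  · obtain ⟨w, hw, hsw⟩ := hsw
    have := idx8 h hx hs hn hw hsw
    omega
  · push Not at hsw
    have hfix : ∀ M, Mem Om x M → ∀ g ∈ E, cj g M = M := by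
      intro M hM g hg
      by_contra h1
      exact hsw g hg (Swp.of_one h hM (hn g hg) h1)
    obtain ⟨K, hK⟩ := hx
    obtain ⟨L, hL, hne, hall⟩ := hK.other h
    have h1 := idx4 h hK hs (hfix K hK)
    have h2 := idx4 h hL (E := E ⊓ centralizer (K : Set G)) (fun a ha => hs a ha.1) (fun g hg => hfix L hL g hg.1)
    have h3 : (E ⊓ centralizer (K : Set G) ⊓ centralizer (L : Set G) : Subgroup G) ≤ E ⊓ CX Om x := by
      intro g hg
      refine mem_inf.2 ⟨hg.1.1, ?_⟩
      rw [mem_CX]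
      intro M hM m hm
      rcases hall M hM with rfl | rfl
      · exact (mem_centralizer_iff.1 hg.1.2 m hm).symm
      · exact (mem_centralizer_iff.1 hg.2 m hm).symm
    have h4 := Subgroup.card_le_of_le h3
    omega

/-- `D ⊓ D' = 1`, `D, D' ≤ F` : `|D| |D'| ≤ |F|` -/
theorem mul_card_le {D D' F : Subgroup G} (hd : D ⊓ D' = ⊥) (hF : D ≤ F) (hF' : D' ≤ F) :
    Nat.card D * Nat.card D' ≤ Nat.card F := by
  have h1 : Function.Injective (fun p : D × D' => (⟨p.1 * p.2, mul_mem (hF p.1.2) (hF' p.2.2)⟩ : F)) := by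
    rintro ⟨a, b⟩ ⟨c, d⟩ h1
    have h2 : (a : G) * b = c * d := congrArg Subtype.val h1
    have h3 : (c : G)⁻¹ * a = d * (b : G)⁻¹ := by
      rw [inv_mul_eq_iff_eq_mul, ← mul_assoc, ← h2, mul_inv_cancel_right]
    have h4 : (c : G)⁻¹ * a ∈ D ⊓ D' :=
      mem_inf.2 ⟨mul_mem (inv_mem c.2) a.2, by rw [h3]; exact mul_mem d.2 (inv_mem b.2)⟩
    rw [hd, mem_bot] at h4
    have h5 : (a : G) = c := (inv_mul_eq_one.1 h4).symm
    rw [h4] at h3
    have h6 : (b : G) = d := (mul_inv_eq_one.1 h3.symm).symm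
    exact Prod.ext (Subtype.ext h5) (Subtype.ext h6)
  have h2 := Nat.card_le_card_of_injective _ h1
  rwa [Nat.card_prod] at h2

/-- an elementary group with at least 5 elements has at least 8 -/
theorem eight_of_five {E : Subgroup G} (hs : ∀ a ∈ E, a * a = 1) (h5 : 5 ≤ Nat.card E) : 8 ≤ Nat.card E := by
  haveI : Fact (Nat.Prime 2) := ⟨Nat.prime_two⟩
  have hp : IsPGroup 2 E := by
    intro g
    refine ⟨1, ?_⟩
    rw [pow_one, pow_two]
    exact Subtype.ext (hs g g.2)
  obtain ⟨n, hn⟩ := IsPGroup.iff_card.1 hp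
  rw [hn] at h5 ⊢
  by_contra hcon
  have h1 : n < 3 := by
    by_contra h2
    have h3 : 2 ^ 3 ≤ 2 ^ n := Nat.pow_le_pow_right (by norm_num) (not_lt.1 h2)
    omega
  interval_cases n <;> omega

end Fin

end Cfsg.Agent.Cit.Nil.RTwoM
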