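import Cfsg.Agent.Cit.Nil.RTwoM.Rot
import Cfsg.Agent.Cit.Nil.RTwoM.EndT

/-!
# S1309, (6b), (C3), `r = 2`, any `m`, `LAMBDA0 ⟹ StarC` (helper762's uniform proof): definitions, (0.1), (0.2)

* `Psi Om S x`, `RotS Om S`, `CaseI Om`, `AA Om S`, `Free Om S x`, `OneA Om S x z u`, `OneC Om S x z u`;
* `exists_psi` (0.1) : `s ∈ T_S#`, `w ∈ Z(s)`, `x ∈ Z ∩ C(s) ∩ C(w)`: some `P` with `s ∈ T_P`, `w ∈ C_P`, `x ∈ Ψ_P`;
* `exists_ncp` (0.2) : `y ∈ Z(s) - C_P`, `s ∈ T_P#`: `y` is not a C-partner of some element of `C_P`.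
-/

set_option autoImplicit false
set_option linter.style.haveILetI false
set_option linter.unusedSectionVars false

namespace Cfsg.Agent.Cit.Nil.RTwoM

open Subgroup Cfsg Cfsg.Agent.Cit
open RG (WR CP Ov InO)
open RI (CS)

variable {G : Type*} [Group G] {Om : Set (Subgroup G)} {K L M X A : Subgroup G} {a c d s t u v w x y z g k n : G}

/-- `x ∈ Ψ_S` : `x ∈ Z` normalises `C_S` -/
def Psi (Om : Set (Subgroup G)) (S : Subgroup G) (x : G) : Prop := InZ Om x ∧ NCS Om S x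

/-- every member in `S` is rotated by `C(T_S)` -/
def RotS (Om : Set (Subgroup G)) (S : Subgroup G) : Prop :=
  ∀ z K, Mem Om z K → K ≤ S → ∃ c, Rot z K c ∧ ∀ t ∈ TT Om S, c * t = t * c

/-- CASE I -/
def CaseI (Om : Set (Subgroup G)) : Prop :=
  (∀ S : Sylow 2 G, Nat.card (TT Om (S : Subgroup G)) ≤ 8) ∧ ∀ S : Sylow 2 G, RotS Om (S : Subgroup G)

/-- the group generated by the `A(t)`, `t ∈ T_S#` -/
def AA (Om : Set (Subgroup G)) (S : Subgroup G) : Subgroup G := closure {y | ∃ t ∈ TT Om S, t ≠ 1 ∧ y ∈ ZS Om t}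

/-- `T_x = 1` -/
def Free (Om : Set (Subgroup G)) (S : Subgroup G) (x : G) : Prop := ∀ t ∈ TT Om S, t ∈ CX Om x → t = 1

/-- the exceptional type (1a) -/
structure OneA (Om : Set (Subgroup G)) (S : Subgroup G) (x z u : G) : Prop where
  hz : z ∈ CS Om S
  hu : u ∈ CS Om S
  ti : TI Om x z
  sw : Swp Om x u

/-- the exceptional type (1c) -/
structure OneC (Om : Set (Subgroup G)) (S : Subgroup G) (x z u : G) : Prop where
  hz : z ∈ CS Om S
  hu : u ∈ CS Om S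
  ne : z ≠ u
  all : ∀ v ∈ CS Om S, v = z ∨ v = u
  swz : Swp Om x z
  swu : Swp Om x u
  inn : ∃ K k, Mem Om x K ∧ k ∈ K ∧ k * k = x ∧ As K (z * u) k

section Fin

variable [Finite G]

theorem Psi.of_mem (h : WM Om) {S : Subgroup G} (hx : InZ Om x) (hxS : x ∈ S) : Psi Om S x := ⟨hx, NCS_of_mem h hxS⟩

theorem Psi.comm_TT (h : WM Om) (l0 : L0 Om) {S : Subgroup G} (hS : IsPGroup 2 S) (hx : Psi Om S x) (ht : t ∈ TT Om S) :
    x * t = t * x := comm_TT_of_NCS h l0 hS hx.1 hx.2 ht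

/-- an element of `Z` commuting with `C_S` lies in `Ψ_S` -/
theorem Psi.of_comm {S : Subgroup G} (hx : InZ Om x) (hc : ∀ z ∈ CS Om S, x * z = z * x) : Psi Om S x :=
  ⟨hx, NCS_of_comm hc⟩

/-- `Z(s) ⊆ Ψ_S` for `s ∈ T_S#` -/
theorem Psi.of_ZS (h : WM Om) (l0 : L0 Om) (an : ANT Om) (S : Sylow 2 G) (hs : s ∈ TT Om (S : Subgroup G)) (hs1 : s ≠ 1)
    (hy : y ∈ ZS Om s) : Psi Om (S : Subgroup G) y :=
  Psi.of_comm hy.1 fun _ hz => ZS_comm h l0 (an S s hs hs1) hy (CS_subset_ZS h S.isPGroup' hs hz)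

theorem mem_CS_of_psi (h : WM Om) (S : Sylow 2 G) (hx : Psi Om (S : Subgroup G) x)
    (hT : TT Om (S : Subgroup G) ≤ CX Om x) : x ∈ CS Om (S : Subgroup G) := by
  refine mem_CS_of_clique h S hx.1 fun u hu => ?_
  rcases (cen_iff h hx.1 (CS.inZ hu)).1 (hT (CS.mem_TT hu)) with h3 | h3
  · exact Or.inl h3.symm
  · exact Or.inr h3.symm

/-- Sylow subgroups containing the members in `S` -/
theorem CS_eq_of_le (h : WM Om) (S S' : Sylow 2 G)
    (hD : ∀ K ∈ Om, K ≤ (S : Subgroup G) → K ≤ (S' : Subgroup G)) :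
    ∀ K ∈ Om, K ≤ (S' : Subgroup G) ↔ K ≤ (S : Subgroup G) := by
  haveI : Fact (Nat.Prime 2) := ⟨Nat.prime_two⟩
  obtain ⟨g, hg⟩ := MulAction.exists_smul_eq G S S'
  have hgS : (S' : Subgroup G) = cj g S := by
    rw [← hg]
    rfl
  have h1 := ncard_cj h g (S : Subgroup G)
  rw [← hgS] at h1
  have h2 : {K | K ∈ Om ∧ K ≤ (S : Subgroup G)} ⊆ {K | K ∈ Om ∧ K ≤ (S' : Subgroup G)} := fun K hK =>
    ⟨hK.1, hD K hK.1 hK.2⟩
  have h3 : {K | K ∈ Om ∧ K ≤ (S : Subgroup G)} = {K | K ∈ Om ∧ K ≤ (S' : Subgroup G)} :=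
    Set.eq_of_subset_of_ncard_le h2 (le_of_eq h1) (Set.toFinite _)
  intro K hK
  refine ⟨fun hKS => ?_, hD K hK⟩
  have h5 : K ∈ {K | K ∈ Om ∧ K ≤ (S : Subgroup G)} := by rw [h3]; exact ⟨hK, hKS⟩
  exact h5.2

theorem CS_congr (_ : WM Om) {S S' : Subgroup G} (hD : ∀ K ∈ Om, K ≤ S' ↔ K ≤ S) : CS Om S' = CS Om S := by
  ext z
  constructor
  · rintro ⟨K, hK, hKS⟩
    exact ⟨K, hK, (hD K hK.1).1 hKS⟩
  · rintro ⟨K, hK, hKS⟩
    exact ⟨K, hK, (hD K hK.1).2 hKS⟩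

/-- **(0.1)** -/
theorem exists_psi (h : WM Om) (S : Sylow 2 G) (hs : s ∈ TT Om (S : Subgroup G)) (hw : w ∈ ZS Om s)
    (hx : InZ Om x) (hxs : x * s = s * x) (hxw : x * w = w * x) :
    ∃ P : Sylow 2 G, s ∈ TT Om (P : Subgroup G) ∧ w ∈ CS Om (P : Subgroup G) ∧ x ∈ (P : Subgroup G) ∧
      Psi Om (P : Subgroup G) x := by
  haveI : Fact (Nat.Prime 2) := ⟨Nat.prime_two⟩
  -- `R_w ⟨x⟩`
  have hR2 : IsPGroup 2 (RZ Om w) := by rw [← RR_eq]; exact h.wr.RR_two hw.1.zz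
  have hx2 : IsPGroup 2 (zpowers x) := by
    refine IsPGroup.of_card (n := 1) ?_
    rw [Nat.card_zpowers, hx.orderOf h, pow_one]
  have hn : zpowers x ≤ normalizer (RZ Om w : Set G) := by
    rw [zpowers_le, mem_normalizer_iff]
    intro r
    refine ⟨fun hr => RZ_conj_comm h hxw hr, fun hr => ?_⟩
    have hc' : x⁻¹ * w = w * x⁻¹ := by rw [hx.inv h]; exact hxw
    have h1 := RZ_conj_comm h hc' hr
    rwa [inv_inv, show x⁻¹ * (x * r * x⁻¹) * x = r by group] at h1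
  have h1 : IsPGroup 2 (zpowers x ⊔ RZ Om w : Subgroup G) := hx2.to_sup_of_normal_right' hR2 hn
  have h2 : (zpowers x ⊔ RZ Om w : Subgroup G) ≤ centralizer {s} := by
    refine sup_le ?_ (RZ_le fun K hK => Mem.le_cent hK hw)
    rw [zpowers_le, mem_centralizer_singleton_iff]
    exact hxs
  obtain ⟨P1, hP1, hle1⟩ := exists_syl_ge h1 h2
  -- the members in `S`
  let D : Subgroup G := sSup {K | K ∈ Om ∧ K ≤ (S : Subgroup G)}
  have hDS : D ≤ (S : Subgroup G) := sSup_le fun K hK => hK.2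
  have hDs : D ≤ centralizer {s} := by
    refine sSup_le fun K hK => ?_
    have h3 : zz K ∈ CS Om (S : Subgroup G) := ⟨K, ⟨hK.1, rfl⟩, hK.2⟩
    exact Mem.le_cent (z := zz K) ⟨hK.1, rfl⟩ (CS_subset_ZS h S.isPGroup' hs h3)
  obtain ⟨P2, hP2, hle2⟩ := exists_syl_ge (S.isPGroup'.to_le hDS) hDs
  obtain ⟨S2, hS2⟩ := hP2.2.1.exists_le_sylow
  have hmem := CS_eq_of_le h S S2 fun K hK hKS =>
    ((le_sSup (show K ∈ {K | K ∈ Om ∧ K ≤ (S : Subgroup G)} from ⟨hK, hKS⟩)).trans hle2).trans hS2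
  have hCS := CS_congr h hmem
  have hTT : TT Om (S2 : Subgroup G) = TT Om (S : Subgroup G) := by rw [TT, TT, hCS]
  obtain ⟨c, hc, hcP⟩ := hP2.exists_conj hP1
  rw [mem_centralizer_singleton_iff] at hc
  refine ⟨c • S2, ?_, ?_, ?_, ?_⟩
  · change s ∈ TT Om (cj c (S2 : Subgroup G))
    rw [TT_cj h, hTT, mem_cj]
    have h3 : c⁻¹ * s * c = s := by rw [mul_assoc, ← hc, inv_mul_cancel_left]
    rw [h3]; exact hs
  · obtain ⟨K, hK⟩ := hw.1
    refine ⟨K, hK, ?_⟩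
    change K ≤ cj c (S2 : Subgroup G)
    have h3 : K ≤ P1 := (hK.le_RZ.trans le_sup_right).trans hle1
    rw [← hcP] at h3
    exact h3.trans (cj_mono c hS2)
  · change x ∈ cj c (S2 : Subgroup G)
    have h3 : x ∈ P1 := hle1 (mem_sup_left (mem_zpowers x))
    rw [← hcP] at h3
    exact cj_mono c hS2 h3
  · refine Psi.of_mem h hx ?_
    change x ∈ cj c (S2 : Subgroup G)
    have h3 : x ∈ P1 := hle1 (mem_sup_left (mem_zpowers x))
    rw [← hcP] at h3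
    exact cj_mono c hS2 h3

/-- `x ∈ Z ∩ C(s)`: some `P` with `s ∈ T_P`, `x ∈ Ψ_P` -/
theorem exists_psi' (h : WM Om) (S : Sylow 2 G) (hs : s ∈ TT Om (S : Subgroup G)) (hx : InZ Om x) (hxs : x * s = s * x) :
    ∃ P : Sylow 2 G, s ∈ TT Om (P : Subgroup G) ∧ x ∈ (P : Subgroup G) ∧ Psi Om (P : Subgroup G) x := by
  haveI : Fact (Nat.Prime 2) := ⟨Nat.prime_two⟩
  have hx2 : IsPGroup 2 (zpowers x) := by
    refine IsPGroup.of_card (n := 1) ?_
    rw [Nat.card_zpowers, hx.orderOf h, pow_one]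
  obtain ⟨P1, hP1, hle1⟩ := exists_syl_ge hx2 (show zpowers x ≤ centralizer {s} by
    rw [zpowers_le, mem_centralizer_singleton_iff]; exact hxs)
  let D : Subgroup G := sSup {K | K ∈ Om ∧ K ≤ (S : Subgroup G)}
  have hDS : D ≤ (S : Subgroup G) := sSup_le fun K hK => hK.2
  have hDs : D ≤ centralizer {s} := by
    refine sSup_le fun K hK => ?_
    have h3 : zz K ∈ CS Om (S : Subgroup G) := ⟨K, ⟨hK.1, rfl⟩, hK.2⟩
    exact Mem.le_cent (z := zz K) ⟨hK.1, rfl⟩ (CS_subset_ZS h S.isPGroup' hs h3)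
  obtain ⟨P2, hP2, hle2⟩ := exists_syl_ge (S.isPGroup'.to_le hDS) hDs
  obtain ⟨S2, hS2⟩ := hP2.2.1.exists_le_sylow
  have hmem := CS_eq_of_le h S S2 fun K hK hKS =>
    ((le_sSup (show K ∈ {K | K ∈ Om ∧ K ≤ (S : Subgroup G)} from ⟨hK, hKS⟩)).trans hle2).trans hS2
  have hCS := CS_congr h hmem
  have hTT : TT Om (S2 : Subgroup G) = TT Om (S : Subgroup G) := by rw [TT, TT, hCS]
  obtain ⟨c, hc, hcP⟩ := hP2.exists_conj hP1
  rw [mem_centralizer_singleton_iff] at hc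
  have hxS : x ∈ cj c (S2 : Subgroup G) := by
    have h3 : x ∈ P1 := hle1 (mem_zpowers x)
    rw [← hcP] at h3
    exact cj_mono c hS2 h3
  refine ⟨c • S2, ?_, hxS, Psi.of_mem h hx hxS⟩
  change s ∈ TT Om (cj c (S2 : Subgroup G))
  rw [TT_cj h, hTT, mem_cj]
  have h3 : c⁻¹ * s * c = s := by rw [mul_assoc, ← hc, inv_mul_cancel_left]
  rw [h3]; exact hs

/-- **(0.2)** -/
theorem exists_ncp (h : WM Om) (S : Sylow 2 G) (hy : InZ Om y) (hn : y ∉ CS Om (S : Subgroup G)) :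
    ∃ w ∈ CS Om (S : Subgroup G), w ≠ y ∧ ¬ CP Om w y := by
  by_contra hcon
  push Not at hcon
  refine hn (mem_CS_of_clique h S hy fun w hw => ?_)
  by_cases hwy : w = y
  · exact Or.inl hwy
  · exact Or.inr (hcon w hw hwy)

/-- `C(z)` normalises `A(z)` etc.: `C(s)` normalises `⟨Z(s)⟩` -/
theorem cl_ZS_conj (h : WM Om) (hg : g * s = s * g) (ha : a ∈ closure (ZS Om s)) : g * a * g⁻¹ ∈ closure (ZS Om s) := by
  have h2 : closure (ZS Om s) ≤ cj g⁻¹ (closure (ZS Om s)) := by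
    rw [closure_le]
    intro y hy
    rw [SetLike.mem_coe, mem_cj, inv_inv]
    exact subset_closure (ZS_conj h hy hg)
  have h3 := h2 ha
  rwa [mem_cj, inv_inv] at h3

end Fin

end Cfsg.Agent.Cit.Nil.RTwoM
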