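import Cfsg.Agent.Cit.Nil.RTwoM.ROneA
import Cfsg.Agent.Cit.Nil.RTwoM.UPsi
import Cfsg.Agent.Cit.Nil.RTwoM.TFour
import Cfsg.Agent.Cit.Nil.RTwoM.U.RZero

/-!
# S1309, (6b), (C3), `r = 2`, any `m`, `LAMBDA0 ⟹ StarC` (helper762's uniform proof): (R0), (R1a), (R1c)

* **`psi_free`** (R0) : `x ∈ Ψ_S`, `T_x = 1`: `x ∈ AA Om S`, or `|T| = 4` and `x` is of type (1a) or (1c);
* **`one_a`** (R1a) : `OneA`, `|T| = 4` : `z y ∈ C(R_x)` for some `y ∈ a0(z)`, and `Z(z)` contains a swap pair;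
* **`OneC.main`** (R1c) : `OneC` : `x = e z₂ z₃`.
-/

set_option autoImplicit false
set_option linter.style.haveILetI false
set_option linter.unusedSectionVars false

namespace Cfsg.Agent.Cit.Nil.RTwoM

open Subgroup Cfsg Cfsg.Agent.Cit
open RG (WR CP Ov InO)
open RI (CS)

variable {G : Type*} [Group G] {Om : Set (Subgroup G)} {K L M X A : Subgroup G} {a c d e s t u v w x y z g k n p : G}

section Fin

variable [Finite G]

theorem exists_ne_CS {S : Subgroup G} (h2 : 2 ≤ (CS Om S).ncard) : ∃ z ∈ CS Om S, ∃ u ∈ CS Om S, z ≠ u :=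
  (Set.one_lt_ncard (Set.toFinite _)).1 (by omega)

/-- the elements of `T_S` in `Ex4` : `|T_S| = 4` -/
theorem Ex4.card (h : WM Om) (S : Sylow 2 G) (hx : InZ Om x) (he : Ex4 Om (S : Subgroup G) x p s) :
    Nat.card (TT Om (S : Subgroup G)) = 4 := by
  classical
  obtain ⟨K, hK⟩ := hx
  obtain ⟨a, ha, haa, has, -⟩ := he.as K hK
  have hS := S.isPGroup'
  have pp : p * p = 1 := TT_sq h hS he.pT
  have p1 : p ≠ 1 := by
    rintro rfl
    exact he.swp.2 K hK (cj_one K)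
  have ps : p ≠ s := by
    rintro rfl
    exact he.swp.2 K hK has.cj_eq
  have h1 : ({1, s, p, p * s} : Finset G).card = 4 := by
    rw [Finset.card_insert_of_notMem, Finset.card_insert_of_notMem, Finset.card_insert_of_notMem,
      Finset.card_singleton]
    · rw [Finset.mem_singleton]
      intro h2
      exact he.s1 (left_eq_mul.1 h2)
    · rw [Finset.mem_insert, Finset.mem_singleton]
      rintro (h2 | h2)
      · exact ps h2.symm
      · exact p1 (right_eq_mul.1 h2)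
    · rw [Finset.mem_insert, Finset.mem_insert, Finset.mem_singleton]
      rintro (h2 | h2 | h2)
      · exact he.s1 h2.symm
      · exact p1 h2.symm
      · apply ps
        rw [← mul_left_cancel_iff (a := p), pp, ← h2]
  have h3 : ((({1, s, p, p * s} : Finset G) : Set G)) = (TT Om (S : Subgroup G) : Set G) := by
    ext k
    rw [Finset.mem_coe, Finset.mem_insert, Finset.mem_insert, Finset.mem_insert, Finset.mem_singleton]
    refine ⟨?_, he.all k⟩
    rintro (rfl | rfl | rfl | rfl)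
    · exact one_mem _
    · exact he.sT
    · exact he.pT
    · exact mul_mem he.pT he.sT
  have h5 : (TT Om (S : Subgroup G) : Set G).ncard = Nat.card (TT Om (S : Subgroup G)) :=
    (Nat.card_coe_set_eq _).symm
  rw [← h5, ← h3, Set.ncard_coe_finset, h1]

/-- **(R0)** -/
theorem psi_free (h : WM Om) (l0 : L0 Om) (an : ANT Om) (S : Sylow 2 G) (h2 : 2 ≤ (CS Om (S : Subgroup G)).ncard)
    (hx : Psi Om (S : Subgroup G) x) (hF : Free Om (S : Subgroup G) x) :
    x ∈ AA Om (S : Subgroup G) ∨ (Nat.card (TT Om (S : Subgroup G)) = 4 ∧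
      ((∃ z u, OneA Om (S : Subgroup G) x z u) ∨ ∃ z u, OneC Om (S : Subgroup G) x z u)) := by
  obtain ⟨z, hz, u, hu, hzu⟩ := exists_ne_CS h2
  have hS := S.isPGroup'
  have hxT : ∀ t ∈ TT Om (S : Subgroup G), t * x = x * t := fun t ht => (hx.comm_TT h l0 hS ht).symm
  rcases rzero h l0 an S hx.1 hxT hF hz hu hzu with h3 | ⟨p, s, he⟩
  · exact Or.inl h3
  refine Or.inr ⟨he.card h S hx.1, ?_⟩
  obtain ⟨K, hK⟩ := hx.1
  obtain ⟨a, ha, haa, has, has'⟩ := he.as K hK
  have hsK := has.cj_eq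
  have hsw : Swp Om x (p * s) := swp_mul_fix h hK he.swp (hxT s he.sT) hsK
  have pp : p * p = 1 := TT_sq h hS he.pT
  have hps : p ≠ s := by
    rintro rfl
    exact he.swp.2 K hK hsK
  have hcs : ∀ v ∈ CS Om (S : Subgroup G), v = s ∨ v = p ∨ v = p * s := fun v hv =>
    (he.all v (CS.mem_TT hv)).resolve_left (CS.ne_one h hv)
  by_cases hs : s ∈ CS Om (S : Subgroup G)
  · left
    have hti : TI Om x s := by
      have hxs : x ≠ s := by
        rintro rfl
        exact he.s1 (hF x he.sT (z_mem_CX h))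
      refine TI.of_one h hK (CS.inZ hs) hxs ?_ ?_
      · intro k hk
        rw [has.2 k hk]
        by_cases hak : a * k = k * a
        · left; rw [hak, mul_inv_cancel_right]
        · right
          rcases hK.sq_cases h hk with h4 | h4 | h4
          · exact absurd (by rw [h4, mul_one, one_mul]) hak
          · exact absurd (by rw [h4]; exact hK.comm_z h ha) hak
          · exact hK.anti h hk h4 ha haa fun h5 => hak h5.symm
      · intro h4
        have h5 : As K s 1 := As.one_iff.2 h4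
        exact hK.not_as_one h has haa h5
    have hv : ∃ v ∈ CS Om (S : Subgroup G), v ≠ s := by
      by_cases hzs : z = s
      · exact ⟨u, hu, fun h4 => hzu (hzs.trans h4.symm)⟩
      · exact ⟨z, hz, hzs⟩
    obtain ⟨v, hv, hvs⟩ := hv
    refine ⟨s, v, hs, hv, hti, ?_⟩
    rcases hcs v hv with rfl | rfl | rfl
    · exact absurd rfl hvs
    · exact he.swp
    · exact hsw
  · right
    have hcs' : ∀ v ∈ CS Om (S : Subgroup G), v = p ∨ v = p * s := fun v hv => by
      rcases hcs v hv with rfl | h4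
      · exact absurd hv hs
      · exact h4
    have hpp : p ∈ CS Om (S : Subgroup G) ∧ p * s ∈ CS Om (S : Subgroup G) := by
      rcases hcs' z hz with h4 | h4 <;> rcases hcs' u hu with h5 | h5
      · exact absurd (h4.trans h5.symm) hzu
      · exact ⟨h4 ▸ hz, h5 ▸ hu⟩
      · exact ⟨h5 ▸ hu, h4 ▸ hz⟩
      · exact absurd (h4.trans h5.symm) hzu
    refine ⟨p, p * s, hpp.1, hpp.2, fun h4 => he.s1 (left_eq_mul.1 h4), hcs', he.swp, hsw, K, a, hK, ha, haa, ?_⟩
    rw [← mul_assoc, pp, one_mul]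
    exact has

/-- `|T| = 4`: a C-partner of `z` and `u` is `z u` -/
theorem third_of_four (h : WM Om) (S : Sylow 2 G) (h4 : Nat.card (TT Om (S : Subgroup G)) = 4) (hz : InZ Om z)
    (hu : InZ Om u) (he : InZ Om e) (hzu : CP Om z u) (hze : CP Om z e) (hue : CP Om u e) : e = z * u := by
  obtain ⟨P, hzP, huP⟩ := exists_sylow_of_cp h hz hu hzu
  have h4' : Nat.card (TT Om (P : Subgroup G)) = 4 := (card_TT_eq h S P).trans h4
  have hall : ∀ v ∈ CS Om (P : Subgroup G), v = z ∨ v = u ∨ v = z * u := fun v hv =>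
    (TT_eq_of_four h P h4' hzP huP hzu.1 (CS.mem_TT hv)).resolve_left (CS.ne_one h hv)
  have hne : e ≠ z := fun h5 => hze.1 h5.symm
  have hne' : e ≠ u := fun h5 => hue.1 h5.symm
  by_cases heP : e ∈ CS Om (P : Subgroup G)
  · rcases hall e heP with h5 | h5 | h5
    · exact absurd h5 hne
    · exact absurd h5 hne'
    · exact h5
  · by_cases hm : z * u ∈ CS Om (P : Subgroup G)
    · have h5 : z * u ∈ CX Om e := Subgroup.mul_mem _ (cp_cx h hz hze.symm) (cp_cx h hu hue.symm)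
      rcases (cen_iff h he (CS.inZ hm)).1 h5 with h6 | h6
      · exact h6
      · exfalso
        apply heP
        refine mem_CS_of_clique h P he fun w hw => ?_
        rcases hall w hw with h8 | h8 | h8
        · right; rw [h8]; exact hze
        · right; rw [h8]; exact hue
        · right; rw [h8]; exact h6.symm
    · exfalso
      apply heP
      refine mem_CS_of_clique h P he fun w hw => ?_
      rcases hall w hw with h8 | h8 | h8
      · right; rw [h8]; exact hze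
      · right; rw [h8]; exact hue
      · exact absurd (h8 ▸ hw) hm

theorem OneA.ne (h : WM Om) {S : Subgroup G} (ha : OneA Om S x z u) : z ≠ u := by
  intro h1
  obtain ⟨K, hK⟩ := ha.ti.inZ
  refine ha.sw.2 K hK ?_
  rw [← h1]
  exact ha.ti.inn.cj_eq hK h

theorem OneA.cp (h : WM Om) {S : Subgroup G} (hS : IsPGroup 2 S) (ha : OneA Om S x z u) : CP Om z u :=
  CS.cp ha.hz h hS ha.hu (ha.ne h)

/-- **(R1a)** : `z`, `y` are C-partners, `x ∈ Z(z y)`; `y = (k a) u (k a)⁻¹`; `(u, a u a⁻¹)` is a swap pair in `Z(z)` -/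
theorem OneA.main (h : WM Om) (l0 : L0 Om) (an : ANT Om) (S : Sylow 2 G) (h4 : Nat.card (TT Om (S : Subgroup G)) = 4)
    (hA : OneA Om (S : Subgroup G) x z u) :
    ∃ y a k, InZ Om y ∧ CP Om z y ∧ z * y ∈ CX Om x ∧ x ∈ ZS Om (z * y) ∧ a ∈ RZ Om x ∧ a * z = z * a ∧ a * x = x * a ∧
      k ∈ RZ Om u ∧ k ∈ CX Om z ∧ k * z = z * k ∧ y = (k * a) * u * (k * a)⁻¹ ∧
      u ∈ ZS Om z ∧ a * u * a⁻¹ ∈ ZS Om z ∧ Swp Om u (a * u * a⁻¹) ∧ ∃ b ∈ NZ Om z, x * b ∈ RZ Om z := by
  have hz := CS.inZ hA.hz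
  have hu := CS.inZ hA.hu
  have hzu := hA.cp h S.isPGroup'
  have an' : ANt Om z := an S z (CS.mem_TT hA.hz) (hz.z1 h)
  rcases r_one_a_b h l0 an' hu hzu hA.ti hA.sw (fun e he h1 h2 => third_of_four h S h4 hz hu he hzu h1 h2) with
    h1 | ⟨y, hy, a, k, ha, haz, hk, hkz, hyk, hxy, hau, hsw, hb⟩
  · exact absurd (NZ_le_CX h hz h1) (hA.ti.not_mem_CX h)
  · refine ⟨y, a, k, hy.1, hy.2, hxy.2, hxy, ha, haz, RZ_le_centralizer h ha, hk, ?_, hkz, hyk,
      A0_subset h hz ⟨hu, hzu⟩, hau, hsw, hb⟩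
    rw [mem_CX]
    intro M hM m hm
    exact (cp_RZ h hzu (hM.le_RZ hm) hk).symm

theorem OneC.cp (h : WM Om) {S : Subgroup G} (hS : IsPGroup 2 S) (hC : OneC Om S x z u) : CP Om z u :=
  CS.cp hC.hz h hS hC.hu hC.ne

theorem OneC.symm (h : WM Om) {S : Subgroup G} (hS : IsPGroup 2 S) (hC : OneC Om S x z u) : OneC Om S x u z := by
  obtain ⟨K, k, hK, hk, hkk, has⟩ := hC.inn
  refine ⟨hC.hu, hC.hz, hC.ne.symm, fun v hv => (hC.all v hv).symm, hC.swu, hC.swz, K, k, hK, hk, hkk, ?_⟩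
  rw [CS.comm hC.hu h hS hC.hz]
  exact has

/-- the type (1c) does not depend on the order of `z`, `u` -/
theorem OneC.eq_mul (h : WM Om) {S : Subgroup G} (hS : IsPGroup 2 S) (hC : OneC Om S x z u) {z' u' : G}
    {x' : G} (hC' : OneC Om S x' z' u') : z' * u' = z * u := by
  rcases hC.all z' hC'.hz with h1 | h1 <;> rcases hC.all u' hC'.hu with h2 | h2
  · exact absurd (h1.trans h2.symm) hC'.ne
  · rw [h1, h2]
  · rw [h1, h2, CS.comm hC.hu h hS hC.hz]
  · exact absurd (h1.trans h2.symm) hC'.ne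

/-- the factor `v = z^k` of `x` in (R1c); `a` is the element of `K_x` acting as `z u` -/
structure Fac (Om : Set (Subgroup G)) (S : Subgroup G) (x z u a v : G) : Prop where
  psi : Psi Om S v
  ncs : v ∉ CS Om S
  nas : ∀ L b, Mem Om v L → ¬ As L (z * u) b
  non : ∀ z' u', ¬ OneC Om S v z' u'
  con : ∃ k ∈ RZ Om x, v = k * z * k⁻¹
  cz : v * z = z * v
  cu : v * u = u * v
  mv : a * (z * v) * a⁻¹ = x * (z * v)

theorem OneC.fac (h : WM Om) {S : Subgroup G} (hS : IsPGroup 2 S) (hC : OneC Om S x z u) (hK : Mem Om x K)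
    (ha : As K (z * u) a) (haa : a * a = x) (hk : k ∈ K) (hak : a * k ≠ k * a) : Fac Om S x z u a (k * z * k⁻¹) := by
  have hz := CS.inZ hC.hz
  have hu := CS.inZ hC.hu
  have hx := hK.inZ
  have hzu := hC.cp h hS
  have hzz := hz.z2 h
  have hxx := hx.z2 h
  have hsz := hC.swz
  have hzc : z * u = u * z := cp_comm h hz hu hzu
  have hkk : k * k = x := by
    rcases hK.sq_cases h hk with h1 | h1 | h1
    · exact absurd (by rw [h1, mul_one, one_mul]) hak
    · exact absurd (by rw [h1]; exact hK.comm_z h ha.1) hak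
    · exact h1
  obtain ⟨l, -, -, -, -, -, hgood⟩ := r_one_c h hz hu hx hzu hsz hK ha haa
  obtain ⟨cz, cu, -⟩ := hgood k hk hak
  have hkx := hK.comm_z h hk
  have h1 : (z * u) * k * (z * u)⁻¹ = x * k := by
    rw [ha.2 k hk]
    exact hK.anti h hk hkk ha.1 haa (fun h2 => hak h2.symm)
  have h3 : k⁻¹ * (z * u) * k = x * (z * u) := by
    have h4 : (z * u) * k = x * k * (z * u) := by rwa [mul_inv_eq_iff_eq_mul] at h1
    rw [mul_assoc, h4, ← hkx]
    group
  have hzz' : z⁻¹ = z := hz.inv h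
  have nas : ∀ L b, Mem Om (k * z * k⁻¹) L → ¬ As L (z * u) b := by
    intro L b hL hb
    have hM := hL.cj h k⁻¹
    rw [show k⁻¹ * (k * z * k⁻¹) * k⁻¹⁻¹ = z by group] at hM
    have h5 := hb.conj k⁻¹
    rw [inv_inv, h3] at h5
    have h6 : As (cj k⁻¹ L) (z * u) 1 := As.one_iff.2 fun m hm =>
      mem_CX.1 (mul_mem (z_mem_CX h) (cp_cx h hu hzu)) _ hM m hm
    have h7 := h5.mul h6.inv
    rw [mul_inv_cancel_right, inv_one, mul_one] at h7
    have h8 : ∀ m ∈ cj k⁻¹ L, x * m * x⁻¹ = m ∨ x * m * x⁻¹ = z * m := by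
      intro m hm
      rw [h7.2 m hm]
      exact hM.comm_or h hm h7.1
    rcases inn_cases h hM hx h8 with h9 | h9 | h9
    · refine hsz.2 K hK ?_
      rw [h9]
      exact (Inn.of_CX (z_mem_CX h)).cj_eq hK h
    · exact hsz.2 K hK ((inn_of_cp h hz h9.symm).cj_eq hK h)
    · exact hsz.2 K hK ((h9.symm h).inn.cj_eq hK h)
  have hv : InZ Om (k * z * k⁻¹) := hz.conj h k
  refine ⟨Psi.of_comm hv fun w hw => ?_, fun hv' => ?_, nas, fun z' u' hC' => ?_, ⟨k, hK.le_RZ hk, rfl⟩, cz, cu, ?_⟩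
  · rcases hC.all w hw with rfl | rfl
    · exact cz
    · exact cu
  · obtain ⟨L, hL⟩ := hv
    refine nas L 1 hL (As.one_iff.2 ?_)
    intro m hm
    exact mem_CX.1 (TT_cx h hS hv' (mul_mem (CS.mem_TT hC.hz) (CS.mem_TT hC.hu))) L hL m hm
  · obtain ⟨L, b, hL, hb, -, hb'⟩ := hC'.inn
    rw [hC.eq_mul h hS hC'] at hb'
    exact nas L b hL hb'
  · -- `z v = x (k k')`
    have e1 : z * (k * z * k⁻¹) = (z * k * z⁻¹) * k⁻¹ := by rw [hzz']; group
    have hk' : z * k * z⁻¹ ∈ cj z K := conj_mem_cj hk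
    have e2 : a * (z * k * z⁻¹) = (z * k * z⁻¹) * a := hK.comm (hsz.mem h hK) h (hsz.ne hK) ha.1 hk'
    have e3 : a * k⁻¹ * a⁻¹ = x * k⁻¹ := by
      have e4 : k⁻¹ = x * k := hK.inv_eq h hk hkk
      rw [e4]
      have e5 : a * k * a⁻¹ = x * k := hK.anti h hk hkk ha.1 haa (fun h2 => hak h2.symm)
      have e6 := hK.comm_z h ha.1
      calc a * (x * k) * a⁻¹ = (a * x) * k * a⁻¹ := by group
        _ = x * (a * k * a⁻¹) := by rw [e6]; group
        _ = _ := by rw [e5]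
    rw [e1]
    calc a * (z * k * z⁻¹ * k⁻¹) * a⁻¹ = (a * (z * k * z⁻¹)) * k⁻¹ * a⁻¹ := by group
      _ = (z * k * z⁻¹) * (a * k⁻¹ * a⁻¹) := by rw [e2]; group
      _ = ((z * k * z⁻¹) * x) * k⁻¹ := by rw [e3]; group
      _ = (x * (z * k * z⁻¹)) * k⁻¹ := by rw [(hsz.mem h hK).comm_z h hk']
      _ = _ := by group

/-- **(R1c)** -/
theorem OneC.main (h : WM Om) {S : Subgroup G} (hS : IsPGroup 2 S) (hC : OneC Om S x z u) :
    ∃ a e v w, a ∈ RZ Om x ∧ a * (z * u) = (z * u) * a ∧ e ∈ NZ Om (z * u) ∧ x = e * v * w ∧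
      Fac Om S x z u a v ∧ Fac Om S x z u a w := by
  obtain ⟨K, a, hK, -, haa, ha⟩ := hC.inn
  have hz := CS.inZ hC.hz
  have hu := CS.inZ hC.hu
  obtain ⟨l, hl, hll, hal, h1, h2, -⟩ := r_one_c h hz hu hK.inZ (hC.cp h hS) hC.swz hK ha haa
  refine ⟨a, _, _, _, hK.le_RZ ha.1, ha.comm.symm, h2, h1, hC.fac h hS hK ha haa hl hal,
    hC.fac h hS hK ha haa (mul_mem ha.1 hl) ?_⟩
  intro h3
  apply hal
  rw [mul_assoc] at h3
  exact mul_left_cancel h3

end Fin

end Cfsg.Agent.Cit.Nil.RTwoM
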