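import Cfsg.Agent.Cit.Nil.RTwoM.UIndex

/-!
# S1309, (6b), (C3), `r = 2`, any `m`, `LAMBDA0` : reduction to `Ψ'`

* `exists_swp_of_bot` : `T_S ∩ C(R_x) = 1`, `|C_S| ≥ 3`, `x ∈ Z ∩ C(C_S)`: some element of `C_S` is a swap at `x`;
* `red` : `|C_S| ≥ 3`, `|T_S| ≥ 8`, `x ∈ Z ∩ C(C_S)` does not commute with `y`: some `w ∈ Z(s)`, `s ∈ T_S#`, does not
  commute with `y`.
-/

set_option autoImplicit false
set_option linter.style.haveILetI false
set_option linter.unusedSectionVars false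

namespace Cfsg.Agent.Cit.Nil.RTwoM

open Subgroup Cfsg Cfsg.Agent.Cit

open RG (WR CP Ov InO Tr)
open RI (CS)

variable {G : Type*} [Group G] {Om : Set (Subgroup G)} {K L M : Subgroup G}
  {a b c d e g k l n n' r s s' t u v w x y z z₁ z₂ z₃ : G}

section Fin

variable [Finite G]

theorem mem_CX_of_swp (h : WM Om) (hK : Mem Om x K) (hsw : Swp Om x w) (hgw : g * w = w * g)
    (hk : ∀ k ∈ K, g * k = k * g) : g ∈ CX Om x := by
  rw [mem_CX]
  intro M hM m hm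
  rcases hK.cases (hsw.mem h hK) h (hsw.ne hK) hM with rfl | rfl
  · exact hk m hm
  · obtain ⟨k, hk', rfl⟩ := hm
    have h2 := hk k hk'
    show g * (w * k * w⁻¹) = w * k * w⁻¹ * g
    have h4 : w⁻¹ * g = g * w⁻¹ := by
      rw [inv_mul_eq_iff_eq_mul, ← mul_assoc, ← hgw, mul_inv_cancel_right]
    calc g * (w * k * w⁻¹) = (g * w) * k * w⁻¹ := by group
      _ = (w * g) * k * w⁻¹ := by rw [hgw]
      _ = w * (g * k) * w⁻¹ := by group
      _ = w * (k * g) * w⁻¹ := by rw [h2]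
      _ = w * k * (g * w⁻¹) := by group
      _ = w * k * (w⁻¹ * g) := by rw [h4]
      _ = _ := by group

theorem mul_TT (h : WM Om) {S : Subgroup G} (hu : u ∈ CS Om S) (he : e ∈ CS Om S) (hue : u ≠ e) :
    u * e ∈ TT Om S ∧ u * e ≠ 1 := by
  refine ⟨mul_mem (CS.mem_TT hu) (CS.mem_TT he), fun h1 => hue ?_⟩
  have h2 := eq_inv_of_mul_eq_one_left h1
  rwa [(CS.inZ he).inv h] at h2

/-- `T_S ∩ C(R_x) = 1` : some element of `C_S` is a swap at `x` -/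
theorem exists_swp_of_bot (h : WM Om) (l0 : L0 Om) (ant : ANT Om) (S : Sylow 2 G) (hx : InZ Om x)
    (hc : ∀ z ∈ CS Om (S : Subgroup G), x * z = z * x)
    (hbot : ∀ t ∈ TT Om (S : Subgroup G), t ∈ CX Om x → t = 1)
    (h1 : z₁ ∈ CS Om (S : Subgroup G)) (h2 : z₂ ∈ CS Om (S : Subgroup G)) (h3 : z₃ ∈ CS Om (S : Subgroup G))
    (n12 : z₁ ≠ z₂) (n13 : z₁ ≠ z₃) (n23 : z₂ ≠ z₃) : ∃ z ∈ CS Om (S : Subgroup G), Swp Om x z := by
  by_contra hcon
  push Not at hcon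
  have hS := S.isPGroup'
  have hne : ∀ z ∈ CS Om (S : Subgroup G), x ≠ z := by
    rintro z hz rfl
    exact (CS.inZ hz).z1 h (hbot x (CS.mem_TT hz) (z_mem_CX h))
  have key : ∀ z ∈ CS Om (S : Subgroup G), TI Om x z ∨ Ff Om x z := by
    intro z hz
    rcases tri h hx (CS.inZ hz) (hne z hz) (hc z hz) with h1 | h1 | h1
    · exact absurd (hbot z (CS.mem_TT hz) (cp_cx h (CS.inZ hz) h1)) ((CS.inZ hz).z1 h)
    · exact Or.inl h1
    · rcases h1.1.cases with h2 | h2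
      · exact absurd h2 (hcon z hz)
      · exact Or.inr h2
  have nti : ∀ u ∈ CS Om (S : Subgroup G), ¬ TI Om x u := by
    intro u hu hti
    obtain ⟨e, he, hue⟩ : ∃ e ∈ CS Om (S : Subgroup G), u ≠ e := by
      by_cases hu1 : u = z₁
      · exact ⟨z₂, h2, hu1 ▸ n12⟩
      · exact ⟨z₁, h1, hu1⟩
    rcases key e he with h4 | h4
    · exact (mul_TT h hu he hue).2 (hbot _ (mul_TT h hu he hue).1 (tt_II_cx h (CS.cp hu h hS he hue) hti h4))
    · exact tt_If h (CS.cp hu h hS he hue) hti (CS.inZ he) h4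
  have hff : ∀ u ∈ CS Om (S : Subgroup G), Ff Om x u := fun u hu => (key u hu).resolve_left (nti u hu)
  obtain ⟨K, hK⟩ := hx
  obtain ⟨a, ha⟩ := (hff z₁ h1).exists_tr h ((CS.inZ h1).z2 h) hK
  have ant' : ∀ {u e : G}, u ∈ CS Om (S : Subgroup G) → e ∈ CS Om (S : Subgroup G) → u ≠ e → ANt Om (u * e) :=
    fun hu he hue => ant S _ (mul_TT h hu he hue).1 (mul_TT h hu he hue).2
  obtain ⟨t2, a12⟩ := tt_ff h l0 (CS.cp h1 h hS h2 n12) (ant' h1 h2 n12) (CS.inZ h1) (CS.inZ h2) (hff _ h1) (hff _ h2)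
    hK ha
  obtain ⟨t3, a13⟩ := tt_ff h l0 (CS.cp h1 h hS h3 n13) (ant' h1 h3 n13) (CS.inZ h1) (CS.inZ h3) (hff _ h1) (hff _ h3)
    hK ha
  obtain ⟨-, a23⟩ := tt_ff h l0 (CS.cp h2 h hS h3 n23) (ant' h2 h3 n23) (CS.inZ h2) (CS.inZ h3) (hff _ h2) (hff _ h3)
    hK t2
  have haa := Tr.sq' ha hK
  have h4 := a12.mul a13
  have h5 : z₁ * z₂ * (z₁ * z₃) = z₂ * z₃ := by
    calc z₁ * z₂ * (z₁ * z₃) = (z₁ * z₂) * z₁ * z₃ := by group
      _ = (z₂ * z₁) * z₁ * z₃ := by rw [CS.comm h1 h hS h2]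
      _ = z₂ * (z₁ * z₁) * z₃ := by group
      _ = _ := by rw [(CS.inZ h1).z2 h, mul_one]
  rw [h5, haa, ← mul_one x] at h4
  exact hK.not_as_one h a23 haa (as_of_zmul h hK h4)

/-- a third element -/
theorem exists_third {T : Subgroup G} (h3 : 3 ≤ Nat.card T) (θ : G) : ∃ t ∈ T, t ≠ 1 ∧ t ≠ θ := by
  classical
  by_contra hcon
  push Not at hcon
  have h1 : (T : Set G) ⊆ (({1, θ} : Finset G) : Set G) := by
    intro t ht
    rw [Finset.mem_coe, Finset.mem_insert, Finset.mem_singleton]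
    by_cases h2 : t = 1
    · exact Or.inl h2
    · exact Or.inr (hcon t ht h2)
  have h2 := Set.ncard_le_ncard h1 (Set.toFinite _)
  rw [Set.ncard_coe_finset] at h2
  have h4 : (T : Set G).ncard = Nat.card T := rfl
  have h5 := Finset.card_le_two (a := (1 : G)) (b := θ)
  omega

theorem exists_of_NZ (hg : g ∈ NZ Om s) (hy : g * y ≠ y * g) : ∃ w ∈ ZS Om s, w * y ≠ y * w := by
  by_contra hcon
  push Not at hcon
  have h1 : NZ Om s ≤ centralizer {y} := (closure_le _).2 fun w hw => by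
    rw [SetLike.mem_coe, mem_centralizer_singleton_iff]
    exact hcon w hw
  exact hy (mem_centralizer_singleton_iff.1 (h1 hg))

/-- **the reduction to `Ψ'`** -/
theorem red (h : WM Om) (l0 : L0 Om) (ant : ANT Om) (S : Sylow 2 G) (hx : InZ Om x)
    (hc : ∀ z ∈ CS Om (S : Subgroup G), x * z = z * x)
    (h1 : z₁ ∈ CS Om (S : Subgroup G)) (h2 : z₂ ∈ CS Om (S : Subgroup G)) (h3 : z₃ ∈ CS Om (S : Subgroup G))
    (n12 : z₁ ≠ z₂) (n13 : z₁ ≠ z₃) (n23 : z₂ ≠ z₃) (h8 : 8 ≤ Nat.card (TT Om (S : Subgroup G)))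
    (hxy : x * y ≠ y * x) :
    ∃ s ∈ TT Om (S : Subgroup G), s ≠ 1 ∧ ∃ w ∈ ZS Om s, w * y ≠ y * w := by
  have hS := S.isPGroup'
  by_cases hbot : ∀ t ∈ TT Om (S : Subgroup G), t ∈ CX Om x → t = 1
  swap
  · push Not at hbot
    obtain ⟨s, hs, hsx, hs1⟩ := hbot
    exact ⟨s, hs, hs1, x, ⟨hx, hsx⟩, hxy⟩
  have hxT : ∀ t ∈ TT Om (S : Subgroup G), t * x = x * t := by
    have h4 : TT Om (S : Subgroup G) ≤ centralizer ({x} : Set G) :=
      (closure_le _).2 fun u hu => mem_centralizer_singleton_iff.2 (hc u hu).symm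
    exact fun t ht => mem_centralizer_singleton_iff.1 (h4 ht)
  obtain ⟨p, hp, hsw⟩ := exists_swp_of_bot h l0 ant S hx hc hbot h1 h2 h3 n12 n13 n23
  have hpT := CS.mem_TT hp
  have hpp := (CS.inZ hp).z2 h
  obtain ⟨K, hK⟩ := hx
  -- faithful on `K`
  have hf : ∀ t ∈ TT Om (S : Subgroup G), As K t 1 → t = 1 := fun t ht h4 =>
    hbot t ht (mem_CX_of_swp h hK hsw (TT_comm h hS ht hpT) (As.one_iff.1 h4))
  obtain ⟨T0, hT0⟩ : ∃ T0, T0 = TT Om (S : Subgroup G) ⊓ normalizer (K : Set G) := ⟨_, rfl⟩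
  have hmem : ∀ t, t ∈ T0 ↔ t ∈ TT Om (S : Subgroup G) ∧ cj t K = K := by
    intro t
    rw [hT0, mem_inf, mem_normalizer_iff_cj]
  have hcard : Nat.card (TT Om (S : Subgroup G)) ≤ 2 * Nat.card T0 := by
    have hsurj : Function.Surjective (fun q : T0 × Bool => (⟨if q.2 then (q.1 : G) * p else q.1, by
        split_ifs
        · exact mul_mem ((hmem _).1 q.1.2).1 hpT
        · exact ((hmem _).1 q.1.2).1⟩ : TT Om (S : Subgroup G))) := by
      rintro ⟨t, ht⟩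
      by_cases htK : cj t K = K
      · exact ⟨(⟨t, (hmem t).2 ⟨ht, htK⟩⟩, false), rfl⟩
      · have h4 : cj (t * p) K = K := by
          have hL := hsw.mem h hK
          rcases cj_cases h hK hL (hsw.ne hK) (hxT t ht) with h5 | h5
          · exact absurd h5.1 htK
          · rw [cj_mul]; exact h5.2
        refine ⟨(⟨t * p, (hmem _).2 ⟨mul_mem ht hpT, h4⟩⟩, true), ?_⟩
        refine Subtype.ext ?_
        change t * p * p = t
        rw [mul_assoc, hpp, mul_one]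
    have h4 := Nat.card_le_card_of_surjective _ hsurj
    rw [Nat.card_prod, Nat.card_eq_fintype_card (α := Bool), Fintype.card_bool] at h4
    omega
  have h3' : 3 ≤ Nat.card T0 := by omega
  have hT0T : ∀ t ∈ T0, t ∈ TT Om (S : Subgroup G) := fun t ht => ((hmem t).1 ht).1
  have hT0K : ∀ t ∈ T0, cj t K = K := fun t ht => ((hmem t).1 ht).2
  by_cases htr : ∃ θ ∈ T0, ∃ a, Tr θ K a
  · obtain ⟨θ, hθ, a, ha⟩ := htr
    have haa := Tr.sq' ha hK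
    obtain ⟨t, ht, ht1, htθ⟩ := exists_third h3' θ
    have hcm := TT_comm h hS (hT0T θ hθ) (hT0T t ht)
    obtain ⟨t', ht', ht'1, hat'⟩ : ∃ t' ∈ TT Om (S : Subgroup G), t' ≠ 1 ∧ As K t' a := by
      rcases h.wr.inn_or_tr hK.1 (hT0K t ht) (TT_sq h hS (hT0T t ht)) with ⟨y, hy, h4⟩ | ⟨b, hb⟩
      · have h5 : As K t y := ⟨hy, h4⟩
        have h6 := h5.conj_comm hcm
        rw [hT0K θ hθ] at h6
        rcases Tr.cases ha hK h hy (hK.as_unique h h5 h6) with h7 | h7 | h7 | h7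
        · rw [h7] at h5
          exact absurd (hf t (hT0T t ht) h5) ht1
        · rw [h7, ← mul_one x] at h5
          exact absurd (hf t (hT0T t ht) (as_of_zmul h hK h5)) ht1
        · rw [h7] at h5
          exact ⟨t, hT0T t ht, ht1, h5⟩
        · rw [h7] at h5
          exact ⟨t, hT0T t ht, ht1, as_of_zmul h hK h5⟩
      · have h5 := Tr.same h hK (hT0K θ hθ) hcm hb ha
        rcases Tr.mul_cases h hK (hT0K θ hθ) (hT0K t ht) ha h5 with h6 | h6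
        · exfalso
          have h7 := hf _ (mul_mem (hT0T θ hθ) (hT0T t ht)) h6
          have h8 := eq_inv_of_mul_eq_one_right h7
          rw [inv_eq_of_mul_eq_one_right (TT_sq h hS (hT0T θ hθ))] at h8
          exact htθ h8
        · refine ⟨θ * t, mul_mem (hT0T θ hθ) (hT0T t ht), fun h7 => ?_, h6⟩
          have h8 := eq_inv_of_mul_eq_one_right h7
          rw [inv_eq_of_mul_eq_one_right (TT_sq h hS (hT0T θ hθ))] at h8
          exact htθ h8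
    refine ⟨t', ht', ht'1, exists_of_NZ (g := x) ?_ hxy⟩
    have h9 := (LJ h (TT_le_NZ_of h S ht' (hT0T θ hθ)) (hxT θ (hT0T θ hθ)) (hK.le_RZ ha.mem) hat'.comm.symm).1
    rwa [Tr.inv' ha hK h, mul_inv_cancel_right] at h9
  · push Not at htr
    have hin : ∀ t ∈ T0, t ≠ 1 → ∃ k, As K t k ∧ k * k = x := by
      intro t ht ht1
      rcases h.wr.inn_or_tr hK.1 (hT0K t ht) (TT_sq h hS (hT0T t ht)) with ⟨y, hy, h4⟩ | ⟨b, hb⟩
      · have h5 : As K t y := ⟨hy, h4⟩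
        refine ⟨y, h5, ?_⟩
        rcases hK.sq_cases h hy with h7 | h7 | h7
        · rw [h7] at h5
          exact absurd (hf t (hT0T t ht) h5) ht1
        · rw [h7, ← mul_one x] at h5
          exact absurd (hf t (hT0T t ht) (as_of_zmul h hK h5)) ht1
        · exact h7
      · exact absurd hb (htr t ht b)
    obtain ⟨t₁, ht₁, ht₁1, -⟩ := exists_third h3' 1
    obtain ⟨t₂, ht₂, ht₂1, ht₂₁⟩ := exists_third h3' t₁
    obtain ⟨k₁, hk₁, hkk₁⟩ := hin t₁ ht₁ ht₁1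
    obtain ⟨k₂, hk₂, hkk₂⟩ := hin t₂ ht₂ ht₂1
    have hnc : k₁ * k₂ ≠ k₂ * k₁ := by
      intro h4
      have h5 : As K t₂ k₁ := by
        rcases hK.of_comm h hk₁.1 hkk₁ hk₂.1 h4 with h5 | h5 | h5 | h5
        · rw [h5] at hk₂
          exact absurd (hf t₂ (hT0T t₂ ht₂) hk₂) ht₂1
        · rw [h5, ← mul_one x] at hk₂
          exact absurd (hf t₂ (hT0T t₂ ht₂) (as_of_zmul h hK hk₂)) ht₂1
        · rwa [h5] at hk₂
        · rw [h5] at hk₂
          exact as_of_zmul h hK hk₂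
      have h6 := hk₁.inv.mul h5
      rw [inv_mul_cancel] at h6
      have h7 := hf _ (mul_mem (inv_mem (hT0T t₁ ht₁)) (hT0T t₂ ht₂)) h6
      exact ht₂₁ (inv_mul_eq_one.1 h7).symm
    have hk₃ := hk₁.mul hk₂
    have hb : ∀ {t k : G}, t ∈ TT Om (S : Subgroup G) → As K t k → p * k * p⁻¹ * k⁻¹ ∈ NZ Om t := by
      intro t k ht hk
      exact (LJ h (TT_le_NZ_of h S ht hpT) (hxT p hpT) (hK.le_RZ hk.1) hk.comm.symm).1
    have b₁ := hb (hT0T t₁ ht₁) hk₁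
    have b₂ := hb (hT0T t₂ ht₂) hk₂
    have b₃ := hb (mul_mem (hT0T t₁ ht₁) (hT0T t₂ ht₂)) hk₃
    have ht₃1 : t₁ * t₂ ≠ 1 := by
      intro h4
      have h5 := eq_inv_of_mul_eq_one_right h4
      rw [inv_eq_of_mul_eq_one_right (TT_sq h hS (hT0T t₁ ht₁))] at h5
      exact ht₂₁ h5
    have hxe : x = (p * (k₁ * k₂) * p⁻¹ * (k₁ * k₂)⁻¹)⁻¹ * ((p * k₁ * p⁻¹ * k₁⁻¹) * (p * k₂ * p⁻¹ * k₂⁻¹)) := by
      have c1 := hsw.cm h hK (inv_mem hk₁.1) hk₂.1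
      have c2 : k₂ * k₁ * k₂⁻¹ = x * k₁ := hK.anti h hk₁.1 hkk₁ hk₂.1 hkk₂ hnc
      have c3 : k₁ * k₂ * k₁⁻¹ * k₂⁻¹ = x := by
        have h4 : k₁ * k₂ * k₁⁻¹ = x * k₂ := hK.anti h hk₂.1 hkk₂ hk₁.1 hkk₁ (Ne.symm hnc)
        rw [h4, mul_inv_cancel_right]
      calc x = k₁ * k₂ * k₁⁻¹ * k₂⁻¹ := c3.symm
        _ = (p * (k₁ * k₂) * p⁻¹ * (k₁ * k₂)⁻¹)⁻¹ * (p * k₁ * p⁻¹ * ((p * k₂ * p⁻¹) * k₁⁻¹) * k₂⁻¹) := by group
        _ = (p * (k₁ * k₂) * p⁻¹ * (k₁ * k₂)⁻¹)⁻¹ * (p * k₁ * p⁻¹ * (k₁⁻¹ * (p * k₂ * p⁻¹)) * k₂⁻¹) := by rw [c1]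
        _ = _ := by group
    by_cases c₁ : (p * k₁ * p⁻¹ * k₁⁻¹) * y = y * (p * k₁ * p⁻¹ * k₁⁻¹)
    swap
    · exact ⟨t₁, hT0T t₁ ht₁, ht₁1, exists_of_NZ b₁ c₁⟩
    by_cases c₂ : (p * k₂ * p⁻¹ * k₂⁻¹) * y = y * (p * k₂ * p⁻¹ * k₂⁻¹)
    swap
    · exact ⟨t₂, hT0T t₂ ht₂, ht₂1, exists_of_NZ b₂ c₂⟩
    refine ⟨t₁ * t₂, mul_mem (hT0T t₁ ht₁) (hT0T t₂ ht₂), ht₃1, exists_of_NZ b₃ fun c₃ => hxy ?_⟩
    have m1 := mem_centralizer_singleton_iff.2 c₁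
    have m2 := mem_centralizer_singleton_iff.2 c₂
    have m3 := mem_centralizer_singleton_iff.2 c₃
    have m4 : x ∈ centralizer ({y} : Set G) := by
      rw [hxe]; exact mul_mem (inv_mem m3) (mul_mem m1 m2)
    exact mem_centralizer_singleton_iff.1 m4

end Fin

end Cfsg.Agent.Cit.Nil.RTwoM
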