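import Cfsg.Agent.Cit.Nil.RTwoM.UBw
import Cfsg.Agent.Cit.Nil.RTwoM.UEnd
import Cfsg.Agent.Cit.Nil.RTwoM.U.RegDef

/-!
# S1309, (6b), (C3), `r = 2`, any `m`, `LAMBDA0` (helper762's uniform proof), 4.1 (b), (c): REG

* `ROneAR Om` : (R1a), the form for REG; `ROneAR.one`;
* `OneC.psi_of`, `OneC.exists_prod` : (R1c) : `x = e z₂ z₃`;
* **`regSW`** : `RegSW Om`.
-/

set_option autoImplicit false
set_option linter.style.haveILetI false
set_option linter.unusedSectionVars false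
set_option linter.unusedVariables false

namespace Cfsg.Agent.Cit.Nil.RTwoM

open Subgroup Cfsg Cfsg.Agent.Cit

open RTwo (Q3 Act i_ne1 i_ne2 i_ne12)
open RG (WR CP Ov InO Tr)
open RI (CS)

variable {G : Type*} [Group G] {Om : Set (Subgroup G)} {K L M : Subgroup G}
  {b c d g g' k l m n p q r s t u v w x y z k1 k2 : G}

/-- (R1a), the form for REG -/
def ROneAR (Om : Set (Subgroup G)) : Prop := ∀ (S : Sylow 2 G) (x z u : G), Psi Om (S : Subgroup G) x →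
  Nat.card (TT Om (S : Subgroup G)) = 4 → OneA Om (S : Subgroup G) x z u → x ∈ AA Om (S : Subgroup G) ∨
  ((∃ c ∈ RZ Om z, c * x ∈ NZ Om z) ∧
    ∃ k k', k ∈ RZ Om x ∧ k * z = z * k ∧ k' ∈ RZ Om u ∧ z * ((k' * k) * u * (k' * k)⁻¹) ∈ CX Om x)

section Fin

variable [Finite G]

/-- `k' k ∈ C(z)` -/
theorem ROneAR.one (r1 : ROneAR Om) (h : WM Om) : ROneA Om := by
  intro S x z u hx h4 o
  rcases r1 S x z u hx h4 o with h1 | ⟨-, k, k', hk, hkz, hk', h1⟩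
  · exact Or.inl h1
  right
  have hne : z ≠ u := by
    intro h2
    have h3 := o.sw
    rw [← h2] at h3
    obtain ⟨K, hK⟩ := hx.1
    exact h3.2 K hK (o.ti.inn.cj_eq hK h)
  have hcp := CS.cp o.hz h S.isPGroup' o.hu hne
  have hkz' : k' * z = z * k' := (cp_RZ h hcp (z_mem_RZ (CS.inZ o.hz) h) hk').symm
  have hg : (k' * k) * z * (k' * k)⁻¹ = z := by
    rw [mul_inv_eq_iff_eq_mul, mul_assoc, hkz, ← mul_assoc, hkz', mul_assoc]
  refine ⟨_, (CS.inZ o.hu).conj h (k' * k), ?_, h1⟩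
  have h2 := cp_conj h hcp (k' * k)
  rwa [hg] at h2

/-- (R1c) for a given `k₂` -/
theorem OneC.psi_of {S : Subgroup G} (o : OneC Om S x z u) (h : WM Om) (hS : IsPGroup 2 S) (hK : Mem Om x K)
    (hk1 : k1 ∈ K) (hkk : k1 * k1 = x) (hAs : As K (z * u) k1) (hk2 : k2 ∈ K) (hkk2 : k2 * k2 = x)
    (hne : k1 * k2 ≠ k2 * k1) :
    Psi Om S (k2 * z * k2⁻¹) ∧ (k2 * z * k2⁻¹) * z = z * (k2 * z * k2⁻¹) ∧
      ∀ K2, Mem Om (k2 * z * k2⁻¹) K2 → ∀ a, ¬ As K2 (z * u) a := by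
  have hzZ := CS.inZ o.hz
  have huZ := CS.inZ o.hu
  have hzz := hzZ.z2 h
  have hzu : z * u = u * z := CS.comm o.hz h hS o.hu
  have hx := hK.inZ
  have hxx := hx.z2 h
  have hxz : z * x = x * z := o.swz.1
  have hxu : u * x = x * u := o.swu.1
  have hxk : ∀ k ∈ K, k * x = x * k := fun k hk => hK.comm_z h hk
  have e1 : (z * u) * k2 * (z * u)⁻¹ = x * k2 := by
    rw [hAs.2 k2 hk2]
    exact hK.anti h hk2 hkk2 hk1 hkk (fun h1 => hne h1.symm)
  have hl : z * k2 * z⁻¹ ∈ cj z K := conj_mem_cj hk2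
  have hcm : ∀ k ∈ K, k * (z * k2 * z⁻¹) = (z * k2 * z⁻¹) * k := fun k hk => o.swz.cm h hK hk hk2
  have hzi : z⁻¹ = z := hzZ.inv h
  have hk2i : k2⁻¹ = x * k2 := hK.inv_eq h hk2 hkk2
  have hc1 : (k2 * z * k2⁻¹) * z = z * (k2 * z * k2⁻¹) := by
    have h1 := hcm k2 hk2
    have hLz : Mem Om x (cj z K) := o.swz.mem h hK
    have hlz : (z * k2 * z⁻¹) * (z * k2 * z⁻¹) = x := by
      calc (z * k2 * z⁻¹) * (z * k2 * z⁻¹) = z * (k2 * k2) * z⁻¹ := by group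
        _ = x := by rw [hkk2, hxz, mul_inv_cancel_right]
    have hli : (z * k2 * z⁻¹)⁻¹ = x * (z * k2 * z⁻¹) := hLz.inv_eq h hl hlz
    rw [hzi] at h1 hli hlz
    have hk2x : k2 * x = x * k2 := hxk k2 hk2
    calc (k2 * z * k2⁻¹) * z = k2 * (z * k2⁻¹ * z) := by group
      _ = k2 * (z * k2 * z)⁻¹ := by
          rw [show (z * k2 * z)⁻¹ = z⁻¹ * k2⁻¹ * z⁻¹ by group, hzi]
      _ = k2 * (x * (z * k2 * z)) := by rw [hli]
      _ = x * (k2 * (z * k2 * z)) := by rw [← mul_assoc, hk2x, mul_assoc]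
      _ = x * ((z * k2 * z) * k2) := by rw [h1]
      _ = (z * k2 * z) * (x * k2) := by
          have h3 : (z * k2 * z) * x = x * (z * k2 * z) := by
            have := hLz.comm_z h hl
            rwa [hzi] at this
          rw [← mul_assoc, ← h3, mul_assoc]
      _ = (z * k2 * z) * k2⁻¹ := by rw [hk2i]
      _ = z * (k2 * z * k2⁻¹) := by group
  refine ⟨?_, hc1, ?_⟩
  · have hc2 : (k2 * z * k2⁻¹) * (z * u) = (z * u) * (k2 * z * k2⁻¹) := by
      have h1 : (z * u) * (k2 * z * k2⁻¹) * (z * u)⁻¹ = k2 * z * k2⁻¹ := by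
        have h2 : (z * u) * z * (z * u)⁻¹ = z := by
          rw [show (z * u) * z * (z * u)⁻¹ = z * (u * z) * (z * u)⁻¹ by group, ← hzu]
          group
        calc (z * u) * (k2 * z * k2⁻¹) * (z * u)⁻¹
            = ((z * u) * k2 * (z * u)⁻¹) * ((z * u) * z * (z * u)⁻¹) * ((z * u) * k2 * (z * u)⁻¹)⁻¹ := by group
          _ = (x * k2) * z * (x * k2)⁻¹ := by rw [e1, h2]
          _ = (k2 * x) * z * (k2 * x)⁻¹ := by rw [hxk k2 hk2]
          _ = k2 * (x * z * x⁻¹) * k2⁻¹ := by group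
          _ = k2 * z * k2⁻¹ := by rw [← hxz, mul_inv_cancel_right]
      rw [mul_inv_eq_iff_eq_mul] at h1
      exact h1.symm
    refine Psi.of_comm (hzZ.conj h k2) fun v hv => ?_
    rcases o.all v hv with rfl | rfl
    · exact hc1
    · have h3 : v = z * (z * v) := by rw [← mul_assoc, hzz, one_mul]
      calc (k2 * z * k2⁻¹) * v = (k2 * z * k2⁻¹) * (z * (z * v)) := by rw [← h3]
        _ = ((k2 * z * k2⁻¹) * z) * (z * v) := by group
        _ = (z * (k2 * z * k2⁻¹)) * (z * v) := by rw [hc1]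
        _ = z * ((k2 * z * k2⁻¹) * (z * v)) := by group
        _ = z * ((z * v) * (k2 * z * k2⁻¹)) := by rw [hc2]
        _ = (z * (z * v)) * (k2 * z * k2⁻¹) := by group
        _ = _ := by rw [← h3]
  · intro K2 hK2 b hb
    have h1 := hb.conj k2⁻¹
    have hM : Mem Om z (cj k2⁻¹ K2) := by
      have h2 := hK2.cj h k2⁻¹
      rwa [inv_inv, show k2⁻¹ * (k2 * z * k2⁻¹) * k2 = z by group] at h2
    have e4 : k2⁻¹ * (z * u) * k2⁻¹⁻¹ = x * (z * u) := by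
      rw [inv_inv]
      have h2 : (z * u) * k2 = x * k2 * (z * u) := by rw [← e1]; group
      calc k2⁻¹ * (z * u) * k2 = k2⁻¹ * ((z * u) * k2) := by group
        _ = k2⁻¹ * (x * k2 * (z * u)) := by rw [h2]
        _ = k2⁻¹ * (k2 * x * (z * u)) := by rw [hxk k2 hk2]
        _ = x * (z * u) := by group
    rw [e4] at h1
    have hz1 : As (cj k2⁻¹ K2) z 1 := hM.as_z h
    have hu1 : As (cj k2⁻¹ K2) u 1 := by
      rw [As.one_iff]
      have hcp : CP Om z u := CS.cp o.hz h hS o.hu o.ne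
      exact mem_CX.1 (cp_cx h huZ hcp) _ hM
    have h3 := h1.mul ((hz1.mul hu1).inv)
    rw [mul_inv_cancel_right, one_mul, inv_one, mul_one] at h3
    refine o.swz.not_cases h hx hzZ (inn_cases h hM hx fun k hk => ?_)
    rw [h3.2 k hk]
    exact hM.comm_or h hk h3.1

/-- (R1c) : `x = e z₂ z₃` -/
theorem OneC.exists_prod {S : Subgroup G} (o : OneC Om S x z u) (h : WM Om) (hS : IsPGroup 2 S) :
    ∃ e z2 z3, x = e * z2 * z3 ∧ e ∈ NZ Om (z * u) ∧ (Psi Om S z2 ∧ ∀ K2, Mem Om z2 K2 → ∀ a, ¬ As K2 (z * u) a) ∧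
      (Psi Om S z3 ∧ ∀ K3, Mem Om z3 K3 → ∀ a, ¬ As K3 (z * u) a) := by
  obtain ⟨K, k1, hK, hk1, hkk, hAs⟩ := o.inn
  obtain ⟨k2, hk2, hkk2, hne⟩ := hK.exists_nc h hk1 hkk
  have hzZ := CS.inZ o.hz
  have hzi : z⁻¹ = z := hzZ.inv h
  have hzz := hzZ.z2 h
  have hx := hK.inZ
  have hxx := hx.z2 h
  have hxk : ∀ k ∈ K, k * x = x * k := fun k hk => hK.comm_z h hk
  have hanti : k2 * k1 = x * (k1 * k2) := by
    have h1 := hK.anti h hk1 hkk hk2 hkk2 hne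
    rw [mul_inv_eq_iff_eq_mul] at h1
    rw [h1, mul_assoc]
  have hk3 : k1 * k2 ∈ K := mul_mem hk1 hk2
  have hne3 : k1 * (k1 * k2) ≠ (k1 * k2) * k1 := by
    intro h1
    apply hne
    rw [mul_assoc] at h1
    exact mul_left_cancel h1
  have hkk3 : (k1 * k2) * (k1 * k2) = x := by
    calc (k1 * k2) * (k1 * k2) = k1 * (k2 * k1) * k2 := by group
      _ = k1 * (x * (k1 * k2)) * k2 := by rw [hanti]
      _ = (k1 * x) * k1 * (k2 * k2) := by group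
      _ = (x * k1) * k1 * (k2 * k2) := by rw [hxk k1 hk1]
      _ = x * (k1 * k1) * (k2 * k2) := by group
      _ = x := by rw [hkk, hkk2, hxx, one_mul]
  obtain ⟨p2, c2, n2⟩ := o.psi_of h hS hK hk1 hkk hAs hk2 hkk2 hne
  obtain ⟨p3, c3, n3⟩ := o.psi_of h hS hK hk1 hkk hAs hk3 hkk3 hne3
  refine ⟨z * (k1 * z⁻¹ * k1⁻¹), _, _, ?_, ?_, ⟨p2, n2⟩, ⟨p3, n3⟩⟩
  · -- `g_j = (z k_j z⁻¹) k_j⁻¹`
    have hcm : ∀ k ∈ K, ∀ l ∈ K, k * (z * l * z⁻¹) = (z * l * z⁻¹) * k := fun k hk l hl => o.swz.cm h hK hk hl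
    have hgc : ∀ k ∈ K, ∀ l ∈ K, k⁻¹ * (z * l * z⁻¹) = (z * l * z⁻¹) * k⁻¹ := fun k hk l hl =>
      hcm _ (inv_mem hk) l hl
    obtain ⟨l1, e1⟩ : ∃ l1, l1 = z * k1 * z⁻¹ := ⟨_, rfl⟩
    obtain ⟨l2, e2⟩ : ∃ l2, l2 = z * k2 * z⁻¹ := ⟨_, rfl⟩
    have g3 : z * ((k1 * k2) * z * (k1 * k2)⁻¹) = l1 * l2 * (k1 * k2)⁻¹ := by
      rw [e1, e2]
      calc z * ((k1 * k2) * z * (k1 * k2)⁻¹) = z * (k1 * k2) * z * (k1 * k2)⁻¹ := by group
        _ = z * (k1 * k2) * z⁻¹ * (k1 * k2)⁻¹ := by rw [hzi]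
        _ = _ := by group
    have g2 : z * (k2 * z * k2⁻¹) = l2 * k2⁻¹ := by
      rw [e2]
      calc z * (k2 * z * k2⁻¹) = z * k2 * z * k2⁻¹ := by group
        _ = _ := by rw [hzi]
    have g1 : z * (k1 * z⁻¹ * k1⁻¹) = l1 * k1⁻¹ := by rw [e1]; group
    have g3s : (z * ((k1 * k2) * z * (k1 * k2)⁻¹)) * (z * ((k1 * k2) * z * (k1 * k2)⁻¹)) = 1 := by
      have h1 : ((k1 * k2) * z * (k1 * k2)⁻¹) * ((k1 * k2) * z * (k1 * k2)⁻¹) = 1 := by
        calc ((k1 * k2) * z * (k1 * k2)⁻¹) * ((k1 * k2) * z * (k1 * k2)⁻¹)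
            = (k1 * k2) * (z * z) * (k1 * k2)⁻¹ := by group
          _ = 1 := by rw [hzz]; group
      calc (z * ((k1 * k2) * z * (k1 * k2)⁻¹)) * (z * ((k1 * k2) * z * (k1 * k2)⁻¹))
          = z * (((k1 * k2) * z * (k1 * k2)⁻¹) * z) * ((k1 * k2) * z * (k1 * k2)⁻¹) := by group
        _ = z * (z * ((k1 * k2) * z * (k1 * k2)⁻¹)) * ((k1 * k2) * z * (k1 * k2)⁻¹) := by rw [c3]
        _ = (z * z) * (((k1 * k2) * z * (k1 * k2)⁻¹) * ((k1 * k2) * z * (k1 * k2)⁻¹)) := by group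
        _ = 1 := by rw [hzz, h1, one_mul]
    have g12 : z * (k1 * z⁻¹ * k1⁻¹) * (z * (k2 * z * k2⁻¹)) = x * (z * ((k1 * k2) * z * (k1 * k2)⁻¹)) := by
      rw [g1, g2, g3]
      have h1 : k1⁻¹ * l2 = l2 * k1⁻¹ := by rw [e2]; exact hgc k1 hk1 k2 hk2
      have h2 : (k2 * k1)⁻¹ = x * (k1 * k2)⁻¹ := by
        rw [hanti, mul_inv_rev, hx.inv h]
        exact hxk _ (inv_mem hk3)
      have h3 : x * (l1 * l2) = (l1 * l2) * x := by
        have h4 : ∀ k ∈ K, x * (z * k * z⁻¹) = (z * k * z⁻¹) * x := fun k hk =>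
          ((o.swz.mem h hK).comm_z h (conj_mem_cj hk)).symm
        rw [e1, e2, ← mul_assoc, h4 k1 hk1, mul_assoc, h4 k2 hk2, ← mul_assoc]
      calc l1 * k1⁻¹ * (l2 * k2⁻¹) = l1 * (k1⁻¹ * l2) * k2⁻¹ := by group
        _ = l1 * l2 * (k2 * k1)⁻¹ := by rw [h1]; group
        _ = (l1 * l2 * x) * (k1 * k2)⁻¹ := by rw [h2]; group
        _ = _ := by rw [← h3]; group
    have h1 : z * (k1 * z⁻¹ * k1⁻¹) * (k2 * z * k2⁻¹) * ((k1 * k2) * z * (k1 * k2)⁻¹) =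
        (z * (k1 * z⁻¹ * k1⁻¹) * (z * (k2 * z * k2⁻¹))) * (z * ((k1 * k2) * z * (k1 * k2)⁻¹)) := by
      calc z * (k1 * z⁻¹ * k1⁻¹) * (k2 * z * k2⁻¹) * ((k1 * k2) * z * (k1 * k2)⁻¹)
          = z * (k1 * z⁻¹ * k1⁻¹) * ((z * z) * (k2 * z * k2⁻¹)) * ((k1 * k2) * z * (k1 * k2)⁻¹) := by
            rw [hzz, one_mul]
        _ = z * (k1 * z⁻¹ * k1⁻¹) * z * (z * (k2 * z * k2⁻¹)) * ((k1 * k2) * z * (k1 * k2)⁻¹) := by group
        _ = z * (k1 * z⁻¹ * k1⁻¹) * z * ((k2 * z * k2⁻¹) * z) * ((k1 * k2) * z * (k1 * k2)⁻¹) := by rw [← c2]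
        _ = _ := by group
    rw [h1, g12, mul_assoc, g3s, mul_one]
  · have hzu : z ∈ NZ Om (z * u) := by
      have hT : z * u ∈ TT Om S := mul_mem (CS.mem_TT o.hz) (CS.mem_TT o.hu)
      exact TT_le_NZ' h hS hT (CS.mem_TT o.hz)
    exact mul_mem hzu (NZ_conj h hAs.comm.symm (inv_mem hzu))

/-- type (1c) for `z₂` : impossible -/
theorem OneC.not_of {S : Subgroup G} (o : OneC Om S x z u) (h : WM Om) (hS : IsPGroup 2 S)
    (hno : ∀ K2, Mem Om y K2 → ∀ a, ¬ As K2 (z * u) a) (z' u' : G) : ¬ OneC Om S y z' u' := by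
  intro o'
  have hzu : z * u = u * z := CS.comm o.hz h hS o.hu
  have hzu' : z' * u' = z * u := by
    rcases o.all z' o'.hz with h1 | h1 <;> rcases o.all u' o'.hu with h2 | h2
    · exact absurd (h1.trans h2.symm) o'.ne
    · rw [h1, h2]
    · rw [h1, h2, hzu]
    · exact absurd (h1.trans h2.symm) o'.ne
  obtain ⟨K2, b, hK2, -, -, hb⟩ := o'.inn
  rw [hzu'] at hb
  exact hno K2 hK2 b hb

theorem BW_conj (h : WM Om) (g : G) (hr : r ∈ BW Om w q) : g * r * g⁻¹ ∈ BW Om (g * w * g⁻¹) (g * q * g⁻¹) := by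
  obtain ⟨h1, h2⟩ := mem_BW.1 hr
  refine mem_BW.2 ⟨RZ_conj h g h1, ?_⟩
  calc g * r * g⁻¹ * (g * q * g⁻¹) = g * (r * q) * g⁻¹ := by group
    _ = g * (q * r) * g⁻¹ := by rw [h2]
    _ = _ := by group

theorem HB.cj {S : Sylow 2 G} (hb : HB Om (S : Subgroup G) w q) (h : WM Om) (g : G) :
    HB Om ((g • S : Sylow 2 G) : Subgroup G) (g * w * g⁻¹) (g * q * g⁻¹) := by
  obtain ⟨s', hs', hs1, hq⟩ := hb.q'
  refine ⟨cj_CS h g hb.wS, ⟨g * s' * g⁻¹, ?_, ?_, ZS_cj h g hq⟩, hb.sw.conj h g⟩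
  · change g * s' * g⁻¹ ∈ TT Om (Cit.cj g (S : Subgroup G))
    rw [TT_cj h]; exact conj_mem_cj hs'
  · intro h4
    apply hs1
    have h5 : s' = g⁻¹ * (g * s' * g⁻¹) * g := by group
    rw [h5, h4]; group

/-- REG, not type (1c) -/
theorem HB.reg_aux {S : Sylow 2 G} (hb : HB Om (S : Subgroup G) w q) (h : WM Om) (l0 : L0 Om) (an : ANT Om)
    (rot : ∀ S : Sylow 2 G, RotS Om (S : Subgroup G)) (r0 : RZero Om) (r1 : ROneAR Om)
    (hx : Psi Om (S : Subgroup G) x) (hno : ∀ z u, ¬ OneC Om (S : Subgroup G) x z u) (hr : r ∈ BW Om w q) :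
    x * r = r * x := by
  by_cases hf : Free Om (S : Subgroup G) x
  swap
  · unfold Free at hf
    push Not at hf
    obtain ⟨t, ht, htx, ht1⟩ := hf
    exact hb.cent h l0 an (rot S) ht ht1 ⟨hx.1, htx⟩ hr
  have hAA : x ∈ AA Om (S : Subgroup G) → x * r = r * x := fun h1 => by
    have h2 : AA Om (S : Subgroup G) ≤ centralizer {r} := by
      rw [AA, closure_le]
      rintro y ⟨t, ht, ht1, hy⟩
      rw [SetLike.mem_coe, mem_centralizer_singleton_iff]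
      exact hb.cent h l0 an (rot S) ht ht1 hy hr
    exact mem_centralizer_singleton_iff.1 (h2 h1)
  rcases r0 S x hx hf with h1 | ⟨h4, ⟨z, u, o⟩ | ⟨z, u, o⟩⟩
  · exact hAA h1
  · rcases r1 S x z u hx h4 o with h1 | ⟨⟨c, hc, hcx⟩, k, k', hk, hkz, hk', hy⟩
    · exact hAA h1
    have hzZ := CS.inZ o.hz
    by_cases hwz : w = z
    · subst hwz
      have hne : w ≠ u := by
        intro h2
        have h3 := o.sw
        rw [← h2] at h3
        obtain ⟨K, hK⟩ := hx.1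
        exact h3.2 K hK (o.ti.inn.cj_eq hK h)
      have hcp := CS.cp o.hz h S.isPGroup' o.hu hne
      have hkz' : k' * w = w * k' := (cp_RZ h hcp (z_mem_RZ hzZ h) hk').symm
      have hg : (k' * k) * w * (k' * k)⁻¹ = w := by
        rw [mul_inv_eq_iff_eq_mul, mul_assoc, hkz, ← mul_assoc, hkz', mul_assoc]
      have hb' := hb.cj h (k' * k)
      rw [hg] at hb'
      have huS : (k' * k) * u * (k' * k)⁻¹ ∈ CS Om (((k' * k) • S : Sylow 2 G) : Subgroup G) := cj_CS h _ o.hu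
      have hsT := mul_mem (CS.mem_TT hb'.wS) (CS.mem_TT huS)
      have hs1 : w * ((k' * k) * u * (k' * k)⁻¹) ≠ 1 := by
        intro h2
        have h3 := eq_inv_of_mul_eq_one_left h2
        rw [((CS.inZ o.hu).conj h _).inv h] at h3
        apply hne
        have h5 : (k' * k) * w * (k' * k)⁻¹ = (k' * k) * u * (k' * k)⁻¹ := hg.trans h3
        exact mul_left_cancel (mul_right_cancel h5)
      have h6 := BW_conj h (k' * k) hr
      rw [hg] at h6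
      have h7 := hb'.cent h l0 an (rot _) hsT hs1 ⟨hx.1, hy⟩ h6
      -- `(k' k) r (k' k)⁻¹ = k r k⁻¹`
      have h8 : k * r * k⁻¹ ∈ RZ Om w := RZ_conj_comm h hkz (mem_BW.1 hr).1
      have h9 : (k' * k) * r * (k' * k)⁻¹ = k * r * k⁻¹ := by
        calc (k' * k) * r * (k' * k)⁻¹ = k' * (k * r * k⁻¹) * k'⁻¹ := by group
          _ = k * r * k⁻¹ := by rw [← cp_RZ h hcp h8 hk', mul_inv_cancel_right]
      rw [h9] at h7
      have hxk : k * x = x * k := RZ_le_centralizer h hk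
      have hxk' : k⁻¹ * x = x * k⁻¹ := by rw [inv_mul_eq_iff_eq_mul, ← mul_assoc, hxk, mul_inv_cancel_right]
      calc x * r = x * k⁻¹ * (k * r * k⁻¹) * k := by group
        _ = k⁻¹ * (x * (k * r * k⁻¹)) * k := by rw [← hxk']; group
        _ = k⁻¹ * ((k * r * k⁻¹) * x) * k := by rw [h7]
        _ = r * k⁻¹ * (x * k) := by group
        _ = _ := by rw [← hxk]; group
    · have hcp := CS.cp o.hz h S.isPGroup' hb.wS (Ne.symm hwz)
      have h1 : c * r = r * c := cp_RZ h hcp hc (mem_BW.1 hr).1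
      have h2 : NZ Om z ≤ centralizer {r} := by
        refine (closure_le _).2 fun y hy => ?_
        rw [SetLike.mem_coe, mem_centralizer_singleton_iff]
        exact hb.cent h l0 an (rot S) (CS.mem_TT o.hz) (hzZ.z1 h) hy hr
      have h3 := mem_centralizer_singleton_iff.1 (h2 hcx)
      have h5 : c * (x * r) = c * (r * x) := by
        rw [← mul_assoc, h3, ← mul_assoc, ← h1, mul_assoc]
      exact mul_left_cancel h5
  · exact absurd o (hno z u)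

/-- **REG** -/
theorem HB.reg {S : Sylow 2 G} (hb : HB Om (S : Subgroup G) w q) (h : WM Om) (l0 : L0 Om) (an : ANT Om)
    (rot : ∀ S : Sylow 2 G, RotS Om (S : Subgroup G)) (r0 : RZero Om) (r1 : ROneAR Om)
    (hx : Psi Om (S : Subgroup G) x) (hr : r ∈ BW Om w q) : x * r = r * x := by
  by_cases hno : ∀ z u, ¬ OneC Om (S : Subgroup G) x z u
  · exact hb.reg_aux h l0 an rot r0 r1 hx hno hr
  push Not at hno
  obtain ⟨z, u, o⟩ := hno
  obtain ⟨e, z2, z3, hprod, he, ⟨p2, n2⟩, p3, n3⟩ := o.exists_prod h S.isPGroup'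
  have h2 := hb.reg_aux h l0 an rot r0 r1 p2 (o.not_of h S.isPGroup' n2) hr
  have h3 := hb.reg_aux h l0 an rot r0 r1 p3 (o.not_of h S.isPGroup' n3) hr
  have hT : z * u ∈ TT Om (S : Subgroup G) := mul_mem (CS.mem_TT o.hz) (CS.mem_TT o.hu)
  have hT1 : z * u ≠ 1 := by
    intro h4
    apply o.ne
    rw [eq_inv_of_mul_eq_one_left h4, (CS.inZ o.hu).inv h]
  have h4 : NZ Om (z * u) ≤ centralizer {r} := by
    refine (closure_le _).2 fun y hy => ?_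
    rw [SetLike.mem_coe, mem_centralizer_singleton_iff]
    exact hb.cent h l0 an (rot S) hT hT1 hy hr
  have h5 := mem_centralizer_singleton_iff.1 (h4 he)
  rw [hprod, mul_assoc (e * z2), h3, ← mul_assoc, mul_assoc e, h2, ← mul_assoc, h5, mul_assoc, mul_assoc, mul_assoc]

/-- **4.1** -/
theorem regSW (h : WM Om) (l0 : L0 Om) (an : ANT Om) (oc : OneCl Om)
    (rot : ∀ S : Sylow 2 G, RotS Om (S : Subgroup G)) (sw : SW Om) (r0 : RZero Om) (r1 : ROneAR Om) : RegSW Om := by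
  intro P w hw
  obtain ⟨q, hb⟩ := sw.exists_hb h oc P hw
  obtain ⟨K, hK⟩ := CS.inZ hw
  obtain ⟨s', -, -, hq⟩ := hb.q'
  exact ⟨BW Om w q, inf_le_left, fun r hr hc => BW_cent' h hK hb.sw (hq.1.z2 h) hr hc, fun x hx hn b hbB =>
    hb.reg h l0 an rot r0 r1 ⟨hx, hn⟩ hbB⟩

end Fin

end Cfsg.Agent.Cit.Nil.RTwoM
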